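import Cfsg.Agent.FGS73.HHBGroup
import Cfsg.Agent.PLocalB.PConstrained
import Cfsg.Agent.Lib.PGroup.Basic

/-!
Bounds on the `p`-length from the exponent of a Sylow subgroup.
-/

namespace Cfsg.Agent.FGS73

open Subgroup
open scoped commutatorElement

variable {Y : Type*} [Group Y] {p : ℕ}

/-- The Frattini quotient of `O_p`, written additively. -/
abbrev FratMod (p : ℕ) (Y : Type*) [Group Y] : Type _ :=
  Additive (↥(Cfsg.pCore p Y) ⧸ frattini ↥(Cfsg.pCore p Y))

section

variable [Finite Y] [Fact p.Prime]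

noncomputable instance : AddCommGroup (FratMod p Y) :=
  @Additive.addCommGroup _
    { (inferInstance : Group (↥(Cfsg.pCore p Y) ⧸ frattini ↥(Cfsg.pCore p Y))) with
      mul_comm := fun a b => Cfsg.Agent.PGroup.quotient_frattini_commute
        Cfsg.Agent.Thompson.isPGroup_pCore a b }

noncomputable instance : Module (ZMod p) (FratMod p Y) :=
  AddCommGroup.zmodModule fun w => by
    change Additive.ofMul (w.toMul ^ p) = 0
    rw [Cfsg.Agent.PGroup.quotient_frattini_pow Cfsg.Agent.Thompson.isPGroup_pCore]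
    rfl

/-- the class of an element of `O_p` in the Frattini quotient -/
noncomputable def fratClass (u : Cfsg.pCore p Y) : FratMod p Y :=
  Additive.ofMul (QuotientGroup.mk u)

theorem fratClass_mul (a b : Cfsg.pCore p Y) : fratClass (a * b) = fratClass a + fratClass b := rfl

theorem fratClass_surjective : Function.Surjective (fratClass (p := p) (Y := Y)) := fun v => by
  obtain ⟨u, hu⟩ := QuotientGroup.mk_surjective v.toMul
  exact ⟨u, by rw [fratClass, hu]; rfl⟩

theorem fratClass_eq_zero {u : Cfsg.pCore p Y} :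
    fratClass u = 0 ↔ u ∈ frattini ↥(Cfsg.pCore p Y) :=
  QuotientGroup.eq_one_iff u

/-- conjugation on the Frattini quotient of `O_p` -/
noncomputable def fratEnd (y : Y) : Module.End (ZMod p) (FratMod p Y) :=
  AddMonoidHom.toZModLinearMap p (MonoidHom.toAdditive (QuotientGroup.map
    (frattini ↥(Cfsg.pCore p Y)) (frattini ↥(Cfsg.pCore p Y))
    (MulAut.conjNormal y).toMonoidHom
    (by
      have h := (frattini_characteristic (G := ↥(Cfsg.pCore p Y))).fixed
        (MulAut.conjNormal (H := Cfsg.pCore p Y) y)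
      exact h.ge)))

theorem fratEnd_class (y : Y) (u : Cfsg.pCore p Y) :
    fratEnd y (fratClass u) = fratClass (MulAut.conjNormal y u) := rfl

/-- The representation of `Y` on the Frattini quotient of `O_p`. -/
noncomputable def fratRep : Y →* Module.End (ZMod p) (FratMod p Y) where
  toFun := fratEnd
  map_one' := LinearMap.ext fun v => by
    obtain ⟨u, rfl⟩ := fratClass_surjective v
    rw [fratEnd_class, map_one]; rfl
  map_mul' a b := LinearMap.ext fun v => by
    obtain ⟨u, rfl⟩ := fratClass_surjective v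
    rw [Module.End.mul_apply, fratEnd_class, fratEnd_class, fratEnd_class, map_mul]; rfl

theorem fratRep_class (y : Y) (u : Cfsg.pCore p Y) :
    fratRep y (fratClass u) = fratClass (MulAut.conjNormal y u) := rfl

theorem pCore_le_ker_fratRep : Cfsg.pCore p Y ≤ (fratRep (p := p) (Y := Y)).ker := by
  intro y hy
  rw [MonoidHom.mem_ker]
  refine LinearMap.ext fun v => ?_
  obtain ⟨u, rfl⟩ := fratClass_surjective v
  rw [fratRep_class, Module.End.one_apply, ← sub_eq_zero]
  have hmem := Cfsg.Agent.PGroup.comm_mem_frattini (p := p)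
    Cfsg.Agent.Thompson.isPGroup_pCore (⟨y, hy⟩ : Cfsg.pCore p Y) u
  rw [← fratClass_eq_zero] at hmem
  have he : MulAut.conjNormal y u = ⁅(⟨y, hy⟩ : Cfsg.pCore p Y), u⁆ * u :=
    Subtype.ext (by simp [MulAut.conjNormal_apply, commutatorElement_def])
  rw [he, fratClass_mul, hmem, zero_add, sub_self]

/-- `Y / O_p(Y)` acts faithfully on the Frattini quotient of `O_p(Y)`. -/
theorem ker_fratRep (hsol : Cfsg.IsPSolvable p Y) (hO : Cfsg.pPrimeCore p Y = ⊥) :
    (fratRep (p := p) (Y := Y)).ker = Cfsg.pCore p Y := by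
  refine le_antisymm ?_ pCore_le_ker_fratRep
  refine Cfsg.Agent.Thompson.le_pCore inferInstance ?_
  intro g
  obtain ⟨g, hg⟩ := g
  obtain ⟨a, m, hm, hom⟩ := Nat.exists_eq_pow_mul_and_not_dvd (orderOf_pos g).ne' p
    (Fact.out : p.Prime).ne_one
  set c := g ^ p ^ a with hc
  have hcm : orderOf c = m := by
    rw [hc, orderOf_pow, hom, Nat.gcd_eq_right (dvd_mul_right _ _),
      Nat.mul_div_cancel_left _ (pow_pos (Fact.out : p.Prime).pos _)]
  have hcop : m.Coprime p := ((Fact.out : p.Prime).coprime_iff_not_dvd.2 hm).symm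
  have hcK : c ∈ (fratRep (p := p) (Y := Y)).ker := pow_mem hg _
  have hcent : zpowers c ≤ centralizer (Cfsg.pCore p Y : Set Y) := by
    refine Cfsg.Agent.Coprime.le_centralizer_of_frattini _ _
      (by rw [normalizer_eq_top]; exact le_top) ?_ ?_
    · rw [Nat.card_zpowers, hcm]
      obtain ⟨b, hb⟩ := IsPGroup.iff_card.1
        ((Cfsg.Agent.Thompson.isPGroup_pCore (p := p) (G := Y)).to_subgroup
          (frattini ↥(Cfsg.pCore p Y)))
      rw [hb]
      exact Nat.Coprime.pow_right _ hcop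
    · intro b hb k hk
      have hbK : b ∈ (fratRep (p := p) (Y := Y)).ker := (zpowers_le.2 hcK) hb
      refine ⟨MulAut.conjNormal b (⟨k, hk⟩ : Cfsg.pCore p Y) * (⟨k, hk⟩ : Cfsg.pCore p Y)⁻¹,
        ?_, ?_⟩
      · rw [SetLike.mem_coe, ← fratClass_eq_zero]
        have h1 := LinearMap.congr_fun (MonoidHom.mem_ker.1 hbK)
          (fratClass (⟨k, hk⟩ : Cfsg.pCore p Y))
        rw [fratRep_class, Module.End.one_apply] at h1
        rw [fratClass_mul, h1, ← fratClass_mul, mul_inv_cancel]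
        rfl
      · simp [MulAut.conjNormal_apply]
  have hcP : c ∈ Cfsg.pCore p Y :=
    Cfsg.Agent.Thompson.centralizer_pCore_le hsol hO (hcent (mem_zpowers c))
  obtain ⟨b, hb⟩ := Cfsg.Agent.Thompson.isPGroup_pCore (p := p) (G := Y) ⟨c, hcP⟩
  refine ⟨a + b, Subtype.ext ?_⟩
  push_cast
  rw [pow_add, pow_mul]
  exact congrArg Subtype.val hb

theorem mul_pow_fratClass (y : Y) (u : Cfsg.pCore p Y) (M : ℕ) :
    ∃ w : Cfsg.pCore p Y, ((u : Y) * y) ^ M = w * y ^ M ∧
      fratClass w = (∑ i ∈ Finset.range M, (fratRep y) ^ i) (fratClass u) := by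
  induction M with
  | zero => exact ⟨1, by simp, by simp; rfl⟩
  | succ M ih =>
    obtain ⟨w, hw, hwc⟩ := ih
    refine ⟨w * MulAut.conjNormal (y ^ M) u, ?_, ?_⟩
    · rw [pow_succ, hw, pow_succ]
      push_cast
      rw [MulAut.conjNormal_apply]
      group
    · rw [Finset.sum_range_succ, LinearMap.add_apply, fratClass_mul, hwc, ← map_pow, fratRep_class]

/-- A `p`-element times an element of `O_p` is a `p`-element. -/
theorem exists_pow_mul_pCore {y : Y} (hy : ∃ k, y ^ p ^ k = 1) (u : Cfsg.pCore p Y) :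
    ∃ k, ((u : Y) * y) ^ p ^ k = 1 := by
  obtain ⟨k, hk⟩ := hy
  have hZ : IsPGroup p (zpowers y) := fun g => by
    obtain ⟨g, hg⟩ := g
    obtain ⟨i, rfl⟩ := hg
    refine ⟨k, Subtype.ext ?_⟩
    change (y ^ i) ^ p ^ k = 1
    rw [← zpow_natCast, ← zpow_mul, mul_comm, zpow_mul, zpow_natCast, hk, one_zpow]
  obtain ⟨l, hl⟩ := ((Cfsg.Agent.Thompson.isPGroup_pCore (p := p) (G := Y)).to_sup_of_normal_left hZ)
    ⟨(u : Y) * y, mul_mem_sup u.2 (mem_zpowers y)⟩
  exact ⟨l, congrArg Subtype.val hl⟩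

/-- If no `p`-element has order above `p ^ m`, the action of each on the Frattini quotient of `O_p`
satisfies `(X - 1) ^ (p ^ m - 1)`. -/
theorem sub_one_pow_fratRep {m : ℕ} (hexp : ∀ y : Y, (∃ k, y ^ p ^ k = 1) → y ^ p ^ m = 1)
    {y : Y} (hy : ∃ k, y ^ p ^ k = 1) :
    (fratRep (p := p) y - 1) ^ (p ^ m - 1) = 0 := by
  rw [← sum_pow_eq]
  refine LinearMap.ext fun v => ?_
  obtain ⟨u, rfl⟩ := fratClass_surjective v
  obtain ⟨w, hw, hwc⟩ := mul_pow_fratClass y u (p ^ m)
  rw [hexp _ (exists_pow_mul_pCore hy u), hexp y hy, mul_one] at hw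
  obtain rfl : w = 1 := Subtype.ext hw.symm
  rw [LinearMap.zero_apply, ← hwc, fratClass_eq_zero]
  exact one_mem _

theorem sylow_comm_of_surjective {Z : Type*} [Group Z] [Finite Z] {W : Type*} [Group W] {q : ℕ}
    [Fact q.Prime] (f : Z →* W) (hf : Function.Surjective f)
    (h : ∀ S : Sylow q Z, IsMulCommutative (S : Subgroup Z)) (S : Sylow q W) :
    IsMulCommutative (S : Subgroup W) := by
  haveI : Finite W := Finite.of_surjective f hf
  let S₀ : Sylow q Z := Classical.arbitrary _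
  haveI := h S₀
  obtain ⟨g, hg⟩ := MulAction.exists_smul_eq W (S₀.mapSurjective hf) S
  obtain ⟨z, rfl⟩ := hf g
  refine ⟨⟨fun a b => Subtype.ext ?_⟩⟩
  have hmem : ∀ a : W, a ∈ (S : Subgroup W) → ∃ s ∈ S₀, a = f z * f s * (f z)⁻¹ := by
    intro a ha
    rw [← hg, Sylow.smul_def] at ha
    obtain ⟨t, ⟨s, hs, rfl⟩, rfl⟩ := ha
    exact ⟨s, hs, rfl⟩
  obtain ⟨a', ha', hea⟩ := hmem a a.2
  obtain ⟨b', hb', heb⟩ := hmem b b.2
  push_cast
  rw [hea, heb, mul_inv_cancel_left' (f z) (f a') (f b'), mul_inv_cancel_left' (f z) (f b') (f a'),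
    ← map_mul f a', ← map_mul f b']
  have := congrArg Subtype.val (mul_comm' (⟨a', ha'⟩ : (S₀ : Subgroup Z)) ⟨b', hb'⟩)
  rw [show a' * b' = b' * a' from this]
where
  mul_inv_cancel_left' (c a b : W) : c * a * c⁻¹ * (c * b * c⁻¹) = c * (a * b) * c⁻¹ := by group

/-- The exponent drops from `Y` to `Y / O_p(Y)` outside the exceptional case. -/
theorem exp_drop (hsol : Cfsg.IsPSolvable p Y) (hO : Cfsg.pPrimeCore p Y = ⊥) {e : ℕ}
    (hexp : ∀ y : Y, (∃ k, y ^ p ^ k = 1) → y ^ p ^ (e + 1) = 1)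
    (hex : ∀ n₀ q k : ℕ, 1 ≤ n₀ → q.Prime → 1 ≤ k → p ^ n₀ - 1 = q ^ k →
      ∀ S : Sylow q Y, IsMulCommutative (S : Subgroup Y))
    {y : Y} (hy : ∃ k, y ^ p ^ k = 1) : y ^ p ^ e ∈ Cfsg.pCore p Y := by
  by_contra hne
  let π := QuotientGroup.mk' (Cfsg.pCore p Y)
  let ρ : Y ⧸ Cfsg.pCore p Y →* Module.End (ZMod p) (FratMod p Y) :=
    QuotientGroup.lift _ fratRep pCore_le_ker_fratRep
  have hρ : Function.Injective ρ := by
    rw [← MonoidHom.ker_eq_bot_iff, eq_bot_iff]
    intro x hx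
    obtain ⟨g, rfl⟩ := QuotientGroup.mk'_surjective (Cfsg.pCore p Y) x
    rw [mem_bot, QuotientGroup.mk'_apply, QuotientGroup.eq_one_iff, ← ker_fratRep hsol hO]
    exact hx
  haveI : Finite (FratMod p Y) := inferInstanceAs (Finite (Additive _))
  haveI : Module.Finite (ZMod p) (FratMod p Y) := Module.Finite.of_finite
  have hp := (Fact.out : p.Prime)
  obtain ⟨n₀, q, k, h1, -, hq, hk, heq, hns, -⟩ := hhb_linear ρ hρ
    (Cfsg.Agent.Thompson.isPSolvable_quotient _ hsol) Cfsg.Agent.Thompson.pCore_quotient_pCore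
    (x := π y) (n := e) (by rw [← map_pow, hexp y hy, map_one])
    (fun h => hne (by rwa [← map_pow, QuotientGroup.mk'_apply, QuotientGroup.eq_one_iff] at h))
    (r := p ^ (e + 1) - 1) (sub_one_pow_fratRep hexp hy)
    (Nat.sub_lt (pow_pos hp.pos _) one_pos)
  haveI := Fact.mk hq
  exact hns (Classical.arbitrary _)
    (sylow_comm_of_surjective π (QuotientGroup.mk'_surjective _) (hex n₀ q k h1 hq hk heq) _)

end

/-- `p`-elements lift to `p`-elements. -/
theorem exists_pelt_lift {W : Type*} [Group W] [Finite Y] [Fact p.Prime] (f : Y →* W)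
    (hf : Function.Surjective f) {w : W} (hw : ∃ k, w ^ p ^ k = 1) :
    ∃ g : Y, (∃ k, g ^ p ^ k = 1) ∧ f g = w := by
  obtain ⟨k, hk⟩ := hw
  obtain ⟨g, rfl⟩ := hf w
  obtain ⟨a, m, hm, hom⟩ := Nat.exists_eq_pow_mul_and_not_dvd (orderOf_pos g).ne' p
    (Fact.out : p.Prime).ne_one
  have hcop : (orderOf (f g)).Coprime m :=
    Nat.Coprime.coprime_dvd_left (orderOf_dvd_of_pow_eq_one hk)
      (Nat.Coprime.pow_left _ ((Fact.out : p.Prime).coprime_iff_not_dvd.2 hm))
  obtain ⟨b, hb⟩ := exists_pow_eq_self_of_coprime hcop.symm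
  refine ⟨(g ^ m) ^ b, ⟨a, ?_⟩, by rw [map_pow, map_pow, hb]⟩
  rw [← pow_mul, ← pow_mul, ← mul_assoc, show m * b * p ^ a = orderOf g * b by rw [hom]; ring, pow_mul,
    pow_orderOf_eq_one, one_pow]

/-- Iterating an exponent drop along the upper `p`-series bounds the `p`-length. -/
theorem plength_of_upper [Finite Y] [Fact p.Prime] {k : ℕ}
    (h : ∀ g : Y, (∃ l, g ^ p ^ l = 1) → g ∈ (Cfsg.upperPSeries p Y (2 * k + 1)).1) :
    Cfsg.PLengthLE p k Y := by
  set U := (Cfsg.upperPSeries p Y (2 * k + 1)).1 with hU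
  change U = ⊤
  have hcop : (Nat.card (Y ⧸ U)).Coprime p := by
    rw [Nat.coprime_comm, (Fact.out : p.Prime).coprime_iff_not_dvd]
    intro hd
    obtain ⟨w, hw⟩ := exists_prime_orderOf_dvd_card' p hd
    obtain ⟨g, hg, rfl⟩ := exists_pelt_lift (QuotientGroup.mk' U) (QuotientGroup.mk'_surjective _)
      (w := w) ⟨1, by have := pow_orderOf_eq_one w; rw [hw] at this; rwa [pow_one]⟩
    rw [QuotientGroup.mk'_apply, (QuotientGroup.eq_one_iff g).2 (h g hg), orderOf_one] at hw
    exact (Fact.out : p.Prime).ne_one hw.symm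
  have h1 := Cfsg.Agent.Thompson.pPrimeCore_eq_top_iff.2 hcop
  have h2 : (⊥ : Subgroup (Y ⧸ U)) = ⊤ :=
    (Cfsg.Agent.PLocalB.pPrimeCore_quotient_upperPSeries k).symm.trans h1
  rw [eq_top_iff]
  intro g _
  rw [← QuotientGroup.eq_one_iff (N := U), ← mem_bot, h2]
  exact mem_top _

/-- the step from one `O_p` to the next -/
theorem upper_step [Finite Y] [Fact p.Prime] (k : ℕ) {g : Y}
    (h : QuotientGroup.mk' (Cfsg.upperPSeries p Y (2 * k + 1)).1 g ∈
      Cfsg.pCore p (Y ⧸ (Cfsg.upperPSeries p Y (2 * k + 1)).1)) :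
    g ∈ (Cfsg.upperPSeries p Y (2 * (k + 1) + 1)).1 := by
  apply Cfsg.Agent.PLocalB.upperPSeries_le_succ
  rw [show 2 * (k + 1) = 2 * k + 1 + 1 by ring, Cfsg.upperPSeries, if_neg (by simp)]
  exact h

/-- The `p`-length is at most the exponent outside the exceptional case. -/
theorem plength_le_exponent [Finite Y] [Fact p.Prime] (hsol : Cfsg.IsPSolvable p Y) {e : ℕ}
    (hexp : ∀ g : Y, (∃ l, g ^ p ^ l = 1) → g ^ p ^ e = 1)
    (hex : ∀ n₀ q k : ℕ, 1 ≤ n₀ → q.Prime → 1 ≤ k → p ^ n₀ - 1 = q ^ k →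
      ∀ S : Sylow q Y, IsMulCommutative (S : Subgroup Y)) :
    Cfsg.PLengthLE p e Y := by
  suffices H : ∀ d k, k + d = e → ∀ g : Y, (∃ l, g ^ p ^ l = 1) →
      g ^ p ^ d ∈ (Cfsg.upperPSeries p Y (2 * k + 1)).1 from
    plength_of_upper fun g hg => by simpa using H 0 e (by omega) g hg
  suffices H' : ∀ k d, k + d = e → ∀ g : Y, (∃ l, g ^ p ^ l = 1) →
      g ^ p ^ d ∈ (Cfsg.upperPSeries p Y (2 * k + 1)).1 from fun d k => H' k d
  intro k
  induction k with
  | zero =>
    intro d hd g hg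
    rw [show d = e by omega, hexp g hg]
    exact one_mem _
  | succ k ih =>
    intro d hd g hg
    refine upper_step k ?_
    set U := (Cfsg.upperPSeries p Y (2 * k + 1)).1
    rw [map_pow]
    refine exp_drop (Cfsg.Agent.Thompson.isPSolvable_quotient U hsol)
      (Cfsg.Agent.PLocalB.pPrimeCore_quotient_upperPSeries k) ?_ ?_ ?_
    · intro w hw
      obtain ⟨g', hg', rfl⟩ := exists_pelt_lift (QuotientGroup.mk' U)
        (QuotientGroup.mk'_surjective U) hw
      rw [← map_pow, QuotientGroup.mk'_apply, QuotientGroup.eq_one_iff]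
      exact ih (d + 1) (by omega) g' hg'
    · intro n₀ q m h1 hq h3 h4 S
      haveI := Fact.mk hq
      exact sylow_comm_of_surjective _ (QuotientGroup.mk'_surjective U) (hex n₀ q m h1 hq h3 h4) S
    · obtain ⟨l, hl⟩ := hg
      exact ⟨l, by rw [← map_pow, hl, map_one]⟩

/-- `p`-elements have exponent bounded by that of the Sylow subgroups. -/
theorem exp_of_sylow [Fact p.Prime] {e : ℕ}
    (h : ∀ P : Sylow p Y, ∀ x ∈ (P : Subgroup Y), x ^ p ^ e = 1) {g : Y}
    (hg : ∃ l, g ^ p ^ l = 1) : g ^ p ^ e = 1 := by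
  obtain ⟨l, hl⟩ := hg
  have hZ : IsPGroup p (zpowers g) := fun x => by
    obtain ⟨x, hx⟩ := x
    obtain ⟨i, rfl⟩ := hx
    refine ⟨l, Subtype.ext ?_⟩
    change (g ^ i) ^ p ^ l = 1
    rw [← zpow_natCast, ← zpow_mul, mul_comm, zpow_mul, zpow_natCast, hl, one_zpow]
  obtain ⟨P, hP⟩ := hZ.exists_le_sylow
  exact h P g (hP (mem_zpowers g))

end Cfsg.Agent.FGS73
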