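import Cfsg.Agent.FGS73.SGLinear
import Cfsg.Agent.Lib.PGroup.Basic

/-!
Two elements with quadratic minimal polynomial in a `p`-group of operators commute, and its
consequence for elements acting on a coprime module like a Singer cycle.
-/

namespace Cfsg.Agent.FGS73

open Subgroup
open scoped commutatorElement

/-- Two quadratic generators of a coprime `p`-group of operators, `p` odd, commute. -/
theorem quad_pair_comm {R : Type*} [Group R] [Finite R] {p : ℕ} [Fact p.Prime] (hp2 : p ≠ 2)
    (hR : IsPGroup p R) {K L : Type*} [Field K] [IsAlgClosed K] [AddCommGroup L] [Module K L]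
    [FiniteDimensional K L] (hpK : (p : K) ≠ 0) (g : R →* Module.End K L)
    (hg : Function.Injective g) (a b : R) (hgen : closure {a, b} = ⊤)
    (ha : ∃ s t : K, g a * g a = s • g a + t • 1) (hb : ∃ s t : K, g b * g b = s • g b + t • 1) :
    a * b = b * a := by
  classical
  by_contra hne
  have hp : p.Prime := Fact.out
  have hcom : commutator R ≠ ⊥ := by
    intro h
    apply hne
    rw [← commutatorElement_eq_one_iff_mul_comm, ← mem_bot, ← h]
    exact commutator_mem_commutator (mem_top _) (mem_top _)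
  obtain ⟨z₀, hz₀⟩ := (Subgroup.ne_bot_iff_exists_ne_one).1
    (Cfsg.Agent.PGroup.inf_center_ne_bot hR hcom)
  obtain ⟨k, hk⟩ := hR (z₀ : R)
  obtain ⟨z, hzc, hzZ, hz1, hzp⟩ : ∃ z, z ∈ commutator R ∧ z ∈ center R ∧ z ≠ 1 ∧ z ^ p = 1 := by
    obtain ⟨j, hj, hom⟩ := (Nat.dvd_prime_pow hp).1 (orderOf_dvd_of_pow_eq_one hk)
    rcases j with _ | i
    · rw [pow_zero, orderOf_eq_one_iff] at hom
      exact absurd (Subtype.ext hom) hz₀
    refine ⟨(z₀ : R) ^ p ^ i, pow_mem z₀.2.1 _, pow_mem z₀.2.2 _, fun h => ?_, ?_⟩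
    · have h1 := orderOf_dvd_of_pow_eq_one h
      rw [hom] at h1
      exact absurd (Nat.le_of_dvd (pow_pos hp.pos _) h1)
        (not_le.2 (Nat.pow_lt_pow_right hp.one_lt (Nat.lt_succ_self i)))
    · rw [← pow_mul, ← pow_succ, ← hom, pow_orderOf_eq_one]
  set Z := g z with hZ
  have hZp : Z ^ p = 1 := by rw [hZ, ← map_pow, hzp, map_one]
  let L₀ : Submodule K L := LinearMap.range (Z - 1)
  have hL₀ : L₀ ≠ ⊥ := by
    intro h
    apply hz1
    apply hg
    rw [map_one, ← sub_eq_zero, ← LinearMap.range_eq_bot]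
    exact h
  obtain ⟨c, v₀, hv₀, hv₀0, hev⟩ := common_eigen (fun _ : Unit => Z) (fun _ _ => rfl) L₀ hL₀
    (fun _ w hw => by
      obtain ⟨u, rfl⟩ := hw
      exact ⟨Z u, by simp⟩)
  set μ := c () with hμ
  have hμ1 : μ ≠ 1 := by
    intro h
    obtain ⟨u, hu⟩ := hv₀
    have h1 : Z v₀ = v₀ := by
      have := hev ()
      rwa [← hμ, h, one_smul] at this
    have h2 : (∑ i ∈ Finset.range p, Z ^ i) v₀ = 0 := by
      rw [← hu, ← Module.End.mul_apply, geom_sum_mul, hZp, sub_self]
      rfl
    have h3 : ∀ i, (Z ^ i) v₀ = v₀ := by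
      intro i
      induction i with
      | zero => rfl
      | succ i ih => rw [pow_succ', Module.End.mul_apply, ih, h1]
    rw [LinearMap.sum_apply, Finset.sum_congr rfl (fun i _ => h3 i), Finset.sum_const,
      Finset.card_range, ← Nat.cast_smul_eq_nsmul K] at h2
    exact hv₀0 ((smul_eq_zero.1 h2).resolve_left hpK)
  let L₁ : Submodule K L := Module.End.eigenspace Z μ
  have hL₁ : L₁ ≠ ⊥ := fun h => hv₀0 (by
    have : v₀ ∈ L₁ := Module.End.mem_eigenspace_iff.2 (hev ())
    rwa [h, Submodule.mem_bot] at this)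
  have hL₁i : ∀ r, ∀ w ∈ L₁, g r w ∈ L₁ := by
    intro r w hw
    rw [Module.End.mem_eigenspace_iff] at hw ⊢
    rw [← Module.End.mul_apply, hZ, ← map_mul, ← mem_center_iff.1 hzZ r, map_mul,
      Module.End.mul_apply, ← hZ, hw, map_smul]
  obtain ⟨e, v, hvL, hv0, hvev⟩ := common_eigen (fun _ : Unit => g a * g b) (fun _ _ => rfl) L₁ hL₁
    (fun _ w hw => hL₁i a _ (hL₁i b w hw))
  obtain ⟨s, t, hst⟩ := ha
  obtain ⟨s', t', hst'⟩ := hb
  have hABv : g a (g b v) = e () • v := hvev ()
  have he : e () ≠ 0 := by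
    intro h
    rw [h, zero_smul] at hABv
    apply hv0
    have h1 := congrArg (g (b⁻¹ * a⁻¹)) hABv
    rwa [map_zero, ← Module.End.mul_apply, ← Module.End.mul_apply, ← map_mul, ← map_mul,
      show b⁻¹ * a⁻¹ * a * b = 1 by group, map_one, Module.End.one_apply] at h1
  let W : Submodule K L := Submodule.span K {v, g b v}
  have hvW : v ∈ W := Submodule.subset_span (Set.mem_insert _ _)
  have hbvW : g b v ∈ W := Submodule.subset_span (Set.mem_insert_of_mem _ rfl)
  have hav : g a v ∈ W := by
    have h1 : g a v = (e ())⁻¹ • g a (g a (g b v)) := by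
      rw [hABv, map_smul, smul_smul, inv_mul_cancel₀ he, one_smul]
    rw [h1, ← Module.End.mul_apply, hst, LinearMap.add_apply, LinearMap.smul_apply,
      LinearMap.smul_apply, Module.End.one_apply, hABv]
    exact W.smul_mem _ (W.add_mem (W.smul_mem _ (W.smul_mem _ hvW)) (W.smul_mem _ hbvW))
  have haW : ∀ w ∈ W, g a w ∈ W := by
    intro w hw
    induction hw using Submodule.span_induction with
    | mem x hx =>
      rcases hx with rfl | rfl
      · exact hav
      · rw [hABv]; exact W.smul_mem _ hvW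
    | zero => rw [map_zero]; exact W.zero_mem
    | add x y _ _ hx hy => rw [map_add]; exact W.add_mem hx hy
    | smul c x _ hx => rw [map_smul]; exact W.smul_mem _ hx
  have hbW : ∀ w ∈ W, g b w ∈ W := by
    intro w hw
    induction hw using Submodule.span_induction with
    | mem x hx =>
      rcases hx with rfl | rfl
      · exact hbvW
      · rw [← Module.End.mul_apply, hst', LinearMap.add_apply, LinearMap.smul_apply,
          LinearMap.smul_apply, Module.End.one_apply]
        exact W.add_mem (W.smul_mem _ hbvW) (W.smul_mem _ hvW)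
    | zero => rw [map_zero]; exact W.zero_mem
    | add x y _ _ hx hy => rw [map_add]; exact W.add_mem hx hy
    | smul c x _ hx => rw [map_smul]; exact W.smul_mem _ hx
  have hpowW : ∀ r : R, (∀ w ∈ W, g r w ∈ W) → ∀ n : ℕ, ∀ w ∈ W, g (r ^ n) w ∈ W := by
    intro r hr n
    induction n with
    | zero => intro w hw; rwa [pow_zero, map_one]
    | succ n ih => intro w hw; rw [pow_succ', map_mul, Module.End.mul_apply]; exact hr _ (ih w hw)
  let S : Subgroup R :=
    { carrier := {r | ∀ w ∈ W, g r w ∈ W}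
      one_mem' := fun w hw => by rwa [map_one]
      mul_mem' := fun {x y} hx hy w hw => by
        rw [map_mul, Module.End.mul_apply]; exact hx _ (hy w hw)
      inv_mem' := fun {x} hx => by
        change ∀ w ∈ W, g x⁻¹ w ∈ W
        obtain ⟨n, hn⟩ := mem_powers_iff_mem_zpowers.2 (inv_mem (mem_zpowers x))
        change x ^ n = x⁻¹ at hn
        rw [← hn]
        exact hpowW x hx n }
  have hS : S = ⊤ := by
    rw [eq_top_iff, ← hgen, closure_le]
    rintro x (rfl | rfl)
    · exact haW
    · exact hbW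
  have hSW : ∀ r, ∀ w ∈ W, g r w ∈ W := fun r => (hS ▸ mem_top r : r ∈ S)
  let gW : R →* Module.End K W :=
    { toFun := fun r => (g r).restrict (hSW r)
      map_one' := LinearMap.ext fun w => Subtype.ext (by simp)
      map_mul' := fun x y => LinearMap.ext fun w => Subtype.ext (by simp) }
  let d : R →* Kˣ := ((LinearMap.det (M := W) (A := K)).comp gW).toHomUnits
  have hdz : d z = 1 := MonoidHom.mem_ker.1 (Abelianization.commutator_subset_ker d hzc)
  have hdim0 : 0 < Module.finrank K W := by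
    haveI : Nontrivial W := ⟨⟨⟨v, hvW⟩, 0, fun h => hv0 (congrArg Subtype.val h)⟩⟩
    exact Module.finrank_pos
  have hdim2 : Module.finrank K W ≤ 2 := by
    refine (finrank_span_le_card ({v, g b v} : Set L)).trans ?_
    rw [Set.toFinset_insert, Set.toFinset_singleton]
    exact Finset.card_le_two
  have hzW : gW z = μ • 1 := by
    have hW1 : W ≤ L₁ := Submodule.span_le.2 (by
      rintro x (rfl | rfl)
      · exact hvL
      · exact hL₁i b _ hvL)
    refine LinearMap.ext fun w => Subtype.ext ?_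
    change Z (w : L) = μ • (w : L)
    exact Module.End.mem_eigenspace_iff.1 (hW1 w.2)
  have h1 : μ ^ Module.finrank K W = 1 := by
    have h2 := congrArg Units.val hdz
    change LinearMap.det (gW z) = 1 at h2
    rwa [hzW, LinearMap.det_smul, map_one, mul_one] at h2
  have h3 : μ ^ p = 1 := by
    have h2 : ∀ i : ℕ, (Z ^ i) v₀ = μ ^ i • v₀ := by
      intro i
      induction i with
      | zero => simp
      | succ i ih =>
        rw [pow_succ', Module.End.mul_apply, ih, map_smul, show Z v₀ = μ • v₀ from hev (),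
          smul_smul, pow_succ]
    have h4 := h2 p
    rw [hZp, Module.End.one_apply] at h4
    nth_rw 1 [← one_smul K v₀] at h4
    exact (smul_left_injective K hv₀0 h4).symm
  have hcop : (Module.finrank K W).Coprime p := by
    rw [Nat.coprime_comm, hp.coprime_iff_not_dvd]
    intro hd
    have := Nat.le_of_dvd hdim0 hd
    have := hp.two_le
    omega
  apply hμ1
  rw [← orderOf_eq_one_iff, ← Nat.dvd_one, ← hcop.gcd_eq_one]
  exact Nat.dvd_gcd (orderOf_dvd_of_pow_eq_one h1) (orderOf_dvd_of_pow_eq_one h3)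

/-- `A` moves only the image of `T - 1`, on which it acts irreducibly; `T` has order `p` and
commutes with `A`. -/
structure IsSingerLike {F M : Type*} [CommRing F] [AddCommGroup M] [Module F M] (p : ℕ)
    (A T : Module.End F M) : Prop where
  comm : A * T = T * A
  pow_eq : T ^ p = 1
  range_le : LinearMap.range (A - 1) ≤ LinearMap.range (T - 1)
  simple : ∀ W : Submodule F M, W ≤ LinearMap.range (T - 1) → (∀ w ∈ W, A w ∈ W) →
    W = ⊥ ∨ W = LinearMap.range (T - 1)

open scoped IsMulCommutative in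
theorem IsSingerLike.dichotomy {F M : Type*} [Field F] [AddCommGroup M] [Module F M] {p : ℕ}
    [Fact p.Prime] (hpF : (p : F) ≠ 0) {A T : Module.End F M} (h : IsSingerLike p A T)
    (Z : Module.End F M) (hZA : Z * A = A * Z) (hZT : Z * T = T * Z) (hZp : Z ^ p = 1) :
    (Z - 1) * (T - 1) = 0 ∨ ∃ l : ℕ, (T - Z ^ l) * (T - 1) = 0 := by
  classical
  have hp : p.Prime := Fact.out
  haveI : NeZero p := ⟨hp.ne_zero⟩
  set E := LinearMap.range (T - 1) with hE
  by_cases hE0 : E = ⊥
  · left
    rw [LinearMap.range_eq_bot.1 hE0, mul_zero]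
  have hinv : ∀ X : Module.End F M, X * T = T * X → ∀ w ∈ E, X w ∈ E := by
    rintro X hX w ⟨u, rfl⟩
    exact ⟨X u, by rw [← Module.End.mul_apply, ← Module.End.mul_apply, sub_mul, mul_sub, hX,
      one_mul, mul_one]⟩
  let AE : Module.End F E := A.restrict (hinv A h.comm)
  let TE : Module.End F E := T.restrict (hinv T rfl)
  let ZE : Module.End F E := Z.restrict (hinv Z hZT)
  have hres : ∀ X Y : Module.End F M, ∀ hX : X * T = T * X, ∀ hY : Y * T = T * Y,
      X * Y = Y * X → X.restrict (hinv X hX) * Y.restrict (hinv Y hY) =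
        Y.restrict (hinv Y hY) * X.restrict (hinv X hX) := fun X Y _ _ hXY =>
    LinearMap.ext fun w => Subtype.ext (LinearMap.congr_fun hXY (w : M))
  let gens : Set (Module.End F E) := {AE, TE, ZE}
  have cAT : AE * TE = TE * AE := hres A T h.comm rfl h.comm
  have cAZ : AE * ZE = ZE * AE := hres A Z h.comm hZT hZA.symm
  have cTZ : TE * ZE = ZE * TE := hres T Z rfl hZT hZT.symm
  have hgens : ∀ x ∈ gens, ∀ y ∈ gens, x * y = y * x := by
    rintro x (rfl | rfl | rfl) y (rfl | rfl | rfl)
    all_goals first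
      | rfl
      | assumption
      | exact cAT.symm
      | exact cAZ.symm
      | exact cTZ.symm
  let R := Algebra.adjoin F gens
  haveI : IsMulCommutative R := Algebra.isMulCommutative_adjoin F hgens
  have hAR : AE ∈ R := Algebra.subset_adjoin (Set.mem_insert _ _)
  haveI : Nontrivial E := Submodule.nontrivial_iff_ne_bot.2 hE0
  haveI : Nontrivial R := ⟨⟨0, 1, fun e => zero_ne_one (α := Module.End F E) (congrArg Subtype.val e)⟩⟩
  haveI : NoZeroDivisors R := by
    refine ⟨fun {x y} hxy => or_iff_not_imp_right.2 fun hy => ?_⟩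
    let W : Submodule F M := (LinearMap.ker (x : Module.End F E)).map E.subtype
    rcases h.simple W (Submodule.map_subtype_le _ _) (by
      rintro _ ⟨w, hw, rfl⟩
      refine ⟨AE w, ?_, rfl⟩
      rw [SetLike.mem_coe, LinearMap.mem_ker] at hw ⊢
      have h1 := congrArg Subtype.val (mul_comm' x ⟨AE, hAR⟩)
      rw [← Module.End.mul_apply, show (x : Module.End F E) * AE = AE * x from h1,
        Module.End.mul_apply, hw, map_zero]) with hW | hW
    · exfalso
      apply hy
      refine Subtype.ext (LinearMap.ext fun w => ?_)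
      have h1 : E.subtype ((y : Module.End F E) w) ∈ W :=
        ⟨_, LinearMap.congr_fun (congrArg Subtype.val hxy) w, rfl⟩
      rw [hW, Submodule.mem_bot] at h1
      exact Subtype.ext h1
    · refine Subtype.ext (LinearMap.ext fun w => ?_)
      obtain ⟨u, hu, he⟩ : (w : M) ∈ W := hW ▸ w.2
      rw [← Subtype.ext (a2 := w) he]
      exact hu
  haveI : IsDomain R := NoZeroDivisors.to_isDomain R
  let tR : R := ⟨TE, Algebra.subset_adjoin (Set.mem_insert_of_mem _ (Set.mem_insert _ _))⟩
  let zR : R := ⟨ZE, Algebra.subset_adjoin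
    (Set.mem_insert_of_mem _ (Set.mem_insert_of_mem _ rfl))⟩
  have hpowE : ∀ (X : Module.End F M) (hX : X * T = T * X) (i : ℕ) (w : E),
      (((X.restrict (hinv X hX)) ^ i) w : M) = (X ^ i) (w : M) := by
    intro X hX i w
    induction i with
    | zero => rfl
    | succ i ih => rw [pow_succ', pow_succ', Module.End.mul_apply, Module.End.mul_apply, ← ih]; rfl
  have ht : tR ^ p = 1 := Subtype.ext (LinearMap.ext fun w => Subtype.ext (by
    rw [SubmonoidClass.coe_pow, hpowE T rfl, h.pow_eq]; rfl))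
  have hz : zR ^ p = 1 := Subtype.ext (LinearMap.ext fun w => Subtype.ext (by
    rw [SubmonoidClass.coe_pow, hpowE Z hZT, hZp]; rfl))
  have ht1 : tR ≠ 1 := by
    intro he
    apply hE0
    rw [eq_bot_iff]
    rintro _ ⟨u, rfl⟩
    have h1 : T ((T - 1) u) = (T - 1) u := congrArg Subtype.val
      (LinearMap.congr_fun (congrArg Subtype.val he) ⟨(T - 1) u, u, rfl⟩)
    have h2 : (∑ i ∈ Finset.range p, T ^ i) ((T - 1) u) = 0 := by
      rw [← Module.End.mul_apply, geom_sum_mul, h.pow_eq, sub_self]; rfl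
    have h3 : ∀ i, (T ^ i) ((T - 1) u) = (T - 1) u := by
      intro i
      induction i with
      | zero => rfl
      | succ i ih => rw [pow_succ', Module.End.mul_apply, ih, h1]
    rw [LinearMap.sum_apply, Finset.sum_congr rfl (fun i _ => h3 i), Finset.sum_const,
      Finset.card_range, ← Nat.cast_smul_eq_nsmul F] at h2
    exact (smul_eq_zero.1 h2).resolve_left hpF
  have hprim : IsPrimitiveRoot tR p := IsPrimitiveRoot.iff_orderOf.2 (orderOf_eq_prime ht ht1)
  obtain ⟨i, hi, hiz⟩ := hprim.eq_pow_of_pow_eq_one hz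
  have hzt : ∀ w ∈ E, Z w = (T ^ i) w := fun w hw => by
    have h1 := congrArg Subtype.val (LinearMap.congr_fun (congrArg Subtype.val hiz) ⟨w, hw⟩)
    rw [SubmonoidClass.coe_pow, hpowE T rfl] at h1
    exact h1.symm
  rcases Nat.eq_zero_or_pos i with hi0 | hipos
  · left
    refine LinearMap.ext fun u => ?_
    rw [Module.End.mul_apply, LinearMap.sub_apply, hzt _ ⟨u, rfl⟩, hi0, pow_zero, sub_self]
    rfl
  right
  obtain ⟨l, hl⟩ := Nat.exists_mul_mod_eq_one_of_coprime
    ((hp.coprime_iff_not_dvd.2 (fun hd => absurd (Nat.le_of_dvd hipos hd) (by omega))).symm) hp.one_lt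
  refine ⟨l, LinearMap.ext fun u => ?_⟩
  have hzl : ∀ n : ℕ, ∀ w ∈ E, (Z ^ n) w = (T ^ (i * n)) w := by
    intro n
    induction n with
    | zero => intro w _; simp
    | succ n ih =>
      intro w hw
      rw [pow_succ, Module.End.mul_apply, hzt w hw, ih _ (hinv _ ((Commute.refl T).pow_left i).eq w hw),
        ← Module.End.mul_apply, ← pow_add, Nat.mul_succ]
  rw [Module.End.mul_apply, LinearMap.sub_apply, hzl l _ ⟨u, rfl⟩, ← Nat.mod_add_div (i * l) p,
    hl.2, pow_add, pow_mul, h.pow_eq, one_pow, mul_one, pow_one, sub_self]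
  rfl

open scoped TensorProduct in
theorem baseChangeHom_injective (F K V : Type*) [Field F] [Field K] [Algebra F K] [AddCommGroup V]
    [Module F V] : Function.Injective (Module.End.baseChangeHom F K V) := by
  intro f g hfg
  refine LinearMap.ext fun w => ?_
  have h1 := LinearMap.congr_fun hfg ((1 : K) ⊗ₜ[F] w)
  change (1 : K) ⊗ₜ[F] f w = (1 : K) ⊗ₜ[F] g w at h1
  let b := Module.Free.chooseBasis F V
  refine b.repr.injective (Finsupp.ext fun i => ?_)
  have h2 := congrArg (fun x => (Module.Basis.baseChange K b).repr x i) h1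
  simp only [Module.Basis.baseChange_repr_tmul] at h2
  simp only [Algebra.smul_def, mul_one] at h2
  exact (algebraMap F K).injective h2

open scoped TensorProduct in
/-- Two Singer-like elements of a coprime `p`-group of operators, `p` odd: their `p`-parts commute. -/
theorem singer_pair_comm {G : Type*} [Group G] [Finite G] {p : ℕ} [Fact p.Prime] (hp2 : p ≠ 2)
    (hG : IsPGroup p G) {F M : Type*} [Field F] [AddCommGroup M] [Module F M]
    [FiniteDimensional F M] (hpF : (p : F) ≠ 0) (f : G →* Module.End F M) {μ μ' : G} {n n' : ℕ}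
    (h : IsSingerLike p (f μ) (f (μ ^ n))) (h' : IsSingerLike p (f μ') (f (μ' ^ n'))) :
    f (μ ^ n) * f (μ' ^ n') = f (μ' ^ n') * f (μ ^ n) := by
  classical
  by_contra hne
  have hp : p.Prime := Fact.out
  let π := QuotientGroup.mk' f.ker
  let fb : G ⧸ f.ker →* Module.End F M := QuotientGroup.lift f.ker f le_rfl
  have hfb : Function.Injective fb := by
    rw [← MonoidHom.ker_eq_bot_iff, eq_bot_iff]
    intro x hx
    obtain ⟨g, rfl⟩ := QuotientGroup.mk'_surjective f.ker x
    rw [mem_bot, QuotientGroup.mk'_apply, QuotientGroup.eq_one_iff]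
    exact hx
  have hfbπ : ∀ g, fb (π g) = f g := fun g => rfl
  have hGb : IsPGroup p (G ⧸ f.ker) := hG.to_quotient _
  set τ := π (μ ^ n) with hτ
  set τ' := π (μ' ^ n') with hτ'
  set c := ⁅τ, τ'⁆ with hc
  have hc1 : c ≠ 1 := by
    intro h1
    apply hne
    rw [← hfbπ, ← hfbπ, ← map_mul fb, ← map_mul fb, ← hτ, ← hτ',
      (commutatorElement_eq_one_iff_mul_comm.1 h1)]
  set N := normalClosure ({c} : Set (G ⧸ f.ker)) with hN
  have hNne : N ≠ ⊥ := fun h1 => hc1 (by
    have : c ∈ N := subset_normalClosure (Set.mem_singleton c)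
    rwa [h1, mem_bot] at this)
  obtain ⟨z₀, hz₀⟩ := (Subgroup.ne_bot_iff_exists_ne_one).1
    (Cfsg.Agent.PGroup.inf_center_ne_bot hGb hNne)
  obtain ⟨k, hk⟩ := hGb (z₀ : G ⧸ f.ker)
  obtain ⟨z, hzN, hzZ, hz1, hzp⟩ : ∃ z, z ∈ N ∧ z ∈ center (G ⧸ f.ker) ∧ z ≠ 1 ∧ z ^ p = 1 := by
    obtain ⟨j, hj, hom⟩ := (Nat.dvd_prime_pow hp).1 (orderOf_dvd_of_pow_eq_one hk)
    rcases j with _ | i
    · rw [pow_zero, orderOf_eq_one_iff] at hom
      exact absurd (Subtype.ext hom) hz₀
    refine ⟨(z₀ : G ⧸ f.ker) ^ p ^ i, pow_mem z₀.2.1 _, pow_mem z₀.2.2 _, fun h => ?_, ?_⟩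
    · have h1 := orderOf_dvd_of_pow_eq_one h
      rw [hom] at h1
      exact absurd (Nat.le_of_dvd (pow_pos hp.pos _) h1)
        (not_le.2 (Nat.pow_lt_pow_right hp.one_lt (Nat.lt_succ_self i)))
    · rw [← pow_mul, ← pow_succ, ← hom, pow_orderOf_eq_one]
  -- extend scalars
  let K := AlgebraicClosure F
  have hpK : (p : K) ≠ 0 := by
    rw [← map_natCast (algebraMap F K) p]
    exact fun h0 => hpF ((map_eq_zero _).1 h0)
  let fK : G ⧸ f.ker →* Module.End K (K ⊗[F] M) :=
    (Module.End.baseChangeHom F K M).toRingHom.toMonoidHom.comp fb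
  set Z := fK z with hZ
  have hZp : Z ^ p = 1 := by rw [hZ, ← map_pow, hzp, map_one]
  have hcen : ∀ g, Z * fK g = fK g * Z := fun g => by
    rw [hZ, ← map_mul, ← map_mul, mem_center_iff.1 hzZ g]
  let L₀ : Submodule K (K ⊗[F] M) := LinearMap.range (Z - 1)
  have hL₀ : L₀ ≠ ⊥ := by
    intro h0
    apply hz1
    apply hfb
    apply baseChangeHom_injective F K M
    rw [map_one, map_one]
    exact sub_eq_zero.1 (LinearMap.range_eq_bot.1 h0)
  obtain ⟨cc, v₀, hv₀, hv₀0, hev⟩ := common_eigen (fun _ : Unit => Z) (fun _ _ => rfl) L₀ hL₀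
    (fun _ w hw => by
      obtain ⟨u, rfl⟩ := hw
      exact ⟨Z u, by simp⟩)
  set ν := cc () with hν
  have hν1 : ν ≠ 1 := by
    intro h0
    obtain ⟨u, hu⟩ := hv₀
    have h1 : Z v₀ = v₀ := by
      have := hev ()
      rwa [← hν, h0, one_smul] at this
    have h2 : (∑ i ∈ Finset.range p, Z ^ i) v₀ = 0 := by
      rw [← hu, ← Module.End.mul_apply]
      exact LinearMap.congr_fun ((geom_sum_mul Z p).trans ((congrArg (· - 1) hZp).trans (sub_self 1))) u
    have h3 : ∀ i, (Z ^ i) v₀ = v₀ := by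
      intro i
      induction i with
      | zero => rfl
      | succ i ih => rw [pow_succ', Module.End.mul_apply, ih, h1]
    rw [LinearMap.sum_apply, Finset.sum_congr rfl (fun i _ => h3 i), Finset.sum_const,
      Finset.card_range, ← Nat.cast_smul_eq_nsmul K] at h2
    exact hv₀0 ((smul_eq_zero.1 h2).resolve_left hpK)
  let L : Submodule K (K ⊗[F] M) := Module.End.eigenspace Z ν
  have hLi : ∀ g, ∀ w ∈ L, fK g w ∈ L := by
    intro g w hw
    rw [Module.End.mem_eigenspace_iff] at hw ⊢
    rw [← Module.End.mul_apply, hcen, Module.End.mul_apply, hw, map_smul]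
  let fL : G ⧸ f.ker →* Module.End K L :=
    { toFun := fun g => (fK g).restrict (hLi g)
      map_one' := LinearMap.ext fun w => Subtype.ext (by simp)
      map_mul' := fun x y => LinearMap.ext fun w => Subtype.ext (by simp) }
  have hquad : ∀ (A : G) (m : ℕ), IsSingerLike p (f A) (f (A ^ m)) →
      ∃ s t : K, fL (π (A ^ m)) * fL (π (A ^ m)) = s • fL (π (A ^ m)) + t • 1 := by
    intro A m hA
    have hcomm : ∀ g, fb z * f g = f g * fb z := fun g => by
      rw [← hfbπ, ← map_mul, ← map_mul, mem_center_iff.1 hzZ]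
    set X := fL (π (A ^ m)) with hX
    have hZw : ∀ (w : L) (i : ℕ), (Z ^ i) (w : K ⊗[F] M) = ν ^ i • (w : K ⊗[F] M) := by
      intro w i
      induction i with
      | zero => simp
      | succ i ih =>
        rw [pow_succ', Module.End.mul_apply, ih, map_smul, Module.End.mem_eigenspace_iff.1 w.2,
          smul_smul, pow_succ]
    let φ := Module.End.baseChangeHom F K M
    have hφz : φ (fb z) = Z := rfl
    rcases hA.dichotomy hpF (fb z) (hcomm A) (hcomm _)
      (by rw [← map_pow, hzp, map_one]) with h0 | ⟨l, h0⟩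
    · refine ⟨1, 0, ?_⟩
      have h1 := congrArg φ h0
      rw [map_mul, map_sub, map_sub, map_one, map_zero, hφz, ← hfbπ] at h1
      have hX1 : X = 1 := by
        refine LinearMap.ext fun w => ?_
        have h2 := LinearMap.congr_fun h1 (w : K ⊗[F] M)
        have h3 : Z ((X w : L) : K ⊗[F] M) = ν • ((X w : L) : K ⊗[F] M) :=
          Module.End.mem_eigenspace_iff.1 (X w).2
        have h4 : Z (w : K ⊗[F] M) = ν • (w : K ⊗[F] M) := Module.End.mem_eigenspace_iff.1 w.2
        rw [Module.End.mul_apply, LinearMap.zero_apply, LinearMap.sub_apply, LinearMap.sub_apply,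
          Module.End.one_apply, Module.End.one_apply, map_sub,
          show φ (fb (π (A ^ m))) (w : K ⊗[F] M) = ((X w : L) : K ⊗[F] M) from rfl, h3, h4] at h2
        have h5 : (ν - 1) • (((X w : L) : K ⊗[F] M) - (w : K ⊗[F] M)) = 0 := by
          rw [← h2]; module
        exact Subtype.ext (sub_eq_zero.1 ((smul_eq_zero.1 h5).resolve_left (sub_ne_zero.2 hν1)))
      rw [hX1, one_smul, zero_smul, add_zero, mul_one]
    · refine ⟨1 + ν ^ l, -ν ^ l, LinearMap.ext fun w => Subtype.ext ?_⟩
      have h1 := congrArg φ h0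
      rw [map_mul, map_sub, map_sub, map_one, map_zero, map_pow φ, hφz, ← hfbπ] at h1
      have h2 := LinearMap.congr_fun h1 (w : K ⊗[F] M)
      rw [Module.End.mul_apply, LinearMap.zero_apply, LinearMap.sub_apply, LinearMap.sub_apply,
        Module.End.one_apply, map_sub, map_sub,
        show φ (fb (π (A ^ m))) (w : K ⊗[F] M) = ((X w : L) : K ⊗[F] M) from rfl,
        show φ (fb (π (A ^ m))) ((X w : L) : K ⊗[F] M) = ((X (X w) : L) : K ⊗[F] M) from rfl,
        hZw, hZw] at h2
      simp only [Module.End.mul_apply, LinearMap.add_apply, LinearMap.smul_apply,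
        Module.End.one_apply, Submodule.coe_add, Submodule.coe_smul]
      rw [← sub_eq_zero, ← h2]
      module
  -- `c` is trivial on `L`
  let R₀ : Subgroup (G ⧸ f.ker) := closure {τ, τ'}
  have hτR : τ ∈ R₀ := subset_closure (Set.mem_insert _ _)
  have hτR' : τ' ∈ R₀ := subset_closure (Set.mem_insert_of_mem _ rfl)
  let gL : R₀ →* Module.End K L := fL.comp R₀.subtype
  let a : R₀ ⧸ gL.ker := QuotientGroup.mk' _ ⟨τ, hτR⟩
  let b : R₀ ⧸ gL.ker := QuotientGroup.mk' _ ⟨τ', hτR'⟩
  have hgen : closure ({a, b} : Set (R₀ ⧸ gL.ker)) = ⊤ := by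
    have h1 : closure (R₀.subtype ⁻¹' {τ, τ'}) = ⊤ := closure_closure_coe_preimage
    have h2 := congrArg (Subgroup.map (QuotientGroup.mk' gL.ker)) h1
    rw [map_top_of_surjective _ (QuotientGroup.mk'_surjective _), MonoidHom.map_closure] at h2
    rw [eq_top_iff, ← h2]
    refine closure_mono ?_
    rintro _ ⟨⟨x, hx⟩, hxm, rfl⟩
    rcases hxm with rfl | rfl
    · exact Set.mem_insert _ _
    · exact Set.mem_insert_of_mem _ rfl
  let gb : R₀ ⧸ gL.ker →* Module.End K L := QuotientGroup.lift gL.ker gL le_rfl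
  have hgb : Function.Injective gb := by
    rw [← MonoidHom.ker_eq_bot_iff, eq_bot_iff]
    intro x hx
    obtain ⟨g, rfl⟩ := QuotientGroup.mk'_surjective gL.ker x
    rw [mem_bot, QuotientGroup.mk'_apply, QuotientGroup.eq_one_iff]
    exact hx
  have hqa : ∃ s t : K, gb a * gb a = s • gb a + t • 1 := hquad μ n h
  have hqb : ∃ s t : K, gb b * gb b = s • gb b + t • 1 := hquad μ' n' h'
  have hab := quad_pair_comm (R := R₀ ⧸ gL.ker) (K := K) (L := L) hp2
    ((hGb.to_subgroup R₀).to_quotient _) hpK gb hgb a b hgen hqa hqb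
  have hcL : c ∈ fL.ker := by
    rw [MonoidHom.mem_ker]
    have h1 := congrArg gb (commutatorElement_eq_one_iff_mul_comm.2 hab)
    rw [map_one, show (⁅a, b⁆ : R₀ ⧸ gL.ker) =
      QuotientGroup.mk' _ ⁅(⟨τ, hτR⟩ : R₀), ⟨τ', hτR'⟩⁆ from (map_commutatorElement _ _ _).symm] at h1
    exact h1
  have hzL : z ∈ fL.ker := normalClosure_le_normal (Set.singleton_subset_iff.2 hcL) hzN
  rw [MonoidHom.mem_ker] at hzL
  have hv₀L : v₀ ∈ L := Module.End.mem_eigenspace_iff.2 (hev ())
  have h1 : Z v₀ = v₀ := congrArg Subtype.val (LinearMap.congr_fun hzL ⟨v₀, hv₀L⟩)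
  rw [hev ()] at h1
  nth_rw 2 [← one_smul K v₀] at h1
  exact hν1 (smul_left_injective K hv₀0 h1)

end Cfsg.Agent.FGS73
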