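import Cfsg.Agent.FGS73.Minimal

/-!
Fixed-point-free automorphisms `σ` with `σ ^ 4 = 1` of finite soluble groups: the derived
subgroup is nilpotent (Gorenstein–Herstein), by a group-algebra averaging argument.
-/

namespace Cfsg.Agent.FGS73

universe u

open Subgroup
open scoped commutatorElement IsMulCommutative

/-- The linear core of the argument. -/
theorem sq_eq_neg_core {W A : Type*} [AddCommGroup W] [Finite W] [Group A] [Fintype A]
    (comm : ∀ a b : A, a * b = b * a) (ρ : A →* AddMonoid.End W) (hρ : Function.Injective ρ)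
    (s : A →* A) (hs : ∀ a, s a = a → a = 1) (hs4 : ∀ a, s (s (s (s a))) = a)
    (S : AddMonoid.End W) (hS : ∀ a w, S (ρ a w) = ρ (s a) (S w))
    (hS4 : ∀ w, S (S (S (S w))) = w) (hSfix : ∀ w, S w = w → w = 0)
    (hAfix : ∀ w, (∀ a, ρ a w = w) → w = 0)
    (hcop : (Nat.card A).Coprime (Nat.card W)) (w : W) : S (S w) = -w := by
  classical
  have inj : ∀ u : W, Fintype.card A • u = 0 → u = 0 := by
    intro u hu
    have h1 : addOrderOf u ∣ Nat.card A := by
      rw [Nat.card_eq_fintype_card]
      exact addOrderOf_dvd_iff_nsmul_eq_zero.2 hu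
    have h2 : addOrderOf u ∣ Nat.card W := addOrderOf_dvd_natCard u
    exact AddMonoid.addOrderOf_eq_one_iff.1 (Nat.eq_one_of_dvd_coprimes hcop h1 h2)
  have hmul : ∀ a b u, ρ (a * b) u = ρ a (ρ b u) := fun a b u => by rw [map_mul]; rfl
  have hzero : ∀ (f : A → A), Function.Bijective f → ∀ u, ∑ a, ρ (f a) u = 0 := by
    intro f hf u
    rw [hf.sum_comp (fun a => ρ a u)]
    apply hAfix
    intro b
    rw [map_sum]
    simp only [← hmul]
    exact Equiv.sum_comp (Equiv.mulLeft b) (fun a => ρ a u)
  let h : A →* A :=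
    { toFun := fun a => a⁻¹ * s (s a)
      map_one' := by simp
      map_mul' := fun a b => by
        simp only [map_mul, mul_inv_rev]
        rw [comm b⁻¹ a⁻¹]
        simp only [mul_assoc]
        rw [← mul_assoc b⁻¹ (s (s a)), comm b⁻¹ (s (s a)), mul_assoc] }
  have hs3 : ∀ a, s (s (s a)) = a → a = 1 := fun a ha => hs a (by
    conv_rhs => rw [← hs4 a, ha])
  have main : ∀ u : W, Fintype.card A • u + ∑ a, ρ (h a) (S (S u)) = 0 := by
    intro u
    have hx : ∀ a : A, u + ρ (a⁻¹ * s a) (S u) + ρ (h a) (S (S u)) +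
        ρ (a⁻¹ * s (s (s a))) (S (S (S u))) = 0 := by
      intro a
      have h0 : ρ a u + ρ (s a) (S u) + ρ (s (s a)) (S (S u)) + ρ (s (s (s a))) (S (S (S u))) = 0 := by
        apply hSfix
        simp only [map_add, hS, hS4, hs4]
        abel
      have h1 := congrArg (ρ a⁻¹) h0
      simp only [map_add, map_zero, ← hmul, inv_mul_cancel] at h1
      have h2 : ρ (1 : A) u = u := by rw [map_one]; rfl
      rw [h2] at h1
      exact h1
    have hsum := Finset.sum_eq_zero (s := (Finset.univ : Finset A)) fun a _ => hx a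
    simp only [Finset.sum_add_distrib, Finset.sum_const, Finset.card_univ] at hsum
    have z1 := hzero (fun a => a⁻¹ * s a) (bijective_inv_mul s hs) (S u)
    have z3 := hzero (fun a => a⁻¹ * s (s (s a))) (bijective_inv_mul (s.comp (s.comp s)) hs3)
      (S (S (S u)))
    rw [z1, z3] at hsum
    simpa using hsum
  have hh : ∀ b, h b = 1 := by
    intro b
    apply hρ
    rw [map_one]
    refine AddMonoidHom.ext fun u => ?_
    have h1 := main u
    have h2 : ρ (h b) (Fintype.card A • u + ∑ a, ρ (h a) (S (S u))) =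
        Fintype.card A • ρ (h b) u + ∑ a, ρ (h a) (S (S u)) := by
      rw [map_add, map_nsmul, map_sum]
      congr 1
      simp only [← hmul, ← map_mul]
      exact Equiv.sum_comp (Equiv.mulLeft b) (fun a => ρ (h a) (S (S u)))
    rw [h1, map_zero] at h2
    have h3 : Fintype.card A • (ρ (h b) u - u) = 0 := by
      rw [nsmul_sub, sub_eq_zero]
      exact add_right_cancel (h2.symm.trans h1.symm)
    exact sub_eq_zero.1 (inj _ h3)
  have h1 := main w
  simp only [hh, map_one] at h1
  rw [Finset.sum_const, Finset.card_univ, ← nsmul_add] at h1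
  exact eq_neg_of_add_eq_zero_right (inj _ h1)

/-- Conjugation on an abelian normal subgroup, as additive endomorphisms. -/
def conjEnd {G : Type*} [Group G] (V : Subgroup G) [hV : V.Normal] [IsMulCommutative V] :
    G →* AddMonoid.End (Additive V) where
  toFun g := MonoidHom.toAdditive (MulAut.conjNormal g : MulAut V).toMonoidHom
  map_one' := by
    refine AddMonoidHom.ext fun x => ?_
    apply Additive.toMul.injective
    apply Subtype.ext
    change ((MulAut.conjNormal (1 : G) x.toMul : V) : G) = x.toMul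
    simp
  map_mul' := fun a b => by
    refine AddMonoidHom.ext fun x => ?_
    apply Additive.toMul.injective
    apply Subtype.ext
    change ((MulAut.conjNormal (a * b) x.toMul : V) : G) =
      ((MulAut.conjNormal a (MulAut.conjNormal b x.toMul) : V) : G)
    simp [mul_assoc]

theorem conjEnd_apply {G : Type*} [Group G] (V : Subgroup G) [V.Normal] [IsMulCommutative V]
    (g : G) (v : Additive V) :
    ((conjEnd V g v).toMul : G) = g * (v.toMul : G) * g⁻¹ := by
  exact MulAut.conjNormal_apply g v.toMul

theorem conjEnd_eq_one_iff {G : Type*} [Group G] (V : Subgroup G) [V.Normal] [IsMulCommutative V]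
    (g : G) : conjEnd V g = 1 ↔ g ∈ centralizer (V : Set G) := by
  rw [Subgroup.mem_centralizer_iff]
  constructor
  · intro h x hx
    have h1 := conjEnd_apply V g (Additive.ofMul ⟨x, hx⟩)
    rw [h] at h1
    change x = g * x * g⁻¹ at h1
    exact (eq_mul_inv_iff_mul_eq.1 h1)
  · intro h
    refine AddMonoidHom.ext fun v => ?_
    apply Additive.toMul.injective
    apply Subtype.ext
    refine (conjEnd_apply V g v).trans ?_
    rw [← h _ v.toMul.2, mul_inv_cancel_right]
    rfl

theorem centralizer_invariant {G : Type*} [Group G] [Finite G] (V : Subgroup G) (s : G →* G)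
    (hs : Function.Injective s) (hV : ∀ x ∈ V, s x ∈ V) :
    ∀ x ∈ centralizer (V : Set G), s x ∈ centralizer (V : Set G) := by
  intro x hx
  rw [mem_centralizer_iff] at hx ⊢
  intro y hy
  let t : V → V := fun v => ⟨s v, hV v v.2⟩
  obtain ⟨v, hv⟩ := Finite.surjective_of_injective (f := t)
    (fun a b h => Subtype.ext (hs (congrArg Subtype.val h))) ⟨y, hy⟩
  have : s v = y := congrArg Subtype.val hv
  rw [← this, ← map_mul, ← map_mul, hx v v.2]

/-- The action on a minimal invariant abelian normal subgroup is abelian. -/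
theorem commutator_le_centralizer {G : Type*} [Group G] [Finite G] (hG : Group.IsSolvable G)
    (σ : G →* G) (hσinj : Function.Injective σ) (hσ4 : ∀ g, σ (σ (σ (σ g))) = g)
    (hfpf : ∀ g, σ g = g → g = 1) (V : Subgroup G) {r : ℕ} (hr : r.Prime) (hV : IsAbInv {σ} V)
    (hexp : ∀ x ∈ V, x ^ r = 1)
    (hmin : ∀ U ≤ V, U.Normal → (∀ s ∈ ({σ} : Set (G →* G)), ∀ x ∈ U, s x ∈ U) → U = ⊥ ∨ U = V) :
    commutator G ≤ centralizer (V : Set G) := by
  classical
  haveI hVn := hV.normal
  haveI : IsMulCommutative V :=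
    ⟨⟨fun a b => Subtype.ext (hV.comm a a.2 b b.2)⟩⟩
  haveI := Fact.mk hr
  have hVs : ∀ x ∈ V, σ x ∈ V := hV.inv σ rfl
  set C := centralizer (V : Set G) with hC
  have hCs : ∀ x ∈ C, σ x ∈ C := centralizer_invariant V σ hσinj hVs
  let π := QuotientGroup.mk' C
  let t : G ⧸ C →* G ⧸ C := quotEnd C σ hCs
  have htfpf : ∀ x, t x = x → x = 1 := quotEnd_fpf C σ hCs hfpf
  have ht4 : ∀ x, t (t (t (t x))) = x := by
    intro x
    obtain ⟨g, rfl⟩ := QuotientGroup.mk'_surjective C x
    simp only [t, quotEnd_mk, hσ4]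
  -- it is enough that the square of `t` is trivial
  suffices h2 : ∀ x, t (t x) = x by
    have hcomm := MonoidHom.FixedPointFree.commute_all_of_involutive (φ := t) htfpf h2
    rw [_root_.commutator_def, commutator_le]
    intro g _ h _
    rw [← QuotientGroup.eq_one_iff, ← QuotientGroup.mk'_apply, map_commutatorElement,
      commutatorElement_eq_one_iff_commute]
    exact hcomm _ _
  by_contra hne
  push Not at hne
  obtain ⟨x₀, hx₀⟩ := hne
  haveI : Nontrivial (G ⧸ C) := ⟨⟨t (t x₀), x₀, hx₀⟩⟩
  obtain ⟨A, q, hq, hA, hAexp, -⟩ :=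
    exists_minimal_isAbInv (isSolvable_quotient hG C) ({t} : Set (G ⧸ C →* G ⧸ C))
  haveI := Fact.mk hq
  haveI := hA.normal
  let A' : Subgroup G := A.comap π
  -- fixed points of `A` on `V`
  let U : Subgroup G := V ⊓ centralizer (A' : Set G)
  have hA's : ∀ x ∈ A', σ x ∈ A' := fun x hx => by
    have := hA.inv t rfl (π x) hx
    exact this
  have hU : U = ⊥ := by
    refine (hmin U inf_le_left inferInstance ?_).resolve_right fun h => ?_
    · intro s hs x hx
      obtain rfl := Set.mem_singleton_iff.1 hs
      exact ⟨hVs x hx.1, centralizer_invariant A' s hσinj hA's x hx.2⟩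
    · apply hA.ne_bot
      rw [eq_bot_iff]
      intro a ha
      obtain ⟨g, rfl⟩ := QuotientGroup.mk'_surjective C a
      rw [mem_bot, QuotientGroup.mk'_apply, QuotientGroup.eq_one_iff, mem_centralizer_iff]
      intro v hv
      have hv' : v ∈ U := h.symm ▸ hv
      exact (mem_centralizer_iff.1 hv'.2 g ha).symm
  -- the action
  let ρG : G ⧸ C →* AddMonoid.End (Additive V) :=
    QuotientGroup.lift C (conjEnd V) fun g hg => (conjEnd_eq_one_iff V g).2 hg
  have hρinj : Function.Injective ρG := by
    rw [← MonoidHom.ker_eq_bot_iff, eq_bot_iff]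
    intro x hx
    obtain ⟨g, rfl⟩ := QuotientGroup.mk'_surjective C x
    rw [mem_bot, QuotientGroup.mk'_apply, QuotientGroup.eq_one_iff]
    exact (conjEnd_eq_one_iff V g).1 hx
  let S : AddMonoid.End (Additive V) :=
    MonoidHom.toAdditive ((σ.comp V.subtype).codRestrict V fun v => hVs v v.2)
  have hSval : ∀ v : Additive V, ((S v).toMul : G) = σ (v.toMul : G) := fun v => rfl
  have hSρ : ∀ (x : G ⧸ C) (w : Additive V), S (ρG x w) = ρG (t x) (S w) := by
    intro x w
    obtain ⟨g, rfl⟩ := QuotientGroup.mk'_surjective C x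
    apply Additive.toMul.injective
    apply Subtype.ext
    change σ ((conjEnd V g w).toMul : G) = ((conjEnd V (σ g) (S w)).toMul : G)
    rw [conjEnd_apply, conjEnd_apply, hSval, map_mul, map_mul, map_inv]
  have hS4 : ∀ w, S (S (S (S w))) = w := fun w => by
    apply Additive.toMul.injective
    apply Subtype.ext
    exact hσ4 _
  have hSfix : ∀ w, S w = w → w = 0 := fun w hw => by
    have := hfpf (w.toMul : G) (congrArg (fun u : Additive V => (u.toMul : G)) hw)
    apply Additive.toMul.injective
    exact Subtype.ext this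
  have hAfix : ∀ w : Additive V, (∀ a : A, ρG a w = w) → w = 0 := by
    intro w hw
    have h1 : (w.toMul : G) ∈ U := by
      refine ⟨w.toMul.2, ?_⟩
      refine mem_centralizer_iff.2 ?_
      intro g hg
      have h2 := congrArg (fun u : Additive V => (u.toMul : G)) (hw ⟨π g, hg⟩)
      change ((conjEnd V g w).toMul : G) = (w.toMul : G) at h2
      rw [conjEnd_apply] at h2
      exact mul_inv_eq_iff_eq_mul.1 h2
    rw [hU, mem_bot] at h1
    apply Additive.toMul.injective
    exact Subtype.ext h1
  -- coprimality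
  have hqr : q ≠ r := by
    rintro rfl
    letI : MulAction A V :=
      { smul := fun a v => (ρG a (Additive.ofMul v)).toMul
        one_smul := fun v => by
          change (ρG ((1 : A) : G ⧸ C) (Additive.ofMul v)).toMul = v
          rw [OneMemClass.coe_one, map_one]; rfl
        mul_smul := fun a b v => by
          change (ρG ((a * b : A) : G ⧸ C) (Additive.ofMul v)).toMul = _
          rw [MulMemClass.coe_mul, map_mul]; rfl }
    have hAp : IsPGroup q A := isPGroup_of_exponent A hAexp
    obtain ⟨k, hk⟩ := IsPGroup.iff_card.1 (isPGroup_of_exponent V hexp)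
    have hk0 : k ≠ 0 := fun h => hV.ne_bot (Subgroup.eq_bot_of_card_eq V (by simpa [h] using hk))
    obtain ⟨b, hb, hb1⟩ := hAp.exists_fixed_point_of_prime_dvd_card_of_fixed_point (α := V)
      (hk ▸ dvd_pow_self q hk0) (a := 1) (fun a => by
        change (ρG a 0).toMul = 1
        rw [map_zero]; rfl)
    exact hb1 (congrArg Additive.toMul (hAfix (Additive.ofMul b) fun a =>
      congrArg Additive.ofMul (hb a))).symm
  have hcop : (Nat.card A).Coprime (Nat.card (Additive V)) := by
    obtain ⟨a, ha⟩ := IsPGroup.iff_card.1 (isPGroup_of_exponent A hAexp)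
    obtain ⟨b, hb⟩ := IsPGroup.iff_card.1 (isPGroup_of_exponent V hexp)
    change (Nat.card A).Coprime (Nat.card V)
    rw [ha, hb]
    exact Nat.coprime_pow_primes _ _ hq hr hqr
  haveI : Finite (Additive V) := inferInstanceAs (Finite V)
  cases nonempty_fintype A
  have key := sq_eq_neg_core (W := Additive V) (A := A)
    (fun a b => Subtype.ext (hA.comm a a.2 b b.2)) (ρG.comp A.subtype)
    (hρinj.comp A.subtype_injective) ((t.comp A.subtype).codRestrict A fun a => hA.inv t rfl a a.2)
    (fun a ha => Subtype.ext (htfpf a (congrArg Subtype.val ha)))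
    (fun a => Subtype.ext (ht4 a)) S (fun a w => hSρ a w) hS4 hSfix hAfix hcop
  apply hx₀
  apply hρinj
  refine AddMonoidHom.ext fun w => ?_
  obtain ⟨u, rfl⟩ : ∃ u, S (S u) = w := ⟨S (S w), hS4 w⟩
  have k1 : S (S (ρG x₀ u)) = ρG (t (t x₀)) (S (S u)) :=
    (congrArg S (hSρ x₀ u)).trans (hSρ (t x₀) (S u))
  have k2 : S (S (ρG x₀ u)) = ρG x₀ (S (S u)) :=
    (key (ρG x₀ u)).trans ((map_neg (ρG x₀) u).symm.trans (congrArg (ρG x₀) (key u).symm))
  exact k1.symm.trans k2

/-- Gorenstein–Herstein for soluble groups. -/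
theorem nilpotent_commutator_of_fpf_four (n : ℕ) : ∀ (G : Type u) [Group G] [Finite G],
    Nat.card G ≤ n → Group.IsSolvable G → ∀ σ : G →* G, Function.Injective σ →
      (∀ g, σ (σ (σ (σ g))) = g) → (∀ g, σ g = g → g = 1) → Group.IsNilpotent (commutator G) := by
  induction n with
  | zero =>
    intro G _ _ h
    exact absurd h (by simp [Nat.card_pos.ne'])
  | succ n ih =>
    intro G _ _ hcard hG σ hinj h4 hfpf
    rcases subsingleton_or_nontrivial G with hs | hs
    · infer_instance
    obtain ⟨V, r, hr, hV, hexp, hmin⟩ := exists_minimal_isAbInv hG ({σ} : Set (G →* G))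
    haveI := hV.normal
    have hVs : ∀ x ∈ V, σ x ∈ V := hV.inv σ rfl
    have hle := commutator_le_centralizer hG σ hinj h4 hfpf V hr hV hexp hmin
    let σ' := quotEnd V σ hVs
    have h4' : ∀ x, σ' (σ' (σ' (σ' x))) = x := by
      intro x
      obtain ⟨g, rfl⟩ := QuotientGroup.mk'_surjective V x
      simp only [σ', quotEnd_mk, h4]
    haveI : Group.IsNilpotent (commutator (G ⧸ V)) :=
      ih (G ⧸ V) (by have := card_quotient_lt V hV.ne_bot; omega) (isSolvable_quotient hG V) σ'
        (Function.LeftInverse.injective (g := fun x => σ' (σ' (σ' x))) h4') h4'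
        (quotEnd_fpf V σ hVs hfpf)
    have hmap : ∀ x : commutator G, QuotientGroup.mk' V x ∈ commutator (G ⧸ V) := by
      intro x
      have h1 : (commutator G).map (QuotientGroup.mk' V) ≤ commutator (G ⧸ V) := by
        rw [_root_.commutator_def, _root_.commutator_def, map_commutator]
        exact commutator_mono le_top le_top
      exact h1 ⟨x, x.2, rfl⟩
    apply Subgroup.isNilpotent_of_ker_le_center
      (((QuotientGroup.mk' V).comp (commutator G).subtype).codRestrict _ hmap)
    intro x hx
    have hxV : (x : G) ∈ V := (QuotientGroup.eq_one_iff _).1 (congrArg Subtype.val hx)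
    rw [mem_center_iff]
    intro y
    exact Subtype.ext (mem_centralizer_iff.1 (hle y.2) x hxV).symm

end Cfsg.Agent.FGS73
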