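import Cfsg.Agent.FGS73.Minimal
import Cfsg.Agent.FGS73.FPF4

/-!
Actions by automorphisms as homomorphisms `A →* Monoid.End G`; the linear setting
(`G ⧸ C_G(V)` acting on `Additive V`); the averaging lemma for an endomorphism of prime order
without fixed points.
-/

namespace Cfsg.Agent.FGS73

open Subgroup
open scoped commutatorElement IsMulCommutative

variable {G : Type*} [Group G] {A : Type*} [Group A]

/-- The induced action on the quotient by an invariant normal subgroup. -/
def quotAct (φ : A →* Monoid.End G) (N : Subgroup G) [N.Normal]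
    (h : ∀ a, ∀ x ∈ N, φ a x ∈ N) : A →* Monoid.End (G ⧸ N) where
  toFun a := QuotientGroup.map N N (φ a) (h a)
  map_one' := by
    refine MonoidHom.ext fun x => ?_
    induction x using QuotientGroup.induction_on with
    | H g =>
      change QuotientGroup.mk (s := N) (φ 1 g) = QuotientGroup.mk (s := N) g
      rw [map_one]; rfl
  map_mul' a b := by
    refine MonoidHom.ext fun x => ?_
    induction x using QuotientGroup.induction_on with
    | H g =>
      change QuotientGroup.mk (s := N) (φ (a * b) g) = QuotientGroup.mk (s := N) (φ a (φ b g))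
      rw [map_mul]; rfl

@[simp] theorem quotAct_mk (φ : A →* Monoid.End G) (N : Subgroup G) [N.Normal]
    (h : ∀ a, ∀ x ∈ N, φ a x ∈ N) (a : A) (g : G) :
    quotAct φ N h a (QuotientGroup.mk' N g) = QuotientGroup.mk' N (φ a g) := rfl

theorem act_mul (φ : A →* Monoid.End G) (a b : A) (x : G) : φ (a * b) x = φ a (φ b x) := by
  rw [map_mul]; rfl

theorem act_one (φ : A →* Monoid.End G) (x : G) : φ 1 x = x := by rw [map_one]; rfl

theorem act_injective (φ : A →* Monoid.End G) (a : A) : Function.Injective (φ a) :=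
  Function.LeftInverse.injective (g := φ a⁻¹) fun x => by
    rw [← act_mul, inv_mul_cancel, act_one]

/-- A `p`-group fixes a point of any invariant coset of a subgroup of order prime to `p`. -/
theorem exists_fixed_in_coset [Finite G] {p : ℕ} [Fact p.Prime] (hA : IsPGroup p A)
    (φ : A →* Monoid.End G) (N : Subgroup G) (h : ∀ a, ∀ x ∈ N, φ a x ∈ N)
    (hN : ¬ p ∣ Nat.card N) (g : G) (hg : ∀ a, g⁻¹ * φ a g ∈ N) :
    ∃ x, g⁻¹ * x ∈ N ∧ ∀ a, φ a x = x := by
  let X := {x : G // g⁻¹ * x ∈ N}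
  letI : MulAction A X :=
    { smul := fun a x => ⟨φ a x, by
        have h1 := h a _ x.2
        rw [map_mul, map_inv] at h1
        have h2 := N.mul_mem (hg a) h1
        simpa [mul_assoc] using h2⟩
      one_smul := fun x => Subtype.ext (act_one φ _)
      mul_smul := fun a b x => Subtype.ext (act_mul φ a b _) }
  have hcard : Nat.card X = Nat.card N :=
    Nat.card_congr
      { toFun := fun x => ⟨g⁻¹ * x, x.2⟩
        invFun := fun n => ⟨g * n, by simp⟩
        left_inv := fun x => by simp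
        right_inv := fun n => by simp }
  obtain ⟨x, hx⟩ := hA.nonempty_fixed_point_of_prime_not_dvd_card X (hcard ▸ hN)
  exact ⟨x, x.2, fun a => congrArg Subtype.val (hx a)⟩

/-- A `p`-group acting with trivial common fixed points forces `p ∤ |G|`. -/
theorem not_dvd_card_of_fixed [Finite G] {p : ℕ} [Fact p.Prime] (hA : IsPGroup p A)
    (φ : A →* Monoid.End G) (hfix : ∀ x, (∀ a, φ a x = x) → x = 1) : ¬ p ∣ Nat.card G := by
  letI : MulAction A G :=
    { smul := fun a x => φ a x
      one_smul := act_one φ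
      mul_smul := act_mul φ }
  intro hd
  obtain ⟨b, hb, hb1⟩ := hA.exists_fixed_point_of_prime_dvd_card_of_fixed_point (α := G) hd
    (a := 1) (fun a => map_one (φ a))
  exact hb1 (hfix b hb).symm

theorem quotAct_fixed [Finite G] {p : ℕ} [Fact p.Prime] (hA : IsPGroup p A)
    (φ : A →* Monoid.End G) (hfix : ∀ x, (∀ a, φ a x = x) → x = 1)
    (N : Subgroup G) [N.Normal] (h : ∀ a, ∀ x ∈ N, φ a x ∈ N) :
    ∀ x, (∀ a, quotAct φ N h a x = x) → x = 1 := by
  intro x hx
  obtain ⟨g, rfl⟩ := QuotientGroup.mk'_surjective N x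
  have hN : ¬ p ∣ Nat.card N := fun hd =>
    not_dvd_card_of_fixed hA φ hfix (hd.trans (Subgroup.card_subgroup_dvd_card N))
  obtain ⟨y, hy, hyf⟩ := exists_fixed_in_coset hA φ N h hN g
    (fun a => QuotientGroup.eq.1 (hx a).symm)
  rw [hfix y hyf, mul_one, inv_mem_iff] at hy
  exact (QuotientGroup.eq_one_iff g).2 hy

theorem centralizer_act_invariant [Finite G] (φ : A →* Monoid.End G) (V : Subgroup G)
    (h : ∀ a, ∀ x ∈ V, φ a x ∈ V) :
    ∀ a, ∀ x ∈ centralizer (V : Set G), φ a x ∈ centralizer (V : Set G) :=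
  fun a => centralizer_invariant V (φ a) (act_injective φ a) (h a)

/-! ### Linear setting -/

variable (V : Subgroup G) [V.Normal] [IsMulCommutative V]

/-- `G ⧸ C_G(V)` acting on `V`. -/
def conjQuot : G ⧸ centralizer (V : Set G) →* AddMonoid.End (Additive V) :=
  QuotientGroup.lift _ (conjEnd V) fun g hg => (conjEnd_eq_one_iff V g).2 hg

theorem conjQuot_val (g : G) (w : Additive V) :
    ((conjQuot V (QuotientGroup.mk' _ g) w).toMul : G) = g * (w.toMul : G) * g⁻¹ :=
  conjEnd_apply V g w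

theorem conjQuot_injective : Function.Injective (conjQuot V) := by
  rw [← MonoidHom.ker_eq_bot_iff, eq_bot_iff]
  intro x hx
  obtain ⟨g, rfl⟩ := QuotientGroup.mk'_surjective (centralizer (V : Set G)) x
  rw [mem_bot, QuotientGroup.mk'_apply, QuotientGroup.eq_one_iff]
  exact (conjEnd_eq_one_iff V g).1 hx

/-- An endomorphism of `G` leaving `V` invariant, on `Additive V`. -/
def endOn (s : G →* G) (h : ∀ x ∈ V, s x ∈ V) : AddMonoid.End (Additive V) :=
  MonoidHom.toAdditive ((s.comp V.subtype).codRestrict V fun v => h v v.2)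

omit [IsMulCommutative V] [V.Normal] in
theorem additive_ext {v w : Additive V} (h : (v.toMul : G) = w.toMul) : v = w :=
  Additive.toMul.injective (Subtype.ext h)

/-- An action leaving `V` invariant, on `Additive V`. -/
def actOn (φ : A →* Monoid.End G) (h : ∀ a, ∀ x ∈ V, φ a x ∈ V) :
    A →* AddMonoid.End (Additive V) where
  toFun a := endOn V (φ a) (h a)
  map_one' := by
    refine AddMonoidHom.ext fun w => additive_ext V ?_
    exact act_one φ _
  map_mul' a b := by
    refine AddMonoidHom.ext fun w => additive_ext V ?_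
    exact act_mul φ a b _

theorem endOn_conjQuot (s : G →* G) (h : ∀ x ∈ V, s x ∈ V) (g : G) (w : Additive V) :
    endOn V s h (conjQuot V (QuotientGroup.mk' _ g) w) =
      conjQuot V (QuotientGroup.mk' _ (s g)) (endOn V s h w) := by
  apply additive_ext
  rw [conjQuot_val]
  change s ((conjQuot V (QuotientGroup.mk' _ g) w).toMul : G) = _
  rw [conjQuot_val, map_mul, map_mul, map_inv]
  rfl

/-! ### Averaging -/

theorem nsmul_eq_zero_coprime {W : Type*} [AddCommGroup W] [Finite W] {n : ℕ}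
    (hcop : n.Coprime (Nat.card W)) {u : W} (hu : n • u = 0) : u = 0 :=
  AddMonoid.addOrderOf_eq_one_iff.1 (Nat.eq_one_of_dvd_coprimes hcop
    (addOrderOf_dvd_iff_nsmul_eq_zero.2 hu) (addOrderOf_dvd_natCard u))

theorem end_mul_apply {W E : Type*} [AddCommGroup W] [Monoid E] (ψ : E →* AddMonoid.End W)
    (a b : E) (u : W) : ψ (a * b) u = ψ a (ψ b u) := by rw [map_mul]; rfl

theorem end_one_apply {W E : Type*} [AddCommGroup W] [Monoid E] (ψ : E →* AddMonoid.End W)
    (u : W) : ψ 1 u = u := by rw [map_one]; rfl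

theorem iterate_fpf {E : Type*} [Group E] (σ : E →* E) {p : ℕ} (hp : p.Prime)
    (hσp : ∀ e, (⇑σ)^[p] e = e) (hσ : ∀ e, σ e = e → e = 1) {k : ℕ} (hk0 : k ≠ 0) (hkp : k < p) :
    ∀ e, (⇑σ)^[k] e = e → e = 1 := by
  intro e he
  have h1 : Function.IsPeriodicPt (⇑σ) (k.gcd p) e :=
    Function.IsPeriodicPt.gcd he (hσp e)
  have h2 : k.gcd p = 1 := by
    rw [Nat.gcd_comm]
    exact hp.coprime_iff_not_dvd.2 fun hd => by
      have := Nat.le_of_dvd (Nat.pos_of_ne_zero hk0) hd
      omega
  rw [h2] at h1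
  exact hσ e h1

/-- If an endomorphism of prime order fixes no nontrivial point of `E` and of `W`, then `E` acts
trivially on `W`, the orders being coprime. -/
theorem frobenius_core {W E : Type*} [AddCommGroup W] [Finite W] [Group E] [Finite E]
    (ψ : E →* AddMonoid.End W) (σ : E →* E) (S : AddMonoid.End W) {p : ℕ} (hp : p.Prime)
    (hσp : ∀ e, (⇑σ)^[p] e = e) (hσ : ∀ e, σ e = e → e = 1)
    (hSp : ∀ w, (⇑S)^[p] w = w) (hS : ∀ w, S w = w → w = 0)
    (hcompat : ∀ e w, S (ψ e w) = ψ (σ e) (S w))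
    (hcop : (Nat.card E).Coprime (Nat.card W)) : ψ = 1 := by
  classical
  cases nonempty_fintype E
  have hit : ∀ k e w, (⇑S)^[k] (ψ e w) = ψ ((⇑σ)^[k] e) ((⇑S)^[k] w) := by
    intro k
    induction k with
    | zero => intro e w; rfl
    | succ k ih =>
      intro e w
      simp only [Function.iterate_succ_apply', ih, hcompat]
  have hσhom : ∀ k (a b : E), (⇑σ)^[k] (a * b) = (⇑σ)^[k] a * (⇑σ)^[k] b := by
    intro k a b
    exact iterate_map_mul σ k a b
  have hzero : ∀ e w, ∑ k ∈ Finset.range p, ψ ((⇑σ)^[k] e) ((⇑S)^[k] w) = 0 := by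
    intro e w
    apply hS
    simp only [← hit]
    rw [map_sum]
    simp only [← Function.iterate_succ_apply' (⇑S)]
    have e1 : (⇑S)^[p] (ψ e w) = (⇑S)^[0] (ψ e w) := by simpa using hSp _
    have h1 := Finset.sum_range_succ' (fun k => (⇑S)^[k] (ψ e w)) p
    have h2 := Finset.sum_range_succ (fun k => (⇑S)^[k] (ψ e w)) p
    rw [h1, e1] at h2
    exact add_right_cancel h2
  refine MonoidHom.ext fun b => AddMonoidHom.ext fun w => ?_
  change ψ b w = w
  have hfix : ∀ u : W, ψ b (∑ e, ψ e u) = ∑ e, ψ e u := by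
    intro u
    rw [map_sum]
    simp only [← end_mul_apply]
    exact Equiv.sum_comp (Equiv.mulLeft b) (fun e => ψ e u)
  have hk : ∀ k ∈ Finset.range p, k ≠ 0 →
      ψ b (∑ e, ψ (e⁻¹ * (⇑σ)^[k] e) ((⇑S)^[k] w)) = ∑ e, ψ (e⁻¹ * (⇑σ)^[k] e) ((⇑S)^[k] w) := by
    intro k hk hk0
    let τ : E →* E := MonoidHom.mk' ((⇑σ)^[k]) (hσhom k)
    have hb := bijective_inv_mul τ (iterate_fpf σ hp hσp hσ hk0 (Finset.mem_range.1 hk))
    have := hb.sum_comp (fun e => ψ e ((⇑S)^[k] w))
    change ∑ e, ψ (e⁻¹ * (⇑σ)^[k] e) ((⇑S)^[k] w) = _ at this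
    rw [this]
    exact hfix _
  have hsum : Fintype.card E • w +
      ∑ k ∈ (Finset.range p).erase 0, ∑ e, ψ (e⁻¹ * (⇑σ)^[k] e) ((⇑S)^[k] w) = 0 := by
    have h0 : ∑ k ∈ Finset.range p, ∑ e, ψ (e⁻¹ * (⇑σ)^[k] e) ((⇑S)^[k] w) = 0 := by
      rw [Finset.sum_comm]
      refine Finset.sum_eq_zero fun e _ => ?_
      simp only [end_mul_apply]
      rw [← map_sum, hzero, map_zero]
    rw [← Finset.add_sum_erase _ _ (Finset.mem_range.2 hp.pos)] at h0
    simpa [end_one_apply] using h0
  have h1 := congrArg (ψ b) hsum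
  rw [map_zero, map_add, map_nsmul, map_sum,
    Finset.sum_congr rfl fun k hk' => hk k (Finset.mem_of_mem_erase hk') (Finset.ne_of_mem_erase hk')]
    at h1
  have h2 := add_right_cancel (h1.trans hsum.symm)
  refine sub_eq_zero.1 (nsmul_eq_zero_coprime hcop ?_)
  rw [Nat.card_eq_fintype_card, nsmul_sub, h2, sub_self]

end Cfsg.Agent.FGS73
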