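import Cfsg.Prelude.Def_Solvable
import Mathlib

namespace Cfsg.Agent.FGS73

open Subgroup

variable {G : Type*} [Group G]

theorem isPGroup_sup_finset {p : ℕ} (s : Finset (Subgroup G))
    (h : ∀ N ∈ s, N.Normal ∧ IsPGroup p N) :
    (s.sup id).Normal ∧ IsPGroup p ↥(s.sup id) := by
  classical
  induction s using Finset.induction with
  | empty =>
    rw [Finset.sup_empty]
    exact ⟨inferInstance, IsPGroup.of_bot⟩
  | insert a s ha ih =>
    rw [Finset.sup_insert, id]
    obtain ⟨h1, h2⟩ := ih fun N hN => h N (Finset.mem_insert_of_mem hN)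
    obtain ⟨h3, h4⟩ := h a (Finset.mem_insert_self a s)
    exact ⟨Subgroup.sup_normal _ _, h4.to_sup_of_normal_right h2⟩

/-- `O_p(G)` is a `p`-group. -/
theorem isPGroup_pCore {p : ℕ} (H : Type*) [Group H] [Finite H] :
    IsPGroup p ↥(Cfsg.pCore p H) := by
  classical
  cases nonempty_fintype (Subgroup H)
  have := (isPGroup_sup_finset (G := H) (p := p)
    (Finset.univ.filter fun N : Subgroup H => N.Normal ∧ IsPGroup p N)
    (fun N hN => (Finset.mem_filter.1 hN).2)).2
  have e : (Finset.univ.filter fun N : Subgroup H => N.Normal ∧ IsPGroup p N).sup id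
      = Cfsg.pCore p H := by
    rw [Finset.sup_id_eq_sSup, Cfsg.pCore]
    congr 1
    ext N
    simp
  rwa [e] at this

/-- The `p`-core is a normal subgroup. -/
instance pCore_normal {p : ℕ} : (Cfsg.pCore p G).Normal :=
  Subgroup.sSup_normal _ fun _ h => h.1

end Cfsg.Agent.FGS73
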