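import Cfsg.Agent.FGS73.SGLinear
import Mathlib

/-!
Elements of 2-power order moving only a plane: basic consequences for weights.
-/

namespace Cfsg.Agent.FGS73

open Subgroup
open scoped commutatorElement

/-- Joint eigenvectors for pairwise different weights are linearly independent. -/
theorem linearIndependent_of_weights {K U ι α : Type*} [Field K] [AddCommGroup U] [Module K U]
    (f : α → Module.End K U) (χ : ι → α → K) (v : ι → U) (hv : ∀ i, v i ≠ 0)
    (hχ : ∀ i a, f a (v i) = χ i a • v i) (hne : ∀ i j, i ≠ j → ∃ a, χ i a ≠ χ j a) :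
    LinearIndependent K v := by
  classical
  rw [linearIndependent_iff']
  intro s
  induction s using Finset.induction with
  | empty => simp
  | insert i s hi ih =>
    intro c hc
    rw [Finset.sum_insert hi] at hc
    have h : ∀ j ∈ s, c j = 0 := by
      intro j hj
      obtain ⟨a, ha⟩ := hne i j (fun h => hi (h ▸ hj))
      have h1 := congrArg (f a - χ i a • (1 : Module.End K U)) hc
      rw [map_zero, map_add, map_sum, map_smul, LinearMap.sub_apply, hχ, LinearMap.smul_apply,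
        Module.End.one_apply, sub_self, smul_zero, zero_add] at h1
      have h2 := ih (fun k => c k * (χ k a - χ i a)) (by
        rw [← h1]
        refine Finset.sum_congr rfl fun k _ => ?_
        rw [map_smul, LinearMap.sub_apply, hχ, LinearMap.smul_apply, Module.End.one_apply,
          ← sub_smul, smul_smul]) j hj
      rcases mul_eq_zero.1 h2 with h3 | h3
      · exact h3
      · exact absurd (sub_eq_zero.1 h3).symm ha
    intro k hk
    rcases Finset.mem_insert.1 hk with rfl | hk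
    · rw [Finset.sum_eq_zero (fun j hj => by rw [h j hj, zero_smul]), add_zero] at hc
      exact (smul_eq_zero.1 hc).resolve_right (hv k)
    · exact h k hk

/-- `g` has order dividing `2 ^ m`, moves at most a plane, and fixes what `g ^ 2 ^ (m - 1)` fixes. -/
structure IsBireflection {G K U : Type*} [Group G] [Field K] [AddCommGroup U] [Module K U]
    (ρ : G →* Module.End K U) (g : G) (m : ℕ) : Prop where
  two_le : 2 ≤ m
  pow_eq : g ^ 2 ^ m = 1
  rank_le : Module.finrank K (LinearMap.range (ρ g - 1)) ≤ 2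
  fix : ∀ v, ρ (g ^ 2 ^ (m - 1)) v = v → ρ g v = v

variable {G K U : Type*} [Group G] [Field K] [AddCommGroup U] [Module K U]
  {ρ : G →* Module.End K U} {g : G} {m : ℕ}

theorem rho_mul_apply (ρ : G →* Module.End K U) (a b : G) (v : U) : ρ (a * b) v = ρ a (ρ b v) := by
  rw [map_mul]; rfl

theorem rho_inv_apply (ρ : G →* Module.End K U) (a : G) (v : U) : ρ a⁻¹ (ρ a v) = v := by
  rw [← rho_mul_apply, inv_mul_cancel, map_one]; rfl

theorem rho_apply_ne_zero (ρ : G →* Module.End K U) (a : G) {v : U} (hv : v ≠ 0) : ρ a v ≠ 0 :=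
  fun h => hv (by rw [← rho_inv_apply ρ a v, h, map_zero])

theorem pow_mem_of_invariant (L : Submodule K U) (hg : ∀ v ∈ L, ρ g v ∈ L) (i : ℕ) :
    ∀ v ∈ L, ρ (g ^ i) v ∈ L := by
  induction i with
  | zero => intro v hv; simpa using hv
  | succ i ih => intro v hv; rw [pow_succ', rho_mul_apply]; exact hg _ (ih v hv)

theorem pow_conj_mem (A : Subgroup G) (hgA : ∀ a ∈ A, g * a * g⁻¹ ∈ A) (i : ℕ) :
    ∀ a ∈ A, g ^ i * a * (g ^ i)⁻¹ ∈ A := by
  induction i with
  | zero => intro a ha; simpa using ha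
  | succ i ih =>
    intro a ha
    have : g ^ (i + 1) * a * (g ^ (i + 1))⁻¹ = g * (g ^ i * a * (g ^ i)⁻¹) * g⁻¹ := by
      rw [pow_succ']; group
    rw [this]
    exact hgA _ (ih a ha)

namespace IsBireflection

theorem inv_eq_pow (hb : IsBireflection ρ g m) : g⁻¹ = g ^ (2 ^ m - 1) := by
  rw [inv_eq_iff_mul_eq_one, ← pow_succ', Nat.sub_add_cancel (Nat.one_le_two_pow), hb.pow_eq]

theorem tau_sq (hb : IsBireflection ρ g m) : g ^ 2 ^ (m - 1) * g ^ 2 ^ (m - 1) = 1 := by
  rw [← pow_add, ← two_mul, ← pow_succ', Nat.sub_add_cancel (by have := hb.two_le; omega),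
    hb.pow_eq]

theorem range_inv (ρ : G →* Module.End K U) (g : G) :
    ∀ w ∈ LinearMap.range (ρ g - 1), ρ g w ∈ LinearMap.range (ρ g - 1) := by
  rintro _ ⟨v, rfl⟩
  exact ⟨ρ g v, by simp⟩

theorem range_pow_le (ρ : G →* Module.End K U) (g : G) (i : ℕ) (v : U) :
    ρ (g ^ i) v - v ∈ LinearMap.range (ρ g - 1) := by
  induction i with
  | zero => simp
  | succ i ih =>
    have : ρ (g ^ (i + 1)) v - v = (ρ g - 1) (ρ (g ^ i) v) + (ρ (g ^ i) v - v) := by
      rw [pow_succ', rho_mul_apply, LinearMap.sub_apply, Module.End.one_apply]; abel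
    rw [this]
    exact Submodule.add_mem _ ⟨_, rfl⟩ ih

variable [IsAlgClosed K] [FiniteDimensional K U]

/-- `g ^ 2 ^ (m - 1)` centralises normalised subgroups with commutative image. -/
theorem orbit (hb : IsBireflection ρ g m) (L : Submodule K U) (hLg : ∀ v ∈ L, ρ g v ∈ L)
    (A : Subgroup G) [Finite A] (hgA : ∀ a ∈ A, g * a * g⁻¹ ∈ A)
    (hLA : ∀ a ∈ A, ∀ v ∈ L, ρ a v ∈ L)
    (hcomm : ∀ a ∈ A, ∀ b ∈ A, ∀ v ∈ L, ρ a (ρ b v) = ρ b (ρ a v))
    (hcard : (Nat.card A : K) ≠ 0) :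
    ∀ a ∈ A, ∀ v ∈ L, ρ (g ^ 2 ^ (m - 1) * a * (g ^ 2 ^ (m - 1))⁻¹) v = ρ a v := by
  classical
  cases nonempty_fintype A
  intro a ha v hv
  by_contra hne
  set τ := g ^ 2 ^ (m - 1) with hτ
  set c := τ * a * τ⁻¹ * a⁻¹ with hc
  have hgA' := pow_conj_mem A hgA
  have hcA : c ∈ A := mul_mem (hgA' _ a ha) (inv_mem ha)
  -- restrict to `L`
  let ρL : A →* Module.End K L :=
    { toFun := fun b => (ρ (b : G)).restrict (hLA b b.2)
      map_one' := LinearMap.ext fun w => Subtype.ext (by simp)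
      map_mul' := fun b b' => LinearMap.ext fun w => Subtype.ext (by simp) }
  let L₀ : Submodule K L := LinearMap.range (ρL ⟨c, hcA⟩ - 1)
  have hL₀ : L₀ ≠ ⊥ := by
    intro h
    apply hne
    rw [LinearMap.range_eq_bot, sub_eq_zero] at h
    have h1 := congrArg Subtype.val (LinearMap.congr_fun h ⟨ρ a v, hLA a ha v hv⟩)
    change ρ c (ρ a v) = ρ a v at h1
    rwa [← rho_mul_apply, hc, inv_mul_cancel_right] at h1
  obtain ⟨χ, v₀, ⟨u₀, hu₀⟩, hv₀, hχ⟩ := common_eigen (fun b : A => ρL b)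
    (fun b b' => LinearMap.ext fun w => Subtype.ext (hcomm b b.2 b' b'.2 w w.2)) L₀ hL₀ (by
      rintro b _ ⟨u, rfl⟩
      refine ⟨ρL b u, Subtype.ext ?_⟩
      simp only [LinearMap.sub_apply, Module.End.one_apply, Submodule.coe_sub, map_sub]
      change ρ c (ρ b (u : U)) - ρ b (u : U) = ρ b (ρ c (u : U)) - ρ b (u : U)
      rw [hcomm c hcA b b.2 u u.2])
  -- the weight is nontrivial on `c`
  have hχmul : ∀ b b' : A, χ (b * b') = χ b * χ b' := fun b b' => by
    refine smul_left_injective K hv₀ ?_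
    change χ (b * b') • v₀ = (χ b * χ b') • v₀
    rw [← hχ, map_mul, Module.End.mul_apply, hχ, map_smul, hχ, smul_smul, mul_comm]
  have hχc : χ ⟨c, hcA⟩ ≠ 1 := by
    intro h1
    have hfix : ρL ⟨c, hcA⟩ v₀ = v₀ := by rw [hχ, h1, one_smul]
    have h2 : (∑ i ∈ Finset.range (Nat.card A), ρL ⟨c, hcA⟩ ^ i) v₀ = 0 := by
      rw [← hu₀, ← Module.End.mul_apply, geom_sum_mul, ← map_pow, pow_card_eq_one', map_one,
        sub_self]
      rfl
    have h3 : ∀ i, (ρL ⟨c, hcA⟩ ^ i) v₀ = v₀ := by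
      intro i
      induction i with
      | zero => rfl
      | succ i ih => rw [pow_succ', Module.End.mul_apply, ih, hfix]
    rw [LinearMap.sum_apply, Finset.sum_congr rfl (fun i _ => h3 i), Finset.sum_const,
      Finset.card_range, ← Nat.cast_smul_eq_nsmul K] at h2
    exact hv₀ ((smul_eq_zero.1 h2).resolve_left hcard)
  -- the orbit of the weight
  let w : ℕ → U := fun i => ρ (g ^ i) (v₀ : U)
  let tw : ℕ → A → A := fun i b =>
    ⟨(g ^ i)⁻¹ * (b : G) * g ^ i, by
      have h1 := hgA' (2 ^ m * (i + 1) - i) b b.2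
      have e : g ^ (2 ^ m * (i + 1) - i) = (g ^ i)⁻¹ := by
        rw [eq_inv_iff_mul_eq_one, ← pow_add,
          Nat.sub_add_cancel (le_trans (Nat.le_succ i) (Nat.le_mul_of_pos_left _ (pow_pos two_pos m))),
          pow_mul, hb.pow_eq, one_pow]
      rwa [e, inv_inv] at h1⟩
  have hw : ∀ i (b : A), ρ (b : G) (w i) = χ (tw i b) • w i := by
    intro i b
    have h1 := congrArg Subtype.val (hχ (tw i b))
    change ρ ((g ^ i)⁻¹ * (b : G) * g ^ i) (v₀ : U) = χ (tw i b) • (v₀ : U) at h1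
    have h2 := congrArg (ρ (g ^ i)) h1
    rwa [map_smul, ← rho_mul_apply, show g ^ i * ((g ^ i)⁻¹ * (b : G) * g ^ i) = (b : G) * g ^ i by
      group, rho_mul_apply] at h2
  have hwne : ∀ i, w i ≠ 0 := fun i =>
    rho_apply_ne_zero ρ _ fun h => hv₀ (Subtype.ext h)
  have hτtw : ¬ ∀ b, χ (tw (2 ^ (m - 1)) b) = χ b := by
    intro h
    apply hχc
    have h1 := h ⟨τ * a * τ⁻¹, hgA' _ a ha⟩
    rw [show tw (2 ^ (m - 1)) ⟨τ * a * τ⁻¹, hgA' _ a ha⟩ = ⟨a, ha⟩ from
      Subtype.ext (show τ⁻¹ * (τ * a * τ⁻¹) * τ = a by group)] at h1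
    rw [show (⟨c, hcA⟩ : A) = ⟨τ * a * τ⁻¹, hgA' _ a ha⟩ * (⟨a, ha⟩ : A)⁻¹ from Subtype.ext rfl,
      hχmul, ← h1, ← hχmul, mul_inv_cancel]
    refine smul_left_injective K hv₀ ?_
    change χ 1 • v₀ = (1 : K) • v₀
    rw [← hχ, map_one, one_smul, Module.End.one_apply]
  have htw : ∀ i k b, tw i (tw k b) = tw (k + i) b := fun i k b => Subtype.ext (by
    change (g ^ i)⁻¹ * ((g ^ k)⁻¹ * (b : G) * g ^ k) * g ^ i = (g ^ (k + i))⁻¹ * b * g ^ (k + i)
    rw [pow_add]; group)
  have hper : ∀ d, (∀ b, χ (tw d b) = χ b) → ∀ t b, χ (tw (d * t) b) = χ b := by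
    intro d hd t
    induction t with
    | zero => intro b; simp [tw]
    | succ t ih =>
      intro b
      rw [Nat.mul_succ, ← htw, hd, ih]
  have hno : ∀ d, 0 < d → d < 4 → ¬ ∀ b, χ (tw d b) = χ b := by
    intro d hd0 hd4 hd
    apply hτtw
    intro b
    have hm := hb.two_le
    interval_cases d
    · simpa using hper 1 hd (2 ^ (m - 1)) b
    · have := hper 2 hd (2 ^ (m - 2)) b
      rwa [← pow_succ', show m - 2 + 1 = m - 1 by omega] at this
    · have h1 := hper 3 hd (2 ^ (m - 1)) b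
      have e : g ^ (3 * 2 ^ (m - 1)) = g ^ 2 ^ (m - 1) := by
        rw [show 3 * 2 ^ (m - 1) = 2 ^ (m - 1) + 2 * 2 ^ (m - 1) by ring, ← pow_succ',
          Nat.sub_add_cancel (by omega : 1 ≤ m), pow_add, hb.pow_eq, mul_one]
      have e2 : tw (3 * 2 ^ (m - 1)) b = tw (2 ^ (m - 1)) b := Subtype.ext (by
        change (g ^ (3 * 2 ^ (m - 1)))⁻¹ * (b : G) * g ^ (3 * 2 ^ (m - 1)) = _
        rw [e])
      rwa [e2] at h1
  have hind : LinearIndependent K (fun i : Fin 4 => w i) := by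
    refine linearIndependent_of_weights (fun b : A => ρ (b : G))
      (fun (i : Fin 4) b => χ (tw i b)) (fun i : Fin 4 => w i)
      (fun i => hwne i) (fun i b => hw i b) ?_
    have key : ∀ i j : Fin 4, i < j → ∃ b, χ (tw i b) ≠ χ (tw j b) := by
      intro i j hij
      by_contra hcon
      push Not at hcon
      refine hno ((j : ℕ) - i) (Nat.sub_pos_of_lt hij) ((Nat.sub_le _ _).trans_lt j.2) fun b => ?_
      have e : ∃ b', tw i b' = b := ⟨⟨g ^ (i : ℕ) * b * (g ^ (i : ℕ))⁻¹, hgA' _ b b.2⟩,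
        Subtype.ext (show (g ^ (i : ℕ))⁻¹ * (g ^ (i : ℕ) * b * (g ^ (i : ℕ))⁻¹) * g ^ (i : ℕ) = b by
          group)⟩
      obtain ⟨b', rfl⟩ := e
      rw [htw, Nat.add_sub_cancel' (le_of_lt (show (i : ℕ) < j from hij))]
      exact (hcon b').symm
    intro i j hij
    rcases lt_or_gt_of_ne hij with h | h
    · exact key i j h
    · obtain ⟨b, hb'⟩ := key j i h
      exact ⟨b, hb'.symm⟩
  -- three independent vectors in the range of `g - 1`
  let u : Fin 3 → LinearMap.range (ρ g - 1) := fun i => ⟨(ρ g - 1) (w i), _, rfl⟩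
  have hu : LinearIndependent K u := by
    refine LinearIndependent.of_comp (Submodule.subtype _) ?_
    rw [Fintype.linearIndependent_iff]
    intro cf hcf
    have hstep : ∀ i : ℕ, (ρ g - 1) (w i) = w (i + 1) - w i := fun i => by
      simp only [w, LinearMap.sub_apply, Module.End.one_apply, pow_succ', rho_mul_apply]
    simp only [u, Function.comp_apply, Submodule.subtype_apply, hstep, Fin.sum_univ_three] at hcf
    have h4 := Fintype.linearIndependent_iff.1 hind
      ![-cf 0, cf 0 - cf 1, cf 1 - cf 2, cf 2] (by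
        rw [← hcf]
        simp [Fin.sum_univ_four, smul_sub, sub_smul]
        abel)
    have a0 : cf 0 = 0 := by simpa using h4 0
    have a3 : cf 2 = 0 := by simpa using h4 3
    have a1 : cf 1 = 0 := by
      have := h4 2
      simpa [a3] using this
    intro i
    fin_cases i
    · exact a0
    · exact a1
    · exact a3
  have := hu.fintype_card_le_finrank
  have h2 := hb.rank_le
  simp at this
  omega

omit [IsAlgClosed K] in
/-- A submodule on which `g ^ 2 ^ (m - 1)` has no fixed vectors lies in the range of `g - 1`. -/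
theorem le_range (S : Submodule K U) (hS : ∀ v ∈ S, ρ (g ^ 2 ^ (m - 1)) v ∈ S)
    (h : ∀ v ∈ S, ρ (g ^ 2 ^ (m - 1)) v = v → v = 0) :
    S ≤ LinearMap.range (ρ g - 1) := by
  intro v hv
  let f : S →ₗ[K] S := (ρ (g ^ 2 ^ (m - 1))).restrict hS - 1
  have hf : Function.Injective f := by
    rw [← LinearMap.ker_eq_bot, LinearMap.ker_eq_bot']
    intro w hw
    exact Subtype.ext (h w w.2 (sub_eq_zero.1 (congrArg Subtype.val hw)))
  obtain ⟨w, hw⟩ := (LinearMap.injective_iff_surjective.1 hf) ⟨v, hv⟩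
  have h1 : ρ (g ^ 2 ^ (m - 1)) (w : U) - (w : U) = v := congrArg Subtype.val hw
  rw [← h1]
  exact range_pow_le ρ g _ _

/-- Two subspaces meeting trivially, swapped by `g` and normalised by `g ^ 2 ^ (m - 1)`, are
lines. -/
theorem finrank_le_one_of_moved (hb : IsBireflection ρ g m) (S : Submodule K U)
    (hτ : ∀ v ∈ S, ρ (g ^ 2 ^ (m - 1)) v ∈ S) (hdisj : ∀ v ∈ S, ρ g v ∈ S → v = 0) :
    Module.finrank K S ≤ 1 := by
  have h0 : ∀ v ∈ S, ρ (g ^ 2 ^ (m - 1)) v = v → v = 0 := fun v hv hfix =>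
    hdisj v hv (by rw [hb.fix v hfix]; exact hv)
  have hle := le_range S hτ h0
  let e : (S × S) →ₗ[K] LinearMap.range (ρ g - 1) :=
    (Submodule.inclusion hle).coprod
      (((ρ g).restrict (range_inv ρ g)).comp (Submodule.inclusion hle))
  have he : Function.Injective e := by
    rw [← LinearMap.ker_eq_bot, LinearMap.ker_eq_bot']
    rintro ⟨a, b⟩ hab
    have h1 : (a : U) + ρ g (b : U) = 0 := congrArg Subtype.val hab
    have hb0 : b = 0 := Subtype.ext (hdisj b b.2 (by
      rw [eq_neg_of_add_eq_zero_right h1]; exact S.neg_mem a.2))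
    rw [hb0, ZeroMemClass.coe_zero, map_zero, add_zero] at h1
    exact Prod.ext (Subtype.ext h1) hb0
  have := LinearMap.finrank_le_finrank_of_injective he
  rw [Module.finrank_prod] at this
  have := hb.rank_le
  omega

/-- `g` fixes a weight of multiplicity at least `2` fixed by `g ^ 2 ^ (m - 1)`. -/
theorem weight_fixed (hb : IsBireflection ρ g m) (L : Submodule K U)
    (hLg : ∀ v ∈ L, ρ g v ∈ L) (A : Subgroup G) [Finite A] (hgA : ∀ a ∈ A, g * a * g⁻¹ ∈ A)
    (hLA : ∀ a ∈ A, ∀ v ∈ L, ρ a v ∈ L)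
    (hcomm : ∀ a ∈ A, ∀ b ∈ A, ∀ v ∈ L, ρ a (ρ b v) = ρ b (ρ a v))
    (hcard : (Nat.card A : K) ≠ 0) (ψ : G → K) (S : Submodule K U)
    (hS : ∀ v, v ∈ S ↔ v ∈ L ∧ ∀ a ∈ A, ρ a v = ψ a • v) (h2 : 2 ≤ Module.finrank K S) :
    ∀ a ∈ A, ψ (g * a * g⁻¹) = ψ a := by
  intro a ha
  by_contra hne
  have hτ := hb.orbit L hLg A hgA hLA hcomm hcard
  set τ := g ^ 2 ^ (m - 1) with hτdef
  have hτS : ∀ v ∈ S, ρ τ v ∈ S := by
    intro v hv
    rw [hS] at hv ⊢
    refine ⟨pow_mem_of_invariant L hLg _ v hv.1, fun b hb' => ?_⟩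
    have hbA : τ * b * τ⁻¹ ∈ A := pow_conj_mem A hgA _ b hb'
    have hinv : τ⁻¹ = τ := inv_eq_of_mul_eq_one_left hb.tau_sq
    calc ρ b (ρ τ v) = ρ τ (ρ (τ * b * τ⁻¹) v) := by
          rw [← rho_mul_apply, ← rho_mul_apply]
          congr 2
          conv_rhs => rw [← mul_assoc, ← mul_assoc, hb.tau_sq, one_mul, hinv]
      _ = ψ b • ρ τ v := by rw [hτ b hb' v hv.1, hv.2 b hb', map_smul]
  have := hb.finrank_le_one_of_moved S hτS fun v hv hgv => by
    rw [hS] at hv hgv
    have h1 := hgv.2 _ (hgA a ha)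
    rw [← rho_mul_apply, inv_mul_cancel_right, rho_mul_apply, hv.2 a ha, map_smul] at h1
    by_contra hv0
    exact hne (smul_left_injective K (rho_apply_ne_zero ρ g hv0) h1).symm
  omega

end IsBireflection

end Cfsg.Agent.FGS73
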