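import Cfsg.Agent.FGS73.Bireflection

/-!
The subgroups of order prime to the characteristic normalised by a bireflection: those of odd
order are centralised by the involution it generates, and so are the 2-groups of class 2 modulo
their centres.
-/

namespace Cfsg.Agent.FGS73

open Subgroup
open scoped commutatorElement

variable {G K U : Type*} [Group G] [Field K] [AddCommGroup U] [Module K U]

/-- the joint eigenspace of `A` in `L` for the weight `ψ` -/
def wspace (ρ : G →* Module.End K U) (L : Submodule K U) (A : Subgroup G) (ψ : G → K) :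
    Submodule K U where
  carrier := {v | v ∈ L ∧ ∀ a ∈ A, ρ a v = ψ a • v}
  zero_mem' := ⟨L.zero_mem, fun a _ => by simp⟩
  add_mem' := fun {u v} hu hv =>
    ⟨L.add_mem hu.1 hv.1, fun a ha => by rw [map_add, hu.2 a ha, hv.2 a ha, smul_add]⟩
  smul_mem' := fun c {v} hv =>
    ⟨L.smul_mem c hv.1, fun a ha => by rw [map_smul, hv.2 a ha, smul_comm]⟩

theorem mem_wspace {ρ : G →* Module.End K U} {L : Submodule K U} {A : Subgroup G} {ψ : G → K}
    {v : U} : v ∈ wspace ρ L A ψ ↔ v ∈ L ∧ ∀ a ∈ A, ρ a v = ψ a • v := Iff.rfl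

/-- On `L` the commutators of `R` act as the scalars `β`. -/
structure Bracket (ρ : G →* Module.End K U) (L : Submodule K U) (R : Subgroup G)
    (β : G → G → K) : Prop where
  ne_bot : L ≠ ⊥
  inv : ∀ a ∈ R, ∀ v ∈ L, ρ a v ∈ L
  scalar : ∀ a ∈ R, ∀ c ∈ R, ∀ v ∈ L, ρ ⁅a, c⁆ v = β a c • v

namespace Bracket

variable {ρ : G →* Module.End K U} {L : Submodule K U} {R : Subgroup G} {β : G → G → K}

theorem eq_of (h : Bracket ρ L R β) {a b : K} (he : ∀ v ∈ L, a • v = b • v) : a = b := by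
  obtain ⟨v, hv, hv0⟩ := Submodule.exists_mem_ne_zero_of_ne_bot h.ne_bot
  exact smul_left_injective K hv0 (he v hv)

theorem one_right (h : Bracket ρ L R β) {a : G} (ha : a ∈ R) : β a 1 = 1 :=
  h.eq_of fun v hv => by
    rw [← h.scalar a ha 1 (one_mem _) v hv, commutatorElement_one_right, map_one, one_smul]
    rfl

theorem self (h : Bracket ρ L R β) {a : G} (ha : a ∈ R) : β a a = 1 :=
  h.eq_of fun v hv => by
    rw [← h.scalar a ha a ha v hv, commutatorElement_self, map_one, one_smul]; rfl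

theorem mul_right (h : Bracket ρ L R β) {a c d : G} (ha : a ∈ R) (hc : c ∈ R) (hd : d ∈ R) :
    β a (c * d) = β a c * β a d :=
  h.eq_of fun v hv => by
    rw [← h.scalar a ha _ (mul_mem hc hd) v hv,
      show ⁅a, c * d⁆ = ⁅a, c⁆ * (c * (⁅a, d⁆ * c⁻¹)) by
        simp [commutatorElement_def, mul_assoc],
      rho_mul_apply, rho_mul_apply, rho_mul_apply, h.scalar a ha d hd _ (h.inv _ (inv_mem hc) v hv),
      map_smul, ← rho_mul_apply ρ c, mul_inv_cancel, map_one, Module.End.one_apply, map_smul,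
      h.scalar a ha c hc v hv, smul_smul, mul_comm]

theorem swap (h : Bracket ρ L R β) {a c : G} (ha : a ∈ R) (hc : c ∈ R) :
    β c a * β a c = 1 :=
  h.eq_of fun v hv => by
    rw [mul_smul, ← h.scalar a ha c hc v hv, ← h.scalar c hc a ha _
      (by rw [h.scalar a ha c hc v hv]; exact L.smul_mem _ hv), ← rho_mul_apply,
      ← commutatorElement_inv a c, inv_mul_cancel, map_one, one_smul]
    rfl

theorem ne_zero (h : Bracket ρ L R β) {a c : G} (ha : a ∈ R) (hc : c ∈ R) : β a c ≠ 0 :=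
  fun h0 => by simpa [h0] using h.swap ha hc

theorem swap_eq (h : Bracket ρ L R β) {a c : G} (ha : a ∈ R) (hc : c ∈ R) :
    β c a = (β a c)⁻¹ := eq_inv_of_mul_eq_one_left (h.swap ha hc)

theorem mul_left (h : Bracket ρ L R β) {a c d : G} (ha : a ∈ R) (hc : c ∈ R) (hd : d ∈ R) :
    β (c * d) a = β c a * β d a := by
  rw [h.swap_eq ha (mul_mem hc hd), h.mul_right ha hc hd, h.swap_eq ha hc, h.swap_eq ha hd,
    mul_inv]

theorem pow_right (h : Bracket ρ L R β) {a c : G} (ha : a ∈ R) (hc : c ∈ R) (k : ℕ) :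
    β a (c ^ k) = β a c ^ k := by
  induction k with
  | zero => rw [pow_zero, pow_zero, h.one_right ha]
  | succ k ih => rw [pow_succ, h.mul_right ha (pow_mem hc k) hc, ih, pow_succ]

theorem pow_left (h : Bracket ρ L R β) {a c : G} (ha : a ∈ R) (hc : c ∈ R) (k : ℕ) :
    β (c ^ k) a = β c a ^ k := by
  rw [h.swap_eq ha (pow_mem hc k), h.pow_right ha hc k, h.swap_eq hc ha, inv_pow, inv_inv]

theorem inv_right (h : Bracket ρ L R β) {a c : G} (ha : a ∈ R) (hc : c ∈ R) :
    β a c⁻¹ = (β a c)⁻¹ :=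
  eq_inv_of_mul_eq_one_left (by
    rw [← h.mul_right ha (inv_mem hc) hc, inv_mul_cancel, h.one_right ha])

theorem comm_apply (h : Bracket ρ L R β) {a c : G} (ha : a ∈ R) (hc : c ∈ R) {v : U}
    (hv : v ∈ L) : ρ a (ρ c v) = β a c • ρ c (ρ a v) := by
  rw [← h.scalar a ha c hc _ (h.inv c hc _ (h.inv a ha v hv)), ← rho_mul_apply, ← rho_mul_apply,
    ← rho_mul_apply]
  congr 2
  simp [commutatorElement_def, mul_assoc]

theorem eigen_shift (h : Bracket ρ L R β) {a c : G} (ha : a ∈ R) (hc : c ∈ R) {v : U}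
    (hv : v ∈ L) {x : K} (hx : ρ a v = x • v) : ρ a (ρ c v) = (x * β a c) • ρ c v := by
  rw [h.comm_apply ha hc hv, hx, map_smul, smul_smul, mul_comm]

/-- The elements bracketing trivially with all of `R`. -/
def rad (h : Bracket ρ L R β) : Subgroup G where
  carrier := {a | a ∈ R ∧ ∀ t ∈ R, β t a = 1}
  one_mem' := ⟨one_mem _, fun _ ht => h.one_right ht⟩
  mul_mem' := fun {a b} ha hb => ⟨mul_mem ha.1 hb.1, fun t ht => by
    rw [h.mul_right ht ha.1 hb.1, ha.2 t ht, hb.2 t ht, one_mul]⟩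
  inv_mem' := fun {a} ha => ⟨inv_mem ha.1, fun t ht => by
    rw [h.inv_right ht ha.1, ha.2 t ht, inv_one]⟩

theorem rad_le (h : Bracket ρ L R β) : h.rad ≤ R := fun _ ha => ha.1

theorem rad_invariant (h : Bracket ρ L R β) {g : G} (hgR : ∀ a ∈ R, g * a * g⁻¹ ∈ R)
    (hgR' : ∀ a ∈ R, g⁻¹ * a * g ∈ R)
    (hgβ : ∀ a ∈ R, ∀ c ∈ R, β (g * a * g⁻¹) (g * c * g⁻¹) = β a c) :
    ∀ a ∈ h.rad, g * a * g⁻¹ ∈ h.rad := by
  intro a ha
  refine ⟨hgR a ha.1, fun t ht => ?_⟩
  have h1 := hgβ _ (hgR' t ht) a ha.1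
  rw [show g * (g⁻¹ * t * g) * g⁻¹ = t by group] at h1
  rw [h1]
  exact ha.2 _ (hgR' t ht)

variable [IsAlgClosed K] [FiniteDimensional K U]

theorem exists_eigen₂ (h : Bracket ρ L R β) {a c : G} (ha : a ∈ R) (hc : c ∈ R)
    (hac : β a c = 1) : ∃ v ∈ L, v ≠ 0 ∧ ∃ x y : K, ρ a v = x • v ∧ ρ c v = y • v := by
  haveI : Nontrivial L := Submodule.nontrivial_iff_ne_bot.2 h.ne_bot
  let f : Fin 2 → Module.End K L := ![(ρ a).restrict (h.inv a ha), (ρ c).restrict (h.inv c hc)]
  have h01 : f 0 * f 1 = f 1 * f 0 := LinearMap.ext fun w => Subtype.ext (by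
    change ρ a (ρ c (w : U)) = ρ c (ρ a (w : U))
    rw [h.comm_apply ha hc w.2, hac, one_smul])
  obtain ⟨x, v, -, hv, hx⟩ := common_eigen f
    (fun i j => by fin_cases i <;> fin_cases j <;> first | rfl | exact h01 | exact h01.symm)
    ⊤ top_ne_bot (fun _ _ _ => Submodule.mem_top)
  exact ⟨v, v.2, fun h0 => hv (Subtype.ext h0), x 0, x 1, congrArg Subtype.val (hx 0),
    congrArg Subtype.val (hx 1)⟩

/-- A nontrivial bracket value produces as many independent vectors as its order. -/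
theorem le_finrank_of_values (h : Bracket ρ L R β) {a b : G} (ha : a ∈ R) (hb : b ∈ R) {k : ℕ}
    (hk : ∀ i j : Fin k, β a b ^ (i : ℕ) = β a b ^ (j : ℕ) → i = j) :
    k ≤ Module.finrank K L := by
  obtain ⟨v, hv, hv0, x, -, hx, -⟩ := h.exists_eigen₂ ha ha (h.self ha)
  have hx0 : x ≠ 0 := fun h0 => rho_apply_ne_zero ρ a hv0 (by rw [hx, h0, zero_smul])
  let w : Fin k → L := fun i => ⟨ρ (b ^ (i : ℕ)) v, h.inv _ (pow_mem hb _) v hv⟩
  have hw : LinearIndependent K w := by
    refine LinearIndependent.of_comp L.subtype ?_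
    show LinearIndependent K fun i : Fin k => ρ (b ^ (i : ℕ)) v
    refine linearIndependent_of_weights (fun _ : Unit => ρ a)
      (fun (i : Fin k) _ => x * β a b ^ (i : ℕ)) (fun i : Fin k => ρ (b ^ (i : ℕ)) v) (fun i => rho_apply_ne_zero ρ _ hv0) (fun i _ => ?_) ?_
    · change ρ a (ρ (b ^ (i : ℕ)) v) = _ • ρ (b ^ (i : ℕ)) v
      rw [h.eigen_shift ha (pow_mem hb _) hv hx, h.pow_right ha hb]
    · intro i j hij
      exact ⟨(), fun he => hij (hk i j (mul_left_cancel₀ hx0 he))⟩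
  simpa using hw.fintype_card_le_finrank

theorem two_le_finrank (h : Bracket ρ L R β) {a b : G} (ha : a ∈ R) (hb : b ∈ R)
    (hab : β a b ≠ 1) : 2 ≤ Module.finrank K L := by
  refine h.le_finrank_of_values ha hb (k := 2) ?_
  intro i j hij
  fin_cases i <;> fin_cases j <;> simp at hij <;>
    first | rfl | exact absurd hij hab | exact absurd hij.symm hab

/-- In dimension at most four all bracket values of a group of odd order are cube roots of one. -/
theorem cube (h : Bracket ρ L R β) (h4 : Module.finrank K L ≤ 4) [Finite R]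
    (hodd : Odd (Nat.card R)) {a b : G} (ha : a ∈ R) (hb : b ∈ R) : β a b ^ 3 = 1 := by
  set z := β a b with hz
  have hd : orderOf z ∣ Nat.card R := by
    refine orderOf_dvd_of_pow_eq_one ?_
    rw [hz, ← h.pow_right ha hb]
    have : b ^ Nat.card R = 1 := congrArg Subtype.val (pow_card_eq_one' (G := R) (x := ⟨b, hb⟩))
    rw [this, h.one_right ha]
  have hpos : 0 < orderOf z := Nat.pos_of_dvd_of_pos hd Nat.card_pos
  have h5 : orderOf z ≤ 4 := by
    refine le_trans (h.le_finrank_of_values ha hb fun i j hij => Fin.ext ?_) h4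
    exact pow_injOn_Iio_orderOf (Set.mem_Iio.2 i.2) (Set.mem_Iio.2 j.2) hij
  obtain ⟨c, hc⟩ := hd
  rw [hc, Nat.odd_mul] at hodd
  have h3 : orderOf z = 1 ∨ orderOf z = 3 := by
    obtain ⟨d, hd'⟩ := hodd.1
    omega
  rcases h3 with h3 | h3
  · rw [orderOf_eq_one_iff.1 h3, one_pow]
  · rw [← h3]; exact pow_orderOf_eq_one z

/-- In dimension at most four the centraliser of a moved element is isotropic. -/
theorem isotropic (h : Bracket ρ L R β) (h4 : Module.finrank K L ≤ 4) [Finite R]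
    (hodd : Odd (Nat.card R)) {a b c d : G} (ha : a ∈ R) (hb : b ∈ R) (hc : c ∈ R) (hd : d ∈ R)
    (hab : β a b ≠ 1) (hac : β a c = 1) (had : β a d = 1) : β c d = 1 := by
  by_contra hcd
  have hprim : IsPrimitiveRoot (β a b) 3 :=
    IsPrimitiveRoot.iff_orderOf.2 (haveI := Fact.mk Nat.prime_three;
      orderOf_eq_prime (h.cube h4 hodd ha hb) hab)
  obtain ⟨v, hv, hv0, x, y, hx, hy⟩ := h.exists_eigen₂ ha hc hac
  have hx0 : x ≠ 0 := fun h0 => rho_apply_ne_zero ρ a hv0 (by rw [hx, h0, zero_smul])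
  have hy0 : y ≠ 0 := fun h0 => rho_apply_ne_zero ρ c hv0 (by rw [hy, h0, zero_smul])
  let e : Fin 3 × Fin 2 → G := fun p => b ^ (p.1 : ℕ) * d ^ (p.2 : ℕ)
  have he : ∀ p, e p ∈ R := fun p => mul_mem (pow_mem hb _) (pow_mem hd _)
  let w : Fin 3 × Fin 2 → L := fun p => ⟨ρ (e p) v, h.inv _ (he p) v hv⟩
  have hw : LinearIndependent K w := by
    refine LinearIndependent.of_comp L.subtype ?_
    show LinearIndependent K fun p => ρ (e p) v
    refine linearIndependent_of_weights (fun t : Fin 2 => ρ (![a, c] t))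
      (fun p => ![x * β a (e p), y * β c (e p)]) (fun p => ρ (e p) v) (fun p => rho_apply_ne_zero ρ _ hv0)
      (fun p t => ?_) ?_
    · fin_cases t
      · exact h.eigen_shift ha (he p) hv hx
      · exact h.eigen_shift hc (he p) hv hy
    · intro p q hpq
      by_contra hcon
      push Not at hcon
      have h1 : β a (e p) = β a (e q) := mul_left_cancel₀ hx0 (hcon 0)
      have h2 : β c (e p) = β c (e q) := mul_left_cancel₀ hy0 (hcon 1)
      simp only [e, h.mul_right ha (pow_mem hb _) (pow_mem hd _), h.pow_right ha hb,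
        h.pow_right ha hd, had, one_pow, mul_one] at h1
      have hp1 : p.1 = q.1 := Fin.ext (hprim.pow_inj p.1.2 q.1.2 h1)
      apply hpq
      refine Prod.ext hp1 ?_
      simp only [e, h.mul_right hc (pow_mem hb _) (pow_mem hd _), hp1, h.pow_right hc hd] at h2
      replace h2 := mul_left_cancel₀ (h.ne_zero hc (pow_mem hb _)) h2
      have key : ∀ i j : Fin 2, β c d ^ (i : ℕ) = β c d ^ (j : ℕ) → i = j := by
        intro i j hij
        fin_cases i <;> fin_cases j <;> simp at hij <;>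
          first | rfl | exact absurd hij hcd | exact absurd hij.symm hcd
      exact key _ _ h2
  have := hw.fintype_card_le_finrank
  simp at this
  omega

/-- An element bracketing trivially with a moved pair is in the radical. -/
theorem mem_rad_of_pair (h : Bracket ρ L R β) (h4 : Module.finrank K L ≤ 4) [Finite R]
    (hodd : Odd (Nat.card R)) {a b u : G} (ha : a ∈ R) (hb : b ∈ R) (hu : u ∈ R)
    (hab : β a b ≠ 1) (hau : β a u = 1) (hbu : β b u = 1) : ∀ t ∈ R, β t u = 1 := by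
  intro t ht
  have hprim : IsPrimitiveRoot (β a b) 3 :=
    IsPrimitiveRoot.iff_orderOf.2 (haveI := Fact.mk Nat.prime_three;
      orderOf_eq_prime (h.cube h4 hodd ha hb) hab)
  obtain ⟨k, -, hk⟩ := hprim.eq_pow_of_pow_eq_one (h.cube h4 hodd ha ht)
  set t' := t * b ^ (2 * k) with ht'
  have ht'R : t' ∈ R := mul_mem ht (pow_mem hb _)
  have h1 : β a t' = 1 := by
    rw [ht', h.mul_right ha ht (pow_mem hb _), h.pow_right ha hb, ← hk, ← pow_add,
      show k + 2 * k = 3 * k by ring, pow_mul, hprim.pow_eq_one, one_pow]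
  have h2 := h.isotropic h4 hodd ha hb ht'R hu hab h1 hau
  rwa [ht', h.mul_left hu ht (pow_mem hb _), h.pow_left hu hb, hbu, one_pow, mul_one] at h2

end Bracket

variable [IsAlgClosed K] [FiniteDimensional K U]

/-- A weight nontrivial on a given element of a subgroup with commutative image. -/
theorem exists_weight_ne_one (ρ : G →* Module.End K U) (A : Subgroup G) [Finite A]
    (hcomm : ∀ a ∈ A, ∀ b ∈ A, ∀ v, ρ a (ρ b v) = ρ b (ρ a v)) (hcard : (Nat.card A : K) ≠ 0)
    {c : G} (hc : c ∈ A) (hne : ρ c ≠ 1) :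
    ∃ ψ : G → K, wspace ρ ⊤ A ψ ≠ ⊥ ∧ ψ c ≠ 1 := by
  classical
  cases nonempty_fintype A
  obtain ⟨χ, v, ⟨u, hu⟩, hv, hχ⟩ := common_eigen (fun a : A => ρ (a : G))
    (fun a b => LinearMap.ext fun w => hcomm a a.2 b b.2 w) (LinearMap.range (ρ c - 1))
    (by rwa [Ne, LinearMap.range_eq_bot, sub_eq_zero]) (by
      rintro a _ ⟨w, rfl⟩
      refine ⟨ρ (a : G) w, ?_⟩
      simp only [LinearMap.sub_apply, Module.End.one_apply, map_sub]
      rw [hcomm c hc a a.2 w])
  refine ⟨fun x => if hx : x ∈ A then χ ⟨x, hx⟩ else 0, fun h => hv ?_, ?_⟩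
  · have : v ∈ wspace ρ ⊤ A (fun x => if hx : x ∈ A then χ ⟨x, hx⟩ else 0) :=
      ⟨Submodule.mem_top, fun a ha => by simp only [dif_pos ha]; exact hχ ⟨a, ha⟩⟩
    rwa [h, Submodule.mem_bot] at this
  · simp only [dif_pos hc]
    intro h1
    have hfix : ρ c v = v := by
      have := hχ ⟨c, hc⟩
      rw [h1, one_smul] at this
      exact this
    have hpow : ∀ i : ℕ, ρ (c ^ i) u = u + (i : K) • v := by
      intro i
      induction i with
      | zero => simp
      | succ i ih =>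
        rw [pow_succ', rho_mul_apply, ih, map_add, map_smul, hfix, Nat.cast_succ, add_smul,
          one_smul]
        have : ρ c u = u + v := by rw [← hu]; simp
        rw [this]
        abel
    have h2 := hpow (Nat.card A)
    rw [show c ^ Nat.card A = 1 from congrArg Subtype.val
      (pow_card_eq_one' (G := A) (x := ⟨c, hc⟩)), map_one, Module.End.one_apply] at h2
    exact hv ((smul_eq_zero.1 (left_eq_add.1 h2)).resolve_left hcard)

omit [IsAlgClosed K] [FiniteDimensional K U] in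
theorem wspace_invariant (ρ : G →* Module.End K U) (L : Submodule K U) (A : Subgroup G)
    (ψ : G → K) {t : G} (htL : ∀ v ∈ L, ρ t v ∈ L) (htA : ∀ a ∈ A, t⁻¹ * a * t ∈ A)
    (htψ : ∀ a ∈ A, ψ (t⁻¹ * a * t) = ψ a) :
    ∀ v ∈ wspace ρ L A ψ, ρ t v ∈ wspace ρ L A ψ := by
  intro v hv
  refine ⟨htL v hv.1, fun a ha => ?_⟩
  rw [← htψ a ha, ← map_smul, ← hv.2 _ (htA a ha), ← rho_mul_apply, ← rho_mul_apply]
  congr 2
  group

namespace IsBireflection

variable {ρ : G →* Module.End K U} {g : G} {m : ℕ}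

omit [IsAlgClosed K] [FiniteDimensional K U] in
theorem inv_conj_mem (hb : IsBireflection ρ g m) {A : Subgroup G}
    (hgA : ∀ a ∈ A, g * a * g⁻¹ ∈ A) : ∀ a ∈ A, g⁻¹ * a * g ∈ A := by
  intro a ha
  have h := pow_conj_mem A hgA (2 ^ m - 1) a ha
  rwa [← hb.inv_eq_pow, inv_inv] at h

omit [IsAlgClosed K] [FiniteDimensional K U] in
theorem conj_tau_tau (hb : IsBireflection ρ g m) (x : G) :
    g ^ 2 ^ (m - 1) * (g ^ 2 ^ (m - 1) * x * (g ^ 2 ^ (m - 1))⁻¹) * (g ^ 2 ^ (m - 1))⁻¹ = x := by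
  calc _ = g ^ 2 ^ (m - 1) * g ^ 2 ^ (m - 1) * x * (g ^ 2 ^ (m - 1) * g ^ 2 ^ (m - 1))⁻¹ := by
        group
    _ = x := by rw [hb.tau_sq]; group

omit [IsAlgClosed K] [FiniteDimensional K U] in
/-- An element of a group of odd order fixed and inverted by an involution is trivial; here in the
form: `x⁻¹ * xᵗ` fixed by `τ` forces `x` to be fixed. -/
theorem fix_of_fix_comm (hb : IsBireflection ρ g m) {R : Subgroup G} [Finite R]
    (hodd : Odd (Nat.card R)) {x : G} (hx : x ∈ R)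
    (hτx : g ^ 2 ^ (m - 1) * x * (g ^ 2 ^ (m - 1))⁻¹ ∈ R)
    (hu : g ^ 2 ^ (m - 1) * (x⁻¹ * (g ^ 2 ^ (m - 1) * x * (g ^ 2 ^ (m - 1))⁻¹)) *
      (g ^ 2 ^ (m - 1))⁻¹ = x⁻¹ * (g ^ 2 ^ (m - 1) * x * (g ^ 2 ^ (m - 1))⁻¹)) :
    g ^ 2 ^ (m - 1) * x * (g ^ 2 ^ (m - 1))⁻¹ = x := by
  have h2 := hb.conj_tau_tau x
  set τ := g ^ 2 ^ (m - 1) with hτ
  set u := x⁻¹ * (τ * x * τ⁻¹) with hudef
  have hinv : u = u⁻¹ := by
    conv_lhs => rw [← hu]
    rw [show τ * u * τ⁻¹ = (τ * x * τ⁻¹)⁻¹ * (τ * (τ * x * τ⁻¹) * τ⁻¹) by rw [hudef]; group, h2,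
      hudef]
    group
  have huR : u ∈ R := mul_mem (inv_mem hx) hτx
  have h3 : u ^ 2 = 1 := by
    rw [pow_two]
    nth_rw 1 [hinv]
    exact inv_mul_cancel u
  have h4 : orderOf u ∣ Nat.card R :=
    (orderOf_coe (⟨u, huR⟩ : R)).symm ▸ orderOf_dvd_natCard (⟨u, huR⟩ : R)
  have h5 : orderOf u = 1 := by
    rcases (Nat.dvd_prime Nat.prime_two).1 (orderOf_dvd_of_pow_eq_one h3) with h | h
    · exact h
    · rw [h] at h4
      exact absurd (even_iff_two_dvd.2 h4) (Nat.not_even_iff_odd.2 hodd)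
  exact (inv_mul_eq_one.1 (orderOf_eq_one_iff.1 h5)).symm

omit [IsAlgClosed K] in
/-- Two translates of the fixed space of `g` in an invariant subspace meet trivially only in
dimension at most four. -/
theorem finrank_le_four (hb : IsBireflection ρ g m) (L : Submodule K U) {x : G}
    (hx : ∀ v ∈ L, ρ x v ∈ L)
    (hdisj : ∀ w ∈ L, ρ g w = w → ρ g (ρ x w) = ρ x w → w = 0) :
    Module.finrank K L ≤ 4 := by
  let f : L →ₗ[K] LinearMap.range (ρ g - 1) :=
    LinearMap.codRestrict _ ((ρ g - 1).comp L.subtype) (fun w => ⟨_, rfl⟩)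
  have h1 := LinearMap.finrank_range_add_finrank_ker f
  have h2 : Module.finrank K (LinearMap.range f) ≤ 2 := (Submodule.finrank_le _).trans hb.rank_le
  let C := LinearMap.ker f
  have hC : ∀ w ∈ C, ρ g (w : U) = w := fun w hw =>
    sub_eq_zero.1 (congrArg Subtype.val (LinearMap.mem_ker.1 hw))
  let X : L →ₗ[K] L := (ρ x).restrict hx
  have hX : Function.Injective X := fun a b hab => Subtype.ext (by
    have h := congrArg (fun z : L => ρ x⁻¹ (z : U)) hab
    simpa only [X, LinearMap.restrict_coe_apply, rho_inv_apply] using h)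
  have hinf : C ⊓ C.map X = ⊥ := by
    rw [Submodule.eq_bot_iff]
    rintro _ ⟨hu, w, hw, rfl⟩
    have h := hdisj w w.2 (hC w hw) (hC _ hu)
    rw [show w = 0 from Subtype.ext h, map_zero]
  have h3 := Submodule.finrank_sup_add_finrank_inf_eq C (C.map X)
  rw [hinf, finrank_bot, add_zero, ← (Submodule.equivMapOfInjective X hX C).finrank_eq] at h3
  have h4 := Submodule.finrank_le (C ⊔ C.map X)
  change Module.finrank K (LinearMap.range f) + Module.finrank K C = _ at h1
  omega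

/-- `g ^ 2 ^ (m - 1)` centralises the invariant soluble subgroups of odd order prime to the
characteristic. -/
theorem centralizes_odd [Finite G] (hb : IsBireflection ρ g m) (hρ : Function.Injective ρ)
    (hK : ((2 ^ m - 1 : ℕ) : K) = 0) (R : Subgroup G) (hgR : ∀ a ∈ R, g * a * g⁻¹ ∈ R)
    (hsol : Group.IsSolvable R) (hodd : Odd (Nat.card R)) (hcard : (Nat.card R : K) ≠ 0) :
    ∀ x ∈ R, g ^ 2 ^ (m - 1) * x * (g ^ 2 ^ (m - 1))⁻¹ = x := by
  classical
  induction hn : Nat.card R using Nat.strong_induction_on generalizing R with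
  | _ n IH =>
  subst hn
  set τ := g ^ 2 ^ (m - 1) with hτdef
  have hgR' := hb.inv_conj_mem hgR
  have hτR : ∀ a ∈ R, τ * a * τ⁻¹ ∈ R := pow_conj_mem R hgR _
  -- proper invariant subgroups are centralised
  have hprop : ∀ S ≤ R, (∀ a ∈ S, g * a * g⁻¹ ∈ S) → S ≠ R → ∀ a ∈ S, τ * a * τ⁻¹ = a := by
    intro S hS hgS hne
    have hlt : Nat.card S < Nat.card R := lt_of_le_of_ne (Nat.le_of_dvd Nat.card_pos
      (card_dvd_of_le hS)) fun h => hne (eq_of_le_of_card_ge hS h.ge)
    refine IH _ hlt S hgS ?_ ?_ ?_ rfl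
    · haveI := hsol
      exact Group.isSolvable_of_isSolvable_injective (inclusion_injective hS)
    · exact hodd.of_dvd_nat (card_dvd_of_le hS)
    · intro h0
      obtain ⟨b, hb'⟩ := card_dvd_of_le hS
      exact hcard (by rw [hb', Nat.cast_mul, h0, zero_mul])
  by_contra hcon
  push Not at hcon
  obtain ⟨x, hx, hxne⟩ := hcon
  -- `R` is generated by the commutators with `τ`
  set S := closure ((fun y => y⁻¹ * (τ * y * τ⁻¹)) '' (R : Set G)) with hS
  have hSR : S ≤ R := by
    rw [hS, closure_le]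
    rintro _ ⟨y, hy, rfl⟩
    exact mul_mem (inv_mem hy) (hτR y hy)
  have hgτ : ∀ y, g * (τ * y * τ⁻¹) * g⁻¹ = τ * (g * y * g⁻¹) * τ⁻¹ := fun y => by
    have hc : g * τ = τ * g := by rw [hτdef, ← pow_succ, ← pow_succ']
    calc g * (τ * y * τ⁻¹) * g⁻¹ = g * τ * y * (g * τ)⁻¹ := by group
      _ = _ := by rw [hc]; group
  have hgS : ∀ a ∈ S, g * a * g⁻¹ ∈ S := by
    intro a ha
    have h1 : S ≤ S.comap (MulAut.conj g).toMonoidHom := by
      conv_lhs => rw [hS]
      rw [closure_le]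
      rintro _ ⟨y, hy, rfl⟩
      refine subset_closure ⟨g * y * g⁻¹, hgR y hy, ?_⟩
      simp only [MulEquiv.toMonoidHom_eq_coe, MonoidHom.coe_coe, MulAut.conj_apply]
      rw [← hgτ y]
      group
    exact h1 ha
  have hSeq : S = R := by
    by_contra hne
    exact hxne (hb.fix_of_fix_comm hodd hx (hτR x hx)
      (hprop S hSR hgS hne _ (subset_closure ⟨x, hx, rfl⟩)))
  -- the derived subgroup is central
  set D : Subgroup G := ⁅R, R⁆ with hD
  have hDR : D ≤ R := commutator_le.2 fun a ha b hb' =>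
    mul_mem (mul_mem (mul_mem ha hb') (inv_mem ha)) (inv_mem hb')
  have hgD : ∀ a ∈ D, g * a * g⁻¹ ∈ D := by
    intro a ha
    have h1 : D ≤ D.comap (MulAut.conj g).toMonoidHom := commutator_le.2 fun a ha b hb' => by
      rw [mem_comap, map_commutatorElement]
      exact commutator_mem_commutator (hgR a ha) (hgR b hb')
    exact h1 ha
  have hDne : D ≠ R := by
    intro h
    haveI := hsol
    haveI : Nontrivial R := ⟨⟨⟨x, hx⟩, 1, fun h => hxne (by
      rw [show x = 1 from congrArg Subtype.val h]; group)⟩⟩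
    have h1 := Group.IsSolvable.commutator_lt_top_of_nontrivial R
    refine h1.ne (map_injective R.subtype_injective ?_)
    rw [map_subtype_commutator, ← hD, h, ← MonoidHom.range_eq_map, range_subtype]
  have hDfix := hprop D hDR hgD hDne
  have hDcen : ∀ z ∈ D, ∀ a ∈ R, z * a = a * z := by
    intro z hz a ha
    rw [← hSeq, hS] at ha
    induction ha using closure_induction with
    | mem y hy =>
      obtain ⟨y, hy, rfl⟩ := hy
      have hw : z * y * z⁻¹ * y⁻¹ ∈ D := commutator_mem_commutator (hDR hz) hy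
      have h1 := hDfix _ hw
      rw [show τ * (z * y * z⁻¹ * y⁻¹) * τ⁻¹ = (τ * z * τ⁻¹) * (τ * y * τ⁻¹) * (τ * z * τ⁻¹)⁻¹ *
        (τ * y * τ⁻¹)⁻¹ by group, hDfix z hz] at h1
      calc z * (y⁻¹ * (τ * y * τ⁻¹))
          = (z * y * z⁻¹)⁻¹ * ((z * (τ * y * τ⁻¹) * z⁻¹ * (τ * y * τ⁻¹)⁻¹) * (τ * y * τ⁻¹)) * z := by
            group
        _ = (y⁻¹ * (τ * y * τ⁻¹)) * z := by rw [h1]; group
    | one => rw [mul_one, one_mul]
    | mul y w _ _ hy hw => rw [← mul_assoc, hy, mul_assoc, hw, mul_assoc]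
    | inv y _ hy =>
      calc z * y⁻¹ = y⁻¹ * (y * z) * y⁻¹ := by group
        _ = y⁻¹ * (z * y) * y⁻¹ := by rw [hy]
        _ = y⁻¹ * z := by group
  -- a nontrivial commutator
  obtain ⟨a₀, ha₀, b₀, hb₀, hne₀⟩ : ∃ a ∈ R, ∃ b ∈ R, a * b ≠ b * a := by
    by_contra hab
    push Not at hab
    have h := hb.orbit ⊤ (fun _ _ => Submodule.mem_top) R hgR (fun _ _ _ _ => Submodule.mem_top)
      (fun a ha b hb' v _ => by rw [← rho_mul_apply, hab a ha b hb', rho_mul_apply]) hcard x hx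
    exact hxne (hρ (LinearMap.ext fun v => h v Submodule.mem_top))
  set c₀ := ⁅a₀, b₀⁆ with hc₀
  have hc₀D : c₀ ∈ D := commutator_mem_commutator ha₀ hb₀
  have hDcomm : ∀ a ∈ D, ∀ b ∈ D, ∀ v : U, ρ a (ρ b v) = ρ b (ρ a v) := fun a ha b hb' v => by
    rw [← rho_mul_apply, hDcen a ha b (hDR hb'), rho_mul_apply]
  have hDcard : (Nat.card D : K) ≠ 0 := by
    intro h0
    obtain ⟨b, hb'⟩ := card_dvd_of_le hDR
    exact hcard (by rw [hb', Nat.cast_mul, h0, zero_mul])
  obtain ⟨ψ, hL0, hψc⟩ := exists_weight_ne_one ρ D hDcomm hDcard hc₀D (fun h1 =>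
    hne₀ (commutatorElement_eq_one_iff_mul_comm.1 (hρ (h1.trans (map_one ρ).symm))))
  set L := wspace ρ ⊤ D ψ with hL
  have hRL : ∀ a ∈ R, ∀ v ∈ L, ρ a v ∈ L := by
    intro a ha
    have hfix : ∀ d ∈ D, a⁻¹ * d * a = d := fun d hd => by
      rw [mul_assoc, hDcen d hd a ha, inv_mul_cancel_left]
    exact wspace_invariant ρ ⊤ D ψ (fun _ _ => Submodule.mem_top)
      (fun d hd => by rwa [hfix d hd]) (fun d hd => by rw [hfix d hd])
  let β : G → G → K := fun a c => ψ ⁅a, c⁆
  have hB : Bracket ρ L R β :=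
    ⟨hL0, hRL, fun a ha c hc v hv => hv.2 _ (commutator_mem_commutator ha hc)⟩
  have hψfix := hb.weight_fixed ⊤ (fun _ _ => Submodule.mem_top) D hgD
    (fun _ _ _ _ => Submodule.mem_top) (fun a ha b hb' v _ => hDcomm a ha b hb' v) hDcard ψ L
    (fun v => Iff.rfl) (hB.two_le_finrank ha₀ hb₀ hψc)
  have hgD' := hb.inv_conj_mem hgD
  have hgL : ∀ v ∈ L, ρ g v ∈ L := wspace_invariant ρ ⊤ D ψ (fun _ _ => Submodule.mem_top) hgD'
    (fun d hd => by
      have h1 := hψfix _ (hgD' d hd)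
      rw [show g * (g⁻¹ * d * g) * g⁻¹ = d by group] at h1
      exact h1.symm)
  have hgβ : ∀ a ∈ R, ∀ c ∈ R, β (g * a * g⁻¹) (g * c * g⁻¹) = β a c := fun a ha c hc => by
    have h1 := hψfix _ (commutator_mem_commutator ha hc)
    rwa [← MulAut.conj_apply, map_commutatorElement] at h1
  have hrad : hB.rad ≠ R := fun h => hψc ((show b₀ ∈ hB.rad by rw [h]; exact hb₀).2 a₀ ha₀)
  have hxrad : ∃ b ∈ R, β b x ≠ 1 := by
    by_contra h
    push Not at h
    exact hxne (hprop _ hB.rad_le (hB.rad_invariant hgR hgR' hgβ) hrad x ⟨hx, h⟩)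
  -- the dimension is at most four
  have h4 : Module.finrank K L ≤ 4 := by
    refine hb.finrank_le_four L (hRL x hx) fun w hwL hw hxw => ?_
    set v := ρ x w with hv
    have hvL : v ∈ L := hRL x hx w hwL
    set h := g * x * g⁻¹ * x⁻¹ with hh
    have hhR : h ∈ R := mul_mem (hgR x hx) (inv_mem hx)
    let St : Subgroup G :=
      { carrier := {t | t ∈ R ∧ ρ t v = v}
        one_mem' := ⟨one_mem _, by simp⟩
        mul_mem' := fun {s t} hs ht => ⟨mul_mem hs.1 ht.1, by rw [rho_mul_apply, ht.2, hs.2]⟩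
        inv_mem' := fun {t} ht => ⟨inv_mem ht.1, by
          conv_lhs => rw [← ht.2]
          exact rho_inv_apply ρ t v⟩ }
    have hgi : ∀ u, ρ g u = u → ρ g⁻¹ u = u := fun u hu => by
      conv_lhs => rw [← hu]
      exact rho_inv_apply ρ g u
    have hgSt : ∀ t ∈ St, g * t * g⁻¹ ∈ St := fun t ht => ⟨hgR t ht.1, by
      rw [rho_mul_apply, rho_mul_apply, hgi v hxw, ht.2, hxw]⟩
    have hhSt : h ∈ St := ⟨hhR, by
      rw [hh, rho_mul_apply, rho_mul_apply, rho_mul_apply, hv, rho_inv_apply, hgi w hw, ← hv,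
        hxw]⟩
    by_contra hw0
    have hStne : St ≠ R := by
      intro hSt
      have h1 : ρ c₀ v = v := (show c₀ ∈ St by rw [hSt]; exact hDR hc₀D).2
      rw [hvL.2 c₀ hc₀D] at h1
      exact hψc (smul_left_injective K (rho_apply_ne_zero ρ x hw0)
        (h1.trans (one_smul K v).symm))
    have hiter : ∀ i : ℕ, g ^ i * x * (g ^ i)⁻¹ * x⁻¹ ∈ St := by
      intro i
      induction i with
      | zero => simp
      | succ i ih =>
        have h1 := mul_mem (hgSt _ ih) hhSt
        rw [hh] at h1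
        convert h1 using 1
        rw [pow_succ']
        group
    have h1 := hprop St (fun t ht => ht.1) hgSt hStne _ (hiter (2 ^ (m - 1)))
    refine hxne (hb.fix_of_fix_comm hodd hx (hτR x hx) ?_)
    rw [← hτdef] at h1 ⊢
    have h2 := hb.conj_tau_tau x
    rw [← hτdef] at h2
    rw [show τ * (τ * x * τ⁻¹ * x⁻¹) * τ⁻¹ = τ * (τ * x * τ⁻¹) * τ⁻¹ * (τ * x * τ⁻¹)⁻¹ by group,
      h2] at h1
    rw [show τ * (x⁻¹ * (τ * x * τ⁻¹)) * τ⁻¹ = (τ * x * τ⁻¹)⁻¹ * (τ * (τ * x * τ⁻¹) * τ⁻¹) by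
      group, h2]
    calc (τ * x * τ⁻¹)⁻¹ * x = x⁻¹ * (x * (τ * x * τ⁻¹)⁻¹) * x := by group
      _ = x⁻¹ * (τ * x * τ⁻¹) := by rw [h1]; group
  -- the values along the orbit of `x`
  let X : ℕ → G := fun i => g ^ i * x * (g ^ i)⁻¹
  have hXR : ∀ i, X i ∈ R := fun i => pow_conj_mem R hgR i x hx
  have hX0 : X 0 = x := by simp [X]
  have hcube : ∀ a ∈ R, ∀ c ∈ R, β a c ^ 3 = 1 := fun a ha c hc => hB.cube h4 hodd ha hc
  have hshift : ∀ i j, ∀ t ∈ R, ∃ s ∈ R, β t (X (i + j)) = β s (X i) ∧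
      ∀ k, β s (X k) = β t (X (k + j)) := by
    intro i j
    induction j with
    | zero => exact fun t ht => ⟨t, ht, rfl, fun k => rfl⟩
    | succ j ih =>
      intro t ht
      obtain ⟨s, hs, -, hsk⟩ := ih (g⁻¹ * t * g) (hgR' t ht)
      have hstep : ∀ k, β s (X k) = β t (X (k + (j + 1))) := fun k => by
        rw [hsk k]
        have h1 := hgβ _ (hgR' t ht) _ (hXR (k + j))
        rw [show g * (g⁻¹ * t * g) * g⁻¹ = t by group] at h1
        rw [← h1]
        congr 1
        simp only [X, ← add_assoc, pow_succ']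
        group
      exact ⟨s, hs, (hstep i).symm, hstep⟩
  suffices hT : ∀ t ∈ R, β t (X (2 ^ (m - 1))) = β t x by
    have hu : τ * x * τ⁻¹ * x⁻¹ ∈ hB.rad := ⟨mul_mem (hτR x hx) (inv_mem hx), fun t ht => by
      rw [hB.mul_right ht (hτR x hx) (inv_mem hx), hB.inv_right ht hx]
      change β t (X (2 ^ (m - 1))) * _ = _
      rw [hT t ht]
      exact mul_inv_cancel₀ (hB.ne_zero ht hx)⟩
    have h1 := hprop _ hB.rad_le (hB.rad_invariant hgR hgR' hgβ) hrad _ hu
    refine hxne (hb.fix_of_fix_comm hodd hx (hτR x hx) ?_)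
    rw [← hτdef]
    have h2 := hb.conj_tau_tau x
    rw [← hτdef] at h2
    rw [show τ * (τ * x * τ⁻¹ * x⁻¹) * τ⁻¹ = τ * (τ * x * τ⁻¹) * τ⁻¹ * (τ * x * τ⁻¹)⁻¹ by group,
      h2] at h1
    rw [show τ * (x⁻¹ * (τ * x * τ⁻¹)) * τ⁻¹ = (τ * x * τ⁻¹)⁻¹ * (τ * (τ * x * τ⁻¹) * τ⁻¹) by
      group, h2]
    calc (τ * x * τ⁻¹)⁻¹ * x = x⁻¹ * (x * (τ * x * τ⁻¹)⁻¹) * x := by group
      _ = x⁻¹ * (τ * x * τ⁻¹) := by rw [h1]; group
  intro t ht
  conv_rhs => rw [← hX0]
  obtain ⟨b, hbR, hbx⟩ := hxrad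
  by_cases hz : β x (X 1) = 1
  · -- `g` maps `x` to a power of `x` modulo the radical
    have hprim : IsPrimitiveRoot (β b x) 3 :=
      IsPrimitiveRoot.iff_orderOf.2 (haveI := Fact.mk Nat.prime_three;
        orderOf_eq_prime (hcube b hbR x hx) hbx)
    obtain ⟨e, he3, he⟩ := hprim.eq_pow_of_pow_eq_one (hcube b hbR _ (hXR 1))
    have hrad' : ∀ s ∈ R, β s (X 1 * x ^ (2 * e)) = 1 := by
      refine hB.mem_rad_of_pair h4 hodd hbR hx (mul_mem (hXR 1) (pow_mem hx _)) hbx ?_ ?_
      · rw [hB.mul_right hbR (hXR 1) (pow_mem hx _), hB.pow_right hbR hx, ← he, ← pow_add,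
          show e + 2 * e = 3 * e by ring, pow_mul, hprim.pow_eq_one, one_pow]
      · rw [hB.mul_right hx (hXR 1) (pow_mem hx _), hB.pow_right hx hx, hz, hB.self hx, one_mul,
          one_pow]
    have he1 : ∀ s ∈ R, β s (X 1) = β s x ^ e := fun s hs => by
      have h1 := hrad' s hs
      rw [hB.mul_right hs (hXR 1) (pow_mem hx _), hB.pow_right hs hx] at h1
      refine mul_right_cancel₀ (pow_ne_zero (2 * e) (hB.ne_zero hs hx)) ?_
      rw [h1, ← pow_add, show e + 2 * e = 3 * e by ring, pow_mul, hcube s hs x hx, one_pow]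
    have he0 : e ≠ 0 := by
      rintro rfl
      refine hbx ?_
      have h1 := hgβ b hbR x hx
      rw [show g * x * g⁻¹ = X 1 by simp [X], he1 _ (hgR b hbR), pow_zero] at h1
      exact h1.symm
    have hstep : ∀ i, β t (X (i + 1)) = β t (X i) ^ e := by
      intro i
      obtain ⟨s, hs, -, hsk⟩ := hshift 0 i t ht
      rw [add_comm i 1, ← hsk 1, he1 s hs, show β s x = β t (X i) by rw [← hX0, hsk 0, zero_add]]
    have htwo : ∀ i, β t (X (i + 2)) = β t (X i) := fun i => by
      rw [hstep (i + 1), hstep i, ← pow_mul]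
      interval_cases e
      · exact absurd rfl he0
      · simp
      · rw [show 2 * 2 = 3 + 1 by norm_num, pow_succ, hcube t ht _ (hXR i), one_mul]
    have hper : ∀ k, β t (X (2 * k)) = β t (X 0) := fun k => by
      induction k with
      | zero => rfl
      | succ k ih => rw [Nat.mul_succ, htwo, ih]
    rw [show 2 ^ (m - 1) = 2 * 2 ^ (m - 2) by
      rw [← pow_succ']; congr 1; have := hb.two_le; omega]
    exact hper _
  · set z := β x (X 1) with hzdef
    have hprim : IsPrimitiveRoot z 3 := IsPrimitiveRoot.iff_orderOf.2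
      (haveI := Fact.mk Nat.prime_three; orderOf_eq_prime (hcube x hx _ (hXR 1)) hz)
    have hm3 : 3 ≤ m := by
      by_contra hlt
      have hm2 : m = 2 := by have := hb.two_le; omega
      rw [hm2] at hK
      norm_num at hK
      refine hz (sub_eq_zero.1 (pow_eq_zero_iff (n := 3) (by norm_num) |>.1 ?_))
      rw [show (z - 1) ^ 3 = z ^ 3 - 1 - 3 * z * (z - 1) by ring, hprim.pow_eq_one, hK]
      ring
    obtain ⟨j, hj3, hj⟩ := hprim.eq_pow_of_pow_eq_one (hcube x hx _ (hXR 2))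
    have hx12 : β (X 1) (X 2) = z := by
      have h1 := hgβ x hx _ (hXR 1)
      simp only [X, pow_one, pow_zero, one_mul, inv_one, mul_one, pow_two, mul_inv_rev,
        mul_assoc] at h1 ⊢
      simpa only [hzdef, X, pow_one, mul_assoc] using h1
    have hrad' : ∀ s ∈ R, β s (X 2 * x * X 1 ^ (2 * j)) = 1 := by
      refine hB.mem_rad_of_pair h4 hodd hx (hXR 1)
        (mul_mem (mul_mem (hXR 2) hx) (pow_mem (hXR 1) _)) hz ?_ ?_
      · rw [hB.mul_right hx (mul_mem (hXR 2) hx) (pow_mem (hXR 1) _), hB.mul_right hx (hXR 2) hx,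
          hB.pow_right hx (hXR 1), hB.self hx, mul_one, ← hj, ← hzdef, ← pow_add,
          show j + 2 * j = 3 * j by ring, pow_mul, hprim.pow_eq_one, one_pow]
      · rw [hB.mul_right (hXR 1) (mul_mem (hXR 2) hx) (pow_mem (hXR 1) _),
          hB.mul_right (hXR 1) (hXR 2) hx, hB.pow_right (hXR 1) (hXR 1), hB.self (hXR 1),
          hx12, hB.swap_eq hx (hXR 1), ← hzdef, one_pow, mul_one,
          mul_inv_cancel₀ (hB.ne_zero hx (hXR 1))]
    have hrec : ∀ s ∈ R, ∀ i, β s (X (i + 2)) * β s (X i) * β s (X (i + 1)) ^ (2 * j) = 1 := by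
      intro s hs i
      obtain ⟨r, hr, -, hrk⟩ := hshift 0 i s hs
      have h1 := hrad' r hr
      rw [hB.mul_right hr (mul_mem (hXR 2) hx) (pow_mem (hXR 1) _), hB.mul_right hr (hXR 2) hx,
        hB.pow_right hr (hXR 1), ← hX0, hrk 2, hrk 0, hrk 1, zero_add] at h1
      rwa [add_comm 2, add_comm 1] at h1
    have hcy : ∀ s i, β s (X (i + 2 ^ m)) = β s (X i) := fun s i => by
      simp only [X, pow_add, hb.pow_eq, mul_one]
    interval_cases j
    · -- period four
      have h4p : ∀ i, β t (X (i + 4)) = β t (X i) := fun i => by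
        have h1 := hrec t ht i
        have h2 := hrec t ht (i + 2)
        rw [mul_zero, pow_zero, mul_one] at h1 h2
        calc β t (X (i + 2 + 2)) = β t (X (i + 2 + 2)) * (β t (X (i + 2)) * β t (X i)) := by
              rw [h1, mul_one]
          _ = β t (X i) := by rw [← mul_assoc, h2, one_mul]
      have hper : ∀ k, β t (X (4 * k)) = β t (X 0) := fun k => by
        induction k with
        | zero => rfl
        | succ k ih => rw [Nat.mul_succ, h4p, ih]
      rw [show 2 ^ (m - 1) = 4 * 2 ^ (m - 3) by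
        rw [show m - 1 = m - 3 + 2 by omega, pow_add]; ring]
      exact hper _
    all_goals
      exfalso
      apply hz
      have h6 : ∀ i, β x (X (i + 6)) = β x (X i) ∧
          (β x (X i) = 1 → β x (X (i + 3)) = 1) := by
        intro i
        have c := fun k => hcube x hx _ (hXR k)
        have r0 := hrec x hx i
        have r1 := hrec x hx (i + 1)
        have r2 := hrec x hx (i + 2)
        have r3 := hrec x hx (i + 3)
        have r4 := hrec x hx (i + 4)
        simp only [add_assoc] at r1 r2 r3 r4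
        norm_num at r0 r1 r2 r3 r4
        have c0 := c i
        have c1 := c (i + 1)
        have c2 := c (i + 2)
        have c3 := c (i + 3)
        have c4 := c (i + 4)
        have c5 := c (i + 5)
        set b0 := β x (X i)
        set b1 := β x (X (i + 1))
        set b2 := β x (X (i + 2))
        set b3 := β x (X (i + 3))
        set b4 := β x (X (i + 4))
        set b5 := β x (X (i + 5))
        set b6 := β x (X (i + 6))
        constructor
        · grind
        · intro h0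
          grind
      have h03 : β x (X 3) = 1 := (h6 0).2 (by rw [hX0]; exact hB.self hx)
      have h6k : ∀ k i, β x (X (i + 6 * k)) = β x (X i) := fun k => by
        induction k with
        | zero => intro i; rfl
        | succ k ih => intro i; rw [Nat.mul_succ, ← add_assoc, (h6 _).1, ih]
      have hmod : 2 ^ m % 6 = 2 ∨ 2 ^ m % 6 = 4 := by
        obtain ⟨m', rfl⟩ : ∃ m', m = m' + 1 := ⟨m - 1, by omega⟩
        clear * -
        induction m' with
        | zero => norm_num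
        | succ m' ih => rw [pow_succ, Nat.mul_mod]; rcases ih with h | h <;> simp [h]
      have hd := Nat.mod_add_div (2 ^ m) 6
      have hcy3 := hcy x 1
      rw [← hd, ← add_assoc, h6k] at hcy3
      rcases hmod with h | h <;> rw [h] at hcy3
      · rw [← hzdef] at hcy3
        rw [← hcy3]; exact h03
      · have hcy5 := hcy x 3
        rw [← hd, ← add_assoc, h6k, h] at hcy5
        have h7 := (h6 1).1
        rw [show 3 + 4 = 1 + 6 by norm_num, h7] at hcy5
        rw [hzdef, hcy5]; exact h03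

end IsBireflection

end Cfsg.Agent.FGS73
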