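import Cfsg.Agent.FGS73.BireflectionTwo
import Cfsg.Agent.Fus93.Critical
import Cfsg.Agent.Lib.Thompson.Cores
import Cfsg.Agent.Lib.Coprime.Action
import Cfsg.Agent.Lib.Fitting
import Cfsg.Agent.Lib.Fitting.Minimal

/-!
In a soluble linear group in characteristic `q = 2 ^ m - 1` a bireflection of order `2 ^ m`
generates an involution in `O_{q,2}`.
-/

namespace Cfsg.Agent.FGS73

open Subgroup
open scoped commutatorElement

variable {G : Type*} [Group G] [Finite G]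

omit [Finite G] in
/-- An element all of whose primary parts lie in `C` lies in `C`. -/
theorem mem_of_primary [Finite G] {x : G} (C : Subgroup G)
    (h : ∀ r, r.Prime → r ∣ orderOf x → ∀ s ∈ zpowers x, (∃ k, s ^ r ^ k = 1) → s ∈ C) :
    x ∈ C := by
  classical
  suffices h1 : C.subgroupOf (zpowers x) = ⊤ from
    (subgroupOf_eq_top.1 h1) (mem_zpowers x)
  by_contra hne
  obtain ⟨r, hr, hrd⟩ := Nat.exists_prime_and_dvd (fun h => hne (index_eq_one.1 h))
  haveI := Fact.mk hr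
  obtain ⟨P⟩ : Nonempty (Sylow r (zpowers x)) := inferInstance
  have hrx : r ∣ orderOf x := by
    rw [← Nat.card_zpowers]
    exact hrd.trans (index_dvd_card _)
  refine P.not_dvd_index (hrd.trans (index_dvd_of_le fun s hs => ?_))
  obtain ⟨k, hk⟩ := P.2 ⟨s, hs⟩
  exact h r hr hrx s s.2 ⟨k, congrArg Subtype.val (congrArg Subtype.val hk)⟩

omit [Finite G] in
/-- An element of `p`-power order in a normal nilpotent subgroup lies in `O_p`. -/
theorem mem_pCore_of_nilpotent [Finite G] {p : ℕ} [Fact p.Prime] (N : Subgroup G) [N.Normal]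
    (hnil : Group.IsNilpotent N) {s : G} (hs : s ∈ N) (hsp : ∃ k, s ^ p ^ k = 1) :
    s ∈ Cfsg.pCore p G := by
  obtain ⟨k, hk⟩ := hsp
  have hz : IsPGroup p (zpowers (⟨s, hs⟩ : N)) := fun y => by
    obtain ⟨y, i, rfl⟩ := y
    refine ⟨k, Subtype.ext (Subtype.ext ?_)⟩
    change (s ^ i) ^ p ^ k = 1
    rw [← zpow_natCast, ← zpow_mul, mul_comm, zpow_mul, zpow_natCast, hk, one_zpow]
  obtain ⟨P, hP⟩ := hz.exists_le_sylow
  have hn : (P : Subgroup N).Normal := inferInstance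
  haveI := Sylow.characteristic_of_normal P hn
  exact Cfsg.Agent.Thompson.le_pCore (inferInstance : ((P : Subgroup N).map N.subtype).Normal)
    (P.2.map _) ⟨⟨s, hs⟩, hP (mem_zpowers _), rfl⟩

omit [Finite G] in
/-- A 2-element commuting with `x` which is the commutator of an element of odd order `x`. -/
theorem eq_one_of_odd_comm {x y z : G} (hx : Odd (orderOf x)) (hxy : x * y * x⁻¹ = z * y)
    (hxz : x * z = z * x) (hz : ∃ k, z ^ 2 ^ k = 1) : z = 1 := by
  have hi : ∀ i : ℕ, x ^ i * y * (x ^ i)⁻¹ = z ^ i * y := by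
    intro i
    induction i with
    | zero => simp
    | succ i ih =>
      calc x ^ (i + 1) * y * (x ^ (i + 1))⁻¹ = x * (x ^ i * y * (x ^ i)⁻¹) * x⁻¹ := by
            rw [pow_succ']; group
        _ = x * z ^ i * x⁻¹ * (x * y * x⁻¹) := by rw [ih]; group
        _ = z ^ (i + 1) * y := by
            rw [hxy, ((Commute.pow_right (show Commute x z from hxz)) i).eq, mul_inv_cancel_right,
              pow_succ]
            group
  have h1 := hi (orderOf x)
  rw [pow_orderOf_eq_one, one_mul, inv_one, mul_one, right_eq_mul] at h1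
  obtain ⟨k, hk⟩ := hz
  have h2 := Nat.dvd_gcd (orderOf_dvd_of_pow_eq_one h1) (orderOf_dvd_of_pow_eq_one hk)
  rw [(Nat.Coprime.pow_right k (Nat.coprime_two_right.2 hx)).gcd_eq_one, Nat.dvd_one,
    orderOf_eq_one_iff] at h2
  exact h2

variable {K U : Type*} [Field K] [AddCommGroup U] [Module K U] [IsAlgClosed K]
  [FiniteDimensional K U] {ρ : G →* Module.End K U} {g : G} {m : ℕ}

/-- `g ^ 2 ^ (m - 1)` lies in a normal subgroup whose elements of odd order are in `O_q`. -/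
theorem IsBireflection.exists_core {q : ℕ} [Fact q.Prime] [CharP K q]
    (hb : IsBireflection ρ g m) (hρ : Function.Injective ρ) (hsol : Group.IsSolvable G)
    (hq : 2 ^ m - 1 = q) :
    ∃ X : Subgroup G, X.Normal ∧ g ^ 2 ^ (m - 1) ∈ X ∧
      ∀ x ∈ X, Odd (orderOf x) → x ∈ Cfsg.pCore q G := by
  classical
  haveI := hsol
  haveI : Fact (Nat.Prime 2) := ⟨Nat.prime_two⟩
  have hqp : q.Prime := Fact.out
  have hq2 : q ≠ 2 := by
    have : 2 ∣ 2 ^ m := dvd_pow_self 2 (by have := hb.two_le; omega)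
    omega
  have h2K : (2 : K) ≠ 0 := fun h => by
    have h' : ((2 : ℕ) : K) = 0 := by exact_mod_cast h
    exact hq2 ((Nat.prime_dvd_prime_iff_eq hqp Nat.prime_two).1
      ((CharP.cast_eq_zero_iff K q 2).1 h'))
  have hK : ((2 ^ m - 1 : ℕ) : K) = 0 := by rw [hq, CharP.cast_eq_zero]
  set N := Cfsg.pCore q G with hN
  let π := QuotientGroup.mk' N
  have hπ : Function.Surjective π := QuotientGroup.mk'_surjective N
  set τ := g ^ 2 ^ (m - 1) with hτdef
  have hNq : IsPGroup q N := Cfsg.Agent.Thompson.isPGroup_pCore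
  obtain ⟨cN, hcN⟩ := IsPGroup.iff_card.1 hNq
  have hg2 : IsPGroup 2 (zpowers g) := by
    obtain ⟨k, -, hk⟩ := (Nat.dvd_prime_pow Nat.prime_two).1 (orderOf_dvd_of_pow_eq_one hb.pow_eq)
    exact IsPGroup.of_card (n := k) (by rw [Nat.card_zpowers, hk])
  refine ⟨(Cfsg.pCore 2 (G ⧸ N)).comap π, inferInstance, ?_, fun x hx hodd => ?_⟩
  swap
  · obtain ⟨k, hk⟩ := (Cfsg.Agent.Thompson.isPGroup_pCore (p := 2) (G := G ⧸ N)) ⟨π x, hx⟩
    have h1 : π x ^ 2 ^ k = 1 := congrArg Subtype.val hk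
    have h2 := Nat.dvd_gcd (orderOf_map_dvd π x) (orderOf_dvd_of_pow_eq_one h1)
    rw [(Nat.Coprime.pow_right k (Nat.coprime_two_right.2 hodd)).gcd_eq_one, Nat.dvd_one,
      orderOf_eq_one_iff] at h2
    exact (QuotientGroup.eq_one_iff x).1 h2
  change π τ ∈ Cfsg.pCore 2 (G ⧸ N)
  -- the odd cores of the quotient
  have hodd : ∀ r, r.Prime → r ≠ 2 → ∀ y ∈ Cfsg.pCore r (G ⧸ N), π τ * y = y * π τ := by
    intro r hr hr2 y hy
    haveI := Fact.mk hr
    by_cases hrq : r = q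
    · subst hrq
      rw [Cfsg.Agent.Thompson.pCore_quotient_pCore, mem_bot] at hy
      rw [hy, mul_one, one_mul]
    set O := Cfsg.pCore r (G ⧸ N) with hO
    set M := O.comap π with hM
    obtain ⟨cO, hcO⟩ := IsPGroup.iff_card.1
      (Cfsg.Agent.Thompson.isPGroup_pCore (p := r) (G := G ⧸ N))
    have hMc : Nat.card M = r ^ cO * q ^ cN := by
      rw [hM, Cfsg.Agent.Thompson.card_comap_quotient, hcO, hcN]
    have hcop : (Nat.card (zpowers g)).Coprime (Nat.card M) := by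
      obtain ⟨k, hk⟩ := IsPGroup.iff_card.1 hg2
      rw [hk, hMc]
      exact Nat.Coprime.pow_left _ (Nat.Coprime.mul_right
        (Nat.Coprime.pow_right _ ((Nat.coprime_primes Nat.prime_two hr).2 hr2.symm))
        (Nat.Coprime.pow_right _ ((Nat.coprime_primes Nat.prime_two hqp).2 hq2.symm)))
    obtain ⟨P, hP⟩ := Cfsg.Agent.Coprime.exists_invariant_sylow (zpowers g) M
      (by rw [normalizer_eq_top]; exact le_top) hcop (Or.inl inferInstance) r
    set S := (P : Subgroup M).map M.subtype with hS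
    have hSr : IsPGroup r S := P.2.map _
    obtain ⟨cS, hcS⟩ := IsPGroup.iff_card.1 hSr
    have hfix := hb.centralizes_odd hρ hK S
      (fun a ha => (mem_normalizer_iff.1 (hP (mem_zpowers g)) a).1 ha) inferInstance
      (by rw [hcS]; exact (hr.odd_of_ne_two hr2).pow)
      (by
        rw [hcS, Nat.cast_pow]
        refine pow_ne_zero _ fun h => hrq ?_
        exact ((Nat.prime_dvd_prime_iff_eq hqp hr).1 ((CharP.cast_eq_zero_iff K q r).1 h)).symm)
    let f : M →* O := (π.comp M.subtype).codRestrict O fun a => a.2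
    have hf : Function.Surjective f := fun o => by
      obtain ⟨a, ha⟩ := hπ o
      exact ⟨⟨a, by rw [hM, mem_comap, ha]; exact o.2⟩, Subtype.ext ha⟩
    have htop : ((P.mapSurjective hf : Sylow r O) : Subgroup O) = ⊤ :=
      ((P.mapSurjective hf).3 ((Cfsg.Agent.Thompson.isPGroup_pCore (p := r)
        (G := G ⧸ N)).to_subgroup ⊤) le_top).symm
    have hy' : (⟨y, hy⟩ : O) ∈ ((P.mapSurjective hf : Sylow r O) : Subgroup O) := by
      rw [htop]; exact mem_top _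
    obtain ⟨a, ha, hay⟩ := hy'
    have hay' : π (a : G) = y := congrArg Subtype.val hay
    have h1 := hfix (a : G) ⟨a, ha, rfl⟩
    rw [← hay', ← map_mul, ← map_mul]
    exact congrArg π (mul_inv_eq_iff_eq_mul.1 h1)
  -- the 2-core of the quotient, lifted
  set O := Cfsg.pCore 2 (G ⧸ N) with hO
  obtain ⟨P1, hP1⟩ := hg2.exists_le_sylow
  set D : Subgroup G := (P1 : Subgroup G) ⊓ O.comap π with hD
  have hD2 : IsPGroup 2 D := P1.2.to_le inf_le_left
  have hgD : ∀ a ∈ D, g * a * g⁻¹ ∈ D := fun a ha =>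
    mem_inf.2 ⟨mul_mem (mul_mem (hP1 (mem_zpowers g)) ha.1) (inv_mem (hP1 (mem_zpowers g))), by
      rw [mem_comap, map_mul, map_mul, map_inv]
      exact (inferInstance : O.Normal).conj_mem _ ha.2 _⟩
  have hlift : ∀ y ∈ O, ∃ s ∈ D, π s = y := by
    intro y hy
    obtain ⟨s, hs, hsy⟩ := Cfsg.Agent.Thompson.pCore_le_sylow (P1.mapSurjective hπ) hy
    exact ⟨s, mem_inf.2 ⟨hs, by rw [mem_comap, hsy]; exact hy⟩, hsy⟩
  have hinj : ∀ u ∈ D, ∀ v ∈ D, π u = π v → u = v := by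
    intro u hu v hv huv
    have h1 : u⁻¹ * v ∈ N := QuotientGroup.eq.1 huv
    have h2 := (IsPGroup.disjoint_of_ne q 2 hq2 N D hNq hD2).le_bot
      (mem_inf.2 ⟨h1, mul_mem (inv_mem hu) hv⟩)
    exact inv_mul_eq_one.1 h2
  obtain ⟨T1, hT1c, hT1cen, hT1sq, hT1comm⟩ := Cfsg.Agent.Fus93.exists_critical (p := 2)
    (Cfsg.Agent.Thompson.isPGroup_pCore (p := 2) (G := G ⧸ N))
  haveI := hT1c
  set Tb : Subgroup (G ⧸ N) := T1.map O.subtype with hTb
  haveI hTbn : Tb.Normal := inferInstance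
  have hTbO : Tb ≤ O := map_subtype_le T1
  have hTbc : ∀ a ∈ Tb, ∀ y ∈ O, ∀ t ∈ Tb, a⁻¹ * (y * a * y⁻¹) * t = t * (a⁻¹ * (y * a * y⁻¹)) := by
    rintro _ ⟨a, ha, rfl⟩ y hy _ ⟨t, ht, rfl⟩
    exact (congrArg Subtype.val (mem_centralizer_iff.1 (hT1comm a ha ⟨y, hy⟩) t ht)).symm
  have hTbsq : ∀ a ∈ Tb, ∀ t ∈ Tb, a ^ 2 * t = t * a ^ 2 := by
    rintro _ ⟨a, ha, rfl⟩ _ ⟨t, ht, rfl⟩
    exact (congrArg Subtype.val (mem_centralizer_iff.1 (hT1sq a ha) t ht)).symm
  have hTbcen : ∀ y ∈ O, (∀ t ∈ Tb, t * y = y * t) → y ∈ Tb := fun y hy hyt =>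
    ⟨⟨y, hy⟩, hT1cen (mem_centralizer_iff.2 fun t ht =>
      Subtype.ext (hyt (t : G ⧸ N) ⟨t, ht, rfl⟩)), rfl⟩
  set T : Subgroup G := D ⊓ Tb.comap π with hT
  have hgT : ∀ a ∈ T, g * a * g⁻¹ ∈ T := fun a ha => mem_inf.2 ⟨hgD a ha.1, by
    rw [mem_comap, map_mul, map_mul, map_inv]
    exact hTbn.conj_mem _ ha.2 _⟩
  have hT2 : IsPGroup 2 T := hD2.to_le inf_le_left
  have hTlift : ∀ y ∈ Tb, ∃ s ∈ T, π s = y := fun y hy => by
    obtain ⟨s, hs, hsy⟩ := hlift y (hTbO hy)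
    exact ⟨s, mem_inf.2 ⟨hs, by rw [mem_comap, hsy]; exact hy⟩, hsy⟩
  have hTcomm : ∀ a ∈ T, ∀ c ∈ T, ∀ t ∈ T, ⁅a, c⁆ * t = t * ⁅a, c⁆ := by
    intro a ha c hc t ht
    have hm : ⁅a, c⁆ ∈ D :=
      mul_mem (mul_mem (mul_mem ha.1 hc.1) (inv_mem ha.1)) (inv_mem hc.1)
    refine hinj _ (mul_mem hm ht.1) _ (mul_mem ht.1 hm) ?_
    have h1 := hTbc (π a)⁻¹ (inv_mem ha.2) (π c) (hTbO hc.2) (π t) ht.2
    rw [map_mul, map_mul, map_commutatorElement]
    convert h1 using 1 <;> simp only [commutatorElement_def] <;> group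
  have hTsq : ∀ a ∈ T, ∀ t ∈ T, a ^ 2 * t = t * a ^ 2 := fun a ha t ht =>
    hinj _ (mul_mem (pow_mem ha.1 2) ht.1) _ (mul_mem ht.1 (pow_mem ha.1 2)) (by
      rw [map_mul, map_mul, map_pow]
      exact hTbsq _ ha.2 _ ht.2)
  set Zb : Subgroup (G ⧸ N) := Tb ⊓ centralizer (Tb : Set (G ⧸ N)) with hZb
  have hcenn : ∀ y ∈ centralizer (Tb : Set (G ⧸ N)), ∀ k,
      k * y * k⁻¹ ∈ centralizer (Tb : Set (G ⧸ N)) := fun y hy k =>
    mem_centralizer_iff.2 fun t ht => by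
      have h1 := mem_centralizer_iff.1 hy _ (hTbn.conj_mem t ht k⁻¹)
      calc t * (k * y * k⁻¹) = k * (k⁻¹ * t * k⁻¹⁻¹ * y) * k⁻¹ := by group
        _ = k * (y * (k⁻¹ * t * k⁻¹⁻¹)) * k⁻¹ := by rw [h1]
        _ = k * y * k⁻¹ * t := by group
  haveI hZbn : Zb.Normal := ⟨fun y hy k => ⟨hTbn.conj_mem y hy.1 k, hcenn y hy.2 k⟩⟩
  -- `τ` on `Z(T)` and on `T` modulo it
  have hZτ : ∀ z ∈ Zb, π τ * z = z * π τ := by
    intro z hz
    obtain ⟨s, hs, rfl⟩ := hTlift z hz.1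
    set A : Subgroup G := T ⊓ centralizer (T : Set G) with hA
    have hsA : s ∈ A := ⟨hs, mem_centralizer_iff.2 fun u hu =>
      hinj _ (mul_mem hu.1 hs.1) _ (mul_mem hs.1 hu.1) (by
        rw [map_mul, map_mul]
        exact mem_centralizer_iff.1 hz.2 (π u) hu.2)⟩
    have h1 := hb.centralizes_comm hρ A (fun a ha => ⟨hgT a ha.1, mem_centralizer_iff.2 fun u hu => by
        have h1 := mem_centralizer_iff.1 ha.2 _ (hb.inv_conj_mem hgT u hu)
        calc u * (g * a * g⁻¹) = g * (g⁻¹ * u * g * a) * g⁻¹ := by group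
          _ = g * (a * (g⁻¹ * u * g)) * g⁻¹ := by rw [h1]
          _ = g * a * g⁻¹ * u := by group⟩)
      (fun a ha b hb' => mem_centralizer_iff.1 hb'.2 a ha.1) (by
        obtain ⟨k, hk⟩ := IsPGroup.iff_card.1 (hT2.to_le (inf_le_left : A ≤ T))
        rw [hk, Nat.cast_pow]
        exact pow_ne_zero _ (by exact_mod_cast h2K)) s hsA
    rw [← map_mul, ← map_mul]
    exact congrArg π (mul_inv_eq_iff_eq_mul.1 h1)
  have hTτ : ∀ t ∈ Tb, ⁅π τ, t⁆ ∈ Zb := by
    intro t ht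
    refine mem_inf.2 ⟨?_, mem_centralizer_iff.2 fun u hu => ?_⟩
    · exact mul_mem (hTbn.conj_mem t ht _) (inv_mem ht)
    obtain ⟨s, hs, rfl⟩ := hTlift t ht
    obtain ⟨u, hu', rfl⟩ := hTlift u hu
    rw [← map_commutatorElement, ← map_mul, ← map_mul]
    exact congrArg π (hb.commutator_central hρ h2K T hgT hT2 hTcomm hTsq s hs u hu')
  -- the stabiliser
  let Kc : Subgroup (G ⧸ N) :=
    { carrier := {k | (∀ r, r.Prime → r ≠ 2 → ∀ y ∈ Cfsg.pCore r (G ⧸ N), k * y = y * k) ∧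
        (∀ z ∈ Zb, k * z = z * k) ∧ ∀ t ∈ Tb, ⁅k, t⁆ ∈ Zb}
      one_mem' := ⟨fun _ _ _ _ _ => by group, fun _ _ => by group, fun t _ => by simp⟩
      mul_mem' := fun {a b} ha hb => ⟨fun r hr hr2 y hy => by
          rw [mul_assoc, hb.1 r hr hr2 y hy, ← mul_assoc, ha.1 r hr hr2 y hy, mul_assoc],
        fun z hz => by rw [mul_assoc, hb.2.1 z hz, ← mul_assoc, ha.2.1 z hz, mul_assoc],
        fun t ht => by
          rw [show ⁅a * b, t⁆ = a * ⁅b, t⁆ * a⁻¹ * ⁅a, t⁆ by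
            simp [commutatorElement_def, mul_assoc]]
          exact mul_mem (hZbn.conj_mem _ (hb.2.2 t ht) a) (ha.2.2 t ht)⟩
      inv_mem' := fun {a} ha => ⟨fun r hr hr2 y hy => by
          have := ha.1 r hr hr2 y hy
          calc a⁻¹ * y = a⁻¹ * (y * a) * a⁻¹ := by group
            _ = a⁻¹ * (a * y) * a⁻¹ := by rw [this]
            _ = y * a⁻¹ := by group,
        fun z hz => by
          have := ha.2.1 z hz
          calc a⁻¹ * z = a⁻¹ * (z * a) * a⁻¹ := by group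
            _ = a⁻¹ * (a * z) * a⁻¹ := by rw [this]
            _ = z * a⁻¹ := by group,
        fun t ht => by
          rw [show ⁅a⁻¹, t⁆ = a⁻¹ * ⁅a, t⁆⁻¹ * a⁻¹⁻¹ by
            simp only [commutatorElement_def]; group]
          exact hZbn.conj_mem _ (inv_mem (ha.2.2 t ht)) _⟩ }
  haveI hKcn : Kc.Normal := by
    refine ⟨fun k hk w => ⟨fun r hr hr2 y hy => ?_, fun z hz => ?_, fun t ht => ?_⟩⟩
    · have h1 := hk.1 r hr hr2 _ ((inferInstance : (Cfsg.pCore r (G ⧸ N)).Normal).conj_mem y hy w⁻¹)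
      calc w * k * w⁻¹ * y = w * (k * (w⁻¹ * y * w⁻¹⁻¹)) * w⁻¹ := by group
        _ = w * ((w⁻¹ * y * w⁻¹⁻¹) * k) * w⁻¹ := by rw [h1]
        _ = y * (w * k * w⁻¹) := by group
    · have h1 := hk.2.1 _ (hZbn.conj_mem z hz w⁻¹)
      calc w * k * w⁻¹ * z = w * (k * (w⁻¹ * z * w⁻¹⁻¹)) * w⁻¹ := by group
        _ = w * ((w⁻¹ * z * w⁻¹⁻¹) * k) * w⁻¹ := by rw [h1]
        _ = z * (w * k * w⁻¹) := by group
    · rw [show ⁅w * k * w⁻¹, t⁆ = w * ⁅k, w⁻¹ * t * w⁻¹⁻¹⁆ * w⁻¹ by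
        simp only [commutatorElement_def]; group]
      exact hZbn.conj_mem _ (hk.2.2 _ (hTbn.conj_mem t ht w⁻¹)) w
  have h2pow : ∀ y ∈ O, ∃ k, y ^ 2 ^ k = 1 := fun y hy => by
    obtain ⟨k, hk⟩ := (Cfsg.Agent.Thompson.isPGroup_pCore (p := 2) (G := G ⧸ N)) ⟨y, hy⟩
    exact ⟨k, congrArg Subtype.val hk⟩
  -- elements of odd order in it lie in the Fitting subgroup
  have hfit : ∀ x ∈ Kc, Odd (orderOf x) → x ∈ Cfsg.fittingSubgroup (G ⧸ N) := by
    intro x hx hxo
    haveI : Group.IsSolvable (G ⧸ N) := Group.isSolvable_of_surjective hπ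
    have hxT : ∀ t ∈ Tb, x * t = t * x := fun t ht =>
      commutatorElement_eq_one_iff_mul_comm.1 (eq_one_of_odd_comm hxo
        (show x * t * x⁻¹ = ⁅x, t⁆ * t by simp [commutatorElement_def])
        (hx.2.1 _ (hx.2.2 t ht)) (h2pow _ (hTbO (hx.2.2 t ht).1)))
    have hxO : ∀ y ∈ O, x * y = y * x := by
      intro y hy
      set d := ⁅x, y⁆ with hd
      have hdO : d ∈ O := mul_mem ((inferInstance : O.Normal).conj_mem y hy x) (inv_mem hy)
      have hdT : ∀ t ∈ Tb, t * d = d * t := by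
        intro t ht
        have ht' : y⁻¹ * t * y ∈ Tb := by
          convert hTbn.conj_mem t ht y⁻¹ using 1
          group
        calc t * d = x * t * x⁻¹ * d := by rw [hxT t ht, mul_inv_cancel_right]
          _ = x * y * (y⁻¹ * t * y) * x⁻¹ * y⁻¹ := by rw [hd, commutatorElement_def]; group
          _ = x * y * x⁻¹ * (x * (y⁻¹ * t * y) * x⁻¹) * y⁻¹ := by group
          _ = d * t := by rw [hxT _ ht', mul_inv_cancel_right, hd, commutatorElement_def]; group
      exact commutatorElement_eq_one_iff_mul_comm.1 (eq_one_of_odd_comm hxo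
        (show x * y * x⁻¹ = d * y by simp [hd, commutatorElement_def])
        (hxT d (hTbcen d hdO hdT)) (h2pow d hdO))
    refine Cfsg.Agent.Fitting.centralizer_fitting_le (mem_centralizer_iff.2 fun y hy => ?_)
    have hle : Cfsg.fittingSubgroup (G ⧸ N) ≤ centralizer {x} := by
      rw [Cfsg.Agent.Fitting.fitting_eq_iSup_pCore]
      refine iSup_le fun r z hz => mem_centralizer_singleton_iff.2 ?_
      by_cases hr : (r : ℕ) = 2
      · rw [hr] at hz
        exact (hxO z hz).symm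
      · exact (hx.1 r r.2 hr z hz).symm
    exact mem_centralizer_singleton_iff.1 (hle hy)
  -- so they are central in it
  have hcen : ∀ x : Kc, Odd (orderOf x) → x ∈ center Kc := by
    intro x hxo
    rw [mem_center_iff]
    intro k
    apply Subtype.ext
    have hxo' : Odd (orderOf (x : G ⧸ N)) := by rwa [Subgroup.orderOf_coe]
    have hxF := hfit x x.2 hxo'
    refine (mem_centralizer_singleton_iff.1 (mem_of_primary (x := (x : G ⧸ N))
      (centralizer {(k : G ⧸ N)}) fun r hr hrd s hs hsr => ?_)).symm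
    haveI := Fact.mk hr
    refine mem_centralizer_singleton_iff.2 (k.2.1 r hr ?_ s (mem_pCore_of_nilpotent _
      Cfsg.Agent.Fitting.fitting_isNilpotent ((zpowers_le.2 hxF) hs) hsr)).symm
    rintro rfl
    exact Nat.not_even_iff_odd.2 hxo' (even_iff_two_dvd.2 hrd)
  have hnil : Group.IsNilpotent Kc := by
    refine Group.of_quotient_center_nilpotent (IsPGroup.isNilpotent (p := 2) ?_)
    intro y
    obtain ⟨k, rfl⟩ := QuotientGroup.mk'_surjective _ y
    obtain ⟨a, c, hc, hac⟩ := Nat.exists_eq_pow_mul_and_not_dvd (orderOf_pos k).ne' 2 (by norm_num)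
    refine ⟨a, ?_⟩
    rw [← map_pow, QuotientGroup.mk'_apply, QuotientGroup.eq_one_iff]
    refine hcen _ ?_
    rw [orderOf_pow, hac, Nat.gcd_eq_right (dvd_mul_right _ _),
      Nat.mul_div_cancel_left _ (pow_pos two_pos _)]
    exact Nat.odd_iff.2 (Nat.two_dvd_ne_zero.1 hc)
  refine mem_pCore_of_nilpotent Kc hnil ⟨hodd, hZτ, hTτ⟩ ⟨1, ?_⟩
  rw [pow_one, pow_two, ← map_mul, hτdef, hb.tau_sq, map_one]

end Cfsg.Agent.FGS73
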