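import Cfsg.Agent.FGS73.BireflectionCore

/-!
An invariant 2-group with central squares and commutators is centralised modulo its centre by
the involution generated by a bireflection.
-/

namespace Cfsg.Agent.FGS73

open Subgroup
open scoped commutatorElement

variable {G K U : Type*} [Group G] [Field K] [AddCommGroup U] [Module K U]
  [IsAlgClosed K] [FiniteDimensional K U]

theorem one_lt_finrank_of_anticomm {E V : Module.End K U} (S : Submodule K U) (hS : S ≠ ⊥)
    (hE : ∀ v ∈ S, E v ∈ S) (hV : ∀ v ∈ S, V v ∈ S) (hEV : ∀ v ∈ S, E (V v) = -V (E v))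
    (hE0 : ∀ v ∈ S, E v = 0 → v = 0) (hV0 : ∀ v ∈ S, V v = 0 → v = 0) (h2 : (2 : K) ≠ 0) :
    2 ≤ Module.finrank K S := by
  by_contra hlt
  obtain ⟨v, hv, hv0⟩ := Submodule.exists_mem_ne_zero_of_ne_bot hS
  have h1 : Module.finrank K S = 1 := by
    have := Submodule.one_le_finrank_iff.2 hS
    omega
  obtain ⟨c, hc⟩ := exists_smul_eq_of_finrank_eq_one h1 (x := (⟨v, hv⟩ : S))
    (fun h => hv0 (congrArg Subtype.val h)) ⟨E v, hE v hv⟩
  obtain ⟨d, hd⟩ := exists_smul_eq_of_finrank_eq_one h1 (x := (⟨v, hv⟩ : S))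
    (fun h => hv0 (congrArg Subtype.val h)) ⟨V v, hV v hv⟩
  replace hc : c • v = E v := congrArg Subtype.val hc
  replace hd : d • v = V v := congrArg Subtype.val hd
  have h3 := hEV v hv
  rw [← hc, map_smul, ← hd, map_smul, ← hc, smul_smul, smul_smul, ← neg_smul] at h3
  have h4 : (2 : K) * (d * c) = 0 := by linear_combination smul_left_injective K hv0 h3
  rcases mul_eq_zero.1 ((mul_eq_zero.1 h4).resolve_left h2) with h | h
  · exact hv0 (hV0 v hv (by rw [← hd, h, zero_smul]))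
  · exact hv0 (hE0 v hv (by rw [← hc, h, zero_smul]))

namespace IsBireflection

variable {ρ : G →* Module.End K U} {g : G} {m : ℕ}

/-- An invariant subgroup with commutative image is centralised by `g ^ 2 ^ (m - 1)`. -/
theorem centralizes_comm (hb : IsBireflection ρ g m) (hρ : Function.Injective ρ) (A : Subgroup G)
    [Finite A] (hgA : ∀ a ∈ A, g * a * g⁻¹ ∈ A) (hcomm : ∀ a ∈ A, ∀ b ∈ A, a * b = b * a)
    (hcard : (Nat.card A : K) ≠ 0) :
    ∀ a ∈ A, g ^ 2 ^ (m - 1) * a * (g ^ 2 ^ (m - 1))⁻¹ = a := fun a ha =>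
  hρ (LinearMap.ext fun v => hb.orbit ⊤ (fun _ _ => Submodule.mem_top) A hgA
    (fun _ _ _ _ => Submodule.mem_top)
    (fun a ha b hb' v _ => by rw [← rho_mul_apply, hcomm a ha b hb', rho_mul_apply]) hcard a ha v
    Submodule.mem_top)

/-- `g ^ 2 ^ (m - 1)` acts trivially modulo the centre on invariant 2-groups with central squares
and commutators. -/
theorem commutator_central [Finite G] (hb : IsBireflection ρ g m) (hρ : Function.Injective ρ)
    (h2K : (2 : K) ≠ 0) (T : Subgroup G) (hgT : ∀ a ∈ T, g * a * g⁻¹ ∈ T) (hT : IsPGroup 2 T)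
    (hcomm : ∀ a ∈ T, ∀ c ∈ T, ∀ t ∈ T, ⁅a, c⁆ * t = t * ⁅a, c⁆)
    (hsq : ∀ a ∈ T, ∀ t ∈ T, a ^ 2 * t = t * a ^ 2) :
    ∀ t ∈ T, ∀ x ∈ T, x * ⁅g ^ 2 ^ (m - 1), t⁆ = ⁅g ^ 2 ^ (m - 1), t⁆ * x := by
  classical
  intro t ht x hx
  set τ := g ^ 2 ^ (m - 1) with hτdef
  by_contra hxc
  set c := ⁅τ, t⁆ with hc
  have hgT' := hb.inv_conj_mem hgT
  have hcT : c ∈ T := mul_mem (pow_conj_mem T hgT _ t ht) (inv_mem ht)
  have hcard : ∀ S ≤ T, (Nat.card S : K) ≠ 0 := fun S hS h0 => by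
    obtain ⟨k, hk⟩ := IsPGroup.iff_card.1 (hT.to_le hS)
    rw [hk, Nat.cast_pow] at h0
    exact h2K (by exact_mod_cast (pow_eq_zero_iff' (M₀ := K)).1 h0 |>.1)
  set Z : Subgroup G := T ⊓ centralizer (T : Set G) with hZdef
  have hZT : Z ≤ T := inf_le_left
  have hcommZ : ∀ a ∈ T, ∀ b ∈ T, ⁅a, b⁆ ∈ Z := fun a ha b hb' =>
    ⟨(mul_mem (mul_mem (mul_mem ha hb') (inv_mem ha)) (inv_mem hb') : ⁅a, b⁆ ∈ T),
      mem_centralizer_iff.2 fun u hu => (hcomm a ha b hb' u hu).symm⟩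
  have hsqZ : ∀ a ∈ T, a ^ 2 ∈ Z := fun a ha =>
    ⟨pow_mem ha 2, mem_centralizer_iff.2 fun u hu => (hsq a ha u hu).symm⟩
  have hgZ : ∀ a ∈ Z, g * a * g⁻¹ ∈ Z := fun a ha => ⟨hgT a ha.1, mem_centralizer_iff.2 fun u hu => by
    have h1 := mem_centralizer_iff.1 ha.2 _ (hgT' u hu)
    calc u * (g * a * g⁻¹) = g * (g⁻¹ * u * g * a) * g⁻¹ := by group
      _ = g * (a * (g⁻¹ * u * g)) * g⁻¹ := by rw [h1]
      _ = g * a * g⁻¹ * u := by group⟩
  have hgZ' := hb.inv_conj_mem hgZ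
  have hZcomm : ∀ a ∈ Z, ∀ b ∈ Z, ∀ v : U, ρ a (ρ b v) = ρ b (ρ a v) := fun a ha b hb' v => by
    rw [← rho_mul_apply, mem_centralizer_iff.1 hb'.2 a ha.1, rho_mul_apply]
  -- the weight
  have hcne : ⁅x, c⁆ ≠ 1 := fun h => hxc (commutatorElement_eq_one_iff_mul_comm.1 h)
  obtain ⟨ψ, hL0, hψc⟩ := exists_weight_ne_one ρ Z hZcomm (hcard Z hZT) (hcommZ x hx c hcT)
    (fun h => hcne (hρ (h.trans (map_one ρ).symm)))
  set L := wspace ρ ⊤ Z ψ with hL
  have hTL : ∀ a ∈ T, ∀ v ∈ L, ρ a v ∈ L := by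
    intro a ha
    have hfix : ∀ z ∈ Z, a⁻¹ * z * a = z := fun z hz => by
      rw [mul_assoc, ← mem_centralizer_iff.1 hz.2 a ha, inv_mul_cancel_left]
    exact wspace_invariant ρ ⊤ Z ψ (fun _ _ => Submodule.mem_top)
      (fun z hz => by rwa [hfix z hz]) (fun z hz => by rw [hfix z hz])
  let β : G → G → K := fun a b => ψ ⁅a, b⁆
  have hB : Bracket ρ L T β :=
    ⟨hL0, hTL, fun a ha b hb' v hv => hv.2 _ (hcommZ a ha b hb')⟩
  have hψfix := hb.weight_fixed ⊤ (fun _ _ => Submodule.mem_top) Z hgZ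
    (fun _ _ _ _ => Submodule.mem_top) (fun a ha b hb' v _ => hZcomm a ha b hb' v) (hcard Z hZT)
    ψ L (fun v => Iff.rfl) (hB.two_le_finrank hx hcT hψc)
  have hgL : ∀ v ∈ L, ρ g v ∈ L := wspace_invariant ρ ⊤ Z ψ (fun _ _ => Submodule.mem_top) hgZ'
    (fun d hd => by
      have h1 := hψfix _ (hgZ' d hd)
      rw [show g * (g⁻¹ * d * g) * g⁻¹ = d by group] at h1
      exact h1.symm)
  have hgβ : ∀ a ∈ T, ∀ b ∈ T, β (g * a * g⁻¹) (g * b * g⁻¹) = β a b := fun a ha b hb' => by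
    have h1 := hψfix _ (hcommZ a ha b hb')
    rwa [← MulAut.conj_apply, map_commutatorElement] at h1
  have hpm : ∀ a ∈ T, ∀ b ∈ T, β a b ^ 2 = 1 := fun a ha b hb' => by
    rw [← hB.pow_right ha hb' 2, ← hB.one_right ha]
    change ψ ⁅a, b ^ 2⁆ = ψ ⁅a, (1 : G)⁆
    rw [commutatorElement_eq_one_iff_mul_comm.2 (hsq b hb' a ha).symm,
      commutatorElement_one_right]
  have hne1 : (1 : K) ≠ -1 := fun h => h2K (by linear_combination h)
  -- the radical and its weight
  set R := hB.rad with hR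
  have hRT : R ≤ T := hB.rad_le
  have hZR : Z ≤ R := fun z hz => ⟨hz.1, fun s hs => by
    change ψ ⁅s, z⁆ = 1
    rw [commutatorElement_eq_one_iff_mul_comm.2 (mem_centralizer_iff.1 hz.2 s hs)]
    have := hB.one_right hs
    change ψ ⁅s, (1 : G)⁆ = 1 at this
    rwa [commutatorElement_one_right] at this⟩
  have hgR := hB.rad_invariant hgT hgT' hgβ
  have hgR' := hb.inv_conj_mem hgR
  have hTR : ∀ a ∈ T, ∀ r ∈ R, ∀ v ∈ L, ρ a (ρ r v) = ρ r (ρ a v) := fun a ha r hr v hv => by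
    rw [hB.comm_apply ha hr.1 hv, hr.2 a ha, one_smul]
  obtain ⟨φ, hL'0⟩ : ∃ φ : G → K, wspace ρ L R φ ≠ ⊥ := by
    haveI : Nontrivial L := Submodule.nontrivial_iff_ne_bot.2 hL0
    cases nonempty_fintype R
    obtain ⟨χ, v, -, hv, hχ⟩ := common_eigen (fun r : R => (ρ (r : G)).restrict (hTL r r.2.1))
      (fun r s => LinearMap.ext fun w => Subtype.ext (hTR r r.2.1 s s.2 (w : U) w.2))
      ⊤ top_ne_bot (fun _ _ _ => Submodule.mem_top)
    refine ⟨fun y => if hy : y ∈ R then χ ⟨y, hy⟩ else 0, fun h => hv (Subtype.ext ?_)⟩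
    have : (v : U) ∈ wspace ρ L R (fun y => if hy : y ∈ R then χ ⟨y, hy⟩ else 0) :=
      ⟨v.2, fun r hr => by simp only [dif_pos hr]; exact congrArg Subtype.val (hχ ⟨r, hr⟩)⟩
    rwa [h, Submodule.mem_bot] at this
  set L' := wspace ρ L R φ with hL'
  have hTL' : ∀ a ∈ T, ∀ v ∈ L', ρ a v ∈ L' := fun a ha v hv =>
    ⟨hTL a ha v hv.1, fun r hr => by
      rw [← hTR a ha r hr v hv.1, hv.2 r hr, map_smul]⟩
  have hB' : Bracket ρ L' T β :=
    ⟨hL'0, hTL', fun a ha b hb' v hv => hB.scalar a ha b hb' v hv.1⟩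
  have hφfix := hb.weight_fixed L hgL R hgR (fun r hr => hTL r (hRT hr))
    (fun a ha b hb' v hv => hTR a (hRT ha) b hb' v hv) (hcard R hRT) φ L' (fun v => Iff.rfl)
    (hB'.two_le_finrank hx hcT hψc)
  have hgL' : ∀ v ∈ L', ρ g v ∈ L' := wspace_invariant ρ L R φ hgL hgR'
    (fun d hd => by
      have h1 := hφfix _ (hgR' d hd)
      rw [show g * (g⁻¹ * d * g) * g⁻¹ = d by group] at h1
      exact h1.symm)
  have hcR : c ∉ R := fun h => hψc (h.2 x hx)
  -- iterated commutators with `g`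
  let δ : G → G := fun y => g * y * g⁻¹ * y⁻¹
  have hδT : ∀ i, δ^[i] t ∈ T := by
    intro i
    induction i with
    | zero => exact ht
    | succ i ih => rw [Function.iterate_succ_apply']; exact mul_mem (hgT _ ih) (inv_mem ih)
  have hδR : ∀ y ∈ R, δ y ∈ R := fun y hy => mul_mem (hgR y hy) (inv_mem hy)
  have h2not : δ (δ t) ∉ R := by
    intro hs2
    have hs : δ t ∈ T := hδT 1
    have key : ∀ i, ∀ u ∈ T, β u (g ^ i * t * (g ^ i)⁻¹) = β u (δ t) ^ i * β u t := by
      intro i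
      induction i with
      | zero => intro u _; simp
      | succ i ih =>
        intro u hu
        have e : g ^ (i + 1) * t * (g ^ (i + 1))⁻¹ = g * (g ^ i * t * (g ^ i)⁻¹) * g⁻¹ := by
          rw [pow_succ']; group
        have hu' := hgT' u hu
        have h1 : β u (g * δ t * g⁻¹) = β u (δ t) := by
          have h2 := hs2.2 u hu
          rw [show δ (δ t) = g * δ t * g⁻¹ * (δ t)⁻¹ from rfl,
            hB.mul_right hu (hgT _ hs) (inv_mem hs), hB.inv_right hu hs] at h2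
          exact (mul_inv_eq_one₀ (hB.ne_zero hu hs)).1 h2
        have h3 : ∀ y ∈ T, β (g⁻¹ * u * g) y = β u (g * y * g⁻¹) := fun y hy => by
          rw [← hgβ _ hu' y hy]
          congr 1
          group
        rw [e, ← h3 _ (pow_conj_mem T hgT i t ht), ih _ hu', h3 _ hs, h3 _ ht, h1,
          show g * t * g⁻¹ = δ t * t by simp [δ], hB.mul_right hu hs ht, pow_succ, mul_assoc]
    refine hcR ⟨hcT, fun u hu => ?_⟩
    rw [hc, commutatorElement_def, hB.mul_right hu (pow_conj_mem T hgT _ t ht) (inv_mem ht),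
      hB.inv_right hu ht, key _ u hu, show 2 ^ (m - 1) = 2 * 2 ^ (m - 2) by
        rw [← pow_succ']; congr 1; have := hb.two_le; omega,
      pow_mul, hpm u hu _ hs, one_pow, one_mul, mul_inv_cancel₀ (hB.ne_zero hu ht)]
  have hexR : ∃ i, δ^[i] t ∈ R := by
    set P : Subgroup G := zpowers g ⊔ T with hP
    have hnorm : zpowers g ≤ normalizer (T : Set G) := by
      rw [zpowers_le, mem_normalizer_iff]
      exact fun a => ⟨hgT a, fun h => by
        have := hgT' _ h
        rwa [show g⁻¹ * (g * a * g⁻¹) * g = a by group] at this⟩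
    have hPp : IsPGroup 2 P := by
      refine IsPGroup.to_sup_of_normal_right' ?_ hT hnorm
      obtain ⟨k, -, hk⟩ := (Nat.dvd_prime_pow Nat.prime_two).1 (orderOf_dvd_of_pow_eq_one hb.pow_eq)
      exact IsPGroup.of_card (n := k) (by rw [Nat.card_zpowers, hk])
    haveI := Fact.mk Nat.prime_two
    obtain ⟨N, hN⟩ := (Subgroup.isNilpotent_iff_lowerCentralSeries P).1 hPp.isNilpotent
    have hmem : ∀ i, δ^[i] t ∈ P.lowerCentralSeries i := by
      intro i
      induction i with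
      | zero => exact mem_sup_right ht
      | succ i ih =>
        rw [Function.iterate_succ_apply', Subgroup.lowerCentralSeries_succ]
        have := inv_mem (commutator_mem_commutator ih
          (mem_sup_left (mem_zpowers g) : g ∈ P))
        rwa [commutatorElement_inv] at this
    exact ⟨N, by
      have h1 := hmem N
      rw [hN, mem_bot] at h1
      rw [h1]
      exact one_mem _⟩
  obtain ⟨i, hi⟩ : ∃ i, Nat.find hexR = i + 3 := by
    refine ⟨Nat.find hexR - 3, ?_⟩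
    by_contra h
    have hlt : Nat.find hexR ≤ 2 := by omega
    have h1 := Nat.find_spec hexR
    interval_cases Nat.find hexR
    · exact h2not (hδR _ (hδR _ h1))
    · exact h2not (hδR _ h1)
    · exact h2not h1
  set f := δ^[i] t with hfdef
  have hf : f ∈ T := hδT i
  set e := δ f with hedef
  have he : e ∈ T := mul_mem (hgT f hf) (inv_mem hf)
  set a := δ e with hadef
  have ha : a ∈ T := mul_mem (hgT e he) (inv_mem he)
  have hit : δ^[i + 2] t = a := by
    rw [Function.iterate_succ_apply', Function.iterate_succ_apply']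
  have haR : a ∉ R := fun h => by
    have := Nat.find_min hexR (m := i + 2) (by omega)
    exact this (hit ▸ h)
  have hδaR : δ a ∈ R := by
    have h1 := Nat.find_spec hexR
    rwa [hi, Function.iterate_succ_apply', hit] at h1
  have hge : g * e * g⁻¹ = a * e := by simp [hadef, δ]
  have heR : e ∉ R := fun h => haR (hδR e h)
  have hga : ∀ u ∈ T, β u (g * a * g⁻¹) = β u a := fun u hu => by
    have h1 := hδaR.2 u hu
    rw [show δ a = g * a * g⁻¹ * a⁻¹ from rfl, hB.mul_right hu (hgT a ha) (inv_mem ha),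
      hB.inv_right hu ha] at h1
    exact (mul_inv_eq_one₀ (hB.ne_zero hu ha)).1 h1
  have hea : β e a = 1 := by
    have h1 : β (g * f * g⁻¹) a = β f a := by
      rw [← hga _ (hgT f hf), hgβ f hf a ha]
    change β (g * f * g⁻¹ * f⁻¹) a = 1
    rw [hB.mul_left ha (hgT f hf) (inv_mem hf), h1, ← hB.mul_left ha hf (inv_mem hf),
      mul_inv_cancel, hB.swap_eq ha (one_mem _), hB.one_right ha, inv_one]
  have hae : β a e = 1 := by rw [hB.swap_eq he ha, hea, inv_one]
  obtain ⟨t₀, ht₀, ht₀a⟩ : ∃ t₀ ∈ T, β a t₀ = -1 := by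
    by_contra h
    push Not at h
    refine haR ⟨ha, fun u hu => ?_⟩
    rw [hB.swap_eq ha hu, (sq_eq_one_iff.1 (hpm a ha u hu)).resolve_right (h u hu), inv_one]
  obtain ⟨u, hu, hua, hue⟩ : ∃ u ∈ T, β a u = 1 ∧ β e u = -1 := by
    by_contra h
    push Not at h
    have h' : ∀ w ∈ T, β a w = 1 → β e w = 1 := fun w hw hwa =>
      (sq_eq_one_iff.1 (hpm e he w hw)).resolve_right (h w hw hwa)
    have hval : ∀ w ∈ T, β e w = β a w ∨ β e w = 1 ∧ β e t₀ = 1 := by
      intro w hw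
      rcases sq_eq_one_iff.1 (hpm a ha w hw) with hwa | hwa
      · exact Or.inl ((h' w hw hwa).trans hwa.symm)
      · have h1 := h' (w * t₀) (mul_mem hw ht₀) (by
          rw [hB.mul_right ha hw ht₀, hwa, ht₀a]; ring)
        rw [hB.mul_right he hw ht₀] at h1
        rcases sq_eq_one_iff.1 (hpm e he t₀ ht₀) with h2 | h2
        · rw [h2, mul_one] at h1
          exact Or.inr ⟨h1, h2⟩
        · rw [h2] at h1
          exact Or.inl (by rw [hwa]; linear_combination -h1)
    rcases sq_eq_one_iff.1 (hpm e he t₀ ht₀) with h2 | h2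
    · refine heR ⟨he, fun w hw => ?_⟩
      rw [hB.swap_eq he hw, inv_eq_one]
      rcases hval w hw with h3 | h3
      · rcases sq_eq_one_iff.1 (hpm a ha w hw) with h4 | h4
        · rw [h3, h4]
        · exfalso
          have h5 := h' (w * t₀) (mul_mem hw ht₀) (by
            rw [hB.mul_right ha hw ht₀, h4, ht₀a]; ring)
          rw [hB.mul_right he hw ht₀, h2, mul_one, h3, h4] at h5
          exact hne1 h5.symm
      · exact h3.1
    · refine heR ⟨he, fun w hw => ?_⟩
      have h3 : ∀ w ∈ T, β e w = β a w := fun w hw =>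
        (hval w hw).resolve_right fun h => hne1 (h.2.symm.trans h2)
      rw [hB.swap_eq he hw, inv_eq_one, ← hgβ e he w hw, hge,
        hB.mul_left (hgT w hw) ha he, h3 _ (hgT w hw), ← pow_two]
      exact hpm a ha _ (hgT w hw)
  -- the operators on `L'`
  have hGA : ∀ v ∈ L', ρ g (ρ a v) = φ (δ a) • ρ a (ρ g v) := fun v hv => by
    rw [← (hTL' a ha _ (hgL' v hv)).2 _ hδaR, ← rho_mul_apply, ← rho_mul_apply, ← rho_mul_apply]
    congr 2
    simp only [δ]
    group
  have hGE : ∀ v, ρ g (ρ e v) = ρ a (ρ e (ρ g v)) := fun v => by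
    rw [← rho_mul_apply, ← rho_mul_apply, ← rho_mul_apply]
    congr 2
    rw [← mul_assoc, ← hge, inv_mul_cancel_right, hedef]
    try simp only [δ]
    try group
  have hAA : ∀ v ∈ L', ρ a (ρ a v) = ψ (a ^ 2) • v := fun v hv => by
    rw [← rho_mul_apply, ← pow_two]; exact hv.1.2 _ (hsqZ a ha)
  have hEE : ∀ v ∈ L', ρ e (ρ e v) = ψ (e ^ 2) • v := fun v hv => by
    rw [← rho_mul_apply, ← pow_two]; exact hv.1.2 _ (hsqZ e he)
  have hAE : ∀ v ∈ L', ρ a (ρ e v) = ρ e (ρ a v) := fun v hv => by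
    rw [hB'.comm_apply ha he hv, hae, one_smul]
  set lam := ψ (a ^ 2)
  set ν := ψ (e ^ 2)
  obtain ⟨v₀, hv₀, hv₀0⟩ := Submodule.exists_mem_ne_zero_of_ne_bot hL'0
  have hlam : lam ≠ 0 := fun h0 => hv₀0 (by
    have := hAA v₀ hv₀
    rw [h0, zero_smul] at this
    by_contra hne
    exact rho_apply_ne_zero ρ a (rho_apply_ne_zero ρ a hne) this)
  have hν : ν ≠ 0 := fun h0 => hv₀0 (by
    have := hEE v₀ hv₀
    rw [h0, zero_smul] at this
    by_contra hne
    exact rho_apply_ne_zero ρ e (rho_apply_ne_zero ρ e hne) this)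
  have hgv₀ := rho_apply_ne_zero ρ g hv₀0
  set μ := φ (δ a)
  have hμ : μ ^ 2 = 1 := by
    have h1 := congrArg (ρ g) (hAA v₀ hv₀)
    rw [hGA _ (hTL' a ha _ hv₀), hGA v₀ hv₀, map_smul, hAA _ (hgL' _ hv₀), map_smul, smul_smul,
      smul_smul, ← pow_two] at h1
    have h2 := smul_left_injective K hgv₀ h1
    exact mul_right_cancel₀ hlam (by linear_combination h2)
  obtain ⟨α, hα⟩ := IsAlgClosed.exists_pow_nat_eq lam (n := 2) (by norm_num)
  have hα0 : α ≠ 0 := fun h => hlam (by rw [← hα, h]; simp)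
  let half : K → Submodule K U := fun s => L' ⊓ Module.End.eigenspace (ρ a) s
  have hhalf : ∀ s v, v ∈ half s ↔ v ∈ L' ∧ ρ a v = s • v := fun s v => by
    simp [half, Module.End.mem_eigenspace_iff]
  have hdim : ∀ s, half s ≠ ⊥ → 2 ≤ Module.finrank K (half s) := by
    intro s hs
    refine one_lt_finrank_of_anticomm (E := ρ e) (V := ρ u) (half s) hs ?_ ?_ ?_ ?_ ?_ h2K
    · intro v hv
      rw [hhalf] at hv ⊢
      refine ⟨hTL' e he v hv.1, ?_⟩
      rw [hB'.eigen_shift ha he hv.1 hv.2, hae, mul_one]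
    · intro v hv
      rw [hhalf] at hv ⊢
      refine ⟨hTL' u hu v hv.1, ?_⟩
      rw [hB'.eigen_shift ha hu hv.1 hv.2, hua, mul_one]
    · intro v hv
      rw [hB'.comm_apply he hu ((hhalf s v).1 hv).1, hue, neg_smul, one_smul]
    · intro v _ h0
      by_contra hne
      exact rho_apply_ne_zero ρ e hne h0
    · intro v _ h0
      by_contra hne
      exact rho_apply_ne_zero ρ u hne h0
  have hswap : ∀ s, half s ≠ ⊥ → half (-s) ≠ ⊥ := by
    intro s hs hbot
    obtain ⟨v, hv, hv0⟩ := Submodule.exists_mem_ne_zero_of_ne_bot hs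
    rw [hhalf] at hv
    have h1 : ρ t₀ v ∈ half (-s) := (hhalf _ _).2 ⟨hTL' t₀ ht₀ v hv.1, by
      rw [hB'.eigen_shift ha ht₀ hv.1 hv.2, ht₀a, mul_neg, mul_one]⟩
    rw [hbot, Submodule.mem_bot] at h1
    exact rho_apply_ne_zero ρ t₀ hv0 h1
  have hdec : ∀ v ∈ L', ∃ p ∈ half α, ∃ q ∈ half (-α), v = p + q := by
    intro v hv
    refine ⟨(2 : K)⁻¹ • (v + α⁻¹ • ρ a v), ?_, (2 : K)⁻¹ • (v - α⁻¹ • ρ a v), ?_, ?_⟩
    · rw [hhalf]
      refine ⟨L'.smul_mem _ (L'.add_mem hv (L'.smul_mem _ (hTL' a ha v hv))), ?_⟩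
      rw [map_smul, map_add, map_smul, hAA v hv, ← hα]
      match_scalars <;> field_simp
    · rw [hhalf]
      refine ⟨L'.smul_mem _ (L'.sub_mem hv (L'.smul_mem _ (hTL' a ha v hv))), ?_⟩
      rw [map_smul, map_sub, map_smul, hAA v hv, ← hα]
      match_scalars <;> field_simp
    · match_scalars <;> field_simp <;> ring
  have hne : half α ≠ ⊥ ∧ half (-α) ≠ ⊥ := by
    obtain ⟨p, hp, q, hq, hpq⟩ := hdec v₀ hv₀
    by_cases hp0 : half α = ⊥
    · exfalso
      refine hswap (-α) (fun hq0 => hv₀0 ?_) (by rwa [neg_neg])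
      rw [hp0, Submodule.mem_bot] at hp
      rw [hq0, Submodule.mem_bot] at hq
      rw [hpq, hp, hq, add_zero]
    · exact ⟨hp0, hswap α hp0⟩
  have htwok : 2 ^ (m - 1) = 2 * 2 ^ (m - 2) := by
    rw [← pow_succ']; congr 1; have := hb.two_le; omega
  rcases sq_eq_one_iff.1 hμ with hμ1 | hμ1
  swap
  · -- `g` interchanges the two halves
    have hgh : ∀ s, ∀ v ∈ half s, ρ g v ∈ half (-s) := by
      intro s v hv
      rw [hhalf] at hv ⊢
      refine ⟨hgL' v hv.1, ?_⟩
      have h1 := hGA v hv.1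
      rw [hv.2, map_smul, hμ1, neg_one_smul] at h1
      rw [neg_smul, h1, neg_neg]
    have hτS : ∀ v ∈ half α, ρ τ v ∈ half α := by
      intro v hv
      rw [hτdef, htwok, pow_mul]
      refine pow_mem_of_invariant (g := g ^ 2) (half α) (fun w hw => ?_) _ v hv
      rw [pow_two, rho_mul_apply]
      simpa using hgh _ _ (hgh α w hw)
    have h1 := hb.finrank_le_one_of_moved (half α) hτS fun v hv hgv => by
      have h1 := ((hhalf _ _).1 hgv).2
      have h2 := ((hhalf _ _).1 (hgh α v hv)).2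
      rw [h1, neg_smul, eq_neg_iff_add_eq_zero, ← add_smul] at h2
      by_contra hv0
      have : (2 : K) * α = 0 := by
        linear_combination (smul_eq_zero.1 h2).resolve_right (rho_apply_ne_zero ρ g hv0)
      exact mul_ne_zero h2K hα0 this
    have := hdim α hne.1
    omega
  have hgh : ∀ s, ∀ v ∈ half s, ρ g v ∈ half s := by
    intro s v hv
    rw [hhalf] at hv ⊢
    refine ⟨hgL' v hv.1, ?_⟩
    have h1 := hGA v hv.1
    rw [hv.2, map_smul, hμ1, one_smul] at h1
    exact h1.symm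
  have hlam1 : lam = 1 := by
    have h1 := congrArg (ρ g) (hEE v₀ hv₀)
    have hG := hgL' v₀ hv₀
    have he2 := hTL' e he _ hG
    rw [hGE, hGE, map_smul, ← hAE _ (hTL' e he _ he2 |> fun _ => hTL' e he _ hG),
      hAA _ (hTL' e he _ he2), hEE _ hG, smul_smul] at h1
    exact mul_right_cancel₀ hν (by rw [one_mul]; exact smul_left_injective K hgv₀ h1)
  obtain ⟨hS1, hS0⟩ : half (-1) ≠ ⊥ ∧ half 1 ≠ ⊥ := by
    rw [hlam1] at hα
    rcases sq_eq_one_iff.1 hα with h | h
    · rw [h] at hne; exact ⟨hne.2, hne.1⟩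
    · rw [h, neg_neg] at hne; exact ⟨hne.1, hne.2⟩
  have hτh : ∀ s, ∀ v ∈ half s, ρ τ v ∈ half s := fun s =>
    pow_mem_of_invariant (half s) (hgh s) _
  have hfpf : ∀ v ∈ half (-1), ρ τ v = v → v = 0 := by
    intro v hv hfix
    have hvg := hb.fix v hfix
    rw [hhalf] at hv
    have h1 := hGE v
    rw [hvg, hB'.eigen_shift ha he hv.1 hv.2, hae, mul_one, neg_one_smul] at h1
    have h2 : ρ τ (ρ e v) = ρ e v := by
      rw [hτdef, htwok, pow_mul]
      induction 2 ^ (m - 2) with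
      | zero => simp
      | succ k ih =>
        rw [pow_succ, rho_mul_apply, show ρ (g ^ 2) (ρ e v) = ρ e v by
          rw [pow_two, rho_mul_apply, h1, map_neg, h1, neg_neg], ih]
    have h3 := hb.fix _ h2
    rw [h1, neg_eq_iff_add_eq_zero, ← two_smul K] at h3
    by_contra hv0
    exact rho_apply_ne_zero ρ e hv0 ((smul_eq_zero.1 h3).resolve_left h2K)
  have hrange : half (-1) = LinearMap.range (ρ g - 1) :=
    Submodule.eq_of_le_of_finrank_le (le_range _ (hτh _) hfpf)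
      (hb.rank_le.trans (hdim _ hS1))
  have hτA : ∀ v ∈ L', ρ τ v = ρ a v := by
    have h0 : ∀ v ∈ half 1, ρ τ v = v := by
      intro v hv
      refine pow_fix ?_ _
      have h1 : ρ g v - v ∈ half (-1) := by rw [hrange]; exact ⟨v, by simp⟩
      have h2 := ((hhalf _ _).1 h1).2
      rw [map_sub, ((hhalf _ _).1 (hgh 1 v hv)).2, ((hhalf _ _).1 hv).2, one_smul, one_smul,
        eq_comm, neg_one_smul, neg_eq_iff_add_eq_zero, ← two_smul K] at h2
      exact sub_eq_zero.1 ((smul_eq_zero.1 h2).resolve_left h2K)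
    have h1 : ∀ v ∈ half (-1), ρ τ v = -v := by
      intro v hv
      have h := hfpf _ (Submodule.add_mem _ hv (hτh _ v hv)) (by
        rw [map_add, ← rho_mul_apply ρ τ τ, hτdef, hb.tau_sq, map_one, Module.End.one_apply,
          add_comm])
      exact eq_neg_of_add_eq_zero_right h
    intro v hv
    obtain ⟨p, hp, q, hq, rfl⟩ := hdec v hv
    rw [hlam1] at hα
    rcases sq_eq_one_iff.1 hα with h | h
    · rw [h] at hp hq
      rw [map_add, map_add, h0 p hp, h1 q hq, ((hhalf _ _).1 hp).2, ((hhalf _ _).1 hq).2,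
        one_smul, neg_one_smul]
    · rw [h] at hp hq
      rw [neg_neg] at hq
      rw [map_add, map_add, h1 p hp, h0 q hq, ((hhalf _ _).1 hp).2, ((hhalf _ _).1 hq).2,
        one_smul, neg_one_smul]
  have hcs : ∀ v ∈ L', ρ c v = β a t • v := by
    intro v hv
    have hinv : τ⁻¹ = τ := by rw [hτdef]; exact inv_eq_of_mul_eq_one_left hb.tau_sq
    have hw := hTL' t⁻¹ (inv_mem ht) v hv
    rw [hc, commutatorElement_def, rho_mul_apply, rho_mul_apply, rho_mul_apply, hinv, hτA _ hw,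
      hτA _ (hTL' t ht _ (hTL' a ha _ hw)), hB'.comm_apply ha ht (hTL' a ha _ hw),
      hAA _ hw, hlam1, one_smul, ← rho_mul_apply ρ t, mul_inv_cancel, map_one,
      Module.End.one_apply]
  apply hψc
  have h1 := hB'.comm_apply hx hcT hv₀
  rw [hcs v₀ hv₀, hcs _ (hTL' x hx v₀ hv₀), map_smul, smul_smul] at h1
  exact (mul_eq_right₀ (hB.ne_zero ha ht)).1
    (smul_left_injective K (rho_apply_ne_zero ρ x hv₀0) h1).symm
where
  pow_fix {v : U} (h : ρ g v = v) (k : ℕ) : ρ (g ^ k) v = v := by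
    induction k with
    | zero => simp
    | succ k ih => rw [pow_succ, rho_mul_apply, h, ih]

end IsBireflection

end Cfsg.Agent.FGS73
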