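import Mathlib

/-!
A linear map `S` with `S ^ N = 1` and without fixed vectors has a large commutant.
-/

namespace Cfsg.Agent.FGS73

open Module
open scoped Classical

variable {K U : Type*} [Field K] [IsAlgClosed K] [AddCommGroup U] [Module K U]
  [FiniteDimensional K U]

/-- the commutant of `S` -/
def commutant (S : Module.End K U) : Submodule K (Module.End K U) where
  carrier := {X | S * X = X * S}
  zero_mem' := by simp
  add_mem' := fun {a b} ha hb => by
    simp only [Set.mem_setOf_eq] at ha hb ⊢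
    rw [mul_add, add_mul, ha, hb]
  smul_mem' := fun c X hX => by
    simp only [Set.mem_setOf_eq] at hX ⊢
    rw [mul_smul_comm, smul_mul_assoc, hX]

/-- multiplicities of the eigenvalues of `S` -/
theorem eigen_data (S : Module.End K U) {N : ℕ} (hN : (N : K) ≠ 0) (hS : S ^ N = 1)
    (hfix : ∀ w, S w = w → w = 0) :
    ∃ m : K → ℕ, finrank K U ≤ ∑ c ∈ (Polynomial.nthRootsFinset N (1 : K)).erase 1, m c ∧
      ∑ c ∈ (Polynomial.nthRootsFinset N (1 : K)).erase 1, m c ^ 2 ≤ finrank K (commutant S) ∧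
      LinearMap.trace K U S = ∑ c ∈ (Polynomial.nthRootsFinset N (1 : K)).erase 1, c * (m c : K) ∧
      ∀ c ∈ (Polynomial.nthRootsFinset N (1 : K)).erase 1, m c ≠ 0 →
        ∃ w, w ≠ 0 ∧ S w = c • w := by
  classical
  haveI : NeZero (N : K) := ⟨hN⟩
  have hN0 : 0 < N := Nat.pos_of_ne_zero fun h => hN (by simp [h])
  obtain ⟨ζ, hζ⟩ := HasEnoughRootsOfUnity.exists_primitiveRoot K N
  set μ := Polynomial.nthRootsFinset N (1 : K) with hμ
  have hμmem : ∀ c, c ∈ μ ↔ c ^ N = 1 := fun c => Polynomial.mem_nthRootsFinset hN0 1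
  have hμcard : μ.card = N := hζ.card_nthRootsFinset
  let P : K → Module.End K U := fun c => ∑ i ∈ Finset.range N, (c⁻¹) ^ i • S ^ i
  have hc0 : ∀ c ∈ μ, c ≠ 0 := fun c hc h => by
    have := (hμmem c).1 hc
    rw [h, zero_pow hN0.ne'] at this
    exact zero_ne_one this
  have hSP : ∀ c ∈ μ, S * P c = c • P c := by
    intro c hc
    simp only [P, Finset.mul_sum, Finset.smul_sum, mul_smul_comm, smul_smul, ← pow_succ']
    have h1 := Finset.sum_range_succ' (fun i => (c * c⁻¹ ^ i) • S ^ i) N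
    have h2 := Finset.sum_range_succ (fun i => (c * c⁻¹ ^ i) • S ^ i) N
    have e : (c * c⁻¹ ^ N) • S ^ N = (c * c⁻¹ ^ 0) • S ^ 0 := by
      rw [hS, inv_pow, (hμmem c).1 hc]; simp
    rw [h1, e] at h2
    rw [← add_right_cancel h2]
    refine Finset.sum_congr rfl fun i _ => ?_
    rw [pow_succ' c⁻¹, ← mul_assoc, mul_inv_cancel₀ (hc0 c hc), one_mul]
  have hPS : ∀ c ∈ μ, P c * S = c • P c := by
    intro c hc
    have hcomm : Commute S (P c) :=
      Commute.sum_right _ _ _ fun i _ => ((Commute.refl S).pow_right i).smul_right _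
    rw [← hcomm.eq, hSP c hc]
  have hrange : ∀ c ∈ μ, ∀ w ∈ LinearMap.range (P c), S w = c • w := by
    rintro c hc _ ⟨u, rfl⟩
    exact LinearMap.congr_fun (hSP c hc) u
  have hgeom : ∀ c ∈ μ, ∀ e ∈ μ, (∑ i ∈ Finset.range N, (c * e⁻¹) ^ i) =
      if c = e then (N : K) else 0 := by
    intro c hc e he
    split_ifs with h
    · simp [h, hc0 e he]
    · have hx : c * e⁻¹ ≠ 1 := fun hx => h (by
        calc c = c * e⁻¹ * e := by field_simp [hc0 e he]
          _ = e := by rw [hx, one_mul])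
      rw [geom_sum_eq hx, mul_pow, inv_pow, (hμmem c).1 hc, (hμmem e).1 he]
      simp
  have hPeig : ∀ c ∈ μ, ∀ e ∈ μ, ∀ w, S w = c • w →
      P e w = (if c = e then (N : K) else 0) • w := by
    intro c hc e he w hw
    have hpow : ∀ i, (S ^ i) w = c ^ i • w := by
      intro i
      induction i with
      | zero => simp
      | succ i ih => rw [pow_succ', Module.End.mul_apply, ih, map_smul, hw, smul_smul, ← pow_succ]
    rw [← hgeom c hc e he, Finset.sum_smul]
    simp only [P, LinearMap.sum_apply, LinearMap.smul_apply, hpow, smul_smul, mul_pow]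
    exact Finset.sum_congr rfl fun i _ => by rw [mul_comm]
  have hsumP : ∀ u, ∑ c ∈ μ, P c u = (N : K) • u := by
    intro u
    simp only [P, LinearMap.sum_apply, LinearMap.smul_apply]
    rw [Finset.sum_comm, Finset.sum_eq_single_of_mem 0 (Finset.mem_range.2 hN0) ?_]
    · simp [hμcard, Nat.cast_smul_eq_nsmul]
    intro i hi hi0
    rw [← Finset.sum_smul]
    convert zero_smul K _
    -- a nontrivial power sum over the roots of unity vanishes
    have hζi : ζ⁻¹ ^ i ≠ 1 := fun h => hζ.inv.pow_ne_one_of_pos_of_lt hi0 (Finset.mem_range.1 hi) h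
    have hperm : ∑ c ∈ μ, c⁻¹ ^ i = ∑ c ∈ μ, (ζ * c)⁻¹ ^ i := by
      refine Finset.sum_nbij' (fun c => ζ⁻¹ * c) (fun c => ζ * c) ?_ ?_ ?_ ?_ ?_
      · intro c hc
        rw [hμmem] at hc ⊢
        rw [mul_pow, inv_pow, hζ.pow_eq_one, inv_one, one_mul, hc]
      · intro c hc
        rw [hμmem] at hc ⊢
        rw [mul_pow, hζ.pow_eq_one, one_mul, hc]
      · intro c _
        simp [← mul_assoc, hζ.ne_zero hN0.ne']
      · intro c _
        simp [← mul_assoc, hζ.ne_zero hN0.ne']
      · intro c _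
        rw [← mul_assoc, mul_inv_cancel₀ (hζ.ne_zero hN0.ne'), one_mul]
    simp only [mul_inv, mul_pow, ← Finset.mul_sum] at hperm
    by_contra h
    exact hζi (mul_right_cancel₀ h (by rw [one_mul]; exact hperm.symm))
  -- ignore the eigenvalue `1`
  set μ' := μ.erase 1 with hμ'
  have h1μ : (1 : K) ∈ μ := (hμmem 1).2 (one_pow N)
  have hP1 : ∀ u, P 1 u = 0 := fun u => hfix _ (by simpa using hrange 1 h1μ _ ⟨u, rfl⟩)
  let R : μ' → Submodule K U := fun c => LinearMap.range (P c.1)
  let Φ : (Π c : μ', R c) →ₗ[K] U := ∑ c : μ', (R c).subtype ∘ₗ LinearMap.proj c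
  have hΦ : Function.Surjective Φ := by
    intro u
    refine ⟨fun c => (N : K)⁻¹ • ⟨P c.1 u, ⟨u, rfl⟩⟩, ?_⟩
    simp only [Φ, LinearMap.sum_apply, LinearMap.comp_apply, LinearMap.proj_apply,
      Submodule.subtype_apply, Submodule.coe_smul]
    rw [← Finset.smul_sum, Finset.sum_coe_sort μ' (fun c => P c u), hμ', Finset.sum_erase (f := fun c => P c u) μ (hP1 u),
      hsumP, smul_smul, inv_mul_cancel₀ hN, one_smul]
  have hd : finrank K U ≤ ∑ c : μ', finrank K (R c) := by
    rw [← finrank_pi_fintype K]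
    calc finrank K U = finrank K (⊤ : Submodule K U) := by simp
      _ = finrank K (LinearMap.range Φ) := by rw [LinearMap.range_eq_top.2 hΦ]
      _ ≤ _ := LinearMap.finrank_range_le Φ
  -- the block diagonal endomorphisms commute with `S`
  let π : ∀ c : μ', U →ₗ[K] R c := fun c =>
    (N : K)⁻¹ • (P c.1).rangeRestrict
  let Ψ : (Π c : μ', Module.End K (R c)) →ₗ[K] Module.End K U :=
    ∑ c : μ', (LinearMap.llcomp K U (R c) U (R c).subtype) ∘ₗ
      ((LinearMap.lcomp K (R c) (π c)) ∘ₗ LinearMap.proj c)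
  have hΨ : ∀ f u, Ψ f u = ∑ c : μ', ((f c (π c u) : R c) : U) := fun f u => by
    simp [Ψ]
  have hmem : ∀ f, Ψ f ∈ commutant S := by
    intro f
    refine LinearMap.ext fun u => ?_
    simp only [Module.End.mul_apply, hΨ, map_sum]
    refine Finset.sum_congr rfl fun c _ => ?_
    have hc := Finset.mem_of_mem_erase c.2
    rw [hrange c.1 hc _ (f c (π c u)).2]
    have : π c (S u) = c.1 • π c u := by
      apply Subtype.ext
      change (N : K)⁻¹ • P c.1 (S u) = c.1 • ((N : K)⁻¹ • P c.1 u)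
      rw [← Module.End.mul_apply, hPS c.1 hc, LinearMap.smul_apply, smul_comm]
    rw [this, map_smul, Submodule.coe_smul]
  have hinj : Function.Injective (Ψ.codRestrict (commutant S) hmem) := by
    rw [← LinearMap.ker_eq_bot, LinearMap.ker_codRestrict, LinearMap.ker_eq_bot']
    intro f hf
    funext c
    refine LinearMap.ext fun w => ?_
    have h1 := LinearMap.congr_fun hf (w : U)
    rw [hΨ] at h1
    have hπ : ∀ e : μ', π e (w : U) = if h : c = e then h ▸ w else 0 := by
      intro e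
      apply Subtype.ext
      have h2 := hPeig c.1 (Finset.mem_of_mem_erase c.2) e.1 (Finset.mem_of_mem_erase e.2) w
        (hrange c.1 (Finset.mem_of_mem_erase c.2) _ w.2)
      change (N : K)⁻¹ • P e.1 (w : U) = _
      rw [h2, smul_smul]
      by_cases h : c = e
      · subst h
        simp [inv_mul_cancel₀ hN]
      · have h' : c.1 ≠ e.1 := fun x => h (Subtype.ext x)
        simp [h, h']
    rw [Finset.sum_eq_single c (fun e _ he => by rw [hπ, dif_neg (Ne.symm he)]; simp)
      (fun h => absurd (Finset.mem_univ c) h), hπ, dif_pos rfl, LinearMap.zero_apply] at h1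
    exact Subtype.ext h1
  have hC : ∑ c : μ', finrank K (R c) ^ 2 ≤ finrank K (commutant S) := by
    refine le_trans (le_of_eq ?_) (LinearMap.finrank_le_finrank_of_injective hinj)
    rw [finrank_pi_fintype K]
    exact Finset.sum_congr rfl fun c _ => by rw [sq]; exact (Module.finrank_linearMap K K (R c) (R c)).symm
  refine ⟨fun c => finrank K (LinearMap.range (P c)), ?_, ?_, ?_, ?_⟩
  · rw [← Finset.sum_coe_sort]
    exact hd
  · rw [← Finset.sum_coe_sort]
    exact hC
  · have hS' : S = ∑ c ∈ μ', c • ((N : K)⁻¹ • P c) := by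
      refine LinearMap.ext fun u => ?_
      simp only [LinearMap.sum_apply, LinearMap.smul_apply]
      have h1 := congrArg S (hsumP u)
      rw [map_sum, map_smul, ← Finset.sum_erase (s := μ) (a := (1 : K)) (by rw [hP1, map_zero])]
        at h1
      have h2 : ∀ c ∈ μ', S (P c u) = c • P c u := fun c hc =>
        hrange c (Finset.mem_of_mem_erase hc) _ ⟨u, rfl⟩
      rw [← hμ', Finset.sum_congr rfl h2] at h1
      calc S u = (N : K)⁻¹ • ((N : K) • S u) := by rw [smul_smul, inv_mul_cancel₀ hN, one_smul]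
        _ = ∑ c ∈ μ', c • (N : K)⁻¹ • P c u := by
          rw [← h1, Finset.smul_sum]
          exact Finset.sum_congr rfl fun c _ => smul_comm _ _ _
    have htr : ∀ c ∈ μ', LinearMap.trace K U ((N : K)⁻¹ • P c) =
        (finrank K (LinearMap.range (P c)) : K) := by
      intro c hc
      have hc' := Finset.mem_of_mem_erase hc
      refine LinearMap.IsProj.trace ⟨fun u => Submodule.smul_mem _ _ ⟨u, rfl⟩, fun w hw => ?_⟩
      rw [LinearMap.smul_apply, hPeig c hc' c hc' w (hrange c hc' w hw), if_pos rfl, smul_smul,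
        inv_mul_cancel₀ hN, one_smul]
    conv_lhs => rw [hS', map_sum]
    refine Finset.sum_congr rfl fun c hc => ?_
    rw [map_smul, htr c hc, smul_eq_mul]
  · intro c hc hm
    obtain ⟨w, hw, hw0⟩ := Submodule.exists_mem_ne_zero_of_ne_bot
      (p := LinearMap.range (P c)) (fun h => hm (by
        show finrank K (LinearMap.range (P c)) = 0
        rw [h, finrank_bot]))
    exact ⟨w, hw0, hrange c (Finset.mem_of_mem_erase hc) w hw⟩

theorem card_rootsErase {N : ℕ} (hN : (N : K) ≠ 0) :
    ((Polynomial.nthRootsFinset N (1 : K)).erase 1).card = N - 1 := by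
  classical
  haveI : NeZero (N : K) := ⟨hN⟩
  have hN0 : 0 < N := Nat.pos_of_ne_zero fun h => hN (by simp [h])
  obtain ⟨ζ, hζ⟩ := HasEnoughRootsOfUnity.exists_primitiveRoot K N
  rw [Finset.card_erase_of_mem ((Polynomial.mem_nthRootsFinset hN0 1).2 (one_pow N)),
    hζ.card_nthRootsFinset]

theorem sq_finrank_le_commutant (S : Module.End K U) {N : ℕ} (hN : (N : K) ≠ 0) (hS : S ^ N = 1)
    (hfix : ∀ w, S w = w → w = 0) :
    finrank K U ^ 2 ≤ (N - 1) * finrank K (commutant S) := by
  classical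
  obtain ⟨m, hd, hC, -⟩ := eigen_data S hN hS hfix
  calc finrank K U ^ 2 ≤ (∑ c ∈ (Polynomial.nthRootsFinset N (1 : K)).erase 1, m c) ^ 2 :=
        Nat.pow_le_pow_left hd 2
    _ ≤ ((Polynomial.nthRootsFinset N (1 : K)).erase 1).card *
        ∑ c ∈ (Polynomial.nthRootsFinset N (1 : K)).erase 1, m c ^ 2 := sq_sum_le_card_mul_sum_sq
    _ ≤ (N - 1) * finrank K (commutant S) := by
      rw [card_rootsErase hN]
      exact Nat.mul_le_mul_left _ hC

/-- equality case: every eigenvalue other than `1` is simple -/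
theorem eigen_full (S : Module.End K U) {N : ℕ} (hN : (N : K) ≠ 0) (hS : S ^ N = 1)
    (hfix : ∀ w, S w = w → w = 0) (hd : finrank K U = N - 1) (hN2 : 2 ≤ N)
    (hC : finrank K (commutant S) ≤ N - 1) :
    LinearMap.trace K U S = -1 ∧ ∀ c : K, c ^ N = 1 → c ≠ 1 → ∃ w, w ≠ 0 ∧ S w = c • w := by
  classical
  haveI : NeZero (N : K) := ⟨hN⟩
  obtain ⟨ζ, hζ⟩ := HasEnoughRootsOfUnity.exists_primitiveRoot K N
  obtain ⟨m, hm1, hm2, htr, hev⟩ := eigen_data S hN hS hfix
  set s := (Polynomial.nthRootsFinset N (1 : K)).erase 1 with hs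
  have hcard : s.card = N - 1 := card_rootsErase hN
  have h1 : ∀ c ∈ s, m c = 1 := by
    have hsum : ∑ c ∈ s, ((m c : ℤ) - 1) ^ 2 ≤ 0 := by
      have e : ∑ c ∈ s, ((m c : ℤ) - 1) ^ 2 =
          ((∑ c ∈ s, m c ^ 2 : ℕ) : ℤ) - 2 * ((∑ c ∈ s, m c : ℕ) : ℤ) + (s.card : ℤ) := by
        simp only [sub_sq, one_pow, mul_one, Finset.sum_add_distrib, Finset.sum_sub_distrib,
          ← Finset.mul_sum, Finset.sum_const, nsmul_eq_mul]
        push_cast
        ring
      rw [e]
      omega
    intro c hc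
    have h0 := (Finset.sum_eq_zero_iff_of_nonneg fun c _ => sq_nonneg ((m c : ℤ) - 1)).1
      (le_antisymm hsum (Finset.sum_nonneg fun c _ => sq_nonneg _)) c hc
    have := pow_eq_zero_iff (n := 2) (by norm_num) |>.1 h0
    omega
  refine ⟨?_, fun c hc hc1 => hev c (Finset.mem_erase.2
    ⟨hc1, (Polynomial.mem_nthRootsFinset (by omega) 1).2 hc⟩) (by
      rw [h1 c (Finset.mem_erase.2 ⟨hc1, (Polynomial.mem_nthRootsFinset (by omega) 1).2 hc⟩)]
      norm_num)⟩
  rw [htr, Finset.sum_congr rfl fun c hc => by rw [h1 c hc, Nat.cast_one, mul_one]]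
  have h1m : (1 : K) ∈ Polynomial.nthRootsFinset N (1 : K) :=
    (Polynomial.mem_nthRootsFinset (by omega) 1).2 (one_pow N)
  have hroots : Polynomial.nthRootsFinset N (1 : K) = (Finset.range N).image (ζ ^ ·) := by
    symm
    refine Finset.eq_of_subset_of_card_le ?_ ?_
    · intro c hc
      obtain ⟨i, -, rfl⟩ := Finset.mem_image.1 hc
      rw [Polynomial.mem_nthRootsFinset (by omega), ← pow_mul, mul_comm, pow_mul, hζ.pow_eq_one,
        one_pow]
    · rw [hζ.card_nthRootsFinset, Finset.card_image_of_injOn, Finset.card_range]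
      intro i hi j hj hij
      exact hζ.pow_inj (Finset.mem_range.1 hi) (Finset.mem_range.1 hj) hij
  rw [hs, Finset.sum_erase_eq_sub h1m, hroots, Finset.sum_image
    (fun i hi j hj hij => hζ.pow_inj (Finset.mem_range.1 hi) (Finset.mem_range.1 hj) hij),
    hζ.geom_sum_eq_zero (by omega), zero_sub]

end Cfsg.Agent.FGS73
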