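import Cfsg.Agent.FGS73.Omega
import Cfsg.Agent.FGS73.PLen

/-!
For odd `p` the last term of the derived series of a Sylow subgroup lies in `O_{p',p}`.
-/

namespace Cfsg.Agent.FGS73

open Subgroup
open scoped commutatorElement TensorProduct

theorem eq_of_le_of_card_le {R M : Type*} [Semiring R] [AddCommMonoid M] [Module R M] [Finite M]
    {S S' : Submodule R M} (h : S ≤ S') (hc : Nat.card S' ≤ Nat.card S) : S = S' := by
  have h1 : Function.Bijective (Submodule.inclusion h) :=
    (Nat.bijective_iff_injective_and_card _).2 ⟨Submodule.inclusion_injective h,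
      le_antisymm (Nat.card_le_card_of_injective _ (Submodule.inclusion_injective h)) hc⟩
  refine le_antisymm h fun w hw => ?_
  obtain ⟨u, hu⟩ := h1.2 ⟨w, hw⟩
  rw [show w = (u : M) from (congrArg Subtype.val hu).symm]
  exact u.2

/-- A group of `3`-power order acting on four points and fixing one is abelian. -/
theorem commutator_fixes_four {B X : Type*} [Group B] [MulAction B X] [Finite X] {o : X}
    (ho : ∀ b : B, b • o = o) (hX : Nat.card X = 4) (hB : IsPGroup 3 B) {a : B}
    (ha : a ∈ commutator B) (x : X) : a • x = x := by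
  classical
  haveI : Fact (Nat.Prime 3) := ⟨Nat.prime_three⟩
  cases nonempty_fintype X
  let π : B →* Equiv.Perm {x : X // x ≠ o} :=
    { toFun := fun b => (MulAction.toPerm b).subtypePerm (fun y => by
        change b • y ≠ o ↔ y ≠ o
        refine not_congr ⟨fun h => ?_, fun h => h ▸ ho b⟩
        rw [← inv_smul_smul b y, h, ho])
      map_one' := Equiv.ext fun y => Subtype.ext (one_smul B (y : X))
      map_mul' := fun b c => Equiv.ext fun y => Subtype.ext (mul_smul b c (y : X)) }
  have hperm : Nat.card (Equiv.Perm {x : X // x ≠ o}) = 6 := by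
    rw [Nat.card_eq_fintype_card, Fintype.card_perm, Fintype.card_subtype_compl,
      Fintype.card_subtype_eq, ← Nat.card_eq_fintype_card, hX]
    rfl
  have hab : ∀ u v : π.range, u * v = v * u := by
    obtain ⟨k, hk⟩ := IsPGroup.iff_card.1 (hB.of_surjective π.rangeRestrict π.rangeRestrict_surjective)
    have hd := card_subgroup_dvd_card π.range
    rw [hperm, hk] at hd
    have hk1 : k ≤ 1 := by
      by_contra h
      have h9 : 3 ^ 2 ∣ 6 := (pow_dvd_pow 3 (by omega)).trans hd
      norm_num at h9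
    interval_cases k
    · intro u v
      haveI := (Nat.card_eq_one_iff_unique.1 hk).1
      exact Subsingleton.elim _ _
    · haveI : IsCyclic π.range := isCyclic_of_prime_card (p := 3) (by rw [hk, pow_one])
      intro u v
      exact (IsCyclic.isMulCommutative).is_comm.comm u v
  by_cases hx : x = o
  · rw [hx, ho]
  have hker : a ∈ π.ker := by
    have h1 : commutator B ≤ π.ker := by
      rw [_root_.commutator_def, commutator_le]
      intro u _ v _
      rw [MonoidHom.mem_ker, map_commutatorElement, commutatorElement_eq_one_iff_mul_comm]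
      exact congrArg Subtype.val (hab ⟨π u, u, rfl⟩ ⟨π v, v, rfl⟩)
    exact h1 ha
  exact congrArg Subtype.val (Equiv.ext_iff.1 (MonoidHom.mem_ker.1 hker) ⟨x, hx⟩)

variable {T : Type*} [Group T] [Finite T] {P : Type*} [Group P] [Finite P]
  {K U : Type*} [Field K] [IsAlgClosed K] [AddCommGroup U] [Module K U] [FiniteDimensional K U]

/-- In characteristic three: quadratic commutators act trivially on `T`. -/
theorem quad_derived_trivial {p q : ℕ} [Fact p.Prime] [Fact q.Prime] [CharP K p] (hp3 : p = 3)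
    (hqp : q ≠ p) (hP : IsPGroup p P) (φ : P →* MulAut T) (hTq : IsPGroup q T)
    (hcomm : ∀ a b : T, ⁅a, b⁆ ∈ center T) (hpow : ∀ t : T, t ^ q ∈ center T)
    (ρ : T →* Module.End K U) (hρ : Function.Injective ρ) (σU : P →* Module.End K U)
    (hcompat : ∀ g t w, σU g (ρ t w) = ρ (φ g t) (σU g w))
    (A : Subgroup P) [A.Normal] (hAB : A ≤ commutator P) (hAexp : ∀ a ∈ A, a ^ p = 1)
    (hquad : ∀ a ∈ A, ∀ a' ∈ A, (σU a - 1) * (σU a' - 1) = 0)
    (hcub : ∀ a ∈ A, ∀ b b' : P, (σU a - 1) * (σU b' - 1) * (σU b - 1) = 0)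
    {x : P} (hxA : x ∈ A) (t : T) : φ x t = t := by
  classical
  cases nonempty_fintype T
  have hp : p.Prime := Fact.out
  have hTK : (Nat.card T : K) ≠ 0 := by
    rw [Ne, CharP.cast_eq_zero_iff K p]
    intro hd
    obtain ⟨l, hl⟩ := IsPGroup.iff_card.1 hTq
    rw [hl] at hd
    exact hqp.symm ((Nat.prime_dvd_prime_iff_eq hp Fact.out).1 (hp.dvd_of_dvd_pow hd))
  have hA2 : ∀ a ∈ A, (σU a - 1) ^ 2 = 0 := fun a ha => by rw [pow_two]; exact hquad a ha a ha
  have hit : ∀ (g : P) (k : ℕ) (a : T), (⇑(φ g).toMonoidHom)^[k] a = φ (g ^ k) a := by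
    intro g k
    induction k with
    | zero => intro a; simp
    | succ k ih =>
      intro a
      rw [Function.iterate_succ_apply', ih, pow_succ', map_mul]
      rfl
  have hcen : ∀ (g : P), ∀ z ∈ center T, φ g z ∈ center T := fun g z hz => by
    rw [mem_center_iff] at hz ⊢
    intro a
    obtain ⟨a, rfl⟩ := (φ g).surjective a
    rw [← map_mul, ← map_mul, hz]
  have hper : ∀ g ∈ A, ∀ a : T, (⇑(φ g).toMonoidHom)^[p ^ (0 + 1)] a = a := fun g hg a => by
    rw [hit, zero_add, pow_one, hAexp g hg, map_one]; rfl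
  have hlt : 2 < p ^ (0 + 1) := by rw [hp3]; norm_num
  have hfix : ∀ g ∈ A, ∀ z ∈ center T, φ g z = z := by
    intro g hg z hz
    let Z := center T
    let σZ : Z →* Z := ((φ g).toMonoidHom.comp Z.subtype).codRestrict Z fun w => hcen g w w.2
    have hval : ∀ (k : ℕ) (w : Z), (((⇑σZ)^[k] w : Z) : T) = φ (g ^ k) w := by
      intro k w
      rw [← hit]
      induction k with
      | zero => rfl
      | succ k ih => rw [Function.iterate_succ_apply', Function.iterate_succ_apply', ← ih]; rfl
    have key := end_abelian_norm (ρ.comp Z.subtype)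
      (fun a b => by rw [← map_mul, ← map_mul]; congr 1; exact Subtype.ext (mem_center_iff.1 b.2 a))
      σZ (σU g) hp (n := 0) (fun e => Subtype.ext (by rw [hval, ← hit]; exact hper g hg _))
      (norm_of_sub_one_pow _ (hA2 g hg) hlt) (fun e w => hcompat g (e : T) w)
      (fun h0 => hTK (by
        obtain ⟨b, hb⟩ := card_subgroup_dvd_card Z
        rw [hb, Nat.cast_mul, h0, zero_mul])) ⟨z, hz⟩
    have h2 : ρ ((((⟨z, hz⟩ : Z)⁻¹ * (⇑σZ)^[p ^ 0] ⟨z, hz⟩ : Z)) : T) = ρ 1 := by
      rw [map_one]; exact key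
    have h3 := hρ h2
    rw [Subgroup.coe_mul, Subgroup.coe_inv, hval, pow_zero, pow_one, inv_mul_eq_one] at h3
    exact h3.symm
  set d := t⁻¹ * φ x t with hd
  suffices hdc : d ∈ center T by
    have hpowc : ∀ k : ℕ, φ (x ^ k) t = t * d ^ k := by
      intro k
      induction k with
      | zero => simp
      | succ k ih =>
        rw [pow_succ', map_mul, MulAut.mul_apply, ih, map_mul, map_pow, hfix x hxA d hdc,
          show φ x t = t * d by rw [hd]; group, mul_assoc, ← pow_succ']
    have h1 := hpowc p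
    rw [hAexp x hxA, map_one, MulAut.one_apply, left_eq_mul] at h1
    obtain ⟨l, hl⟩ := hTq d
    have h2 := Nat.dvd_gcd (orderOf_dvd_of_pow_eq_one h1) (orderOf_dvd_of_pow_eq_one hl)
    rw [Nat.Coprime.gcd_eq_one (Nat.Coprime.pow_right _
      ((Nat.coprime_primes hp Fact.out).2 hqp.symm)), Nat.dvd_one, orderOf_eq_one_iff, hd,
      inv_mul_eq_one] at h2
    exact h2.symm
  by_contra hdc
  obtain ⟨x₀, hx₀⟩ : ∃ x₀ : T, ⁅x₀, d⁆ ≠ 1 := by
    by_contra h
    push Not at h
    exact hdc (mem_center_iff.2 fun g => commutatorElement_eq_one_iff_mul_comm.1 (h g))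
  set c₀ := ⁅x₀, d⁆ with hc₀
  -- a weight nontrivial on `c₀`
  let L₀ : Submodule K U := LinearMap.range (ρ c₀ - 1)
  have hL₀ : L₀ ≠ ⊥ := by
    intro h
    apply hx₀
    apply hρ
    rw [map_one, ← sub_eq_zero, ← LinearMap.range_eq_bot]
    exact h
  haveI : Fintype (center T) := Fintype.ofFinite _
  obtain ⟨χ, v₀, hv₀L, hv₀, hχ⟩ := common_eigen (fun z : center T => ρ (z : T))
    (fun a b => by rw [← map_mul, ← map_mul, mem_center_iff.1 b.2 (a : T)]) L₀ hL₀ (by
      rintro z _ ⟨u, rfl⟩
      refine ⟨ρ (z : T) u, ?_⟩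
      simp only [LinearMap.sub_apply, Module.End.one_apply, map_sub, ← Module.End.mul_apply (f := ρ _),
        ← map_mul, mem_center_iff.1 z.2 c₀])
  let ψ : T → K := fun z => if hz : z ∈ center T then χ ⟨z, hz⟩ else 0
  have hψv : ∀ z ∈ center T, ρ z v₀ = ψ z • v₀ := fun z hz => by
    rw [show ψ z = χ ⟨z, hz⟩ from dif_pos hz]; exact hχ ⟨z, hz⟩
  have heig : ∀ a b : K, a • v₀ = b • v₀ → a = b := fun a b h => smul_left_injective K hv₀ h
  have hψmul : ∀ a ∈ center T, ∀ b ∈ center T, ψ (a * b) = ψ a * ψ b := by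
    intro a ha b hb
    apply heig
    rw [← hψv _ (mul_mem ha hb), map_mul, Module.End.mul_apply, hψv b hb, map_smul, hψv a ha,
      smul_smul, mul_comm]
  have hψ1 : ψ 1 = 1 := heig _ _ (by rw [← hψv 1 (one_mem _), map_one, one_smul]; rfl)
  have hψc : ψ c₀ ≠ 1 := by
    intro h1
    obtain ⟨u, hu⟩ := hv₀L
    have hfix0 : ρ c₀ v₀ = v₀ := by rw [hψv c₀ (hcomm _ _), h1, one_smul]
    have h2 : (∑ i ∈ Finset.range (orderOf c₀), ρ c₀ ^ i) v₀ = 0 := by
      rw [← hu, ← Module.End.mul_apply, geom_sum_mul, ← map_pow, pow_orderOf_eq_one, map_one,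
        sub_self]
      rfl
    have h3 : ∀ i, (ρ c₀ ^ i) v₀ = v₀ := by
      intro i
      induction i with
      | zero => rfl
      | succ i ih => rw [pow_succ', Module.End.mul_apply, ih, hfix0]
    rw [LinearMap.sum_apply, Finset.sum_congr rfl (fun i _ => h3 i), Finset.sum_const,
      Finset.card_range, ← Nat.cast_smul_eq_nsmul K] at h2
    refine hv₀ ((smul_eq_zero.1 h2).resolve_left fun h0 => hTK ?_)
    obtain ⟨b, hb⟩ := orderOf_dvd_natCard c₀
    rw [hb, Nat.cast_mul, h0, zero_mul]
  have hbr : ∀ a b t : T, ψ ⁅t, a * b⁆ = ψ ⁅t, a⁆ * ψ ⁅t, b⁆ := by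
    intro a b t
    have e : ⁅t, a * b⁆ = ⁅t, a⁆ * ⁅t, b⁆ := by
      rw [show ⁅t, a * b⁆ = ⁅t, a⁆ * (a * ⁅t, b⁆ * a⁻¹) by
        simp [commutatorElement_def, mul_assoc], mem_center_iff.1 (hcomm t b) a,
        mul_inv_cancel_right]
    rw [e, hψmul _ (hcomm _ _) _ (hcomm _ _)]
  let R : Subgroup T :=
    { carrier := {a | ∀ t : T, ψ ⁅t, a⁆ = 1}
      one_mem' := fun t => by simp [hψ1]
      mul_mem' := fun {a b} ha hb t => by rw [hbr, ha t, hb t, one_mul]
      inv_mem' := fun {a} ha t => by
        have h := hbr a a⁻¹ t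
        rw [mul_inv_cancel, ha t, one_mul, commutatorElement_one_right, hψ1] at h
        exact h.symm }
  have hdR : d ∉ R := fun h => hψc (h x₀)
  have hZR : center T ≤ R := fun z hz t => by
    rw [show ⁅t, z⁆ = 1 from commutatorElement_eq_one_iff_mul_comm.2 (mem_center_iff.1 hz t), hψ1]
  let L : Submodule K U :=
    { carrier := {w | ∀ z ∈ center T, ρ z w = ψ z • w}
      zero_mem' := fun z _ => by simp
      add_mem' := fun {a b} ha hb z hz => by rw [map_add, ha z hz, hb z hz, smul_add]
      smul_mem' := fun s {a} ha z hz => by rw [map_smul, ha z hz, smul_comm] }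
  have hLT : ∀ s : T, ∀ w ∈ L, ρ s w ∈ L := fun s w hw z hz => by
    rw [← Module.End.mul_apply, ← map_mul, ← mem_center_iff.1 hz s, map_mul, Module.End.mul_apply,
      hw z hz, map_smul]
  have hAL : ∀ g ∈ A, ∀ w ∈ L, σU g w ∈ L := fun g hg w hw z hz => by
    have h1 := hcompat g z w
    rw [hfix g hg z hz, hw z hz, map_smul] at h1
    exact h1.symm
  -- `x` moves the weight space
  obtain ⟨v, hvL, hv⟩ : ∃ v ∈ L, σU x v ≠ v := by
    by_contra h
    push Not at h
    have hd1 : ∀ w ∈ L, ρ d w = w := by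
      intro w hw
      have h1 := hcompat x t w
      rw [h _ (hLT t w hw), h w hw] at h1
      rw [hd, map_mul, Module.End.mul_apply, ← h1, ← Module.End.mul_apply, ← map_mul,
        inv_mul_cancel, map_one, Module.End.one_apply]
    have hd2 : ∀ w ∈ L, ρ d⁻¹ w = w := fun w hw => by
      nth_rw 1 [← hd1 w hw]
      rw [← Module.End.mul_apply, ← map_mul, inv_mul_cancel, map_one, Module.End.one_apply]
    have h2 : ρ c₀ v₀ = v₀ := by
      rw [hc₀, commutatorElement_def, map_mul, map_mul, map_mul, Module.End.mul_apply,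
        Module.End.mul_apply, Module.End.mul_apply, hd2 v₀ hψv, hd1 _ (hLT _ v₀ hψv),
        ← Module.End.mul_apply, ← map_mul, mul_inv_cancel, map_one, Module.End.one_apply]
    rw [hψv c₀ (hcomm _ _)] at h2
    exact hψc (smul_left_injective K hv₀ (h2.trans (one_smul K v₀).symm))
  -- every element fixes the weight
  have hstab : ∀ b : P, ∀ z ∈ center T, ψ (φ b z) = ψ z := by
    intro b
    by_contra hb
    push Not at hb
    obtain ⟨z₁, hz₁, hne₁⟩ := hb
    have hb2 : ∃ z ∈ center T, ψ (φ (b ^ 2) z) ≠ ψ z := by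
      by_contra h
      push Not at h
      have hgen : ∀ k : ℕ, ∀ z ∈ center T, ψ (φ ((b ^ 2) ^ k) z) = ψ z := by
        intro k
        induction k with
        | zero => intro z _; simp
        | succ k ih =>
          intro z hz
          rw [pow_succ', map_mul, MulAut.mul_apply, h _ (hcen _ z hz), ih z hz]
      obtain ⟨l, hl⟩ := hP b
      obtain ⟨c, hc⟩ : Odd (p ^ l) := (hp3 ▸ (by decide : Odd 3) : Odd p).pow
      have := hgen (c + 1) z₁ hz₁
      rw [← pow_mul, show 2 * (c + 1) = p ^ l + 1 by omega, pow_succ, hl, one_mul] at this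
      exact hne₁ this
    obtain ⟨z₂, hz₂, hne₂⟩ := hb2
    have hkey : ∀ (g : P) (z : T), z ∈ center T → ∀ w ∈ L,
        ρ (φ g z) (σU g w) = ψ z • σU g w := fun g z hz w hw => by
      rw [← hcompat, hw z hz, map_smul]
    set D := σU x - 1 with hD
    have hcomX : ∀ z ∈ center T, ∀ w, ρ z (D w) = D (ρ z w) := fun z hz w => by
      have := hcompat x z w
      rw [hfix x hxA z hz] at this
      rw [hD, LinearMap.sub_apply, LinearMap.sub_apply, Module.End.one_apply, Module.End.one_apply,
        map_sub, this]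
    have h0 := LinearMap.congr_fun (hcub x hxA b b) v
    have e : (σU b - 1) ((σU b - 1) v) = σU (b ^ 2) v - σU b v - σU b v + v := by
      simp [pow_two, Module.End.mul_apply]
      abel
    rw [Module.End.mul_apply, Module.End.mul_apply, LinearMap.zero_apply, ← hD, e, map_add, map_sub,
      map_sub] at h0
    set w0 := D v with hw0
    set w1 := D (σU b v) with hw1
    set w2 := D (σU (b ^ 2) v) with hw2
    -- apply two separating operators
    have e0 : ∀ z ∈ center T, ρ z w0 = ψ z • w0 := fun z hz => by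
      rw [hw0, hcomX z hz, hvL z hz, map_smul]
    have e1 : ∀ z ∈ center T, ρ (φ b z) w1 = ψ z • w1 := fun z hz => by
      rw [hw1, hcomX _ (hcen b z hz), hkey b z hz v hvL, map_smul]
    have e2 : ∀ z ∈ center T, ρ (φ (b ^ 2) z) w2 = ψ z • w2 := fun z hz => by
      rw [hw2, hcomX _ (hcen _ z hz), hkey _ z hz v hvL, map_smul]
    have hsum : w2 = w1 + w1 - w0 := by
      rw [← sub_eq_zero, ← h0]; abel
    have h1 := e2 z₂ hz₂
    rw [hsum, map_sub, map_add, e0 _ (hcen _ z₂ hz₂)] at h1
    -- `w1` splits off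
    have hq : ∀ z ∈ center T, ρ z w1 = ψ (φ b⁻¹ z) • w1 := fun z hz => by
      have := e1 _ (hcen b⁻¹ z hz)
      rwa [← MulAut.mul_apply, ← map_mul, mul_inv_cancel, map_one, MulAut.one_apply] at this
    rw [hq _ (hcen _ z₂ hz₂)] at h1
    set α := ψ (φ b⁻¹ (φ (b ^ 2) z₂))
    have h2 : (α + α - ψ z₂ - ψ z₂) • w1 = (ψ (φ (b ^ 2) z₂) - ψ z₂) • w0 := by
      rw [← sub_eq_zero]
      rw [← sub_eq_zero] at h1
      rw [← h1]
      module
    have h3 := congrArg (ρ (φ b z₁)) h2
    rw [map_smul, map_smul, e1 z₁ hz₁, e0 _ (hcen b z₁ hz₁), smul_comm, h2, smul_smul, smul_smul,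
      ← sub_eq_zero, ← sub_smul] at h3
    refine hv (sub_eq_zero.1 ((smul_eq_zero.1 h3).resolve_left ?_))
    rw [mul_comm _ (ψ (φ b z₁)), ← sub_mul]
    exact mul_ne_zero (sub_ne_zero.2 hne₁.symm) (sub_ne_zero.2 hne₂)
  haveI hRn : R.Normal := ⟨fun a ha g => by
    rw [show g * a * g⁻¹ = ⁅g, a⁆ * a by simp [commutatorElement_def, mul_assoc]]
    exact R.mul_mem (hZR (hcomm _ _)) ha⟩
  letI : CommGroup (T ⧸ R) :=
    { (inferInstance : Group (T ⧸ R)) with
      mul_comm := fun a b => by
        induction a using QuotientGroup.induction_on with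
        | H a =>
          induction b using QuotientGroup.induction_on with
          | H b =>
            rw [← QuotientGroup.mk_mul, ← QuotientGroup.mk_mul, QuotientGroup.eq]
            rw [show (a * b)⁻¹ * (b * a) = ⁅b⁻¹, a⁻¹⁆ by simp [commutatorElement_def, mul_assoc]]
            exact hZR (hcomm _ _) }
  haveI : Module (ZMod q) (Additive (T ⧸ R)) := AddCommGroup.zmodModule fun w => by
    obtain ⟨a, ha⟩ := QuotientGroup.mk_surjective w.toMul
    change Additive.ofMul (w.toMul ^ q) = 0
    rw [← ha, ← QuotientGroup.mk_pow, (QuotientGroup.eq_one_iff _).2 (hZR (hpow a))]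
    rfl
  haveI : Module.Finite (ZMod q) (Additive (T ⧸ R)) := Module.Finite.of_finite
  let cls : T → Additive (T ⧸ R) := fun a => Additive.ofMul (QuotientGroup.mk a)
  have hcls0 : ∀ {a : T}, cls a = 0 ↔ a ∈ R := fun {a} => QuotientGroup.eq_one_iff a
  have hclsdiv : ∀ a b : T, cls (a⁻¹ * b) = cls b - cls a := fun a b => by
    change Additive.ofMul ((QuotientGroup.mk a : T ⧸ R)⁻¹ * QuotientGroup.mk b) = _
    rw [mul_comm, ← div_eq_mul_inv]; rfl
  have hRinv : ∀ g : P, ∀ a ∈ R, φ g a ∈ R := by
    intro g a ha s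
    obtain ⟨s, rfl⟩ := (φ g).surjective s
    rw [← map_commutatorElement, hstab g _ (hcomm s a)]
    exact ha s
  have hclssurj : Function.Surjective cls := fun w => by
    obtain ⟨a, ha⟩ := QuotientGroup.mk_surjective w.toMul
    exact ⟨a, congrArg Additive.ofMul ha⟩
  let f : P →* Module.End (ZMod q) (Additive (T ⧸ R)) :=
    { toFun := fun g => AddMonoidHom.toZModLinearMap q (MonoidHom.toAdditive
        (QuotientGroup.map R R (φ g).toMonoidHom (fun a ha => hRinv g a ha)))
      map_one' := LinearMap.ext fun w => by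
        obtain ⟨a, rfl⟩ := hclssurj w
        change cls (φ (1 : P) a) = cls a
        simp
      map_mul' := fun g g' => LinearMap.ext fun w => by
        obtain ⟨a, rfl⟩ := hclssurj w
        change cls (φ (g * g') a) = cls (φ g (φ g' a))
        rw [map_mul, MulAut.mul_apply] }
  have hfcls : ∀ (g : P) (a : T), f g (cls a) = cls (φ g a) := fun g a => rfl
  have hTp : ¬ p ∣ Nat.card T := fun hdv => hTK ((CharP.cast_eq_zero_iff K p _).2 hdv)
  let E : P → Submodule (ZMod q) (Additive (T ⧸ R)) := fun g => LinearMap.range (f g - 1)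
  -- the moved spaces have at most four elements
  have hplane : ∀ a ∈ A, f a = 1 ∨ (Nat.card (E a) = 4 ∧ ∀ w ∈ E a, f a w = w → w = 0) := by
    intro a ha
    obtain ⟨ψ', ⟨u, huL, hu, hψ'u⟩, -, -, -, hR⟩ := hhb_core_weight (φ a).toMonoidHom (hper a ha) ρ
      (σU a) (by rw [← map_pow, zero_add, pow_one, hAexp a ha, map_one]) (hA2 a ha) hlt (hcompat a)
      hTK hcomm L (fun h => hv₀ (by
        have : v₀ ∈ L := hψv
        rwa [h, Submodule.mem_bot] at this))
      (fun z hz w hw => hLT z w hw)
    have hψeq : ∀ z ∈ center T, ψ' z = ψ z := fun z hz =>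
      smul_left_injective K hu ((hψ'u z hz).symm.trans (huL z hz))
    have hdiff : ∀ s, (f a - 1) (cls s) = cls (s⁻¹ * (⇑(φ a).toMonoidHom)^[p ^ 0] s) := fun s => by
      rw [LinearMap.sub_apply, Module.End.one_apply, hfcls, hclsdiv, pow_zero, Function.iterate_one]
      rfl
    rcases hR R (fun s => forall_congr' fun r => by rw [hψeq _ (hcomm r s)]) with h | ⟨j, hj⟩
    · left
      refine LinearMap.ext fun w => ?_
      obtain ⟨s, rfl⟩ := hclssurj w
      rw [Module.End.one_apply, ← sub_eq_zero]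
      have := hdiff s
      rw [LinearMap.sub_apply, Module.End.one_apply] at this
      rw [this, hcls0]
      exact h s
    right
    obtain rfl : j = 0 := Nat.le_zero.1 hj.le
    set C := closure (Set.range fun s => s⁻¹ * (⇑(φ a).toMonoidHom)^[p ^ 0] s) with hC
    have hrC : ∀ w, w ∈ E a ↔ ∃ e ∈ C, w = cls e := by
      intro w
      constructor
      · rintro ⟨u, rfl⟩
        obtain ⟨s, rfl⟩ := hclssurj u
        exact ⟨_, subset_closure ⟨s, rfl⟩, hdiff s⟩
      · rintro ⟨e, he, rfl⟩
        induction he using Subgroup.closure_induction with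
        | mem y hy =>
          obtain ⟨s, rfl⟩ := hy
          exact ⟨cls s, hdiff s⟩
        | one => exact Submodule.zero_mem _
        | mul y z _ _ hy hz => exact Submodule.add_mem _ hy hz
        | inv y _ hy => exact Submodule.neg_mem _ hy
    refine ⟨?_, ?_⟩
    · let g₀ : C →* T ⧸ R := (QuotientGroup.mk' R).comp C.subtype
      have h1 : g₀.ker = R.subgroupOf C := by
        ext e
        rw [MonoidHom.mem_ker, mem_subgroupOf]
        exact QuotientGroup.eq_one_iff _
      have h2 : Nat.card (E a) = Nat.card g₀.range := by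
        refine Nat.card_congr (Equiv.subtypeEquiv Additive.toMul fun w => ?_)
        rw [hrC]
        exact ⟨fun ⟨e, he, hw⟩ => ⟨⟨e, he⟩, by rw [hw]; rfl⟩,
          fun ⟨e, he⟩ => ⟨e, e.2, congrArg Additive.ofMul he.symm⟩⟩
      rw [h2, ← Subgroup.index_ker, h1, hj.index_eq, hp3]
      norm_num
    · intro w hw hwfix
      obtain ⟨e, he, rfl⟩ := (hrC w).1 hw
      rw [hcls0]
      refine hj.free e he 1 one_pos (by rw [hp3]; norm_num) ?_
      rw [← hcls0, hclsdiv, hit, pow_zero, one_mul, pow_one, ← hfcls, hwfix, sub_self]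
  by_cases hx1 : f x = 1
  · apply hψc
    have h1 : d ∈ R := by
      rw [← hcls0, hd, hclsdiv, ← hfcls, hx1, Module.End.one_apply, sub_self]
    exact h1 x₀
  obtain ⟨hcard, hfree⟩ := (hplane x hxA).resolve_left hx1
  have hcommA : ∀ a ∈ A, ∀ a' ∈ A, f a * f a' = f a' * f a := by
    intro a ha a' ha'
    have hcomU : σU a * σU a' = σU a' * σU a := by
      have e1 := hquad a ha a' ha'
      have e2 := hquad a' ha' a ha
      simp only [sub_mul, mul_sub, one_mul, mul_one] at e1 e2
      rw [← sub_eq_zero]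
      have := e1.trans e2.symm
      rw [← sub_eq_zero] at this
      rw [← this]; abel
    refine LinearMap.ext fun w => ?_
    obtain ⟨s, rfl⟩ := hclssurj w
    rw [Module.End.mul_apply, Module.End.mul_apply, hfcls, hfcls, hfcls, hfcls, ← MulAut.mul_apply,
      ← MulAut.mul_apply, ← map_mul, ← map_mul]
    congr 1
    apply hρ
    refine LinearMap.ext fun u => ?_
    have hcomp : ∀ g : P, ρ (φ g s) * σU g = σU g * ρ s := fun g =>
      LinearMap.ext fun u => (hcompat g s u).symm
    have h1 := hcomp (a * a')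
    have h2 := hcomp (a' * a)
    rw [map_mul σU, hcomU, ← map_mul σU, ← h2] at h1
    have h3 := LinearMap.congr_fun h1 (σU (a' * a)⁻¹ u)
    rwa [Module.End.mul_apply, Module.End.mul_apply, ← Module.End.mul_apply (σU (a' * a)),
      ← map_mul σU, mul_inv_cancel, map_one, Module.End.one_apply] at h3
  -- conjugates of `x` move the same plane
  have hsame : ∀ a ∈ A, f a ≠ 1 → E a = E x := by
    intro a ha ha1
    obtain ⟨hcard', hfree'⟩ := (hplane a ha).resolve_left ha1
    haveI : Finite (E x) := inferInstance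
    have hinvE : ∀ w ∈ E x, f a w ∈ E x := by
      rintro _ ⟨u, rfl⟩
      refine ⟨f a u, ?_⟩
      rw [← Module.End.mul_apply, ← Module.End.mul_apply, sub_mul, mul_sub, hcommA x hxA a ha,
        one_mul, mul_one]
    have hinvE' : ∀ w ∈ E a, f x w ∈ E a := by
      rintro _ ⟨u, rfl⟩
      refine ⟨f x u, ?_⟩
      rw [← Module.End.mul_apply, ← Module.End.mul_apply, sub_mul, mul_sub, hcommA x hxA a ha,
        one_mul, mul_one]
    suffices hle : E x ≤ E a by
      exact (eq_of_le_of_card_le hle (le_of_eq (hcard'.trans hcard.symm))).symm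
    by_contra hle
    have hI : E x ⊓ E a = ⊥ := by
      rw [eq_bot_iff]
      intro w hw
      rw [Submodule.mem_bot]
      by_contra hw0
      apply hle
      suffices h : E x ⊓ E a = E x from h ▸ inf_le_right
      have hsub : Nat.card ↥(E x ⊓ E a) ∣ 4 :=
        hcard ▸ AddSubgroup.card_dvd_of_le (H := (E x ⊓ E a).toAddSubgroup)
          (K := (E x).toAddSubgroup) (fun u hu => hu.1)
      have hge : 2 < Nat.card ↥(E x ⊓ E a) := by
        rw [Nat.card_eq_fintype_card]
        refine Fintype.two_lt_card_iff.2 ⟨⟨0, Submodule.zero_mem _⟩, ⟨w, hw⟩,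
          ⟨f x w, ?_, hinvE' w hw.2⟩, fun h => hw0 (congrArg Subtype.val h).symm, fun h => ?_,
          fun h => hw0 (hfree w hw.1 (congrArg Subtype.val h).symm)⟩
        · obtain ⟨u, hu⟩ := hw.1
          refine ⟨f x u, ?_⟩
          rw [← hu, ← Module.End.mul_apply, ← Module.End.mul_apply, sub_mul, mul_sub, one_mul,
            mul_one]
        · apply hw0
          have h1 : f x w = 0 := (congrArg Subtype.val h).symm
          have h2 := congrArg (f x⁻¹) h1
          rwa [map_zero, ← Module.End.mul_apply, ← map_mul, inv_mul_cancel, map_one,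
            Module.End.one_apply] at h2
      have h4 : Nat.card ↥(E x ⊓ E a) = 4 := by
        have := Nat.le_of_dvd (by norm_num) hsub
        interval_cases h : Nat.card ↥(E x ⊓ E a)
        · norm_num at hsub
        · rfl
      exact eq_of_le_of_card_le inf_le_left (le_of_eq (hcard.trans h4.symm))
    have hfix' : ∀ w ∈ E x, f a w = w := fun w hw => by
      rw [← sub_eq_zero]
      have h1 : f a w - w ∈ E x ⊓ E a := ⟨Submodule.sub_mem _ (hinvE w hw) hw, w, rfl⟩
      rwa [hI, Submodule.mem_bot] at h1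
    -- the product moves both planes
    have hy : x * a ∈ A := A.mul_mem hxA ha
    have hsurj : ∀ w ∈ E x, ∃ u ∈ E x, (f x - 1) u = w := by
      let g : E x → E x := fun u => ⟨f x u - u, ⟨(u : Additive (T ⧸ R)), rfl⟩⟩
      have hg : Function.Injective g := fun u u' h => by
        have h1 := congrArg Subtype.val h
        change f x u - u = f x u' - u' at h1
        have h2 : f x ((u : Additive (T ⧸ R)) - u') = u - u' := by
          rw [map_sub, ← sub_eq_zero]
          rw [← sub_eq_zero] at h1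
          rw [← h1]; abel
        exact Subtype.ext (sub_eq_zero.1 (hfree _ (Submodule.sub_mem _ u.2 u'.2) h2))
      intro w hw
      obtain ⟨u, hu⟩ := (Finite.injective_iff_surjective.1 hg) ⟨w, hw⟩
      exact ⟨u, u.2, congrArg Subtype.val hu⟩
    have hEy : E x ≤ E (x * a) := fun w hw => by
      obtain ⟨u, hu, rfl⟩ := hsurj w hw
      refine ⟨u, ?_⟩
      rw [LinearMap.sub_apply, LinearMap.sub_apply, map_mul, Module.End.mul_apply, hfix' u hu]
    have hy1 : f (x * a) ≠ 1 := fun h => by
      have h0 : E x ≤ ⊥ := hEy.trans (le_of_eq (by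
        change LinearMap.range (f (x * a) - 1) = ⊥
        rw [h, sub_self, LinearMap.range_zero]))
      rw [le_bot_iff] at h0
      rw [h0] at hcard
      simp at hcard
    obtain ⟨hcard'', -⟩ := (hplane _ hy).resolve_left hy1
    have heq : E x = E (x * a) := eq_of_le_of_card_le hEy (le_of_eq (hcard''.trans hcard.symm))
    have hEa : E a ≤ E x := by
      rintro _ ⟨u, rfl⟩
      have h1 : (f (x * a) - 1) u - (f x - 1) (f a u) = (f a - 1) u := by
        simp only [LinearMap.sub_apply, Module.End.one_apply, map_mul, Module.End.mul_apply]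
        abel
      rw [← h1]
      exact Submodule.sub_mem _ (heq ▸ ⟨u, rfl⟩) ⟨_, rfl⟩
    rw [inf_eq_right.2 hEa] at hI
    rw [hI] at hcard'
    simp at hcard'
  -- so `E x` is invariant
  have hEinv : ∀ b : P, ∀ w ∈ E x, f b w ∈ E x := by
    intro b w hw
    have hxb : b * x * b⁻¹ ∈ A := (inferInstance : A.Normal).conj_mem x hxA b
    have h1 : f (b * x * b⁻¹) ≠ 1 := fun h => hx1 (by
      have := congrArg (fun X => f b⁻¹ * X * f b) h
      simpa [← map_mul, mul_assoc] using this)
    rw [← hsame _ hxb h1]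
    obtain ⟨u, rfl⟩ := hw
    refine ⟨f b u, ?_⟩
    rw [← Module.End.mul_apply, ← Module.End.mul_apply, sub_mul, mul_sub, one_mul, mul_one,
      ← map_mul, ← map_mul, show b * x * b⁻¹ * b = b * x by group]
  letI : MulAction P (E x) :=
    { smul := fun b w => ⟨f b w, hEinv b w w.2⟩
      one_smul := fun w => Subtype.ext (by
        change f 1 (w : Additive (T ⧸ R)) = w
        rw [map_one]; rfl)
      mul_smul := fun b c w => Subtype.ext (by
        change f (b * c) (w : Additive (T ⧸ R)) = f b (f c w)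
        rw [map_mul]; rfl) }
  obtain ⟨w, hw, hw0⟩ : ∃ w ∈ E x, w ≠ 0 := Submodule.exists_mem_ne_zero_of_ne_bot fun h => by
    rw [h] at hcard
    simp at hcard
  have h2 := commutator_fixes_four (B := P) (X := E x) (o := 0)
    (fun b => Subtype.ext (map_zero (f b))) hcard (hp3 ▸ hP) (hAB hxA) ⟨w, hw⟩
  exact hw0 (hfree w hw (congrArg Subtype.val h2))

end Cfsg.Agent.FGS73
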