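import Cfsg.Agent.FGS73.DerivedLen
import Cfsg.Agent.Lib.Coprime.Action

/-!
The `p`-length of a `p`-soluble group is at most the derived length of a Sylow `p`-subgroup, `p` odd.
-/

namespace Cfsg.Agent.FGS73

open Subgroup
open scoped commutatorElement TensorProduct

universe u v w

/-- An element of a `p`-subgroup acting trivially on critical subgroups of the invariant Sylow subgroups
of `O_{p'}` is trivial. -/
theorem eq_one_of_critical_actions {H : Type u} [Group H] [Finite H] {p : ℕ} [Fact p.Prime]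
    {F : Type v} [Field F] [CharP F p] {V : Type w} [AddCommGroup V] [Module F V]
    [FiniteDimensional F V] (ρ : H →* Module.End F V) (hρ : Function.Injective ρ)
    (hsol : Cfsg.IsPSolvable p H) (hO : Cfsg.pCore p H = ⊥) (P : Subgroup H) (hP : IsPGroup p P)
    {c : H} (hcP : c ∈ P)
    (hkey : ∀ (q : ℕ) [Fact q.Prime], q ≠ p → ∀ {T : Type u} [Group T] [Finite T] (φ : P →* MulAut T),
      IsPGroup q T → (∀ a b : T, ⁅a, b⁆ ∈ center T) → (∀ t : T, t ^ q ∈ center T) →
      ∀ (ρK : T →* Module.End (AlgebraicClosure F) (AlgebraicClosure F ⊗[F] V)), Function.Injective ρK →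
        (∀ (y : P) (t : T) (w : AlgebraicClosure F ⊗[F] V),
          (Module.End.baseChangeHom F (AlgebraicClosure F) V (ρ y)) (ρK t w) =
            ρK (φ y t) ((Module.End.baseChangeHom F (AlgebraicClosure F) V (ρ y)) w)) →
        ∀ t : T, φ ⟨c, hcP⟩ t = t) :
    c = 1 := by
  classical
  have hp : p.Prime := Fact.out
  obtain ⟨m, hcM⟩ : ∃ m, c ^ p ^ m = 1 := by
    obtain ⟨m, hm⟩ := hP ⟨c, hcP⟩
    exact ⟨m, congrArg Subtype.val hm⟩
  set Q := Cfsg.pPrimeCore p H with hQ
  have hQp : (Nat.card Q).Coprime p := Cfsg.Agent.Thompson.card_pPrimeCore_coprime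
  have hPQ : P ≤ normalizer (Q : Set H) := by rw [normalizer_eq_top]; exact le_top
  have hcop : (Nat.card P).Coprime (Nat.card Q) := by
    obtain ⟨a, ha⟩ := IsPGroup.iff_card.1 hP
    rw [ha]
    exact Nat.Coprime.pow_left _ hQp.symm
  have hPsol : Group.IsSolvable P ∨ Group.IsSolvable Q :=
    Or.inl (haveI := hP.isNilpotent; inferInstance)
  have hcent : ∀ g ∈ Q, c * g = g * c := by
    let C : Subgroup Q := (centralizer {c}).subgroupOf Q
    suffices hC : C = ⊤ by
      intro g hg
      have h1 : (⟨g, hg⟩ : Q) ∈ C := hC ▸ mem_top _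
      exact (mem_centralizer_singleton_iff.1 h1).symm
    rw [← Subgroup.index_eq_one]
    by_contra hne
    obtain ⟨q, hq, hqd⟩ := Nat.exists_prime_and_dvd hne
    haveI := Fact.mk hq
    obtain ⟨S, hS⟩ := Cfsg.Agent.Coprime.exists_invariant_sylow P Q hPQ hcop hPsol q
    have hqp : q ≠ p := by
      rintro rfl
      exact (hp.coprime_iff_not_dvd.1 hQp.symm) (hqd.trans (Subgroup.index_dvd_card C))
    refine S.not_dvd_index (hqd.trans (Subgroup.index_dvd_of_le fun g hg => ?_))
    apply mem_centralizer_singleton_iff.2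
    -- `c` centralises the invariant Sylow subgroup `S`
    set S' := (S : Subgroup Q).map Q.subtype with hS'
    have hS'q : IsPGroup q S' := S.2.map _
    have hgS' : (g : H) ∈ S' := ⟨g, hg, rfl⟩
    obtain ⟨T, hTc, hTcen, hTpow, hTcomm⟩ := Cfsg.Agent.Fus93.exists_critical (p := q) hS'q
    haveI := hTc
    let act : P →* MulAut S' :=
      { toFun := fun y =>
          { toFun := fun s => ⟨(y : H) * s * (y : H)⁻¹,
              (mem_normalizer_iff.1 (hS y.2) s).1 s.2⟩
            invFun := fun s => ⟨(y : H)⁻¹ * s * (y : H), by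
              have := (mem_normalizer_iff.1 (inv_mem (hS y.2)) s).1 s.2
              simpa using this⟩
            left_inv := fun s => Subtype.ext (by simp [mul_assoc])
            right_inv := fun s => Subtype.ext (by simp [mul_assoc])
            map_mul' := fun a b => Subtype.ext (by simp [mul_assoc]) }
        map_one' := by ext s; simp
        map_mul' := fun a b => by ext s; simp [mul_assoc] }
    have hTi : ∀ (y : P), ∀ t ∈ T, act y t ∈ T := fun y =>
      char_invariant (act y).toMonoidHom (act y).bijective T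
    let φ : P →* MulAut T :=
      { toFun := fun y =>
          { toFun := fun t => ⟨act y t, hTi y t t.2⟩
            invFun := fun t => ⟨act y⁻¹ t, hTi y⁻¹ t t.2⟩
            left_inv := fun t => Subtype.ext (by
              change act y⁻¹ (act y (t : S')) = t
              rw [← MulAut.mul_apply, ← map_mul, inv_mul_cancel, map_one]; rfl)
            right_inv := fun t => Subtype.ext (by
              change act y (act y⁻¹ (t : S')) = t
              rw [← MulAut.mul_apply, ← map_mul, mul_inv_cancel, map_one]; rfl)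
            map_mul' := fun a b => Subtype.ext (map_mul (act y) _ _) }
        map_one' := by
          ext t
          change ((act 1 (t : S') : S') : H) = _
          rw [map_one]; rfl
        map_mul' := fun a b => by
          ext t
          change ((act (a * b) (t : S') : S') : H) = _
          rw [map_mul]; rfl }
    -- extend scalars
    let K := AlgebraicClosure F
    haveI : CharP K p := charP_of_injective_algebraMap (algebraMap F K).injective p
    let bc : Module.End F V →* Module.End K (K ⊗[F] V) :=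
      (Module.End.baseChangeHom F K V).toRingHom.toMonoidHom
    let ρK : T →* Module.End K (K ⊗[F] V) := bc.comp (ρ.comp (S'.subtype.comp T.subtype))
    have hρK : Function.Injective ρK := fun a b h =>
      Subtype.ext (Subtype.ext (hρ (baseChangeHom_injective F K V h)))
    let σK : P →* Module.End K (K ⊗[F] V) := bc.comp (ρ.comp P.subtype)
    have hcompat : ∀ (y : P) (t : T) w, σK y (ρK t w) = ρK (φ y t) (σK y w) := by
      intro y t w
      change (bc (ρ y) * bc (ρ ((t : S') : H))) w =
        (bc (ρ ((φ y t : S') : H)) * bc (ρ y)) w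
      rw [← map_mul, ← map_mul, ← map_mul, ← map_mul]
      congr 3
      change (y : H) * ((t : S') : H) = (y : H) * ((t : S') : H) * (y : H)⁻¹ * y
      group
    have hcomm : ∀ a b : T, ⁅a, b⁆ ∈ center T := by
      intro a b
      rw [mem_center_iff]
      intro s
      apply Subtype.ext
      have h1 := mem_centralizer_iff.1 (hTcomm (a : S')⁻¹ (inv_mem a.2) (b : S')) (s : S') s.2
      have h2 : (a : S')⁻¹⁻¹ * ((b : S') * (a : S')⁻¹ * (b : S')⁻¹) = ((⁅a, b⁆ : T) : S') := by
        simp [commutatorElement_def, mul_assoc]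
      rw [h2] at h1
      exact h1
    have hpow : ∀ t : T, t ^ q ∈ center T := fun t => mem_center_iff.2 fun s => Subtype.ext (by
      have h1 := mem_centralizer_iff.1 (hTpow t t.2) (s : S') s.2
      simpa using h1)
    set C' : P := ⟨c, hcP⟩ with hC'
    have hC'c : (C' : H) = c := rfl
    have key := hkey q hqp φ (hS'q.to_subgroup T) hcomm hpow ρK hρK hcompat
    have hTfix : ∀ t ∈ T, act C' t = t := fun t ht => congrArg Subtype.val (key ⟨t, ht⟩)
    set d := (⟨g, hgS'⟩ : S')⁻¹ * act C' ⟨g, hgS'⟩ with hd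
    have hdT : d ∈ T := by
      refine hTcen (mem_centralizer_iff.2 fun t ht => ?_)
      have h1 := hTfix _ ((Subgroup.normal_of_characteristic T).conj_mem t ht ⟨g, hgS'⟩)
      rw [map_mul, map_mul, map_inv, hTfix t ht] at h1
      rw [hd]
      symm
      calc (⟨g, hgS'⟩ : S')⁻¹ * act C' ⟨g, hgS'⟩ * t
          = (⟨g, hgS'⟩ : S')⁻¹ * (act C' ⟨g, hgS'⟩ * t * (act C' ⟨g, hgS'⟩)⁻¹) *
              act C' ⟨g, hgS'⟩ := by group
        _ = t * ((⟨g, hgS'⟩ : S')⁻¹ * act C' ⟨g, hgS'⟩) := by rw [h1]; group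
    have hit : ∀ k : ℕ, act (C' ^ k) ⟨g, hgS'⟩ = ⟨g, hgS'⟩ * d ^ k := by
      intro k
      induction k with
      | zero => simp
      | succ k ih =>
        rw [pow_succ', map_mul, MulAut.mul_apply, ih, map_mul, map_pow, hTfix d hdT,
          show act C' ⟨g, hgS'⟩ = ⟨g, hgS'⟩ * d by rw [hd]; group, mul_assoc, ← pow_succ']
    have h1 := hit (p ^ m)
    rw [show C' ^ p ^ m = 1 from Subtype.ext (by
      rw [SubmonoidClass.coe_pow, hC'c]; exact hcM), map_one, MulAut.one_apply, left_eq_mul] at h1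
    obtain ⟨l, hl⟩ := hS'q d
    have h2 := Nat.dvd_gcd (orderOf_dvd_of_pow_eq_one h1) (orderOf_dvd_of_pow_eq_one hl)
    rw [Nat.Coprime.gcd_eq_one (Nat.Coprime.pow _ _ ((Nat.coprime_primes hp hq).2 hqp.symm)),
      Nat.dvd_one, orderOf_eq_one_iff, hd, inv_mul_eq_one] at h2
    have h3 : c * (g : H) * c⁻¹ = g := by
      rw [← hC'c]; exact (congrArg Subtype.val h2).symm
    exact (mul_inv_eq_iff_eq_mul.1 h3).symm
  have hcQ : c ∈ Q := Cfsg.Agent.Thompson.centralizer_pPrimeCore_le hsol hO
    (mem_centralizer_iff.2 fun g hg => (hcent g hg).symm)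
  have h2 : orderOf c ∣ Nat.card Q :=
    (orderOf_coe (⟨c, hcQ⟩ : Q)).symm ▸ orderOf_dvd_natCard (⟨c, hcQ⟩ : Q)
  have h3 := Nat.dvd_gcd (orderOf_dvd_of_pow_eq_one hcM) h2
  rw [(Nat.Coprime.pow_left _ hQp.symm).gcd_eq_one, Nat.dvd_one, orderOf_eq_one_iff] at h3
  exact h3

/-- Derived subgroups of a subgroup, inside the ambient group. -/
def derivedIn {G : Type*} [Group G] (S : Subgroup G) : ℕ → Subgroup G
  | 0 => S
  | k + 1 => ⁅derivedIn S k, derivedIn S k⁆

theorem map_derivedIn {G G' : Type*} [Group G] [Group G'] (f : G →* G') (S : Subgroup G) :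
    ∀ k, (derivedIn S k).map f = derivedIn (S.map f) k
  | 0 => rfl
  | k + 1 => by rw [derivedIn, derivedIn, map_commutator, map_derivedIn f S k]

theorem derivedIn_eq {G : Type*} [Group G] (S : Subgroup G) :
    ∀ k, (derivedSeries S k).map S.subtype = derivedIn S k
  | 0 => by rw [derivedSeries_zero, ← MonoidHom.range_eq_map, range_subtype]; rfl
  | k + 1 => by rw [derivedIn, derivedSeries_succ, map_commutator, derivedIn_eq S k]

theorem derivedIn_le {G : Type*} [Group G] (S : Subgroup G) (k : ℕ) : derivedIn S k ≤ S := by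
  rw [← derivedIn_eq]; exact map_subtype_le _

theorem derivedIn_conj {G : Type*} [Group G] (S : Subgroup G) (k : ℕ) {s a : G} (hs : s ∈ S)
    (ha : a ∈ derivedIn S k) : s * a * s⁻¹ ∈ derivedIn S k := by
  rw [← derivedIn_eq] at ha ⊢
  obtain ⟨a', ha', rfl⟩ := ha
  exact ⟨_, (inferInstance : (derivedSeries S k).Normal).conj_mem a' ha' ⟨s, hs⟩, rfl⟩

/-- The last derived subgroup of a Sylow subgroup lies in `O_p` if `O_{p'} = 1`, `p` odd. -/
theorem derived_le_pCore {Y : Type*} [Group Y] [Finite Y] {p : ℕ} [Fact p.Prime] (hp2 : p ≠ 2)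
    (hsol : Cfsg.IsPSolvable p Y) (hO : Cfsg.pPrimeCore p Y = ⊥) (S : Sylow p Y) {d : ℕ}
    (hd : derivedIn (S : Subgroup Y) (d + 1) = ⊥) :
    derivedIn (S : Subgroup Y) d ≤ Cfsg.pCore p Y := by
  classical
  have hp : p.Prime := Fact.out
  have hPS : Cfsg.pCore p Y ≤ (S : Subgroup Y) := Cfsg.Agent.Thompson.pCore_le_sylow S
  have hAc : ∀ a ∈ derivedIn (S : Subgroup Y) d, ∀ b ∈ derivedIn (S : Subgroup Y) d,
      a * b = b * a := fun a ha b hb => by
    rw [← commutatorElement_eq_one_iff_mul_comm, ← mem_bot, ← hd]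
    exact commutator_mem_commutator ha hb
  rcases d with _ | k
  · exact fun a ha => Cfsg.Agent.Thompson.centralizer_pCore_le hsol hO
      (mem_centralizer_iff.2 fun b hb => hAc b (hPS hb) a ha)
  set B := derivedIn (S : Subgroup Y) k
  set A := derivedIn (S : Subgroup Y) (k + 1)
  have hBS : B ≤ S := derivedIn_le _ _
  have hAS : A ≤ S := derivedIn_le _ _
  have hAB : A ≤ B := by
    change ⁅B, B⁆ ≤ B
    rw [commutator_le]
    exact fun x hx y hy => B.mul_mem (B.mul_mem (B.mul_mem hx hy) (B.inv_mem hx)) (B.inv_mem hy)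
  let π := QuotientGroup.mk' (Cfsg.pCore p Y)
  let ρ : Y ⧸ Cfsg.pCore p Y →* Module.End (ZMod p) (FratMod p Y) :=
    QuotientGroup.lift _ fratRep pCore_le_ker_fratRep
  have hρ : Function.Injective ρ := by
    rw [← MonoidHom.ker_eq_bot_iff, eq_bot_iff]
    intro a ha
    obtain ⟨g, rfl⟩ := QuotientGroup.mk'_surjective (Cfsg.pCore p Y) a
    rw [mem_bot, QuotientGroup.mk'_apply, QuotientGroup.eq_one_iff, ← ker_fratRep hsol hO]
    exact ha
  haveI : Finite (FratMod p Y) := inferInstanceAs (Finite (Additive _))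
  haveI : Module.Finite (ZMod p) (FratMod p Y) := Module.Finite.of_finite
  -- commutation with an element of `O_p`
  have hstep : ∀ (N : Subgroup Y), (∀ s ∈ (S : Subgroup Y), ∀ n ∈ N, s * n * s⁻¹ ∈ N) → ∀ n ∈ N,
      ∀ u : Cfsg.pCore p Y, ∃ w : Cfsg.pCore p Y, (w : Y) = ⁅n, (u : Y)⁆ ∧ (w : Y) ∈ N ∧
        (fratRep (p := p) n - 1) (fratClass u) = fratClass w := by
    intro N hN n hn u
    have hu : (u : Y) ∈ (S : Subgroup Y) := hPS u.2
    have hwN : ⁅n, (u : Y)⁆ ∈ N := by
      rw [commutatorElement_def, mul_assoc n (u : Y), mul_assoc n]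
      exact N.mul_mem hn (hN _ hu _ (N.inv_mem hn))
    refine ⟨MulAut.conjNormal n u * u⁻¹, ?_, ?_, ?_⟩
    · simp [commutatorElement_def, MulAut.conjNormal_apply]
    · convert hwN using 1
      simp [commutatorElement_def, MulAut.conjNormal_apply]
    · rw [fratClass_mul, LinearMap.sub_apply, Module.End.one_apply, fratRep_class, sub_eq_add_neg]
      rfl
  have hkill : ∀ a ∈ A, ∀ w : Cfsg.pCore p Y, (w : Y) ∈ A →
      (fratRep (p := p) a - 1) (fratClass w) = 0 := fun a ha w hw => by
    rw [LinearMap.sub_apply, Module.End.one_apply, fratRep_class, sub_eq_zero]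
    congr 1
    exact Subtype.ext (by rw [MulAut.conjNormal_apply, hAc a ha w hw, mul_inv_cancel_right])
  have hquad : ∀ a ∈ A, ∀ a' ∈ A, (fratRep (p := p) a - 1) * (fratRep a' - 1) = 0 := by
    intro a ha a' ha'
    refine LinearMap.ext fun x => ?_
    obtain ⟨u, rfl⟩ := fratClass_surjective x
    obtain ⟨w, -, hwA, hw⟩ := hstep A (fun s hs n hn => derivedIn_conj _ _ hs hn) a' ha' u
    rw [Module.End.mul_apply, hw, hkill a ha w hwA, LinearMap.zero_apply]
  have hcub : ∀ a ∈ A, ∀ b ∈ B, ∀ b' ∈ B,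
      (fratRep (p := p) a - 1) * (fratRep b' - 1) * (fratRep b - 1) = 0 := by
    intro a ha b hb b' hb'
    refine LinearMap.ext fun x => ?_
    obtain ⟨u, rfl⟩ := fratClass_surjective x
    obtain ⟨w, -, hwB, hw⟩ := hstep B (fun s hs n hn => derivedIn_conj _ _ hs hn) b hb u
    obtain ⟨w', hw'e, -, hw'⟩ := hstep B (fun s hs n hn => derivedIn_conj _ _ hs hn) b' hb' w
    rw [Module.End.mul_apply, Module.End.mul_apply, hw, hw', hkill a ha w' (by
      rw [hw'e]; exact commutator_mem_commutator hb' hwB), LinearMap.zero_apply]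
  intro x hxA
  rw [← QuotientGroup.eq_one_iff (N := Cfsg.pCore p Y)]
  have hsq : ∀ a ∈ A, (ρ (π a) - 1) ^ 2 = 0 := fun a ha => by rw [pow_two]; exact hquad a ha a ha
  have hexp : ∀ a ∈ A, π a ^ p = 1 := by
    intro a ha
    apply hρ
    rw [map_pow, map_one, ← sub_eq_zero]
    have h2 := congrArg (Polynomial.aeval (ρ (π a))) (sub_pow_char_pow (p := p) (n := 1)
      (Polynomial.X : Polynomial (ZMod p)) 1)
    simp only [pow_one, map_pow, map_sub, Polynomial.aeval_X, map_one, one_pow] at h2
    rw [← h2]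
    exact pow_eq_zero_of_le hp.two_le (hsq a ha)
  by_cases hp3 : p = 3
  swap
  · by_contra hne
    obtain ⟨n₀, q, m, h1, h2, -, -, -, -, hle⟩ := hhb_linear ρ hρ
      (Cfsg.Agent.Thompson.isPSolvable_quotient _ hsol) Cfsg.Agent.Thompson.pCore_quotient_pCore
      (x := π x) (n := 0) (r := 2) (by rw [zero_add, pow_one]; exact hexp x hxA)
      (by rw [pow_zero, pow_one]; exact hne) (hsq x hxA)
      (by rw [zero_add, pow_one]; have := hp.two_le; omega)
    obtain rfl : n₀ = 1 := by omega
    simp only [zero_add, Nat.sub_self, pow_zero, pow_one, one_mul] at hle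
    have := hp.two_le
    omega
  let Bb : Subgroup (Y ⧸ Cfsg.pCore p Y) := B.map π
  have hBb : IsPGroup p Bb := (S.2.to_le hBS).map π
  have hxB : π x ∈ Bb := mem_map_of_mem π (hAB hxA)
  refine eq_one_of_critical_actions ρ hρ (Cfsg.Agent.Thompson.isPSolvable_quotient _ hsol)
    Cfsg.Agent.Thompson.pCore_quotient_pCore Bb hBb hxB ?_
  intro q _ hqp T _ _ φ hTq hcomm hpow ρK hρK hcompat t
  haveI : CharP (AlgebraicClosure (ZMod p)) p :=
    charP_of_injective_algebraMap (algebraMap (ZMod p) (AlgebraicClosure (ZMod p))).injective p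
  let bc : Module.End (ZMod p) (FratMod p Y) →* Module.End (AlgebraicClosure (ZMod p))
      (AlgebraicClosure (ZMod p) ⊗[ZMod p] FratMod p Y) :=
    (Module.End.baseChangeHom (ZMod p) (AlgebraicClosure (ZMod p)) (FratMod p Y)).toRingHom.toMonoidHom
  let σK := bc.comp (ρ.comp Bb.subtype)
  let AB : Subgroup Bb := (A.map π).subgroupOf Bb
  haveI : AB.Normal := by
    refine ⟨fun a ha b => ?_⟩
    obtain ⟨a', ha', he⟩ := ha
    obtain ⟨b', hb', he'⟩ := b.2
    exact ⟨b' * a' * b'⁻¹, derivedIn_conj _ _ (hBS hb') ha', by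
      simp [map_mul, map_inv, he, he']⟩
  have hone : ∀ (g : Y) (y : Bb), π g = y → σK y - 1 =
      Module.End.baseChangeHom (ZMod p) (AlgebraicClosure (ZMod p)) (FratMod p Y) (fratRep g - 1) :=
    fun g y h => by
      rw [map_sub, map_one]
      change bc (ρ (y : Y ⧸ Cfsg.pCore p Y)) - 1 = _
      rw [← h]
      rfl
  refine quad_derived_trivial (A := AB) (x := ⟨π x, hxB⟩) hp3 hqp hBb φ hTq hcomm hpow ρK hρK σK
    hcompat ?_ ?_ ?_ ?_ ⟨x, hxA, rfl⟩ t
  · intro a ha
    have h1 : (commutator Bb).map Bb.subtype = A.map π := by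
      rw [_root_.commutator_def, map_commutator, ← MonoidHom.range_eq_map, range_subtype]
      exact (map_commutator B B π).symm
    have ha' : Bb.subtype a ∈ A.map π := ha
    rw [← h1] at ha'
    obtain ⟨c, hc, hca⟩ := ha'
    rwa [← Subtype.ext (a2 := a) hca]
  · intro a ha
    obtain ⟨a', ha', he⟩ := ha
    apply Subtype.ext
    rw [SubmonoidClass.coe_pow, ← show π a' = (a : Y ⧸ Cfsg.pCore p Y) from he]
    exact hexp a' ha'
  · intro y ⟨a, ha, he⟩ y' ⟨a', ha', he'⟩
    rw [hone a y he, hone a' y' he', ← map_mul, hquad a ha a' ha', map_zero]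
  · intro y ⟨a, ha, he⟩ z z'
    obtain ⟨b, hb, hbe⟩ := z.2
    obtain ⟨b', hb', hbe'⟩ := z'.2
    rw [hone a y he, hone b z hbe, hone b' z' hbe', ← map_mul, ← map_mul,
      hcub a ha b hb b' hb', map_zero]

/-- The `p`-length is at most the derived length, `p` odd. -/
theorem plength_le_derived {G : Type*} [Group G] [Finite G] {p : ℕ} [Fact p.Prime] (hp2 : p ≠ 2)
    (hsol : Cfsg.IsPSolvable p G) (P : Sylow p G) {d : ℕ}
    (hd : derivedSeries ↥(P : Subgroup G) d = ⊥) : Cfsg.PLengthLE p d G := by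
  suffices H : ∀ k j, k + j = d →
      derivedIn (P : Subgroup G) j ≤ (Cfsg.upperPSeries p G (2 * k + 1)).1 by
    refine plength_of_upper fun g hg => ?_
    obtain ⟨l, hl⟩ := hg
    have hZ : IsPGroup p (zpowers g) := fun x => by
      obtain ⟨x, i, rfl⟩ := x
      refine ⟨l, Subtype.ext ?_⟩
      change (g ^ i) ^ p ^ l = 1
      rw [← zpow_natCast, ← zpow_mul, mul_comm i, zpow_mul, zpow_natCast, hl, one_zpow]
    obtain ⟨S, hS⟩ := hZ.exists_le_sylow
    obtain ⟨c, hc⟩ := MulAction.exists_smul_eq G P S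
    obtain ⟨s, hs, hsg⟩ : ∃ s ∈ (P : Subgroup G), c * s * c⁻¹ = g := by
      have := hS (mem_zpowers g)
      rw [← hc, Sylow.smul_def] at this
      obtain ⟨s, hs, e⟩ := this
      exact ⟨s, hs, e⟩
    rw [← hsg]
    exact (Cfsg.upperPSeries p G (2 * d + 1)).2.conj_mem s (H d 0 (by omega) hs) c
  intro k
  induction k with
  | zero =>
    intro j hj
    rw [← derivedIn_eq, show j = d by omega, hd, Subgroup.map_bot]
    exact bot_le
  | succ k ih =>
    intro j hj g hg
    refine upper_step k ?_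
    set U := (Cfsg.upperPSeries p G (2 * k + 1)).1
    refine derived_le_pCore hp2 (Cfsg.Agent.Thompson.isPSolvable_quotient U hsol)
      (Cfsg.Agent.PLocalB.pPrimeCore_quotient_upperPSeries k)
      (P.mapSurjective (QuotientGroup.mk'_surjective U)) (d := j) ?_ ?_
    · change derivedIn ((P : Subgroup G).map (QuotientGroup.mk' U)) (j + 1) = ⊥
      rw [← map_derivedIn, Subgroup.map_eq_bot_iff, QuotientGroup.ker_mk']
      exact ih (j + 1) (by omega)
    · change QuotientGroup.mk' U g ∈ derivedIn ((P : Subgroup G).map (QuotientGroup.mk' U)) j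
      rw [← map_derivedIn]
      exact mem_map_of_mem _ hg

end Cfsg.Agent.FGS73
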