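import Cfsg.Agent.FGS73.HH

/-!
The equality case of the Hall–Higman count: `S` lies in the algebra spanned by the group and has
every eigenvalue other than `1`.
-/

namespace Cfsg.Agent.FGS73

open Module Subgroup
open scoped commutatorElement

variable {K : Type*} [Field K] {U : Type*} [AddCommGroup U] [Module K U]
  {E : Type*} [Group E] {ρ : E →* Module.End K U} {Z : Subgroup E} {ψ : E → K} {η : E →* E}
  {S : Module.End K U} {N : ℕ}

theorem HHBase.avg_scalar (h : HHBase ρ Z ψ η S N) [Fintype E] [Nontrivial U] (e : E) :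
    ∃ c : K, ∑ u : E, ρ u * ρ e * ρ u⁻¹ = c • 1 := by
  classical
  have h1 : ∑ u : E, ρ u * ρ e * ρ u⁻¹ = (∑ u : E, ψ ⁅u, e⁆) • ρ e := by
    rw [Finset.sum_smul]
    exact Finset.sum_congr rfl fun u _ => by rw [← map_mul, ← map_mul, h.conj_eq]
  by_cases he : e ∈ Z
  · exact ⟨(∑ u : E, ψ ⁅u, e⁆) * ψ e, by rw [h1, h.scalar e he, smul_smul]⟩
  · exact ⟨0, by rw [h1, (h.sum_psi_commutator e).2 he, zero_smul, zero_smul]⟩

theorem trace_conj_eq [FiniteDimensional K U] (ρ : E →* Module.End K U) (u e : E) :
    LinearMap.trace K U (ρ (u * e * u⁻¹)) = LinearMap.trace K U (ρ e) := by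
  rw [map_mul, LinearMap.trace_mul_comm, ← map_mul]
  congr 2
  group

theorem HHBase.trace_eq (h : HHBase ρ Z ψ η S N) [Fintype E] [FiniteDimensional K U] [Nontrivial U]
    (e : E) [Decidable (e ∈ Z)] :
    LinearMap.trace K U (ρ e) = if e ∈ Z then ψ e * (finrank K U : K) else 0 := by
  split_ifs with he
  · rw [h.scalar e he, map_smul, LinearMap.trace_one, smul_eq_mul]
  · obtain ⟨u, hu⟩ := h.nondeg e he
    have h1 := trace_conj_eq ρ u e
    rw [h.conj_eq, map_smul, smul_eq_mul] at h1
    by_contra hne
    exact hu ((mul_eq_right₀ hne).1 h1)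

theorem HHData.eq_smul_of_pow [IsAlgClosed K] [FiniteDimensional K U] (T : Module.End K U)
    (t : K) (ht : ∀ c, T.HasEigenvalue c → c = t) (ht0 : t ≠ 0) {n : ℕ} (hn : (n : K) ≠ 0)
    (c : K) (hT : T ^ n = c • 1) : T = t • 1 := by
  have hM : ∀ w, (T - t • 1) ((T - t • 1) w) = 0 → (T - t • 1) w = 0 := by
    intro w hw
    set v := (T - t • (1 : Module.End K U)) w with hv
    have hTv : T v = t • v := sub_eq_zero.1 hw
    have hTw : T w = t • w + v := by rw [hv]; simp
    have hpow : ∀ i : ℕ, (T ^ i) w = t ^ i • w + ((i : K) * t ^ (i - 1)) • v := by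
      intro i
      induction i with
      | zero => simp
      | succ i ih =>
        rw [pow_succ', Module.End.mul_apply, ih, map_add, map_smul, map_smul, hTw, hTv, smul_add,
          smul_smul, smul_smul, add_assoc, ← add_smul, ← pow_succ, Nat.add_sub_cancel]
        congr 2
        cases i with
        | zero => simp
        | succ i => rw [Nat.succ_sub_one]; push_cast; ring
    by_contra hv0
    have h1 : (T ^ n) v = t ^ n • v := by
      have : ∀ i : ℕ, (T ^ i) v = t ^ i • v := by
        intro i
        induction i with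
        | zero => simp
        | succ i ih => rw [pow_succ', Module.End.mul_apply, ih, map_smul, hTv, smul_smul, ← pow_succ]
      exact this n
    rw [hT, LinearMap.smul_apply, Module.End.one_apply] at h1
    have hc : c = t ^ n := smul_left_injective K hv0 h1
    have h2 := hpow n
    rw [hT, LinearMap.smul_apply, Module.End.one_apply, hc, left_eq_add, smul_eq_zero] at h2
    exact mul_ne_zero hn (pow_ne_zero _ ht0) (h2.resolve_right hv0)
  have htop : T.maxGenEigenspace t = ⊤ := by
    rw [eq_top_iff, ← Module.End.iSup_maxGenEigenspace_eq_top T]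
    refine iSup_le fun c => ?_
    by_cases hc : c = t
    · rw [hc]
    · intro w hw
      by_contra hne
      refine hc (ht c ?_)
      refine Module.End.hasEigenvalue_of_hasGenEigenvalue (k := finrank K U) ?_
      intro hbot
      rw [← Module.End.maxGenEigenspace_eq_genEigenspace_finrank] at hbot
      rw [hbot, Submodule.mem_bot] at hw
      exact hne (hw ▸ Submodule.zero_mem _)
  refine sub_eq_zero.1 (LinearMap.ext fun w => ?_)
  have hw : w ∈ T.maxGenEigenspace t := htop ▸ Submodule.mem_top
  rw [Module.End.mem_maxGenEigenspace] at hw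
  obtain ⟨k, hk⟩ := hw
  rw [LinearMap.zero_apply]
  induction k with
  | zero =>
    rw [pow_zero, Module.End.one_apply] at hk
    rw [hk, map_zero]
  | succ k ih =>
    cases k with
    | zero => simpa using hk
    | succ k =>
      apply ih
      rw [pow_succ', Module.End.mul_apply] at hk ⊢
      rw [pow_succ', Module.End.mul_apply] at hk
      exact hM _ hk

/-- The equality case. -/
theorem HHData.exact (h : HHData ρ Z ψ η S N) [IsAlgClosed K] [FiniteDimensional K U]
    [Nontrivial U] [Finite E] (hE : (Nat.card E : K) ≠ 0) (hN : (N : K) ≠ 0) (hidx : Z.index ≠ 1) :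
    Z.index = (N - 1) ^ 2 ∧ 3 ≤ N ∧ (∀ X, (∀ e, ρ e * X = X * ρ e) → S * X = X * S) ∧
      ∀ c : K, c ^ N = 1 → c ≠ 1 → ∃ w, w ≠ 0 ∧ S w = c • w := by
  classical
  cases nonempty_fintype E
  have hN0 : 0 < N := Nat.pos_of_ne_zero fun h => hN (by simp [h])
  have hE' : (Fintype.card E : K) ≠ 0 := by rwa [← Nat.card_eq_fintype_card]
  have hcst := cst_ne_zero (K := K) (Z := Z) hE'
  have hkey : ∀ t, (inter ρ η * S).HasEigenvalue t →
      t * ((Nat.card Z : K) * ((N - 1 : ℕ) : K)) = -((Fintype.card E * Nat.card Z : ℕ) : K) ∧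
      Z.index = (N - 1) ^ 2 ∧ 3 ≤ N ∧ ∀ c : K, c ^ N = 1 → c ≠ 1 → ∃ w, w ≠ 0 ∧ S w = c • w := by
    intro t ht
    obtain ⟨M, _, ρM, SM, hρM, hSM, hMt, hsimple, hdata⟩ := h.exists_simple hN0 hE' ht
    obtain ⟨h1, h2, h3, h4⟩ := hdata.bound_simple hsimple hE hN
    have hd1 : 2 ≤ finrank K M := by
      rcases Nat.lt_or_ge (finrank K M) 2 with hlt | hge
      · have hpos : 0 < finrank K M := Module.finrank_pos
        rw [show finrank K M = 1 by omega, one_pow] at h1
        exact absurd h1.symm hidx
      · exact hge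
    have hle : finrank K M ≤ finrank K (commutant SM) := by
      obtain ⟨m, hm1, hm2, -⟩ := eigen_data SM hN hdata.pow_eq hdata.fixed
      exact hm1.trans ((Finset.sum_le_sum fun c _ => Nat.le_self_pow two_ne_zero _).trans hm2)
    obtain ⟨f, hf⟩ := h2
    rw [hf, Nat.mul_div_cancel_left _ hN0] at h4
    set d := finrank K M
    have hidx' : d ^ 2 = N * f + 1 := by
      have : 1 ≤ Z.index := Nat.pos_of_ne_zero Subgroup.index_ne_zero_of_finite
      omega
    have hdN : d = N - 1 := by
      have : N * (d - 1) ≤ (d - 1) * (d + 1) := by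
        have e1 : (d - 1) * (d + 1) = d ^ 2 - 1 := by
          obtain ⟨d', hd'⟩ := Nat.exists_eq_succ_of_ne_zero (show d ≠ 0 by omega)
          rw [hd']
          simp only [Nat.succ_eq_add_one, Nat.add_sub_cancel]
          have : (d' + 1) ^ 2 = d' * (d' + 1 + 1) + 1 := by ring
          omega
        rw [e1, hidx', Nat.add_sub_cancel]
        exact Nat.mul_le_mul_left _ (by omega)
      rw [mul_comm (d - 1)] at this
      have := Nat.le_of_mul_le_mul_right this (by omega)
      omega
    have hcomm : finrank K (commutant SM) ≤ N - 1 := by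
      have : N * (f + 1) ≤ N * (N - 1) := by
        rw [Nat.mul_succ, ← hdN]
        have e2 : N = d + 1 := by omega
        rw [e2]
        nlinarith
      have := Nat.le_of_mul_le_mul_left this hN0
      omega
    obtain ⟨htr, hev⟩ := eigen_full SM hN hdata.pow_eq hdata.fixed hdN (by omega) hcomm
    refine ⟨?_, by rw [← h1, hdN], by omega, fun c hc hc1 => ?_⟩
    · have htr' : LinearMap.trace K M (inter' ρM η) = (Nat.card Z : K) * (d : K) := by
        rw [inter', map_sum]
        have hterm : ∀ w : E, LinearMap.trace K M (ρM (η w * w⁻¹)) =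
            if w ∈ Z then (d : K) else 0 := by
          intro w
          rw [hdata.trace_eq]
          by_cases hw : w ∈ Z
          · rw [if_pos hw, if_pos (Z.mul_mem (hdata.inv w hw) (Z.inv_mem hw)),
              hdata.psi_mul (hdata.inv w hw) (Z.inv_mem hw), hdata.scalar_inv w hw,
              ← hdata.psi_mul hw (Z.inv_mem hw), mul_inv_cancel, hdata.psi_one, one_mul]
          · rw [if_neg hw, if_neg]
            intro hm
            apply hw
            refine hdata.free w 1 one_pos (by omega) ?_
            have := Z.mul_mem (hdata.commutator_mem w⁻¹ (η w * w⁻¹)) hm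
            convert this using 1
            simp [commutatorElement_def, mul_assoc]
        rw [Finset.sum_congr rfl fun w _ => hterm w, Finset.sum_ite, Finset.sum_const,
          Finset.sum_const_zero, add_zero, nsmul_eq_mul]
        congr 2
        rw [Nat.card_eq_fintype_card, Fintype.card_subtype]
      have hSM' : ((Fintype.card E * Nat.card Z : ℕ) : K) • SM = t • inter' ρM η := by
        refine LinearMap.ext fun w => Subtype.ext ?_
        have h5 : ∀ x : M, ((inter' ρM η x : M) : U) = inter' ρ η (x : U) := by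
          intro x
          simp [inter', LinearMap.sum_apply, hρM]
        simp only [LinearMap.smul_apply, Submodule.coe_smul, h5, hSM]
        rw [← map_smul (inter' ρ η), ← hMt w, ← Module.End.mul_apply (inter' ρ η),
          h.inter'_mul_inter hN0 h.ne_one]
        simp
      have h6 := congrArg (LinearMap.trace K M) hSM'
      rw [map_smul, map_smul, htr, htr', smul_eq_mul, smul_eq_mul, mul_neg, mul_one] at h6
      rw [← hdN]
      exact h6.symm
    · obtain ⟨w, hw0, hw⟩ := hev c hc hc1
      refine ⟨(w : U), fun h0 => hw0 (Subtype.ext h0), ?_⟩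
      rw [← hSM, hw]
      rfl
  obtain ⟨t₀, ht₀⟩ := Module.End.exists_eigenvalue (inter ρ η * S)
  obtain ⟨hk0, hidx₀, hN3, hev⟩ := hkey t₀ ht₀
  refine ⟨hidx₀, hN3, ?_, hev⟩
  have hne : ((Nat.card Z : K) * ((N - 1 : ℕ) : K)) ≠ 0 := fun h0 => by
    rw [h0, mul_zero] at hk0
    exact hcst (neg_eq_zero.1 hk0.symm)
  have ht0 : t₀ ≠ 0 := fun h0 => by
    rw [h0, zero_mul] at hk0
    exact hcst (neg_eq_zero.1 hk0.symm)
  have huniq : ∀ c, (inter ρ η * S).HasEigenvalue c → c = t₀ := fun c hc =>
    mul_right_cancel₀ hne ((hkey c hc).1.trans hk0.symm)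
  -- the `N`-th power is scalar
  have hAc : ∀ k x, inter ρ η ^ k * ρ ((⇑η)^[k] x) = ρ x * inter ρ η ^ k := by
    intro k
    induction k with
    | zero => intro x; simp
    | succ k ih =>
      intro x
      rw [Function.iterate_succ_apply', pow_succ, mul_assoc, inter_mul, ← mul_assoc, ih, mul_assoc]
  have hspan : ∀ k, ∀ e : E, ∃ c : K,
      ∑ u : E, ρ u * (ρ e * inter ρ η ^ k) * ρ u⁻¹ = c • 1 := by
    intro k
    induction k with
    | zero => intro e; simpa using h.avg_scalar e
    | succ k ih =>
      intro e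
      choose c hc using ih
      refine ⟨∑ w : E, c (e * (w * (η w)⁻¹)), ?_⟩
      rw [Finset.sum_smul]
      simp only [← hc, map_mul ρ e]
      rw [Finset.sum_comm]
      refine Finset.sum_congr rfl fun u _ => ?_
      rw [pow_succ', inter, Finset.sum_mul, Finset.mul_sum, Finset.mul_sum, Finset.sum_mul]
      simp only [mul_assoc]
  obtain ⟨c, hc⟩ := hspan N 1
  have hAN : inter ρ η ^ N = ((Fintype.card E : K)⁻¹ * c) • 1 := by
    have hcomm : ∀ u, ρ u * inter ρ η ^ N = inter ρ η ^ N * ρ u := fun u => by
      conv_rhs => rw [← h.periodic u]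
      rw [hAc]
    have hsum : ∀ u : E, ρ u * (ρ 1 * inter ρ η ^ N) * ρ u⁻¹ = inter ρ η ^ N := fun u => by
      rw [map_one, one_mul, hcomm, mul_assoc, ← map_mul, mul_inv_cancel, map_one, mul_one]
    rw [Finset.sum_congr rfl fun u _ => hsum u, Finset.sum_const, Finset.card_univ,
      ← Nat.cast_smul_eq_nsmul K] at hc
    rw [mul_smul, ← hc, smul_smul, inv_mul_cancel₀ hE', one_smul]
  have hTN : (inter ρ η * S) ^ N = ((Fintype.card E : K)⁻¹ * c) • 1 := by
    have hco : Commute (inter ρ η) S := (h.inter_comm hN0).symm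
    rw [hco.mul_pow, h.pow_eq, mul_one, hAN]
  have hT : inter ρ η * S = t₀ • 1 := HHData.eq_smul_of_pow _ t₀ huniq ht0 hN _ hTN
  intro X hX
  have hS : ((Fintype.card E * Nat.card Z : ℕ) : K) • S = t₀ • inter' ρ η := by
    have h1 := congrArg (inter' ρ η * ·) hT
    simp only [← mul_assoc, h.inter'_mul_inter hN0 h.ne_one, smul_mul_assoc, one_mul, mul_smul_comm,
      mul_one] at h1
    exact h1
  have hX' : inter' ρ η * X = X * inter' ρ η := by
    rw [inter', Finset.sum_mul, Finset.mul_sum]
    exact Finset.sum_congr rfl fun w _ => hX _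
  have h2 : ((Fintype.card E * Nat.card Z : ℕ) : K) • (S * X) =
      ((Fintype.card E * Nat.card Z : ℕ) : K) • (X * S) := by
    rw [← smul_mul_assoc, ← mul_smul_comm, hS, smul_mul_assoc, mul_smul_comm, hX']
  exact smul_right_injective _ hcst h2

end Cfsg.Agent.FGS73
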