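import Cfsg.Agent.FGS73.SGLinear
import Cfsg.Agent.FGS73.HHExact

/-!
The linear core of Gross's theorem on fixed-point-free automorphisms of `2`-power order.
-/

namespace Cfsg.Agent.FGS73

open Subgroup
open scoped commutatorElement

variable {T : Type*} [Group T] [Finite T] {K U : Type*} [Field K] [IsAlgClosed K] [AddCommGroup U]
  [Module K U] [FiniteDimensional K U]

/-- A weight of an invariant subgroup with central image, and its period. -/
theorem exists_weight (σ : T →* T) {p m : ℕ} (hp : p.Prime)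
    (hσp : ∀ x, (⇑σ)^[p ^ (m + 1)] x = x) (ρ : T →* Module.End K U) (S : Module.End K U)
    (hS : ∀ w, S w = w → w = 0) (hSp : S ^ (p ^ (m + 1)) = 1)
    (hcompat : ∀ x w, S (ρ x w) = ρ (σ x) (S w)) (hT : (Nat.card T : K) ≠ 0)
    (Z : Subgroup T) (hZi : ∀ z ∈ Z, σ z ∈ Z) (hZc : ∀ z ∈ Z, ∀ t, ρ z * ρ t = ρ t * ρ z)
    (L : Submodule K U) (hL : L ≠ ⊥) (hLi : ∀ z ∈ Z, ∀ w ∈ L, ρ z w ∈ L) :
    ∃ j, j ≤ m ∧ ∃ (ψ : T → K) (U0 : Submodule K U),
      (∀ w, w ∈ U0 ↔ ∀ z ∈ Z, ρ z w = ψ z • w) ∧ (∀ t, ∀ w ∈ U0, ρ t w ∈ U0) ∧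
      (∀ w ∈ U0, (S ^ p ^ j) w ∈ U0) ∧ (∀ w ∈ U0, (S ^ p ^ j) w = w → w = 0) ∧
      (∃ v ∈ L, v ∈ U0 ∧ v ≠ 0) ∧ (∀ a ∈ Z, ∀ b ∈ Z, ψ (a * b) = ψ a * ψ b) ∧ ψ 1 = 1 ∧
      (∀ z ∈ Z, ψ ((⇑σ)^[p ^ j] z) = ψ z) ∧ (∀ z ∈ Z, ψ ((⇑σ)^[p ^ m] z) = ψ z) := by
  classical
  cases nonempty_fintype T
  set M := p ^ (m + 1) with hM
  have hM0 : 0 < M := pow_pos hp.pos _
  have hhom : ∀ k (a b : T), (⇑σ)^[k] (a * b) = (⇑σ)^[k] a * (⇑σ)^[k] b :=
    fun k a b => iterate_map_mul σ k a b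
  have hZk : ∀ k, ∀ z ∈ Z, (⇑σ)^[k] z ∈ Z := by
    intro k z hz
    induction k with
    | zero => exact hz
    | succ k ih => rw [Function.iterate_succ_apply']; exact hZi _ ih
  have hmulapp : ∀ a b w, ρ (a * b) w = ρ a (ρ b w) := fun a b w => by rw [map_mul]; rfl
  have honeapp : ∀ w, ρ 1 w = w := fun w => by rw [map_one]; rfl
  have hcard : (Nat.card Z : K) ≠ 0 := by
    intro h0
    obtain ⟨b, hb⟩ := card_subgroup_dvd_card Z
    exact hT (by rw [hb, Nat.cast_mul, h0, zero_mul])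
  obtain ⟨χ, v₀, hv₀L, hv₀, hχ⟩ := common_eigen (fun z : Z => ρ (z : T))
    (fun a b => hZc a a.2 b) L hL (fun z => hLi z z.2)
  let Ψ : T → K := fun x => if hx : x ∈ Z then χ ⟨x, hx⟩ else 0
  have hΨ : ∀ z (hz : z ∈ Z), Ψ z = χ ⟨z, hz⟩ := fun z hz => dif_pos hz
  have hΨv : ∀ z ∈ Z, ρ z v₀ = Ψ z • v₀ := fun z hz => by rw [hΨ z hz]; exact hχ ⟨z, hz⟩
  have heigne : ∀ a b : K, a • v₀ = b • v₀ → a = b := fun a b h => smul_left_injective K hv₀ h
  have hΨmul : ∀ a ∈ Z, ∀ b ∈ Z, Ψ (a * b) = Ψ a * Ψ b := by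
    intro a ha b hb
    apply heigne
    rw [← hΨv _ (Z.mul_mem ha hb), hmulapp, hΨv b hb, map_smul, hΨv a ha, smul_smul, mul_comm]
  have hΨ1 : Ψ 1 = 1 := heigne _ _ (by rw [← hΨv 1 (one_mem Z), honeapp, one_smul])
  let per : ℕ → Prop := fun i => ∀ z ∈ Z, Ψ ((⇑σ)^[i] z) = Ψ z
  have hperτ : per (p ^ m) := by
    intro z hz
    let σZ : Z →* Z := (σ.comp Z.subtype).codRestrict Z fun z => hZi z z.2
    have hval : ∀ k (z : Z), (((⇑σZ)^[k] z : Z) : T) = (⇑σ)^[k] (z : T) := by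
      intro k z
      induction k with
      | zero => rfl
      | succ k ih => rw [Function.iterate_succ_apply', Function.iterate_succ_apply', ← ih]; rfl
    have key := end_abelian_linear (ρ.comp Z.subtype) (fun a b => hZc a a.2 b) σZ S hp
      (n := m) (fun e => Subtype.ext (by rw [hval]; exact hσp e)) hSp hS
      (fun e w => hcompat (e : T) w) hcard ⟨z, hz⟩
    have key' : ρ (z⁻¹ * (⇑σ)^[p ^ m] z) = 1 := by
      rw [← hval (p ^ m) ⟨z, hz⟩]
      exact key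
    apply heigne
    rw [← hΨv _ (hZk _ z hz), ← hΨv z hz]
    conv_rhs => rw [← Module.End.one_apply (R := K) v₀, ← key', ← Module.End.mul_apply, ← map_mul,
      mul_inv_cancel_left]
  have hexper : ∃ j, per (p ^ j) := ⟨m, hperτ⟩
  set j := Nat.find hexper with hjdef
  have hj : per (p ^ j) := Nat.find_spec hexper
  have hjm : j ≤ m := Nat.find_min' hexper hperτ
  set B := p ^ j with hB
  have hB0 : 0 < B := pow_pos hp.pos _
  have hBM : B ∣ M := pow_dvd_pow p (by omega)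
  have hBM' : B ≤ M := Nat.le_of_dvd hM0 hBM
  have hperinv : ∀ z ∈ Z, ∃ y ∈ Z, (⇑σ)^[B] y = z := by
    intro z hz
    refine ⟨(⇑σ)^[M - B] z, hZk _ z hz, ?_⟩
    rw [← Function.iterate_add_apply, Nat.add_sub_cancel' hBM', hσp]
  have hSit : ∀ k x w, (S ^ k) (ρ x w) = ρ ((⇑σ)^[k] x) ((S ^ k) w) := by
    intro k
    induction k with
    | zero => intro x w; rfl
    | succ k ih =>
      intro x w
      rw [pow_succ', Module.End.mul_apply, ih, hcompat, Function.iterate_succ_apply',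
        Module.End.mul_apply]
  let U0 : Submodule K U :=
    { carrier := {w | ∀ z ∈ Z, ρ z w = Ψ z • w}
      zero_mem' := fun z _ => by simp
      add_mem' := fun {a b} ha hb z hz => by rw [map_add, ha z hz, hb z hz, smul_add]
      smul_mem' := fun c {a} ha z hz => by rw [map_smul, ha z hz, smul_comm] }
  refine ⟨j, hjm, Ψ, U0, fun w => Iff.rfl, fun t w hw z hz => ?_, fun w hw z hz => ?_, ?_,
    ⟨v₀, hv₀L, hΨv, hv₀⟩, hΨmul, hΨ1, hj, hperτ⟩
  · rw [← Module.End.mul_apply, hZc z hz t, Module.End.mul_apply, hw z hz, map_smul]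
  · obtain ⟨y, hy, rfl⟩ := hperinv z hz
    rw [← hSit, hw y hy, map_smul, hj y hy]
  intro w hw hwS
  have hSk : ∀ k, k ≤ M → ∀ y, ρ y ((S ^ k) w) = (S ^ k) (ρ ((⇑σ)^[M - k] y) w) := by
    intro k hk y
    rw [hSit, ← Function.iterate_add_apply, Nat.add_sub_cancel' hk, hσp]
  have hsum : ∀ z ∈ Z, ∑ i ∈ Finset.range B, Ψ ((⇑σ)^[M - i] z) • (S ^ i) w = 0 := by
    intro z hz
    have h0 : ∑ i ∈ Finset.range B, (S ^ i) w = 0 := by
      apply hS
      rw [map_sum]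
      simp only [← Module.End.mul_apply, ← pow_succ']
      have h1 := Finset.sum_range_succ' (fun i => (S ^ i) w) B
      have h2 := Finset.sum_range_succ (fun i => (S ^ i) w) B
      rw [h1, show (S ^ B) w = (S ^ 0) w by rw [pow_zero]; exact hwS] at h2
      exact add_right_cancel h2
    have h1 := congrArg (ρ z) h0
    rw [map_zero, map_sum] at h1
    rw [← h1]
    refine Finset.sum_congr rfl fun i hi => ?_
    rw [hSk i ((Finset.mem_range.1 hi).le.trans hBM'), hw _ (hZk _ z hz), map_smul]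
  have htot : ∑ i ∈ Finset.range B,
      (∑ z : Z, Ψ ((z : T)⁻¹) * Ψ ((⇑σ)^[M - i] (z : T))) • (S ^ i) w = 0 := by
    simp only [Finset.sum_smul]
    rw [Finset.sum_comm]
    refine Finset.sum_eq_zero fun z _ => ?_
    simp only [mul_smul, ← Finset.smul_sum]
    rw [hsum z z.2, smul_zero]
  rw [Finset.sum_eq_single_of_mem 0 (Finset.mem_range.2 hB0) ?_] at htot
  · have h1 : ∀ z : Z, Ψ ((z : T)⁻¹) * Ψ ((⇑σ)^[M - 0] (z : T)) = 1 := fun z => by
      rw [Nat.sub_zero, hσp, ← hΨmul _ (Z.inv_mem z.2) _ z.2, inv_mul_cancel, hΨ1]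
    simp only [h1, Finset.sum_const, nsmul_eq_mul, mul_one, pow_zero, Module.End.one_apply,
      Finset.card_univ] at htot
    refine (smul_eq_zero.1 htot).resolve_left ?_
    rwa [← Nat.card_eq_fintype_card]
  intro i hi hi0
  rw [Finset.mem_range] at hi
  let χ' : Z →* K :=
    { toFun := fun z => Ψ ((z : T)⁻¹) * Ψ ((⇑σ)^[M - i] (z : T))
      map_one' := by simp [iterate_map_one, hΨ1]
      map_mul' := fun a b => by
        simp only [Subgroup.coe_mul, mul_inv_rev, hhom]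
        rw [hΨmul _ (Z.inv_mem b.2) _ (Z.inv_mem a.2), hΨmul _ (hZk _ _ a.2) _ (hZk _ _ b.2)]
        ring }
  have hχ' : χ' ≠ 1 := by
    intro h1
    have hperMi : per (M - i) := by
      intro z hz
      have h2 : Ψ (z⁻¹) * Ψ ((⇑σ)^[M - i] z) = 1 := DFunLike.congr_fun h1 ⟨z, hz⟩
      calc Ψ ((⇑σ)^[M - i] z) = (Ψ z * Ψ z⁻¹) * Ψ ((⇑σ)^[M - i] z) := by
            rw [← hΨmul _ hz _ (Z.inv_mem hz), mul_inv_cancel, hΨ1, one_mul]
        _ = Ψ z := by rw [mul_assoc, h2, mul_one]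
    have hperi : per i := by
      intro z hz
      have h2 := hperMi _ (hZk i z hz)
      rw [← Function.iterate_add_apply, Nat.sub_add_cancel (hi.le.trans hBM'), hσp] at h2
      exact h2.symm
    have hgcd : ∀ a b, per a → per b → per (Nat.gcd a b) := by
      intro a b
      induction a, b using Nat.gcd.induction with
      | H0 b => intro _ hb; simpa using hb
      | H1 a b _ ih =>
        intro ha hb
        rw [Nat.gcd_rec]
        refine ih ?_ ha
        intro z hz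
        have hq' : ∀ t z, z ∈ Z → Ψ ((⇑σ)^[a * t] z) = Ψ z := by
          intro t
          induction t with
          | zero => intro z _; simp
          | succ t iht =>
            intro z hz
            rw [Nat.mul_succ, Function.iterate_add_apply, iht _ (hZk _ z hz), ha z hz]
        have h3 := hq' (b / a) _ (hZk (b % a) z hz)
        rw [← Function.iterate_add_apply, Nat.add_comm, Nat.mod_add_div, hb z hz] at h3
        exact h3.symm
    obtain ⟨a, -, hga⟩ := (Nat.dvd_prime_pow hp).1 (Nat.gcd_dvd_right i B)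
    have h4 := hgcd i B hperi hj
    rw [hga] at h4
    have h5 : j ≤ a := Nat.find_min' hexper h4
    have h6 : Nat.gcd i B ≤ i := Nat.le_of_dvd (Nat.pos_of_ne_zero hi0) (Nat.gcd_dvd_left i B)
    have h7 : B ≤ p ^ a := Nat.pow_le_pow_right hp.pos h5
    omega
  rw [show ∑ z : Z, Ψ ((z : T)⁻¹) * Ψ ((⇑σ)^[M - i] (z : T)) = 0 from
    sum_hom_units_eq_zero χ' hχ', zero_smul]

omit [Finite T] in
/-- the fixed part and the commutator part generate, for an involution on a group of odd order -/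
theorem exists_fixed_mul (τ : T →* T) (hτ : ∀ x, τ (τ x) = x) (H : Subgroup T)
    (hodd : ∀ x : T, Odd (orderOf x)) (t : T) (ht : t⁻¹ * τ t ∈ H) :
    ∃ y, τ y = y ∧ t⁻¹ * y ∈ H := by
  set x := t⁻¹ * τ t with hx
  have hτx : τ x = x⁻¹ := by rw [hx, map_mul, map_inv, hτ, mul_inv_rev, inv_inv]
  obtain ⟨k, hk⟩ := hodd x
  refine ⟨t * x ^ (k + 1), ?_, by simpa using H.pow_mem ht (k + 1)⟩
  have h1 : τ t = t * x := by rw [hx, mul_inv_cancel_left]
  rw [map_mul, map_pow, hτx, h1, mul_assoc]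
  congr 1
  have h2 : x ^ (k + 1) * x ^ k = 1 := by
    rw [← pow_add, show k + 1 + k = orderOf x by omega, pow_orderOf_eq_one]
  rw [inv_pow, mul_inv_eq_iff_eq_mul, ← pow_add, show k + 1 + (k + 1) = orderOf x + 1 by omega,
    pow_succ, pow_orderOf_eq_one, one_mul]

/-- The core of Gross's theorem. -/
theorem gross_core (hTodd : Odd (Nat.card T)) (σ : T →* T) {n : ℕ}
    (hσp : ∀ x, (⇑σ)^[2 ^ (n + 1)] x = x) (ρ : T →* Module.End K U) (hρ : Function.Injective ρ)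
    (S : Module.End K U) (hS : ∀ w, S w = w → w = 0) (hSp : S ^ (2 ^ (n + 1)) = 1)
    (hcompat : ∀ x w, S (ρ x w) = ρ (σ x) (S w)) (hT : (Nat.card T : K) ≠ 0) (h2 : (2 : K) ≠ 0)
    (hcomm : ∀ a b : T, ⁅a, b⁆ ∈ center T) {x : T} (hx : x ∉ center T) :
    ∃ R : Subgroup T, x ∉ R ∧ center T ≤ R ∧
      (∀ g : T →* T, Function.Surjective g → (∀ z ∈ center T, g z = z) → ∀ t ∈ R, g t ∈ R) ∧
      ((∀ t, t⁻¹ * (⇑σ)^[2 ^ n] t ∈ R) ∨
        ((∀ y, (⇑σ)^[2 ^ n] y = y → y⁻¹ * (⇑σ)^[2 ^ (n - 1)] y ∈ R) ∧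
          ∃ w, (S ^ 2 ^ n) w = w ∧ (S ^ 2 ^ (n - 1)) w ≠ w)) := by
  classical
  cases nonempty_fintype T
  have h2p : Nat.Prime 2 := Nat.prime_two
  set M := 2 ^ (n + 1) with hM
  have hM0 : 0 < M := pow_pos two_pos _
  have hodd : ∀ x : T, Odd (orderOf x) := fun x =>
    hTodd.of_dvd_nat (orderOf_dvd_natCard x)
  have hhom : ∀ k (a b : T), (⇑σ)^[k] (a * b) = (⇑σ)^[k] a * (⇑σ)^[k] b :=
    fun k a b => iterate_map_mul σ k a b
  have hσinv : ∀ k (a : T), (⇑σ)^[k] a⁻¹ = ((⇑σ)^[k] a)⁻¹ := fun k a => iterate_map_inv σ k a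
  have hσbij : ∀ k, Function.Bijective ((⇑σ)^[k]) := by
    intro k
    refine Function.Bijective.iterate ?_ k
    refine Finite.injective_iff_bijective.1 fun a b hab => ?_
    have := congrArg ((⇑σ)^[M - 1]) hab
    rwa [← Function.iterate_succ_apply, ← Function.iterate_succ_apply,
      show (M - 1).succ = M by omega, hσp, hσp] at this
  have hcen : ∀ z ∈ center T, σ z ∈ center T := by
    intro z hz
    rw [mem_center_iff] at hz ⊢
    intro g
    obtain ⟨g', rfl⟩ : ∃ g', σ g' = g := (hσbij 1).2 g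
    rw [← map_mul, ← map_mul, hz]
  have hmulapp : ∀ a b w, ρ (a * b) w = ρ a (ρ b w) := fun a b w => by rw [map_mul]; rfl
  have honeapp : ∀ w, ρ 1 w = w := fun w => by rw [map_one]; rfl
  -- a commutator with no fixed vectors on `L`
  obtain ⟨x₀, hx₀⟩ : ∃ x₀, ⁅x₀, x⁆ ≠ 1 := by
    by_contra h
    push Not at h
    exact hx (mem_center_iff.2 fun g => commutatorElement_eq_one_iff_mul_comm.1 (h g))
  set c₀ := ⁅x₀, x⁆ with hc₀
  let L : Submodule K U := LinearMap.range (ρ c₀ - 1)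
  have hL : L ≠ ⊥ := by
    intro h
    apply hx₀
    apply hρ
    rw [map_one, ← sub_eq_zero, ← LinearMap.range_eq_bot]
    exact h
  have hLfix : ∀ w ∈ L, ρ c₀ w = w → w = 0 := by
    rintro _ ⟨u, rfl⟩ hw
    set d := (ρ c₀ - 1) u with hd
    have hpow : ∀ i : ℕ, ρ (c₀ ^ i) u = u + (i : K) • d := by
      intro i
      induction i with
      | zero => simp [honeapp]
      | succ i ih =>
        rw [pow_succ', hmulapp, ih, map_add, map_smul, hw]
        have : ρ c₀ u = u + d := by simp [hd]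
        rw [this, Nat.cast_succ, add_smul, one_smul]
        abel
    have h1 := hpow (orderOf c₀)
    rw [pow_orderOf_eq_one, honeapp] at h1
    have h2 : ((orderOf c₀ : ℕ) : K) • d = 0 := left_eq_add.1 h1
    refine (smul_eq_zero.1 h2).resolve_left fun h0 => hT ?_
    obtain ⟨b, hb⟩ := orderOf_dvd_natCard c₀
    rw [hb, Nat.cast_mul, h0, zero_mul]
  have hcc : ∀ z ∈ center T, ∀ t, ρ z * ρ t = ρ t * ρ z := fun z hz t => by
    rw [← map_mul, ← map_mul, mem_center_iff.1 hz t]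
  obtain ⟨j₀, hj₀, ψ₀, U0, hU0, hU0T, hU0S, hU0fix, ⟨v₀, hv₀L, hv₀U, hv₀⟩, hψmul, hψ1, hψj, hψτ⟩ :=
    exists_weight σ h2p hσp ρ S hS hSp hcompat hT (center T) hcen hcc L hL (by
      rintro z hz _ ⟨u, rfl⟩
      refine ⟨ρ z u, ?_⟩
      simp only [LinearMap.sub_apply, Module.End.one_apply, map_sub, ← hmulapp,
        mem_center_iff.1 hz c₀])
  have hψc : ψ₀ c₀ ≠ 1 := fun h1 => hv₀ (hLfix v₀ hv₀L (by
    rw [(hU0 v₀).1 hv₀U c₀ (hcomm x₀ x), h1, one_smul]))
  have hψne : ∀ z ∈ center T, ψ₀ z ≠ 0 := fun z hz h0 => by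
    have := hψmul z hz z⁻¹ (inv_mem hz)
    rw [mul_inv_cancel, hψ1, h0, zero_mul] at this
    exact one_ne_zero this
  -- bilinearity
  have hbr : ∀ a b t : T, ψ₀ ⁅t, a * b⁆ = ψ₀ ⁅t, a⁆ * ψ₀ ⁅t, b⁆ := by
    intro a b t
    have e : ⁅t, a * b⁆ = ⁅t, a⁆ * ⁅t, b⁆ := by
      rw [show ⁅t, a * b⁆ = ⁅t, a⁆ * (a * ⁅t, b⁆ * a⁻¹) by
        simp [commutatorElement_def, mul_assoc], mem_center_iff.1 (hcomm t b) a,
        mul_inv_cancel_right]
    rw [e, hψmul _ (hcomm _ _) _ (hcomm _ _)]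
  have hswap : ∀ a b : T, ψ₀ ⁅a, b⁆ = 1 → ψ₀ ⁅b, a⁆ = 1 := by
    intro a b h
    have h1 := hψmul _ (hcomm a b) _ (hcomm b a)
    rwa [← commutatorElement_inv a b, mul_inv_cancel, hψ1, h, one_mul, eq_comm,
      commutatorElement_inv] at h1
  have hbl : ∀ a b t : T, ψ₀ ⁅a * b, t⁆ = ψ₀ ⁅a, t⁆ * ψ₀ ⁅b, t⁆ := by
    intro a b t
    have e : ⁅a * b, t⁆ = ⁅a, t⁆ * ⁅b, t⁆ := by
      rw [show ⁅a * b, t⁆ = a * ⁅b, t⁆ * a⁻¹ * ⁅a, t⁆ by
        simp [commutatorElement_def, mul_assoc], mem_center_iff.1 (hcomm b t) a,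
        mul_inv_cancel_right, mem_center_iff.1 (hcomm a t)]
    rw [e, hψmul _ (hcomm _ _) _ (hcomm _ _)]
  let R : Subgroup T :=
    { carrier := {a | ∀ t : T, ψ₀ ⁅t, a⁆ = 1}
      one_mem' := fun t => by simp [hψ1]
      mul_mem' := fun {a b} ha hb t => by rw [hbr, ha t, hb t, one_mul]
      inv_mem' := fun {a} ha t => by
        have h := hbr a a⁻¹ t
        rw [mul_inv_cancel, ha t, one_mul, commutatorElement_one_right, hψ1] at h
        exact h.symm }
  have hxR : x ∉ R := fun h => hψc (h x₀)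
  have hZR : center T ≤ R := fun z hz t => by
    rw [show ⁅t, z⁆ = 1 from commutatorElement_eq_one_iff_mul_comm.2 (mem_center_iff.1 hz t), hψ1]
  have hRg : ∀ g : T →* T, Function.Surjective g → (∀ z ∈ center T, g z = z) →
      ∀ t ∈ R, g t ∈ R := by
    intro g hg hgz t ht s
    obtain ⟨s, rfl⟩ := hg s
    rw [← map_commutatorElement, hgz _ (hcomm s t)]
    exact ht s
  refine ⟨R, hxR, hZR, hRg, ?_⟩
  have hiterc : ∀ k (a b : T), (⇑σ)^[k] ⁅a, b⁆ = ⁅(⇑σ)^[k] a, (⇑σ)^[k] b⁆ := fun k a b =>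
    map_commutatorElement (MonoidHom.mk' ((⇑σ)^[k]) (hhom k)) a b
  set B₀ := 2 ^ j₀ with hB₀
  have hRB : ∀ a ∈ R, (⇑σ)^[B₀] a ∈ R := by
    intro a ha t
    obtain ⟨s, rfl⟩ := (hσbij B₀).2 t
    rw [← hiterc, hψj _ (hcomm s a), ha s]
  -- the second weight
  let σ₁ : T →* T := MonoidHom.mk' ((⇑σ)^[B₀]) (hhom B₀)
  have hσ₁ : ∀ i y, (⇑σ₁)^[i] y = (⇑σ)^[B₀ * i] y := fun i y => by
    rw [Function.iterate_mul]; rfl
  have hm₀ : B₀ * 2 ^ (n - j₀ + 1) = M := by rw [hB₀, hM, ← pow_add]; congr 1; omega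
  let ρ0 : T →* Module.End K U0 :=
    { toFun := fun t => (ρ t).restrict (hU0T t)
      map_one' := LinearMap.ext fun w => Subtype.ext (honeapp _)
      map_mul' := fun a b => LinearMap.ext fun w => Subtype.ext (hmulapp a b _) }
  let S0 : Module.End K U0 := (S ^ B₀).restrict hU0S
  haveI hU0nt : Nontrivial U0 := ⟨⟨⟨v₀, hv₀U⟩, 0, fun h => hv₀ (congrArg Subtype.val h)⟩⟩
  have hRc : ∀ a ∈ R, ∀ b, ρ0 a * ρ0 b = ρ0 b * ρ0 a := by
    intro a ha b
    refine LinearMap.ext fun w => Subtype.ext ?_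
    change ρ a (ρ b (w : U)) = ρ b (ρ a (w : U))
    have h1 : ρ b (ρ a (w : U)) = ρ ⁅b, a⁆ (ρ a (ρ b (w : U))) := by
      rw [← hmulapp, ← hmulapp, ← hmulapp]
      congr 2
      simp [commutatorElement_def, mul_assoc]
    rw [h1, (hU0 _).1 (hU0T a _ (hU0T b _ w.2)) _ (hcomm b a), ha b, one_smul]
  have hSit : ∀ k x w, (S ^ k) (ρ x w) = ρ ((⇑σ)^[k] x) ((S ^ k) w) := by
    intro k
    induction k with
    | zero => intro x w; rfl
    | succ k ih =>
      intro x w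
      rw [pow_succ', Module.End.mul_apply, ih, hcompat, Function.iterate_succ_apply',
        Module.End.mul_apply]
  have hS0pow : ∀ k (w : U0), (((S0 ^ k) w : U0) : U) = (S ^ (B₀ * k)) (w : U) := by
    intro k w
    induction k with
    | zero => simp
    | succ k ih =>
      rw [pow_succ', Module.End.mul_apply, Nat.mul_succ, Nat.add_comm, pow_add,
        Module.End.mul_apply, ← ih]
      rfl
  obtain ⟨j₁, hj₁, ψ, U00, hU00, hU00T, hU00S, hU00fix, ⟨v₁, -, hv₁U, hv₁⟩, hφmul, hφ1, hφj, -⟩ :=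
    exists_weight σ₁ h2p (m := n - j₀) (fun y => by rw [hσ₁, hm₀]; exact hσp y) ρ0 S0
      (fun w hw => Subtype.ext (hU0fix w w.2 (congrArg Subtype.val hw)))
      (LinearMap.ext fun w => Subtype.ext (by rw [hS0pow, hm₀, hSp]; rfl))
      (fun y w => Subtype.ext (hSit B₀ y (w : U))) hT R hRB hRc ⊤ top_ne_bot
      (fun _ _ _ _ => Submodule.mem_top)
  set m := n + 1 - j₀ - j₁ with hm
  set B := 2 ^ (j₀ + j₁) with hB
  set N := 2 ^ m with hN
  have hBN : B * N = M := by rw [hB, hN, hM, ← pow_add]; congr 1; omega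
  have hB' : B₀ * 2 ^ j₁ = B := by rw [hB₀, hB, pow_add]
  have hφj' : ∀ a ∈ R, ψ ((⇑σ)^[B] a) = ψ a := fun a ha => by
    rw [← hB', ← hσ₁]; exact hφj a ha
  have hRBB : ∀ a ∈ R, (⇑σ)^[B] a ∈ R := by
    intro a ha
    rw [← hB']
    generalize 2 ^ j₁ = t
    induction t with
    | zero => simpa using ha
    | succ t ih => rw [Nat.mul_succ, Nat.add_comm, Function.iterate_add_apply]; exact hRB _ ih
  have hψφ : ∀ z ∈ center T, ψ z = ψ₀ z := by
    intro z hz
    have h1 := congrArg Subtype.val ((hU00 v₁).1 hv₁U z (hZR hz))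
    change ρ z (v₁ : U) = ψ z • (v₁ : U) at h1
    rw [(hU0 _).1 v₁.2 z hz] at h1
    exact (smul_left_injective K (fun h => hv₁ (Subtype.ext h)) h1).symm
  -- `τ`
  let τ : T →* T := MonoidHom.mk' ((⇑σ)^[2 ^ n]) (hhom _)
  have hττ : ∀ y, τ (τ y) = y := by
    intro y
    change (⇑σ)^[2 ^ n] ((⇑σ)^[2 ^ n] y) = y
    rw [← Function.iterate_add_apply, ← two_mul, ← pow_succ']
    exact hσp y
  let E : Subgroup T := closure (Set.range fun t => t⁻¹ * τ t)
  have hEgen : ∀ t, t⁻¹ * τ t ∈ E := fun t => subset_closure ⟨t, rfl⟩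
  by_cases hER : E ≤ R
  · exact Or.inl fun t => hER (hEgen t)
  refine Or.inr ?_
  have hEB : ∀ e ∈ E, (⇑σ)^[B] e ∈ E := by
    intro e he
    have h1 : E ≤ E.comap (MonoidHom.mk' ((⇑σ)^[B]) (hhom B)) := by
      rw [closure_le]
      rintro _ ⟨t, rfl⟩
      refine subset_closure ⟨(⇑σ)^[B] t, ?_⟩
      change ((⇑σ)^[B] t)⁻¹ * (⇑σ)^[2 ^ n] ((⇑σ)^[B] t) = (⇑σ)^[B] (t⁻¹ * (⇑σ)^[2 ^ n] t)
      rw [hhom, hσinv, ← Function.iterate_add_apply, ← Function.iterate_add_apply, Nat.add_comm]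
    exact h1 he
  have hinvτ : ∀ a b, ψ₀ ⁅τ a, τ b⁆ = ψ₀ ⁅a, b⁆ := by
    intro a b
    rw [← map_commutatorElement]
    exact hψτ _ (hcomm a b)
  have hperp : ∀ y, τ y = y → ∀ e ∈ E, ψ₀ ⁅y, e⁆ = 1 := by
    intro y hy e he
    let P : Subgroup T :=
      { carrier := {e | ψ₀ ⁅y, e⁆ = 1}
        one_mem' := by simp [hψ1]
        mul_mem' := fun {a b} ha hb => by
          change ψ₀ ⁅y, a * b⁆ = 1
          rw [hbr, show ψ₀ ⁅y, a⁆ = 1 from ha, show ψ₀ ⁅y, b⁆ = 1 from hb, one_mul]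
        inv_mem' := fun {a} ha => by
          change ψ₀ ⁅y, a⁻¹⁆ = 1
          have h := hbr a a⁻¹ y
          rw [mul_inv_cancel, commutatorElement_one_right, hψ1, show ψ₀ ⁅y, a⁆ = 1 from ha,
            one_mul] at h
          exact h.symm }
    have h1 : E ≤ P := by
      rw [closure_le]
      rintro _ ⟨t, rfl⟩
      change ψ₀ ⁅y, t⁻¹ * τ t⁆ = 1
      have h2 := hinvτ y t
      rw [hy, show τ t = t * (t⁻¹ * τ t) by group, hbr] at h2
      exact (mul_eq_left₀ (hψne _ (hcomm y t))).1 h2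
    exact h1 he
  have hdet : ∀ v ∈ E, (∀ u ∈ E, ψ₀ ⁅u, v⁆ = 1) → v ∈ R := by
    intro v hv hu t
    obtain ⟨y, hy, hty⟩ := exists_fixed_mul τ hττ E hodd t (hEgen t)
    rw [show t = y * (t⁻¹ * y)⁻¹ by group, hbl, hperp y hy v hv, one_mul]
    exact hu _ (inv_mem hty)
  have hdetτ : ∀ v ∈ E, v⁻¹ * τ v ∈ R → v ∈ R := by
    intro v hv hvR
    refine hdet v hv fun u hu => ?_
    let P : Subgroup T :=
      { carrier := {u | ψ₀ ⁅u, v⁆ = 1}
        one_mem' := by simp [hψ1]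
        mul_mem' := fun {a b} ha hb => by
          change ψ₀ ⁅a * b, v⁆ = 1
          rw [hbl, show ψ₀ ⁅a, v⁆ = 1 from ha, show ψ₀ ⁅b, v⁆ = 1 from hb, one_mul]
        inv_mem' := fun {a} ha => by
          change ψ₀ ⁅a⁻¹, v⁆ = 1
          have h := hbl a a⁻¹ v
          rw [mul_inv_cancel, commutatorElement_one_left, hψ1, show ψ₀ ⁅a, v⁆ = 1 from ha,
            one_mul] at h
          exact h.symm }
    have h1 : E ≤ P := by
      rw [closure_le]
      rintro _ ⟨t, rfl⟩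
      change ψ₀ ⁅t⁻¹ * τ t, v⁆ = 1
      have h2 := hinvτ t v
      rw [show τ v = v * (v⁻¹ * τ v) by group, hbr, hvR (τ t), mul_one,
        show τ t = t * (t⁻¹ * τ t) by group, hbl] at h2
      exact (mul_eq_left₀ (hψne _ (hcomm t v))).1 h2
    exact h1 hu
  haveI hU00nt : Nontrivial U00 := ⟨⟨⟨v₁, hv₁U⟩, 0, fun h => hv₁ (congrArg Subtype.val h)⟩⟩
  let ρ00 : T →* Module.End K U00 :=
    { toFun := fun t => (ρ0 t).restrict (hU00T t)
      map_one' := LinearMap.ext fun w => Subtype.ext (by simp)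
      map_mul' := fun a b => LinearMap.ext fun w => Subtype.ext (by simp) }
  let S00 : Module.End K U00 := (S0 ^ 2 ^ j₁).restrict hU00S
  have hS00pow : ∀ k (w : U00), ((((S00 ^ k) w : U00) : U0) : U) = (S ^ (B * k)) ((w : U0) : U) := by
    intro k w
    induction k with
    | zero => simp
    | succ k ih =>
      rw [pow_succ', Module.End.mul_apply, Nat.mul_succ, Nat.add_comm, pow_add,
        Module.End.mul_apply, ← ih, ← hB']
      exact hS0pow (2 ^ j₁) _
  let ηE : E →* E := MonoidHom.mk' (fun e => ⟨(⇑σ)^[B] (e : T), hEB e e.2⟩)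
    (fun a b => Subtype.ext (hhom B _ _))
  have hηit : ∀ i (e : E), (((⇑ηE)^[i] e : E) : T) = (⇑σ)^[B * i] (e : T) := by
    intro i e
    induction i with
    | zero => simp
    | succ i ih =>
      rw [Function.iterate_succ_apply', Nat.mul_succ, Nat.add_comm, Function.iterate_add_apply,
        ← ih]
      rfl
  let σB : T →* T := MonoidHom.mk' ((⇑σ)^[B]) (hhom B)
  have hσB : ∀ i y, (⇑σB)^[i] y = (⇑σ)^[B * i] y := fun i y => by
    rw [Function.iterate_mul]; rfl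
  have hm1 : 1 ≤ m := by omega
  have hdata : HHData (ρ00.comp E.subtype) (R.subgroupOf E) (fun e => ψ (e : T)) ηE S00 N := by
    refine
      { mem_center := fun z hz u => ?_
        commutator_mem := fun u v => hZR (hcomm u v)
        scalar := fun z hz => ?_
        nondeg := fun v hv => ?_
        periodic := fun e => Subtype.ext (by rw [hηit, hBN]; exact hσp e)
        inv := fun z hz => hRBB _ hz
        scalar_inv := fun z hz => hφj' _ hz
        free := fun v i hi hiN hv => ?_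
        pow_eq := LinearMap.ext fun w => Subtype.ext (Subtype.ext ?_)
        compat := fun e w => Subtype.ext (Subtype.ext ?_)
        fixed := fun w hw => Subtype.ext (hU00fix w w.2 (congrArg Subtype.val hw)) }
    · rw [map_mul, map_mul]
      refine LinearMap.ext fun w => Subtype.ext ?_
      exact LinearMap.congr_fun (hRc (z : T) hz (u : T)) (w : U0)
    · refine LinearMap.ext fun w => Subtype.ext ?_
      exact (hU00 (w : U0)).1 w.2 (z : T) hz
    · by_contra hcon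
      push Not at hcon
      apply hv
      refine hdet v v.2 fun u hu => ?_
      have h1 := hcon ⟨u, hu⟩
      rwa [show (((⁅(⟨u, hu⟩ : E), v⁆ : E) : T)) = ⁅u, (v : T)⁆ from rfl, hψφ _ (hcomm _ _)] at h1
    · refine hdetτ v v.2 ?_
      have h1 : (v : T)⁻¹ * (⇑σB)^[i] (v : T) ∈ R := by
        rw [hσB, ← hηit]
        exact hv
      have h3 := period_reduce σB R hRBB (p := 2) (n := m - 1)
        (fun e => by rw [show m - 1 + 1 = m by omega, hσB, hBN]; exact hσp e) h2p hi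
        (by rwa [show m - 1 + 1 = m by omega]) h1
      rwa [hσB, show B * 2 ^ (m - 1) = 2 ^ n by rw [hB, ← pow_add]; congr 1; omega] at h3
    · rw [hS00pow, hBN, hSp]; rfl
    · change (((S0 ^ 2 ^ j₁) (ρ0 (e : T) (w : U0)) : U0) : U) =
        ρ ((⇑σ)^[B] (e : T)) (((S0 ^ 2 ^ j₁) (w : U0) : U0) : U)
      rw [hS0pow, hS0pow, hB']
      exact hSit B _ _
  have hN0 : 0 < N := pow_pos two_pos _
  have hNK : (N : K) ≠ 0 := by rw [hN, Nat.cast_pow]; exact pow_ne_zero _ (by exact_mod_cast h2)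
  have hEK : (Nat.card E : K) ≠ 0 := by
    intro h0
    obtain ⟨b, hb⟩ := card_subgroup_dvd_card E
    exact hT (by rw [hb, Nat.cast_mul, h0, zero_mul])
  obtain ⟨-, hN3, hX, hev⟩ := hdata.exact hEK hNK
    (fun h => hER (Subgroup.subgroupOf_eq_top.1 (Subgroup.index_eq_one.1 h)))
  have hm2 : 2 ≤ m := by
    by_contra h
    have : N ≤ 2 ^ 1 := Nat.pow_le_pow_right two_pos (by omega)
    omega
  have hh : B * 2 ^ (m - 2) = 2 ^ (n - 1) := by rw [hB, ← pow_add]; congr 1; omega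
  have hfix1 : ∀ y, τ y = y → y⁻¹ * (⇑σ)^[B] y ∈ R := by
    intro y hy
    have h1 := hX (ρ00 y) fun e => by
      refine LinearMap.ext fun w => Subtype.ext (Subtype.ext ?_)
      change ρ (e : T) (ρ y ((w : U0) : U)) = ρ y (ρ (e : T) ((w : U0) : U))
      have h2 : ρ (e : T) (ρ y ((w : U0) : U)) =
          ρ ⁅(e : T), y⁆ (ρ y (ρ (e : T) ((w : U0) : U))) := by
        rw [← hmulapp, ← hmulapp, ← hmulapp]
        congr 2
        simp [commutatorElement_def, mul_assoc]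
      rw [h2, (hU0 _).1 (hU0T _ _ (hU0T _ _ (w : U0).2)) _ (hcomm _ _),
        hswap _ _ (hperp y hy e e.2), one_smul]
    -- `ρ00 (σ^B y) = ρ00 y`
    have h2 : ∀ w : U00, ρ00 ((⇑σ)^[B] y) w = ρ00 y w := by
      intro w
      obtain ⟨u, rfl⟩ : ∃ u, S00 u = w :=
        ((Module.End.isUnit_iff _).1 (IsUnit.of_pow_eq_one hdata.pow_eq hN0.ne')).2 w
      refine Eq.trans ?_ (LinearMap.congr_fun h1 u)
      refine Subtype.ext (Subtype.ext ?_)
      change ρ ((⇑σ)^[B] y) (((S0 ^ 2 ^ j₁) (u : U0) : U0) : U) =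
        ((S0 ^ 2 ^ j₁) (ρ0 y (u : U0)) : U0)
      rw [hS0pow, hS0pow, hB']
      exact (hSit B y _).symm
    set z := y⁻¹ * (⇑σ)^[B] y with hz
    have hz1 : ρ00 z = 1 := by
      refine LinearMap.ext fun w => ?_
      rw [hz, map_mul, Module.End.mul_apply, h2, ← Module.End.mul_apply, ← map_mul,
        inv_mul_cancel, map_one]
    intro t
    have h3 : ρ00 ⁅t, z⁆ = 1 := by
      rw [commutatorElement_def, map_mul, map_mul, map_mul, hz1, mul_one, ← map_mul,
        mul_inv_cancel, map_one, one_mul]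
      exact (eq_comm.1 (by
        calc (1 : Module.End K U00) = ρ00 (z * z⁻¹) := by rw [mul_inv_cancel, map_one]
          _ = ρ00 z⁻¹ := by rw [map_mul, hz1, one_mul]))
    have h4 := congrArg (fun w : U00 => ((w : U0) : U)) (LinearMap.congr_fun h3 ⟨v₁, hv₁U⟩)
    change ρ ⁅t, z⁆ (v₁ : U) = (v₁ : U) at h4
    rw [(hU0 _).1 v₁.2 _ (hcomm t z)] at h4
    nth_rw 2 [← one_smul K (v₁ : U)] at h4
    exact smul_left_injective K (fun h => hv₁ (Subtype.ext h)) h4
  refine ⟨fun y hy => ?_, ?_⟩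
  · rw [← hh]
    generalize 2 ^ (m - 2) = i
    have hfix : ∀ i, τ ((⇑σ)^[i] y) = (⇑σ)^[i] y := fun i => by
      change (⇑σ)^[2 ^ n] ((⇑σ)^[i] y) = _
      rw [← Function.iterate_add_apply, Nat.add_comm, Function.iterate_add_apply, hy]
    induction i with
    | zero => simp
    | succ i ih =>
      have h5 := R.mul_mem ih (hfix1 _ (hfix (B * i)))
      rw [Nat.mul_succ, Nat.add_comm, Function.iterate_add_apply]
      simpa [mul_assoc] using h5
  · haveI : NeZero (N : K) := ⟨hNK⟩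
    obtain ⟨ζ, hζ⟩ := HasEnoughRootsOfUnity.exists_primitiveRoot K N
    have hN4 : N = 2 * (2 * 2 ^ (m - 2)) := by
      rw [hN, ← pow_succ', ← pow_succ']; congr 1; omega
    have hneg : ζ ^ (2 * 2 ^ (m - 2)) = -1 :=
      (hζ.pow hN0 (by rw [hN4]; ring)).eq_neg_one_of_two_right
    have hneg1 : (-1 : K) ≠ 1 := fun h => h2 (by linear_combination -h)
    have hc1 : (ζ ^ 2) ^ 2 ^ (m - 2) = -1 := by rw [← pow_mul]; exact hneg
    obtain ⟨w, hw0, hw⟩ := hev (ζ ^ 2) (by rw [← pow_mul, mul_comm, pow_mul, hζ.pow_eq_one, one_pow])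
      (fun h => hneg1 (by rw [← hc1, h, one_pow]))
    have hpow : ∀ k, (S00 ^ k) w = (ζ ^ 2) ^ k • w := by
      intro k
      induction k with
      | zero => simp
      | succ k ih =>
        rw [pow_succ', Module.End.mul_apply, ih, map_smul, hw, smul_smul, ← pow_succ]
    refine ⟨((w : U0) : U), ?_, ?_⟩
    · rw [show 2 ^ n = B * (2 * 2 ^ (m - 2)) by rw [← pow_succ', hB, ← pow_add]; congr 1; omega,
        ← hS00pow, hpow, mul_comm 2 (2 ^ (m - 2)), pow_mul, hc1, neg_one_sq, one_smul]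
    · rw [← hh, ← hS00pow, hpow, hc1]
      intro h
      have h6 : (-1 : K) • w = (1 : K) • w := by
        rw [one_smul]; exact Subtype.ext (Subtype.ext h)
      exact hneg1 (smul_left_injective K hw0 h6)

end Cfsg.Agent.FGS73
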