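import Cfsg.Agent.FGS73.GrossModule

/-!
The second level of Gross's theorem: a group generated by `l⁻¹ τ l` acting on a module in which
`τ`-fixed vectors are fixed by `σ ^ 2 ^ (n - 1)` acts as a `q`-group.
-/

namespace Cfsg.Agent.FGS73

open Subgroup
open scoped commutatorElement

universe u v

theorem end_pow_add {W : Type*} [AddCommGroup W] (A : AddMonoid.End W) {w δ : W}
    (h1 : A w = w + δ) (h2 : A δ = δ) : ∀ k : ℕ, (⇑A)^[k] w = w + k • δ := by
  intro k
  induction k with
  | zero => simp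
  | succ k ih =>
    rw [Function.iterate_succ_apply', ih, map_add, map_nsmul, h1, h2, add_assoc, succ_nsmul']

theorem coe_end_pow {W : Type*} [AddCommGroup W] (A : AddMonoid.End W) (k : ℕ) (w : W) :
    (A ^ k) w = (⇑A)^[k] w := by
  induction k with
  | zero => rfl
  | succ k ih => rw [pow_succ', Function.iterate_succ_apply', ← ih]; rfl

/-- the irreducible case -/
theorem act_trivial_of_irreducible {L : Type u} [Group L] [Finite L] (hsol : Group.IsSolvable L)
    (σ : L →* L) {n : ℕ} (hσp : ∀ x, (⇑σ)^[2 ^ (n + 1)] x = x) (hfpf : ∀ x, σ x = x → x = 1)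
    (hgen : closure (Set.range fun l => l⁻¹ * (⇑σ)^[2 ^ n] l) = (⊤ : Subgroup L))
    {W : Type v} [AddCommGroup W] [Finite W] {q : ℕ} (hq : q.Prime) (hq2 : q ≠ 2)
    (hWq : ∀ w : W, q • w = 0) (hW1 : ∃ w : W, w ≠ 0) (φ : L →* AddMonoid.End W)
    (S : AddMonoid.End W) (hSp : ∀ w, (⇑S)^[2 ^ (n + 1)] w = w) (hS : ∀ w, S w = w → w = 0)
    (hcompat : ∀ x w, S (φ x w) = φ (σ x) (S w))
    (hhyp : (∀ w, (⇑S)^[2 ^ n] w = w) ∨
      ∀ w, (⇑S)^[2 ^ (n - 1)] (w + (⇑S)^[2 ^ n] w) = w + (⇑S)^[2 ^ n] w)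
    (hirr : ∀ U : AddSubgroup W, (∀ x, ∀ u ∈ U, φ x u ∈ U) → (∀ u ∈ U, S u ∈ U) →
      U = ⊥ ∨ U = ⊤) : ∀ l, φ l = 1 := by
  classical
  haveI := hsol
  have h2p := Nat.prime_two
  have hM0 : 0 < 2 ^ (n + 1) := pow_pos two_pos _
  have hSsurj : ∀ w, ∃ u, S u = w := fun w =>
    ⟨(⇑S)^[2 ^ (n + 1) - 1] w, by
      rw [← Function.iterate_succ_apply' (⇑S),
        show Nat.succ (2 ^ (n + 1) - 1) = 2 ^ (n + 1) by omega]
      exact hSp w⟩
  have hki : ∀ x ∈ φ.ker, σ x ∈ φ.ker := by
    intro x hx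
    rw [MonoidHom.mem_ker] at hx ⊢
    refine AddMonoidHom.ext fun w => ?_
    obtain ⟨u, rfl⟩ := hSsurj w
    refine (hcompat x u).symm.trans ?_
    rw [hx]
    rfl
  set σ' := quotEnd φ.ker σ hki with hσ'
  have hσ'p : ∀ x, (⇑σ')^[2 ^ (n + 1)] x = x := by
    intro x
    obtain ⟨g, rfl⟩ := QuotientGroup.mk'_surjective φ.ker x
    rw [hσ', iterate_quotEnd, hσp]
  have hfpf' := quotEnd_fpf φ.ker σ hki hfpf
  let φ' : L ⧸ φ.ker →* AddMonoid.End W := QuotientGroup.lift _ φ fun x hx => hx
  have hφ' : Function.Injective φ' := by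
    rw [← MonoidHom.ker_eq_bot_iff, eq_bot_iff]
    intro x hx
    obtain ⟨g, rfl⟩ := QuotientGroup.mk'_surjective φ.ker x
    rw [mem_bot, QuotientGroup.mk'_apply, QuotientGroup.eq_one_iff]
    exact hx
  have hcompat' : ∀ x w, S (φ' x w) = φ' (σ' x) (S w) := by
    intro x w
    obtain ⟨g, rfl⟩ := QuotientGroup.mk'_surjective φ.ker x
    exact hcompat g w
  haveI hsol' : Group.IsSolvable (L ⧸ φ.ker) := isSolvable_quotient hsol _
  suffices hτ : ∀ x, (⇑σ')^[2 ^ n] x = x by
    intro l
    have h1 : (⊤ : Subgroup L) ≤ φ.ker := by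
      rw [← hgen, closure_le]
      rintro _ ⟨g, rfl⟩
      have h2 := hτ (QuotientGroup.mk' φ.ker g)
      rw [hσ', iterate_quotEnd] at h2
      exact QuotientGroup.eq.1 h2.symm
    exact h1 (mem_top l)
  have hσ'bij := bijective_of_periodic σ' hM0 hσ'p
  let τ : L ⧸ φ.ker →* L ⧸ φ.ker :=
    MonoidHom.mk' ((⇑σ')^[2 ^ n]) (fun a b => iterate_map_mul σ' _ a b)
  have hτp : ∀ x, (⇑τ)^[2] x = x := by
    intro x
    change (⇑σ')^[2 ^ n] ((⇑σ')^[2 ^ n] x) = x
    rw [← Function.iterate_add_apply, ← two_mul, ← pow_succ']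
    exact hσ'p x
  have hodd := odd_of_periodic_two σ' hσ'p hfpf'
  have h2H : ¬ 2 ∣ Nat.card (L ⧸ φ.ker) := by
    rw [← even_iff_two_dvd, Nat.not_even_iff_odd]; exact hodd
  rcases hhyp with hyp | hyp
  · intro x
    apply hφ'
    refine AddMonoidHom.ext fun w => ?_
    have hit : ∀ k u, (⇑S)^[k] (φ' x u) = φ' ((⇑σ')^[k] x) ((⇑S)^[k] u) := by
      intro k
      induction k with
      | zero => intro u; rfl
      | succ k ih =>
        intro u
        rw [Function.iterate_succ_apply', ih, hcompat', Function.iterate_succ_apply',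
          Function.iterate_succ_apply']
    have h1 := hit (2 ^ n) w
    rw [hyp, hyp] at h1
    exact h1.symm
  have hFq := not_dvd_fitting σ' hσ'bij hq hWq hW1 φ' hφ' S hcompat' fun U hU hUS =>
    hirr U (fun x u hu => hU (QuotientGroup.mk' _ x) u hu) hUS
  set F := Cfsg.fittingSubgroup (L ⧸ φ.ker) with hF
  suffices hτF : ∀ x ∈ F, τ x = x by
    intro h
    have hFn : F.Normal := inferInstance
    have hmem : h⁻¹ * τ h ∈ F := by
      refine Cfsg.Agent.Fitting.centralizer_fitting_le (mem_centralizer_iff.2 fun f hf => ?_)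
      have h1 := hτF _ (hFn.conj_mem f hf h)
      rw [map_mul, map_mul, map_inv, hτF f hf] at h1
      calc f * (h⁻¹ * τ h) = h⁻¹ * (h * f * h⁻¹) * τ h := by group
        _ = h⁻¹ * (τ h * f * (τ h)⁻¹) * τ h := by rw [h1]
        _ = h⁻¹ * τ h * f := by group
    exact eq_one_of_fixed_commutator τ h2p hτp h2H (hτF _ hmem)
  intro x hx
  refine mem_of_prime_parts (τ.eqLocus (MonoidHom.id _)) x fun s hs y hy ⟨k, hk⟩ => ?_
  haveI := Fact.mk hs
  have hyP := mem_pCore_of_fitting hs ((zpowers_le.2 hx) hy) hk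
  obtain ⟨T, hTn, hTi, hTP, hTc, hTcrit⟩ := exists_critical_pCore σ' hσ'bij s
  have hTF : T ≤ F := hTP.trans (pCore_le_fitting s)
  have hTq : ¬ q ∣ Nat.card T := fun hd => hFq (hd.trans (card_dvd_of_le hTF))
  suffices hT : ∀ t ∈ T, τ t = t by
    have hP : Cfsg.pCore s (L ⧸ φ.ker) |>.Normal := inferInstance
    have hτy : τ y ∈ Cfsg.pCore s (L ⧸ φ.ker) :=
      char_invariant τ (bijective_of_periodic τ two_pos hτp) _ y hyP
    refine eq_one_of_fixed_commutator τ h2p hτp h2H (hT _ (hTcrit _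
      (mul_mem (inv_mem hyP) hτy) fun t ht => ?_))
    have h1 := hT _ (hTn.conj_mem t ht y)
    rw [map_mul, map_mul, map_inv, hT t ht] at h1
    calc y⁻¹ * τ y * t = y⁻¹ * (τ y * t * (τ y)⁻¹) * τ y := by group
      _ = y⁻¹ * (y * t * y⁻¹) * τ y := by rw [h1]
      _ = t * (y⁻¹ * τ y) := by group
  -- the critical subgroup
  let σT : T →* T := (σ'.comp T.subtype).codRestrict T fun t => hTi t t.2
  have hval := iterate_restrict σ' T hTi σT (fun _ => rfl)
  have hTp : ∀ t, (⇑σT)^[2 ^ (n + 1)] t = t := fun t => Subtype.ext (by rw [hval, hσ'p])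
  have hTfpf : ∀ t, σT t = t → t = 1 := fun t ht =>
    Subtype.ext (hfpf' t (congrArg Subtype.val ht))
  let φT : T →* AddMonoid.End W := φ'.comp T.subtype
  have hφT : Function.Injective φT := fun a b h => Subtype.ext (hφ' h)
  have hσTbij := bijective_of_periodic σT hM0 hTp
  have hZ : ∀ z ∈ center T, (⇑σT)^[2 ^ n] z = z :=
    fixed_of_abelian hq hWq φT hφT σT S h2p hTp hSp hS (fun t w => hcompat' (t : L ⧸ φ.ker) w)
      (center T) (char_invariant σT hσTbij _) (fun a ha b _ => (mem_center_iff.1 ha b).symm)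
      (fun hd => hTq (hd.trans (card_subgroup_dvd_card _)))
  intro t ht
  by_contra hne
  let d : T := (⟨t, ht⟩ : T)⁻¹ * (⇑σT)^[2 ^ n] ⟨t, ht⟩
  have hd : ((d : T) : L ⧸ φ.ker) = t⁻¹ * τ t := by
    rw [Subgroup.coe_mul, Subgroup.coe_inv, hval]; rfl
  by_cases hdc : d ∈ center T
  · apply hne
    refine eq_one_of_fixed_commutator τ h2p hτp h2H ?_
    have h1 := congrArg Subtype.val (hZ d hdc)
    rw [hval, hd] at h1
    exact h1
  obtain ⟨R, hdR, -, -, h4⟩ := gross_step (odd_of_periodic_two σT hTp hTfpf) σT hTp hq hq2 hWq hTq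
    φT hφT S hS hSp (fun t w => hcompat' (t : L ⧸ φ.ker) w) hTc hdc
  rcases h4 with h4 | ⟨-, w, hw⟩
  · exact hdR (h4 _)
  · exact hw (hyp w)

/-- the reducible case, by induction -/
theorem act_qgroup {L : Type u} [Group L] [Finite L] (hsol : Group.IsSolvable L)
    (σ : L →* L) {n : ℕ} (hσp : ∀ x, (⇑σ)^[2 ^ (n + 1)] x = x) (hfpf : ∀ x, σ x = x → x = 1)
    (hgen : closure (Set.range fun l => l⁻¹ * (⇑σ)^[2 ^ n] l) = (⊤ : Subgroup L))
    {q : ℕ} (hq : q.Prime) (hq2 : q ≠ 2) (c : ℕ) :
    ∀ (W : Type v) [AddCommGroup W] [Finite W], Nat.card W ≤ c →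
      (∃ a : ℕ, ∀ w : W, q ^ a • w = 0) →
      ∀ (φ : L →* AddMonoid.End W) (S : AddMonoid.End W), (∀ w, (⇑S)^[2 ^ (n + 1)] w = w) →
      (∀ w, S w = w → w = 0) → (∀ x w, S (φ x w) = φ (σ x) (S w)) →
      ((∀ w, (⇑S)^[2 ^ n] w = w) ∨
        ∀ w, (⇑S)^[2 ^ (n - 1)] (w + (⇑S)^[2 ^ n] w) = w + (⇑S)^[2 ^ n] w) →
      ∀ l, ∃ e : ℕ, φ l ^ q ^ e = 1 := by
  induction c with
  | zero =>
    intro W _ _ hc
    exact absurd hc (by simp [Nat.card_pos.ne'])
  | succ c ih =>
    intro W _ _ hc ⟨a, ha⟩ φ S hSp hS hcompat hhyp l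
    classical
    rcases subsingleton_or_nontrivial W with hs | hs
    · exact ⟨0, AddMonoidHom.ext fun w => Subsingleton.elim _ _⟩
    let p : AddSubgroup W → Prop := fun U =>
      U ≠ ⊥ ∧ (∀ x, ∀ u ∈ U, φ x u ∈ U) ∧ (∀ u ∈ U, S u ∈ U) ∧ ∀ u ∈ U, q • u = 0
    let Wq : AddSubgroup W := (nsmulAddMonoidHom q : W →+ W).ker
    have hWqp : p Wq := by
      refine ⟨?_, fun x u hu => ?_, fun u hu => ?_, fun u hu => hu⟩
      · intro h
        obtain ⟨w, hw⟩ := exists_ne (0 : W)
        have h2 : ∀ a, ∀ w : W, q ^ a • w = 0 → w = 0 := by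
          intro a
          induction a with
          | zero => intro w hw; simpa using hw
          | succ a iha =>
            intro w hw
            refine iha w ?_
            have : q ^ a • w ∈ Wq := by
              change q • (q ^ a • w) = 0
              rwa [smul_smul, ← pow_succ']
            rwa [h, AddSubgroup.mem_bot] at this
        exact hw (h2 a w (ha w))
      · change q • φ x u = 0
        rw [← map_nsmul, show q • u = 0 from hu, map_zero]
      · change q • S u = 0
        rw [← map_nsmul, show q • u = 0 from hu, map_zero]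
    obtain ⟨U, -, hUmin⟩ := Finite.exists_le_minimal (p := p) (a := Wq) hWqp
    obtain ⟨hU0, hUφ, hUS, hUq⟩ := hUmin.prop
    let φU : L →* AddMonoid.End U :=
      { toFun := fun x => AddMonoidHom.mk' (fun u => (⟨φ x u, hUφ x u u.2⟩ : U))
          (fun a b => Subtype.ext (map_add (φ x) _ _))
        map_one' := AddMonoidHom.ext fun u => Subtype.ext (by
          change φ 1 (u : W) = u
          rw [map_one]; rfl)
        map_mul' := fun x y => AddMonoidHom.ext fun u => Subtype.ext (by
          change φ (x * y) (u : W) = φ x (φ y (u : W))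
          rw [map_mul]; rfl) }
    let SU : AddMonoid.End U := AddMonoidHom.mk' (fun u => (⟨S u, hUS u u.2⟩ : U))
      (fun a b => Subtype.ext (map_add S _ _))
    have hSUit : ∀ k (u : U), (((⇑SU)^[k] u : U) : W) = (⇑S)^[k] (u : W) := by
      intro k u
      induction k with
      | zero => rfl
      | succ k ih => rw [Function.iterate_succ_apply', Function.iterate_succ_apply', ← ih]; rfl
    have hU1 : ∃ u : U, u ≠ 0 := by
      obtain ⟨u, hu, hu0⟩ : ∃ u ∈ U, u ≠ 0 := by
        by_contra h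
        push Not at h
        exact hU0 ((AddSubgroup.eq_bot_iff_forall U).2 h)
      exact ⟨⟨u, hu⟩, fun h => hu0 (congrArg Subtype.val h)⟩
    have htriv : ∀ x, ∀ u ∈ U, φ x u = u := by
      intro x u hu
      have h1 := act_trivial_of_irreducible hsol σ hσp hfpf hgen hq hq2
        (fun u : U => Subtype.ext (hUq u u.2)) hU1 φU SU
        (fun u => Subtype.ext (by rw [hSUit, hSp]))
        (fun u hu => Subtype.ext (hS u (congrArg Subtype.val hu)))
        (fun x u => Subtype.ext (hcompat x u))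
        (hhyp.imp (fun h u => Subtype.ext (by rw [hSUit, h]))
          fun h u => Subtype.ext (by
            rw [hSUit, AddSubgroup.coe_add, hSUit]; exact h u))
        (fun V hVφ hVS => by
          by_cases hV : V = ⊥
          · exact Or.inl hV
          refine Or.inr ?_
          have hpV : p (V.map U.subtype) := by
            refine ⟨fun h => hV ?_, ?_, ?_, ?_⟩
            · refine (AddSubgroup.eq_bot_iff_forall V).2 fun v hv => Subtype.ext ?_
              exact (AddSubgroup.mem_bot).1 (h ▸ (⟨v, hv, rfl⟩ : (v : W) ∈ V.map U.subtype))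
            · rintro x _ ⟨v, hv, rfl⟩
              exact ⟨φU x v, hVφ x v hv, rfl⟩
            · rintro _ ⟨v, hv, rfl⟩
              exact ⟨SU v, hVS v hv, rfl⟩
            · rintro _ ⟨v, hv, rfl⟩
              exact hUq v v.2
          have hle : V.map U.subtype ≤ U := by
            rintro _ ⟨v, -, rfl⟩
            exact v.2
          have h2 := hUmin.2 hpV hle
          rw [eq_top_iff]
          intro v _
          obtain ⟨v', hv', hvv⟩ := h2 v.2
          exact (Subtype.ext hvv : v' = v) ▸ hv') x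
      exact congrArg Subtype.val (DFunLike.congr_fun h1 (⟨u, hu⟩ : U))
    -- the quotient
    have hcard : Nat.card (W ⧸ U) ≤ c := by
      have h1 := U.card_eq_card_quotient_mul_card_addSubgroup
      have h2 : 1 < Nat.card U := Finite.one_lt_card_iff_nontrivial.2 <| by
        obtain ⟨u, hu⟩ := hU1
        exact ⟨u, 0, hu⟩
      have h3 : Nat.card (W ⧸ U) < Nat.card W := by
        rw [h1]; exact lt_mul_of_one_lt_right Nat.card_pos h2
      omega
    let φQ : L →* AddMonoid.End (W ⧸ U) :=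
      { toFun := fun x => QuotientAddGroup.map U U (φ x) (fun u hu => hUφ x u hu)
        map_one' := AddMonoidHom.ext fun w => by
          induction w using QuotientAddGroup.induction_on with
          | H w => exact congrArg QuotientAddGroup.mk (by rw [map_one]; rfl)
        map_mul' := fun x y => AddMonoidHom.ext fun w => by
          induction w using QuotientAddGroup.induction_on with
          | H w => exact congrArg QuotientAddGroup.mk (by rw [map_mul]; rfl) }
    let SQ : AddMonoid.End (W ⧸ U) := QuotientAddGroup.map U U S hUS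
    have hSQit : ∀ k w, (⇑SQ)^[k] (QuotientAddGroup.mk' U w) = QuotientAddGroup.mk' U ((⇑S)^[k] w) := by
      intro k w
      induction k with
      | zero => rfl
      | succ k ihk =>
        rw [Function.iterate_succ_apply', Function.iterate_succ_apply', ihk]; rfl
    have hfQ : ∀ w, SQ w = w → w = 0 := by
      intro w hw
      obtain ⟨v, rfl⟩ := QuotientAddGroup.mk'_surjective U w
      obtain ⟨u, hu⟩ := Finite.surjective_of_injective (f := fun u : U => SU u - u) (fun a b hab => by
        have h1 : SU (a - b) = a - b := by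
          rw [map_sub, sub_eq_sub_iff_sub_eq_sub]; exact hab
        exact sub_eq_zero.1 (Subtype.ext (hS _ (congrArg Subtype.val h1))))
        ⟨S v - v, by
          have h1 : QuotientAddGroup.mk' U (S v) = QuotientAddGroup.mk' U v := hw
          exact (QuotientAddGroup.eq_iff_sub_mem).1 h1⟩
      have hu' : S (u : W) - u = S v - v := congrArg Subtype.val hu
      have h2 : v - u = 0 := hS _ (by
        rw [map_sub, sub_eq_sub_iff_sub_eq_sub]; exact hu'.symm)
      rw [sub_eq_zero.1 h2]
      exact (QuotientAddGroup.eq_zero_iff _).2 u.2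
    obtain ⟨e, he⟩ := ih (W ⧸ U) hcard ⟨a, fun w => by
        obtain ⟨v, rfl⟩ := QuotientAddGroup.mk'_surjective U w
        rw [← map_nsmul, ha, map_zero]⟩ φQ SQ
      (fun w => by
        obtain ⟨v, rfl⟩ := QuotientAddGroup.mk'_surjective U w
        rw [hSQit, hSp])
      hfQ
      (fun x w => by
        obtain ⟨v, rfl⟩ := QuotientAddGroup.mk'_surjective U w
        exact congrArg (QuotientAddGroup.mk' U) (hcompat x v))
      (hhyp.imp (fun h w => by
          obtain ⟨v, rfl⟩ := QuotientAddGroup.mk'_surjective U w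
          rw [hSQit, h])
        (fun h w => by
          obtain ⟨v, rfl⟩ := QuotientAddGroup.mk'_surjective U w
          rw [hSQit, ← map_add, hSQit, h])) l
    refine ⟨e + 1, AddMonoidHom.ext fun w => ?_⟩
    set A := φ l ^ q ^ e with hA
    set δ := A w - w with hδ
    have hδU : δ ∈ U := by
      have h1 := DFunLike.congr_fun he (QuotientAddGroup.mk' U w)
      rw [← map_pow] at h1
      refine (QuotientAddGroup.eq_iff_sub_mem).1 (show QuotientAddGroup.mk' U (A w) =
        QuotientAddGroup.mk' U w from ?_)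
      rw [hA, ← map_pow φ]
      exact h1
    rw [pow_succ, pow_mul]
    refine (coe_end_pow A q w).trans ?_
    rw [end_pow_add A (w := w) (δ := δ) (by rw [hδ, add_sub_cancel])
      (by rw [hA, ← map_pow]; exact htriv _ _ hδU), hUq δ hδU, add_zero]
    rfl

end Cfsg.Agent.FGS73
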