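import Cfsg.Agent.FGS73.GrossInduct
import Cfsg.Agent.FGS73.FPF4

/-!
Gross's theorem: a soluble group with a fixed-point-free automorphism of order `2 ^ n`, `n ≥ 2`,
has Fitting height at most `2 * n - 2`.
-/

namespace Cfsg.Agent.FGS73

open Subgroup
open scoped IsMulCommutative commutatorElement

universe u

theorem inv_mul_mem_closure_normal {G : Type*} [Group G] (τ : G →* G) :
    (closure (Set.range fun g => g⁻¹ * τ g)).Normal := by
  refine ⟨fun x hx y => ?_⟩
  set T := closure (Set.range fun g => g⁻¹ * τ g) with hT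
  have h1 : T ≤ T.comap (MulAut.conj y).toMonoidHom := by
    conv_lhs => rw [hT]
    rw [closure_le]
    rintro _ ⟨g, rfl⟩
    rw [SetLike.mem_coe, Subgroup.mem_comap]
    have hm : ∀ g, g⁻¹ * τ g ∈ T := fun g => subset_closure ⟨g, rfl⟩
    have h2 := T.mul_mem (hm (g * y⁻¹)) (T.inv_mem (hm y⁻¹))
    convert h2 using 1
    simp [map_mul, mul_assoc]
  exact h1 hx

/-- the linear step: `[H, τ]` lies in the Fitting subgroup. -/
theorem gross_linear {H : Type u} [Group H] [Finite H] (hsol : Group.IsSolvable H) (σ : H →* H)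
    {n : ℕ} (hσp : ∀ x, (⇑σ)^[2 ^ (n + 1)] x = x) (hfpf : ∀ x, σ x = x → x = 1)
    {W : Type*} [AddCommGroup W] [Finite W] {r : ℕ} (hr : r.Prime)
    (hWr : ∀ w : W, r • w = 0) (hW1 : ∃ w : W, w ≠ 0)
    (ρ : H →* AddMonoid.End W) (hρ : Function.Injective ρ) (S : AddMonoid.End W)
    (hSp : ∀ w, (⇑S)^[2 ^ (n + 1)] w = w) (hS : ∀ w, S w = w → w = 0)
    (hcompat : ∀ x w, S (ρ x w) = ρ (σ x) (S w))
    (hirr : ∀ U : AddSubgroup W, (∀ x, ∀ u ∈ U, ρ x u ∈ U) → (∀ u ∈ U, S u ∈ U) →
      U = ⊥ ∨ U = ⊤) : ∀ h, h⁻¹ * (⇑σ)^[2 ^ n] h ∈ Cfsg.fittingSubgroup H := by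
  classical
  haveI := hsol
  have h2p := Nat.prime_two
  haveI : Fact (Nat.Prime 2) := ⟨h2p⟩
  have hM0 : 0 < 2 ^ (n + 1) := pow_pos two_pos _
  have hσbij := bijective_of_periodic σ hM0 hσp
  have hHodd := odd_of_periodic_two σ hσp hfpf
  have hr2 : r ≠ 2 := by
    rintro rfl
    have hWp : ¬ 2 ∣ Nat.card (Multiplicative W) :=
      not_dvd_of_periodic (AddMonoidHom.toMultiplicative (S : W →+ W)) (m := n + 1)
        (fun g => by exact hSp g) (fun g hg => hS g hg)
    apply hWp
    obtain ⟨w, hw⟩ := hW1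
    have h1 : addOrderOf w = 2 := addOrderOf_eq_prime (hWr w) hw
    have h2 := addOrderOf_dvd_natCard w
    rw [h1] at h2
    exact h2
  have hFr := not_dvd_fitting σ hσbij hr hWr hW1 ρ hρ S hcompat hirr
  let τ : H →* H := MonoidHom.mk' ((⇑σ)^[2 ^ n]) (fun a b => iterate_map_mul σ _ a b)
  have hτσ : ∀ i x, τ ((⇑σ)^[i] x) = (⇑σ)^[i] (τ x) := fun i x => by
    change (⇑σ)^[2 ^ n] ((⇑σ)^[i] x) = (⇑σ)^[i] ((⇑σ)^[2 ^ n] x)
    rw [← Function.iterate_add_apply, ← Function.iterate_add_apply, Nat.add_comm]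
  have hττ : ∀ x, τ (τ x) = x := by
    intro x
    change (⇑σ)^[2 ^ n] ((⇑σ)^[2 ^ n] x) = x
    rw [← Function.iterate_add_apply, ← two_mul, ← pow_succ']
    exact hσp x
  have hHo : ∀ x : H, Odd (orderOf x) := fun x => hHodd.of_dvd_nat (orderOf_dvd_natCard x)
  let L : Subgroup H := closure (Set.range fun h => h⁻¹ * τ h)
  have hLn : L.Normal := inv_mul_mem_closure_normal τ
  have hLgen : ∀ h, h⁻¹ * τ h ∈ L := fun h => subset_closure ⟨h, rfl⟩
  have hLi : ∀ x ∈ L, σ x ∈ L := by
    intro x hx
    have h1 : L ≤ L.comap σ := by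
      rw [closure_le]
      rintro _ ⟨y, rfl⟩
      refine subset_closure ⟨σ y, ?_⟩
      simp only [map_mul, map_inv]
      congr 1
      exact hτσ 1 y
    exact h1 hx
  -- `L = [L, τ]`
  let σL : L →* L := (σ.comp L.subtype).codRestrict L fun x => hLi x x.2
  have hLval := iterate_restrict σ L hLi σL (fun _ => rfl)
  have hgenL : closure (Set.range fun l : L => l⁻¹ * (⇑σL)^[2 ^ n] l) = (⊤ : Subgroup L) := by
    set D := closure (Set.range fun l : L => l⁻¹ * (⇑σL)^[2 ^ n] l) with hD
    let τL : L →* L := MonoidHom.mk' ((⇑σL)^[2 ^ n]) (fun a b => iterate_map_mul σL _ a b)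
    have hDn : D.Normal := inv_mul_mem_closure_normal τL
    have hle : L ≤ D.map L.subtype := by
      rw [closure_le]
      rintro _ ⟨h, rfl⟩
      obtain ⟨c, hc, hhc⟩ := exists_fixed_mul τ hττ L hHo h (hLgen h)
      let l : L := ⟨h * c⁻¹, by
        have := hLn.conj_mem _ (L.inv_mem hhc) c
        simpa [mul_assoc] using this⟩
      refine ⟨⟨c⁻¹ * ((l⁻¹ * (⇑σL)^[2 ^ n] l : L) : H) * c,
        by simpa using hLn.conj_mem _ (l⁻¹ * (⇑σL)^[2 ^ n] l).2 c⁻¹⟩, ?_, ?_⟩
      · have hcD : D ≤ D.comap ((MulAut.conjNormal c⁻¹ : MulAut L).toMonoidHom) := by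
          rw [hD, closure_le]
          rintro _ ⟨l', rfl⟩
          refine subset_closure ⟨MulAut.conjNormal c⁻¹ l', Subtype.ext ?_⟩
          simp only [MulEquiv.toMonoidHom_eq_coe, MonoidHom.coe_coe, MulAut.conjNormal_apply,
            Subgroup.coe_mul, Subgroup.coe_inv, hLval, inv_inv]
          have hc' : (⇑σ)^[2 ^ n] c = c := hc
          rw [iterate_map_mul, iterate_map_mul, iterate_map_inv, hc']
          group
        have h1 := hcD (subset_closure ⟨l, rfl⟩ : l⁻¹ * (⇑σL)^[2 ^ n] l ∈ D)
        rw [Subgroup.mem_comap] at h1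
        refine (congrArg (fun z : L => z ∈ D) (Subtype.ext ?_)).mpr h1
        simp [mul_assoc]
      · change c⁻¹ * ((l⁻¹ * (⇑σL)^[2 ^ n] l : L) : H) * c = h⁻¹ * τ h
        rw [Subgroup.coe_mul, Subgroup.coe_inv, hLval]
        change c⁻¹ * ((h * c⁻¹)⁻¹ * τ (h * c⁻¹)) * c = _
        rw [map_mul, map_inv, hc]
        group
    rw [eq_top_iff]
    intro x _
    obtain ⟨y, hy, hyx⟩ := hle x.2
    exact (Subtype.ext hyx : y = x) ▸ hy
  have hLp : ∀ x, (⇑σL)^[2 ^ (n + 1)] x = x := fun x => Subtype.ext (by rw [hLval, hσp])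
  have hLfpf : ∀ x, σL x = x → x = 1 := fun x hx =>
    Subtype.ext (hfpf x (congrArg Subtype.val hx))
  suffices hL : L ≤ Cfsg.fittingSubgroup H from fun h => hL (hLgen h)
  refine le_fitting_of_actions hsol L hLn fun q hq l hl => ?_
  haveI := Fact.mk hq
  obtain ⟨T, hTn, hTi, hTP, hTc, hTcrit⟩ := exists_critical_pCore σ hσbij q
  have hTr : ¬ r ∣ Nat.card T := fun hd =>
    hFr (hd.trans (card_dvd_of_le (hTP.trans (pCore_le_fitting q))))
  let σT : T →* T := (σ.comp T.subtype).codRestrict T fun t => hTi t t.2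
  have hTval := iterate_restrict σ T hTi σT (fun _ => rfl)
  have hTp : ∀ t, (⇑σT)^[2 ^ (n + 1)] t = t := fun t => Subtype.ext (by rw [hTval, hσp])
  have hTfpf : ∀ t, σT t = t → t = 1 := fun t ht =>
    Subtype.ext (hfpf t (congrArg Subtype.val ht))
  have hTodd := odd_of_periodic_two σT hTp hTfpf
  have hTo : ∀ t : T, Odd (orderOf t) := fun t => hTodd.of_dvd_nat (orderOf_dvd_natCard t)
  have hTq : IsPGroup q T := (isPGroup_pCore (p := q) H).to_le hTP
  let ρT : T →* AddMonoid.End W := ρ.comp T.subtype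
  have hρT : Function.Injective ρT := fun a b h => Subtype.ext (hρ h)
  have hσTbij := bijective_of_periodic σT hM0 hTp
  have hZ : ∀ z ∈ center T, (⇑σT)^[2 ^ n] z = z :=
    fixed_of_abelian hr hWr ρT hρT σT S h2p hTp hSp hS (fun t w => hcompat (t : H) w)
      (center T) (char_invariant σT hσTbij _) (fun a ha b _ => (mem_center_iff.1 ha b).symm)
      (fun hd => hTr (hd.trans (card_subgroup_dvd_card _)))
  haveI := hTn
  -- `L` centralises the centre of `T`
  let cz : H → MulAut T := fun h => MulAut.conjNormal h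
  have hczval : ∀ h (t : T), ((cz h t : T) : H) = h * (t : H) * h⁻¹ := fun h t =>
    MulAut.conjNormal_apply h t
  have hLZ : ∀ l ∈ L, ∀ z ∈ center T, cz l z = z := by
    let P : Subgroup H :=
      { carrier := {l | ∀ z ∈ center T, cz l z = z}
        one_mem' := fun z _ => by simp [cz]
        mul_mem' := fun {a b} ha hb z hz => by
          simp only [cz, map_mul, MulAut.mul_apply] at *
          rw [hb z hz, ha z hz]
        inv_mem' := fun {a} ha z hz => by
          apply (cz a).injective
          rw [ha z hz]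
          exact Subtype.ext (by rw [hczval, hczval]; group) }
    have h1 : L ≤ P := by
      rw [closure_le]
      rintro _ ⟨h, rfl⟩ z hz
      apply Subtype.ext
      rw [hczval]
      have hz' : ∀ z ∈ center T, τ (z : H) = z := fun z hz => by
        have := congrArg Subtype.val (hZ z hz)
        rwa [hTval] at this
      have h2 := hz' (cz h z) (by
        rw [mem_center_iff] at hz ⊢
        intro g
        obtain ⟨g, rfl⟩ := (cz h).surjective g
        rw [← map_mul, ← map_mul, hz])
      rw [hczval, map_mul, map_mul, map_inv, hz' z hz] at h2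
      calc h⁻¹ * τ h * (z : H) * (h⁻¹ * τ h)⁻¹ = h⁻¹ * (τ h * (z : H) * (τ h)⁻¹) * h := by group
        _ = h⁻¹ * (h * (z : H) * h⁻¹) * h := by rw [h2]
        _ = z := by group
    exact fun l hl => h1 hl
  -- each `x` outside the centre
  have hx : ∀ x : T, ∃ e : ℕ, x ∉ center T → ∃ R : Subgroup T, x ∉ R ∧
      ∀ t : T, t⁻¹ * cz (l ^ q ^ e) t ∈ R := by
    intro x
    by_cases hxc : x ∈ center T
    · exact ⟨0, fun h => absurd hxc h⟩
    obtain ⟨R, hxR, hZR, hRg, h4⟩ := gross_step hTodd σT hTp hr hr2 hWr hTr ρT hρT S hS hSp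
      (fun t w => hcompat (t : H) w) hTc hxc
    let X : Subgroup T :=
      { carrier := {t | ∀ i, (⇑σT)^[i] t ∈ R}
        one_mem' := fun i => by rw [iterate_map_one]; exact one_mem _
        mul_mem' := fun {a b} ha hb i => by rw [iterate_map_mul]; exact R.mul_mem (ha i) (hb i)
        inv_mem' := fun {a} ha i => by rw [iterate_map_inv]; exact R.inv_mem (ha i) }
    have hcentit : ∀ i, ∀ z ∈ center T, (⇑σT)^[i] z ∈ center T := by
      intro i z hz
      induction i with
      | zero => exact hz
      | succ i ih => rw [Function.iterate_succ_apply']; exact char_invariant σT hσTbij _ _ ih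
    have hZX : center T ≤ X := fun z hz i => hZR (hcentit i z hz)
    haveI hXn : X.Normal := ⟨fun a ha g => by
      rw [show g * a * g⁻¹ = ⁅g, a⁆ * a by simp [commutatorElement_def, mul_assoc]]
      exact X.mul_mem (hZX (hTc g a)) ha⟩
    have hXi : ∀ t ∈ X, σT t ∈ X := fun t ht i => by
      rw [← Function.iterate_succ_apply]; exact ht (i + 1)
    have hXl : ∀ l : H, l ∈ L → ∀ t ∈ X, cz l t ∈ X := by
      intro l hl t ht i
      have hli : ∀ i, (⇑σ)^[i] l ∈ L := by
        intro i
        induction i with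
        | zero => exact hl
        | succ i ih => rw [Function.iterate_succ_apply']; exact hLi _ ih
      have h5 : (⇑σT)^[i] (cz l t) = cz ((⇑σ)^[i] l) ((⇑σT)^[i] t) := Subtype.ext (by
        rw [hTval, hczval, hczval, hTval, iterate_map_mul, iterate_map_mul, iterate_map_inv])
      rw [h5]
      exact hRg (cz _).toMonoidHom (cz _).surjective (fun z hz => hLZ _ (hli i) z hz) _ (ht i)
    haveI hab : IsMulCommutative (T ⧸ X) := ⟨⟨fun a b => by
      induction a using QuotientGroup.induction_on with
      | H a =>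
        induction b using QuotientGroup.induction_on with
        | H b =>
          refine QuotientGroup.eq.2 ?_
          rw [show (a * b)⁻¹ * (b * a) = ⁅b⁻¹, a⁻¹⁆ by simp [commutatorElement_def, mul_assoc]]
          exact hZX (hTc _ _)⟩⟩
    haveI : Finite (Additive (T ⧸ X)) := inferInstanceAs (Finite (T ⧸ X))
    let conjQ : L →* Monoid.End (T ⧸ X) :=
      { toFun := fun l => QuotientGroup.map X X (cz (l : H)).toMonoidHom
          (fun t ht => hXl _ l.2 t ht)
        map_one' := MonoidHom.ext fun t => by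
          induction t using QuotientGroup.induction_on with
          | H t =>
            exact congrArg QuotientGroup.mk (Subtype.ext (by
              change ((cz ((1 : L) : H) t : T) : H) = t
              rw [hczval, Subgroup.coe_one]; group))
        map_mul' := fun a b => MonoidHom.ext fun t => by
          induction t using QuotientGroup.induction_on with
          | H t =>
            exact congrArg QuotientGroup.mk (Subtype.ext (by
              change ((cz ((a * b : L) : H) t : T) : H) = ((cz (a : H) (cz (b : H) t) : T) : H)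
              rw [hczval, hczval, hczval, Subgroup.coe_mul]; group)) }
    let φ : L →* AddMonoid.End (Additive (T ⧸ X)) :=
      { toFun := fun l => MonoidHom.toAdditive (conjQ l : T ⧸ X →* T ⧸ X)
        map_one' := AddMonoidHom.ext fun w => DFunLike.congr_fun (map_one conjQ) w
        map_mul' := fun a b => AddMonoidHom.ext fun w => DFunLike.congr_fun (map_mul conjQ a b) w }
    let SQ : AddMonoid.End (Additive (T ⧸ X)) := MonoidHom.toAdditive (quotEnd X σT hXi)
    have hSQit : ∀ k (t : T), (⇑SQ)^[k] (Additive.ofMul (QuotientGroup.mk' X t)) =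
        Additive.ofMul (QuotientGroup.mk' X ((⇑σT)^[k] t)) := by
      intro k t
      induction k with
      | zero => rfl
      | succ k ih => rw [Function.iterate_succ_apply', Function.iterate_succ_apply', ih]; rfl
    have hsurj : ∀ w : Additive (T ⧸ X), ∃ t : T, Additive.ofMul (QuotientGroup.mk' X t) = w :=
      fun w => QuotientGroup.mk'_surjective X w.toMul
    obtain ⟨a, ha⟩ := IsPGroup.iff_card.1 hTq
    obtain ⟨e, he⟩ : ∃ e : ℕ, φ ⟨l, hl⟩ ^ q ^ e = 1 := by
      by_cases hq2 : q = 2
      · -- `T` is then trivial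
        refine ⟨0, AddMonoidHom.ext fun w => ?_⟩
        haveI : Subsingleton T := by
          rw [← Finite.card_le_one_iff_subsingleton, ha]
          rcases Nat.eq_zero_or_pos a with h0 | h0
          · simp [h0]
          · rw [ha, hq2] at hTodd
            exact absurd hTodd (Nat.not_odd_iff_even.2 (Even.pow_of_ne_zero even_two h0.ne'))
        obtain ⟨t, rfl⟩ := hsurj w
        rw [Subsingleton.elim t 1]
        simp only [map_one, ofMul_one]
        exact (map_zero _).trans (map_zero _).symm
      refine act_qgroup (inferInstance) σL hLp hLfpf hgenL hq hq2 _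
        (Additive (T ⧸ X)) le_rfl ⟨a, fun w => ?_⟩ φ SQ ?_ ?_ ?_ ?_ ⟨l, hl⟩
      · obtain ⟨t, rfl⟩ := hsurj w
        rw [← ofMul_pow, ← map_pow, ← ha, pow_card_eq_one', map_one, ofMul_one]
      · intro w
        obtain ⟨t, rfl⟩ := hsurj w
        rw [hSQit, hTp]
      · intro w hw
        have h1 : w.toMul = 1 := quotEnd_fpf X σT hXi hTfpf w.toMul hw
        exact h1
      · intro x w
        obtain ⟨t, rfl⟩ := hsurj w
        refine congrArg (fun s : T => Additive.ofMul (QuotientGroup.mk' X s)) (Subtype.ext ?_)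
        change σ (((cz (x : H) t : T) : H)) = ((cz (σ (x : H)) (σT t) : T) : H)
        rw [hczval, hczval, map_mul, map_mul, map_inv]
        rfl
      · rcases h4 with h4 | ⟨h4, -⟩
        · refine Or.inl fun w => ?_
          obtain ⟨t, rfl⟩ := hsurj w
          rw [hSQit]
          refine congrArg Additive.ofMul (QuotientGroup.eq.2 ?_).symm
          intro i
          have := h4 ((⇑σT)^[i] t)
          rw [← Function.iterate_add_apply, Nat.add_comm, Function.iterate_add_apply] at this
          rwa [iterate_map_mul, iterate_map_inv]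
        · refine Or.inr fun w => ?_
          obtain ⟨t, rfl⟩ := hsurj w
          rw [hSQit, ← ofMul_mul, ← map_mul]
          set v := t * (⇑σT)^[2 ^ n] t with hv
          let τT : T →* T := MonoidHom.mk' ((⇑σT)^[2 ^ n]) (fun a b => iterate_map_mul σT _ a b)
          have hττT : ∀ y, τT (τT y) = y := by
            intro y
            change (⇑σT)^[2 ^ n] ((⇑σT)^[2 ^ n] y) = y
            rw [← Function.iterate_add_apply, ← two_mul, ← pow_succ']
            exact hTp y
          have hτv : τT v = (⇑σT)^[2 ^ n] t * t := by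
            rw [hv, map_mul]
            change (⇑σT)^[2 ^ n] t * τT (τT t) = _
            rw [hττT]
          have hvX : v⁻¹ * τT v ∈ X := by
            refine hZX ?_
            rw [hτv, hv, show (t * (⇑σT)^[2 ^ n] t)⁻¹ * ((⇑σT)^[2 ^ n] t * t) =
              ⁅((⇑σT)^[2 ^ n] t)⁻¹, t⁻¹⁆ by simp [commutatorElement_def, mul_assoc]]
            exact hTc _ _
          obtain ⟨y, hy, hvy⟩ := exists_fixed_mul τT hττT X hTo v hvX
          have hyv : QuotientGroup.mk' X v = QuotientGroup.mk' X y := QuotientGroup.eq.2 hvy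
          rw [hyv, hSQit]
          refine congrArg Additive.ofMul (QuotientGroup.eq.2 ?_).symm
          intro i
          have hy' : (⇑σT)^[2 ^ n] ((⇑σT)^[i] y) = (⇑σT)^[i] y := by
            rw [← Function.iterate_add_apply, Nat.add_comm, Function.iterate_add_apply]
            exact congrArg _ hy
          have := h4 _ hy'
          rw [← Function.iterate_add_apply, Nat.add_comm, Function.iterate_add_apply] at this
          rwa [iterate_map_mul, iterate_map_inv]
    refine ⟨e, fun _ => ⟨R, hxR, fun t => ?_⟩⟩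
    have h1 := DFunLike.congr_fun he (Additive.ofMul (QuotientGroup.mk' X t))
    rw [← map_pow] at h1
    have h2 : QuotientGroup.mk' X (cz (l ^ q ^ e) t) = QuotientGroup.mk' X t := by
      have h3 : φ (⟨l, hl⟩ ^ q ^ e) (Additive.ofMul (QuotientGroup.mk' X t)) =
          Additive.ofMul (QuotientGroup.mk' X (cz (((⟨l, hl⟩ : L) ^ q ^ e : L) : H) t)) := rfl
      rw [h3, SubmonoidClass.coe_pow] at h1
      exact h1
    exact (QuotientGroup.eq.1 h2.symm) 0
  choose ex hex using hx
  cases nonempty_fintype T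
  set e0 := Finset.univ.sup ex with he0
  set a0 := l ^ q ^ e0 with ha0
  have hcen : ∀ t : T, t⁻¹ * cz a0 t ∈ center T := by
    intro t
    by_contra hne
    obtain ⟨R, hR, hRt⟩ := hex _ hne
    apply hR
    obtain ⟨d, hd⟩ := pow_dvd_pow q (Finset.le_sup (f := ex) (Finset.mem_univ (t⁻¹ * cz a0 t)))
    rw [ha0, he0, hd, pow_mul]
    generalize l ^ q ^ ex (t⁻¹ * cz a0 t) = g at hRt ⊢
    clear hd
    induction d with
    | zero => simp [cz]
    | succ d ih =>
      have h5 := R.mul_mem ih (hRt (cz (g ^ d) t))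
      have h6 : cz (g ^ (d + 1)) t = cz g (cz (g ^ d) t) := by
        simp only [cz, pow_succ', map_mul, MulAut.mul_apply]
      rw [h6]
      simpa [mul_assoc] using h5
  obtain ⟨a, ha⟩ := IsPGroup.iff_card.1 hTq
  refine ⟨e0 + a + a, fun g hg => ?_⟩
  rw [pow_add, pow_mul, ← ha]
  refine pow_commute_of_critical (inferInstance : (Cfsg.pCore q H).Normal) hTn hTcrit ?_ hg
  intro t ht
  rw [pow_add, pow_mul, ← ha, ← ha0]
  have hit : ∀ k : ℕ, cz (a0 ^ k) ⟨t, ht⟩ =
      ⟨t, ht⟩ * ((⟨t, ht⟩ : T)⁻¹ * cz a0 ⟨t, ht⟩) ^ k := by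
    intro k
    induction k with
    | zero => simp [cz]
    | succ k ih =>
      have h6 : cz (a0 ^ (k + 1)) ⟨t, ht⟩ = cz a0 (cz (a0 ^ k) ⟨t, ht⟩) := by
        simp only [cz, pow_succ', map_mul, MulAut.mul_apply]
      rw [h6, ih, map_mul, map_pow, hLZ a0 (L.pow_mem hl _) _ (hcen _), pow_succ' _ k, ← mul_assoc,
        mul_inv_cancel_left]
  have h7 := congrArg Subtype.val (hit (Nat.card T))
  rw [pow_card_eq_one', mul_one, hczval, mul_inv_eq_iff_eq_mul] at h7
  exact h7

/-- `g⁻¹ τ g` lies in the second Fitting subgroup. -/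
theorem tau_mem_fitting_two {n : ℕ} (c : ℕ) :
    ∀ (G : Type u) [Group G] [Finite G], Nat.card G ≤ c → Group.IsSolvable G → ∀ σ : G →* G,
      (∀ g, (⇑σ)^[2 ^ (n + 1)] g = g) → (∀ g, σ g = g → g = 1) →
        ∀ g, QuotientGroup.mk' (Cfsg.fittingSubgroup G) (g⁻¹ * (⇑σ)^[2 ^ n] g) ∈
          Cfsg.fittingSubgroup (G ⧸ Cfsg.fittingSubgroup G) := by
  induction c with
  | zero =>
    intro G _ _ h
    exact absurd h (by simp [Nat.card_pos.ne'])
  | succ c ih =>
    intro G _ _ hc hG σ hσp hfpf
    classical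
    rcases subsingleton_or_nontrivial G with hs | hs
    · intro g
      rw [Subsingleton.elim (g⁻¹ * _) 1, map_one]
      exact one_mem _
    have hM0 : 0 < 2 ^ (n + 1) := pow_pos two_pos _
    have hσinj := (bijective_of_periodic σ hM0 hσp).1
    obtain ⟨V, r, hr, hV, hexp, hmin⟩ := exists_minimal_isAbInv hG ({σ} : Set (G →* G))
    haveI := hV.normal
    haveI : IsMulCommutative V := ⟨⟨fun a b => Subtype.ext (hV.comm a a.2 b b.2)⟩⟩
    haveI : Finite (Additive V) := inferInstanceAs (Finite V)
    have hVs : ∀ x ∈ V, σ x ∈ V := hV.inv σ rfl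
    have hCs := centralizer_invariant V σ hσinj hVs
    have hquot : ∀ (N : Subgroup G) [N.Normal] (h : ∀ x ∈ N, σ x ∈ N) (x : G ⧸ N),
        (⇑(quotEnd N σ h))^[2 ^ (n + 1)] x = x := by
      intro N _ h x
      obtain ⟨g, rfl⟩ := QuotientGroup.mk'_surjective N x
      rw [iterate_quotEnd, hσp]
    have hSval : ∀ k (w : Additive V),
        ((((⇑(endOn V σ hVs))^[k] w).toMul : V) : G) = (⇑σ)^[k] (w.toMul : G) := by
      intro k w
      induction k with
      | zero => rfl
      | succ k ih => simp only [Function.iterate_succ_apply', ← ih]; rfl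
    have key := gross_linear (isSolvable_quotient hG _) (quotEnd _ σ hCs) (n := n)
        (fun x => hquot _ hCs x) (quotEnd_fpf _ σ hCs hfpf) (W := Additive V) hr
        (fun w => additive_ext V (by simpa using hexp _ w.toMul.2))
        (by
          obtain ⟨v, hv⟩ := Subgroup.ne_bot_iff_exists_ne_one.1 hV.ne_bot
          exact ⟨Additive.ofMul v, fun h => hv h⟩)
        (conjQuot V) (conjQuot_injective V) (endOn V σ hVs)
        (fun w => additive_ext V (by rw [hSval, hσp]))
        (fun w hw => additive_ext V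
          (hfpf _ (congrArg (fun u : Additive V => (u.toMul : G)) hw)))
        (fun x w => by
          obtain ⟨g, rfl⟩ := QuotientGroup.mk'_surjective (centralizer (V : Set G)) x
          exact endOn_conjQuot V σ hVs g w)
        (fun U hρU hSU => by
          let U' : Subgroup G :=
            (((AddSubgroup.toSubgroup U).comap (MonoidHom.id V : V →* V)).map V.subtype)
          have hmem : ∀ v : V, (v : G) ∈ U' ↔ Additive.ofMul v ∈ U := by
            intro v
            constructor
            · rintro ⟨w, hw, hwv⟩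
              obtain rfl : w = v := Subtype.ext hwv
              exact hw
            · exact fun h => ⟨v, h, rfl⟩
          have hU'V : U' ≤ V := by
            rintro _ ⟨w, -, rfl⟩
            exact w.2
          have hn : U'.Normal := by
            constructor
            intro x hx g
            obtain ⟨v, hv, rfl⟩ := hx
            have h2 := (hmem _).2 (hρU (QuotientGroup.mk' _ g) _ hv)
            exact (conjQuot_val V g (Additive.ofMul v)) ▸ h2
          rcases hmin U' hU'V hn (by
            rintro s hs x ⟨v, hv, rfl⟩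
            obtain rfl := Set.mem_singleton_iff.1 hs
            exact (hmem _).2 (hSU _ hv)) with h | h
          · refine Or.inl ((AddSubgroup.eq_bot_iff_forall U).2 fun w hw => ?_)
            have h1 : (w.toMul : G) ∈ U' := (hmem _).2 hw
            rw [h, mem_bot] at h1
            exact additive_ext V h1
          · exact Or.inr (eq_top_iff.2 fun w _ => (hmem _).1 (h.symm ▸ w.toMul.2)))
    have hQ := ih (G ⧸ V) (by have := card_quotient_lt V hV.ne_bot; omega)
      (isSolvable_quotient hG V) (quotEnd V σ hVs) (fun x => hquot V hVs x)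
      (quotEnd_fpf V σ hVs hfpf)
    let τ : G →* G := MonoidHom.mk' ((⇑σ)^[2 ^ n]) (fun a b => iterate_map_mul σ _ a b)
    set T := Subgroup.closure (Set.range fun g => g⁻¹ * τ g) with hT
    haveI hTn : T.Normal := inv_mul_mem_closure_normal τ
    -- the lower central series of `T` reaches into `C(V)`
    obtain ⟨k₁, hk₁⟩ : ∃ k, T.lowerCentralSeries k ≤ centralizer (V : Set G) := by
      set π := QuotientGroup.mk' (centralizer (V : Set G)) with hπ
      have h1 : T.map π ≤ Cfsg.fittingSubgroup (G ⧸ centralizer (V : Set G)) := by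
        rw [map_le_iff_le_comap, hT, closure_le]
        rintro _ ⟨g, rfl⟩
        have h2 := key (π g)
        rw [hπ, iterate_quotEnd] at h2
        rw [SetLike.mem_coe, Subgroup.mem_comap, map_mul, map_inv]
        exact h2
      haveI : Group.IsNilpotent (T.map π) :=
        Cfsg.Agent.Fitting.isNilpotent_of_le Cfsg.Agent.Fitting.fitting_isNilpotent h1
      obtain ⟨k, hk⟩ := (Subgroup.isNilpotent_iff_lowerCentralSeries (T.map π)).1 inferInstance
      refine ⟨k, ?_⟩
      rw [← map_lowerCentralSeries, Subgroup.map_eq_bot_iff, hπ, QuotientGroup.ker_mk'] at hk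
      exact hk
    -- and into the preimage of `F(G ⧸ V)`
    obtain ⟨k₂, hk₂⟩ : ∃ k,
        (T.lowerCentralSeries k).map (QuotientGroup.mk' V) ≤ Cfsg.fittingSubgroup (G ⧸ V) := by
      set π := (QuotientGroup.mk' (Cfsg.fittingSubgroup (G ⧸ V))).comp (QuotientGroup.mk' V)
        with hπ
      have h1 : T.map π ≤ Cfsg.fittingSubgroup ((G ⧸ V) ⧸ Cfsg.fittingSubgroup (G ⧸ V)) := by
        rw [map_le_iff_le_comap, hT, closure_le]
        rintro _ ⟨g, rfl⟩
        have h2 := hQ (QuotientGroup.mk' V g)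
        rw [iterate_quotEnd, ← map_inv, ← map_mul] at h2
        rw [SetLike.mem_coe, Subgroup.mem_comap, hπ, MonoidHom.comp_apply]
        exact h2
      haveI : Group.IsNilpotent (T.map π) :=
        Cfsg.Agent.Fitting.isNilpotent_of_le Cfsg.Agent.Fitting.fitting_isNilpotent h1
      obtain ⟨k, hk⟩ := (Subgroup.isNilpotent_iff_lowerCentralSeries (T.map π)).1 inferInstance
      refine ⟨k, ?_⟩
      rw [← map_lowerCentralSeries, hπ, ← Subgroup.map_map, Subgroup.map_eq_bot_iff,
        QuotientGroup.ker_mk'] at hk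
      exact hk
    set D := T.lowerCentralSeries (max k₁ k₂) with hD
    haveI hDn : D.Normal := inferInstance
    have hD1 : D ≤ centralizer (V : Set G) :=
      (Subgroup.lowerCentralSeries_antitone T (le_max_left _ _)).trans hk₁
    have hD2 : D.map (QuotientGroup.mk' V) ≤ Cfsg.fittingSubgroup (G ⧸ V) :=
      (map_mono (Subgroup.lowerCentralSeries_antitone T (le_max_right _ _))).trans hk₂
    have hDnil : Group.IsNilpotent D := by
      haveI : Group.IsNilpotent (Cfsg.fittingSubgroup (G ⧸ V)) :=
        Cfsg.Agent.Fitting.fitting_isNilpotent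
      apply Subgroup.isNilpotent_of_ker_le_center
        (((QuotientGroup.mk' V).comp D.subtype).codRestrict (Cfsg.fittingSubgroup (G ⧸ V))
          fun x => hD2 ⟨x, x.2, rfl⟩)
      intro x hx
      have hxV : (x : G) ∈ V := (QuotientGroup.eq_one_iff _).1 (congrArg Subtype.val hx)
      rw [mem_center_iff]
      intro y
      exact Subtype.ext (mem_centralizer_iff.1 (hD1 y.2) x hxV).symm
    have hDF : D ≤ Cfsg.fittingSubgroup G := Cfsg.Agent.Fitting.le_fitting hDn hDnil
    set πF := QuotientGroup.mk' (Cfsg.fittingSubgroup G) with hπF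
    haveI : (T.map πF).Normal := hTn.map πF (QuotientGroup.mk'_surjective _)
    have hnil : Group.IsNilpotent (T.map πF) := by
      rw [Subgroup.isNilpotent_iff_lowerCentralSeries]
      refine ⟨max k₁ k₂, ?_⟩
      rw [← map_lowerCentralSeries, Subgroup.map_eq_bot_iff, hπF, QuotientGroup.ker_mk']
      exact hDF
    intro g
    exact Cfsg.Agent.Fitting.le_fitting inferInstance hnil ⟨_, subset_closure ⟨g, rfl⟩, rfl⟩

/-- Prepend the Fitting subgroup to a chain. -/
theorem chain_cons {G : Type*} [Group G] [Finite G] {m : ℕ}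
    (h : ∃ E : Fin (m + 1) → Subgroup (G ⧸ Cfsg.fittingSubgroup G), E 0 = ⊥ ∧
      E (Fin.last m) = ⊤ ∧ Monotone E ∧ (∀ i, (E i).Normal) ∧
      ∀ i : Fin m, ∃ k : ℕ, (E i.succ).lowerCentralSeries k ≤ E i.castSucc) :
    ∃ F : Fin (m + 1 + 1) → Subgroup G, F 0 = ⊥ ∧ F (Fin.last (m + 1)) = ⊤ ∧ Monotone F ∧
      (∀ i, (F i).Normal) ∧
      ∀ i : Fin (m + 1), ∃ k : ℕ, (F i.succ).lowerCentralSeries k ≤ F i.castSucc := by
  obtain ⟨E, hE0, hEl, hEm, hEn, hEk⟩ := h
  set F := Cfsg.fittingSubgroup G with hF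
  refine ⟨Fin.cons (α := fun _ => Subgroup G) ⊥ fun i => (E i).comap (QuotientGroup.mk' F),
    rfl, ?_, ?_, ?_, ?_⟩
  · rw [show Fin.last (m + 1) = (Fin.last m).succ from rfl, Fin.cons_succ, hEl, comap_top]
  · refine Fin.monotone_iff_le_succ.2 fun i => ?_
    induction i using Fin.cases with
    | zero => rw [Fin.castSucc_zero, Fin.cons_zero]; exact bot_le
    | succ i =>
      rw [Fin.castSucc_succ, Fin.cons_succ, Fin.cons_succ]
      exact comap_mono (hEm (Fin.castSucc_le_succ i))
  · intro i
    induction i using Fin.cases with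
    | zero => rw [Fin.cons_zero]; infer_instance
    | succ i =>
      rw [Fin.cons_succ]
      exact (hEn i).comap _
  · intro i
    induction i using Fin.cases with
    | zero =>
      rw [Fin.castSucc_zero, Fin.cons_zero, Fin.cons_succ, hE0, MonoidHom.comap_bot,
        QuotientGroup.ker_mk']
      obtain ⟨k, hk⟩ := (Subgroup.isNilpotent_iff_lowerCentralSeries F).1
        Cfsg.Agent.Fitting.fitting_isNilpotent
      exact ⟨k, hk.le⟩
    | succ i =>
      obtain ⟨k, hk⟩ := hEk i
      refine ⟨k, ?_⟩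
      rw [Fin.castSucc_succ, Fin.cons_succ, Fin.cons_succ, ← map_le_iff_le_comap,
        map_lowerCentralSeries,
        map_comap_eq_self_of_surjective (QuotientGroup.mk'_surjective F)]
      exact hk

theorem gross_chain (j : ℕ) :
    ∀ (G : Type u) [Group G] [Finite G], Group.IsSolvable G → ∀ σ : G →* G,
      (∀ g, (⇑σ)^[2 ^ (j + 2)] g = g) → (∀ g, σ g = g → g = 1) →
      ∃ F : Fin (2 * j + 2 + 1) → Subgroup G, F 0 = ⊥ ∧ F (Fin.last (2 * j + 2)) = ⊤ ∧ Monotone F ∧
        (∀ i, (F i).Normal) ∧
        ∀ i : Fin (2 * j + 2), ∃ k : ℕ, (F i.succ).lowerCentralSeries k ≤ F i.castSucc := by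
  induction j with
  | zero =>
    intro G _ _ hG σ hσp hfpf
    have hinj := (bijective_of_periodic σ (by norm_num) hσp).1
    haveI := nilpotent_commutator_of_fpf_four (Nat.card G) G le_rfl hG σ hinj hσp hfpf
    refine ⟨![⊥, commutator G, ⊤], rfl, rfl, ?_, ?_, ?_⟩
    · refine Fin.monotone_iff_le_succ.2 fun i => ?_
      fin_cases i
      · exact bot_le
      · exact le_top
    · intro i
      fin_cases i
      · exact (inferInstance : (⊥ : Subgroup G).Normal)
      · exact (inferInstance : (commutator G).Normal)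
      · exact (inferInstance : (⊤ : Subgroup G).Normal)
    · intro i
      fin_cases i
      · obtain ⟨k, hk⟩ := (Subgroup.isNilpotent_iff_lowerCentralSeries (commutator G)).1
          inferInstance
        exact ⟨k, hk.le⟩
      · refine ⟨1, ?_⟩
        change (⊤ : Subgroup G).lowerCentralSeries 1 ≤ commutator G
        simp [commutator_def]
  | succ j ih =>
    intro G _ _ hG σ hσp hfpf
    have hM0 : 0 < 2 ^ (j + 1 + 2) := pow_pos two_pos _
    have hbij := bijective_of_periodic σ hM0 hσp
    set F := Cfsg.fittingSubgroup G with hF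
    have hFi : ∀ x ∈ F, σ x ∈ F := char_invariant σ hbij F
    set σ₁ := quotEnd F σ hFi with hσ₁
    have hσ₁p : ∀ x, (⇑σ₁)^[2 ^ (j + 1 + 2)] x = x := by
      intro x
      obtain ⟨g, rfl⟩ := QuotientGroup.mk'_surjective F x
      rw [hσ₁, iterate_quotEnd, hσp]
    set F₂ := Cfsg.fittingSubgroup (G ⧸ F) with hF₂
    have hbij₁ := bijective_of_periodic σ₁ hM0 hσ₁p
    have hF₂i : ∀ x ∈ F₂, σ₁ x ∈ F₂ := char_invariant σ₁ hbij₁ F₂
    have hτ : ∀ x, (⇑(quotEnd F₂ σ₁ hF₂i))^[2 ^ (j + 2)] x = x := by
      intro x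
      obtain ⟨y, rfl⟩ := QuotientGroup.mk'_surjective F₂ x
      obtain ⟨g, rfl⟩ := QuotientGroup.mk'_surjective F y
      rw [iterate_quotEnd]
      refine (QuotientGroup.eq.2 ?_).symm
      rw [hσ₁, iterate_quotEnd, ← map_inv, ← map_mul]
      exact tau_mem_fitting_two _ G le_rfl hG σ hσp hfpf g
    have h2 := ih ((G ⧸ F) ⧸ F₂) (isSolvable_quotient (isSolvable_quotient hG F) F₂)
      (quotEnd F₂ σ₁ hF₂i) hτ (quotEnd_fpf F₂ σ₁ hF₂i (quotEnd_fpf F σ hFi hfpf))
    exact chain_cons (chain_cons h2)

end Cfsg.Agent.FGS73
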