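import Cfsg.Agent.FGS73.Action

/-!
A finite soluble group with a fixed-point-free endomorphism of prime order is nilpotent.
-/

namespace Cfsg.Agent.FGS73

open Subgroup
open scoped IsMulCommutative

universe u

/-- In a faithful module with no invariant fixed vectors, a normal invariant subgroup of exponent
`r` (the characteristic) is trivial. -/
theorem eq_bot_of_exponent_fixed {H W : Type*} [Group H] [Finite H] [AddCommGroup W] [Finite W]
    {r : ℕ} [Fact r.Prime] (hW : ∀ w : W, r • w = 0) (hW1 : ∃ w : W, w ≠ 0)
    (ρ : H →* AddMonoid.End W) (P : Subgroup H) (hP : IsPGroup r P)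
    (hfix : (∀ x ∈ P, ρ x = 1) → P = ⊥)
    (hirr : ∀ U : AddSubgroup W, (∀ w, w ∈ U ↔ ∀ x ∈ P, ρ x w = w) → U = ⊥ ∨ U = ⊤) : P = ⊥ := by
  let U : AddSubgroup W :=
    { carrier := {w | ∀ x ∈ P, ρ x w = w}
      zero_mem' := fun x _ => map_zero _
      add_mem' := fun {a b} ha hb x hx => by rw [map_add, ha x hx, hb x hx]
      neg_mem' := fun {a} ha x hx => by rw [map_neg, ha x hx] }
  rcases hirr U (fun w => Iff.rfl) with h | h
  · exfalso
    letI : MulAction P W :=
      { smul := fun x w => ρ x w
        one_smul := fun w => end_one_apply ρ w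
        mul_smul := fun x y w => end_mul_apply ρ x y w }
    have hd : r ∣ Nat.card W := by
      obtain ⟨w, hw⟩ := hW1
      have h1 : addOrderOf w = r := addOrderOf_eq_prime (hW w) hw
      exact h1 ▸ addOrderOf_dvd_natCard w
    obtain ⟨b, hb, hb0⟩ := hP.exists_fixed_point_of_prime_dvd_card_of_fixed_point (α := W) hd
      (a := 0) (fun x => map_zero (ρ x))
    have hbU : b ∈ U := fun x hx => hb ⟨x, hx⟩
    rw [h, AddSubgroup.mem_bot] at hbU
    exact hb0 hbU.symm
  · refine hfix fun x hx => AddMonoidHom.ext fun w => ?_
    have hw : w ∈ U := h ▸ AddSubgroup.mem_top w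
    exact hw x hx

theorem nilpotent_of_fpf_prime (n : ℕ) : ∀ (G : Type u) [Group G] [Finite G],
    Nat.card G ≤ n → Group.IsSolvable G → ∀ (σ : G →* G) (p : ℕ), p.Prime →
      (∀ g, (⇑σ)^[p] g = g) → (∀ g, σ g = g → g = 1) → Group.IsNilpotent G := by
  induction n with
  | zero =>
    intro G _ _ h
    exact absurd h (by simp [Nat.card_pos.ne'])
  | succ n ih =>
    intro G _ _ hcard hG σ p hp hσp hfpf
    rcases subsingleton_or_nontrivial G with hs | hs
    · infer_instance
    obtain ⟨V, r, hr, hV, hexp, hmin⟩ := exists_minimal_isAbInv hG ({σ} : Set (G →* G))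
    haveI := hV.normal
    haveI : IsMulCommutative V := ⟨⟨fun a b => Subtype.ext (hV.comm a a.2 b b.2)⟩⟩
    haveI := Fact.mk hr
    have hVs : ∀ x ∈ V, σ x ∈ V := hV.inv σ rfl
    have hquot : ∀ (N : Subgroup G) [N.Normal] (h : ∀ x ∈ N, σ x ∈ N) (x : G ⧸ N),
        (⇑(quotEnd N σ h))^[p] x = x := by
      intro N _ h x
      obtain ⟨g, rfl⟩ := QuotientGroup.mk'_surjective N x
      have : ∀ k, (⇑(quotEnd N σ h))^[k] (QuotientGroup.mk' N g) =
          QuotientGroup.mk' N ((⇑σ)^[k] g) := by
        intro k
        induction k with
        | zero => rfl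
        | succ k ih => simp only [Function.iterate_succ_apply', ih, quotEnd_mk]
      rw [this, hσp]
    have hσinj : Function.Injective σ := by
      intro a b hab
      obtain ⟨k, rfl⟩ := Nat.exists_eq_succ_of_ne_zero hp.ne_zero
      have := congrArg ((⇑σ)^[k]) hab
      rwa [← Function.iterate_succ_apply, ← Function.iterate_succ_apply, hσp, hσp] at this
    set C := centralizer (V : Set G) with hC
    have hCs : ∀ x ∈ C, σ x ∈ C := centralizer_invariant V σ hσinj hVs
    let t := quotEnd C σ hCs
    have htfpf := quotEnd_fpf C σ hCs hfpf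
    have hCtop : C = ⊤ := by
      by_contra hne
      haveI : Nontrivial (G ⧸ C) := QuotientGroup.nontrivial_iff.2 hne
      obtain ⟨A, q, hq, hA, hAexp, -⟩ :=
        exists_minimal_isAbInv (isSolvable_quotient hG C) ({t} : Set (G ⧸ C →* G ⧸ C))
      haveI := hA.normal
      haveI := Fact.mk hq
      have hW : ∀ w : Additive V, r • w = 0 := fun w =>
        additive_ext V (by simpa using hexp _ w.toMul.2)
      have hW1 : ∃ w : Additive V, w ≠ 0 := by
        obtain ⟨v, hv⟩ := (Subgroup.ne_bot_iff_exists_ne_one).1 hV.ne_bot
        exact ⟨Additive.ofMul v, fun h => hv h⟩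
      haveI : Finite (Additive V) := inferInstanceAs (Finite V)
      have hqr : q ≠ r := by
        rintro rfl
        apply hA.ne_bot
        refine eq_bot_of_exponent_fixed hW hW1 (conjQuot V) A
          (isPGroup_of_exponent A hAexp) ?_ ?_
        · intro h
          rw [eq_bot_iff]
          intro x hx
          rw [mem_bot]
          exact conjQuot_injective V (by rw [h x hx, map_one])
        · intro U hU
          let A' := A.comap (QuotientGroup.mk' C)
          let U' : Subgroup G := V ⊓ centralizer (A' : Set G)
          have hmem : ∀ (v : G) (hv : v ∈ V), v ∈ U' ↔ Additive.ofMul (⟨v, hv⟩ : V) ∈ U := by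
            intro v hv
            rw [hU, Subgroup.mem_inf, mem_centralizer_iff]
            simp only [hv, true_and]
            constructor
            · intro h x hx
              obtain ⟨g, rfl⟩ := QuotientGroup.mk'_surjective C x
              apply additive_ext
              rw [conjQuot_val]
              change g * v * g⁻¹ = v
              rw [h g hx, mul_inv_cancel_right]
            · intro h g hg
              have h1 := congrArg (fun u : Additive V => (u.toMul : G)) (h _ hg)
              replace h1 : ((conjQuot V (QuotientGroup.mk' C g) (Additive.ofMul (⟨v, hv⟩ : V))).toMul : G) = v := h1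
              rw [conjQuot_val] at h1
              exact mul_inv_eq_iff_eq_mul.1 h1
          have hA's : ∀ x ∈ A', σ x ∈ A' := fun x hx => hA.inv t rfl _ hx
          rcases hmin U' inf_le_left inferInstance (fun s hs x hx => by
            obtain rfl := Set.mem_singleton_iff.1 hs
            exact ⟨hVs x hx.1, centralizer_invariant A' s hσinj hA's x hx.2⟩) with h | h
          · refine Or.inl ((AddSubgroup.eq_bot_iff_forall U).2 fun w hw => ?_)
            have h1 : (w.toMul : G) ∈ U' := (hmem _ w.toMul.2).2 hw
            rw [h, mem_bot] at h1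
            exact additive_ext V h1
          · refine Or.inr (eq_top_iff.2 fun w _ => ?_)
            exact (hmem _ w.toMul.2).1 (h.symm ▸ w.toMul.2)
      have hcop : (Nat.card A).Coprime (Nat.card (Additive V)) := by
        obtain ⟨a, ha⟩ := IsPGroup.iff_card.1 (isPGroup_of_exponent A hAexp)
        obtain ⟨b, hb⟩ := IsPGroup.iff_card.1 (isPGroup_of_exponent V hexp)
        change (Nat.card A).Coprime (Nat.card V)
        rw [ha, hb]
        exact Nat.coprime_pow_primes _ _ hq hr hqr
      let tA : A →* A := (t.comp A.subtype).codRestrict A fun a => hA.inv t rfl a a.2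
      have htA : ∀ k (a : A), (((⇑tA)^[k] a : A) : G ⧸ C) = (⇑t)^[k] (a : G ⧸ C) := by
        intro k a
        induction k with
        | zero => rfl
        | succ k ih =>
          simp only [Function.iterate_succ_apply', ← ih]
          rfl
      have hSval : ∀ k (w : Additive V),
          ((((⇑(endOn V σ hVs))^[k] w).toMul : V) : G) = (⇑σ)^[k] (w.toMul : G) := by
        intro k w
        induction k with
        | zero => rfl
        | succ k ih =>
          simp only [Function.iterate_succ_apply', ← ih]
          rfl
      have key := frobenius_core ((conjQuot V).comp A.subtype) tA (endOn V σ hVs) hp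
        (fun a => Subtype.ext (by rw [htA]; exact hquot C hCs a))
        (fun a ha => Subtype.ext (htfpf a (congrArg Subtype.val ha)))
        (fun w => additive_ext V (by rw [hSval, hσp]))
        (fun w hw => additive_ext V
          (hfpf _ (congrArg (fun u : Additive V => (u.toMul : G)) hw)))
        (fun a w => by
          obtain ⟨g, hg⟩ := QuotientGroup.mk'_surjective C (a : G ⧸ C)
          change endOn V σ hVs (conjQuot V (a : G ⧸ C) w) = conjQuot V (t a) (endOn V σ hVs w)
          rw [← hg]
          exact endOn_conjQuot V σ hVs g w) hcop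
      apply hA.ne_bot
      rw [eq_bot_iff]
      intro x hx
      rw [mem_bot]
      refine conjQuot_injective V ?_
      rw [map_one]
      exact DFunLike.congr_fun key ⟨x, hx⟩
    haveI : Group.IsNilpotent (G ⧸ V) :=
      ih (G ⧸ V) (by have := card_quotient_lt V hV.ne_bot; omega) (isSolvable_quotient hG V)
        (quotEnd V σ hVs) p hp (fun x => hquot V hVs x) (quotEnd_fpf V σ hVs hfpf)
    apply Subgroup.isNilpotent_of_ker_le_center (QuotientGroup.mk' V)
    rw [QuotientGroup.ker_mk']
    intro x hx
    rw [mem_center_iff]
    intro y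
    have hy : y ∈ C := hCtop ▸ mem_top y
    exact (mem_centralizer_iff.1 hy x hx).symm

end Cfsg.Agent.FGS73
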