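import Cfsg.Agent.FGS73.SGLinear
import Cfsg.Agent.FGS73.PrimeFPF

/-!
The Shult–Gross theorem: a soluble group with a fixed-point-free automorphism of order `p ^ n`,
`p` odd, has Fitting height at most `n`.
-/

namespace Cfsg.Agent.FGS73

open Subgroup
open scoped TensorProduct IsMulCommutative commutatorElement

universe u

theorem bijective_of_periodic {G : Type*} [Group G] (σ : G →* G) {M : ℕ} (hM : 0 < M)
    (h : ∀ g, (⇑σ)^[M] g = g) : Function.Bijective σ := by
  refine ⟨fun a b hab => ?_, fun b => ⟨(⇑σ)^[M - 1] b, ?_⟩⟩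
  · have := congrArg ((⇑σ)^[M - 1]) hab
    rwa [← Function.iterate_succ_apply, ← Function.iterate_succ_apply,
      show (M - 1).succ = M by omega, h, h] at this
  · rw [← Function.iterate_succ_apply' (⇑σ), show (M - 1).succ = M by omega, h]

theorem char_invariant {G : Type*} [Group G] (σ : G →* G) (hσ : Function.Bijective σ)
    (K : Subgroup G) [hK : K.Characteristic] : ∀ x ∈ K, σ x ∈ K := by
  intro x hx
  rw [← Subgroup.characteristic_iff_map_eq.1 hK (MulEquiv.ofBijective σ hσ)]
  exact ⟨x, hx, rfl⟩

/-- an element `f = x⁻¹ τ x` fixed by `τ` satisfies `f ^ p = 1` -/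
theorem eq_one_of_fixed_commutator {G : Type*} [Group G] [Finite G] (τ : G →* G) {p : ℕ}
    (hp : p.Prime) (hτp : ∀ g, (⇑τ)^[p] g = g) (hcard : ¬ p ∣ Nat.card G) {x : G}
    (hf : τ (x⁻¹ * τ x) = x⁻¹ * τ x) : τ x = x := by
  have hit : ∀ k, (⇑τ)^[k] x = x * (x⁻¹ * τ x) ^ k := by
    intro k
    induction k with
    | zero => simp
    | succ k ih =>
      rw [Function.iterate_succ_apply', ih, map_mul, map_pow, hf, pow_succ' _ k, ← mul_assoc,
        mul_inv_cancel_left]
  have h1 := hit p
  rw [hτp, eq_comm, mul_eq_left] at h1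
  have h2 : orderOf (x⁻¹ * τ x) = 1 :=
    ((Nat.dvd_prime hp).1 (orderOf_dvd_of_pow_eq_one h1)).resolve_right
      fun h => hcard (h ▸ orderOf_dvd_natCard _)
  exact (inv_mul_eq_one.1 (orderOf_eq_one_iff.1 h2)).symm

/-- additive endomorphisms of a `ZMod r`-module are linear -/
def toZModEnd (r : ℕ) (W : Type*) [AddCommGroup W] [Module (ZMod r) W] :
    AddMonoid.End W →* Module.End (ZMod r) W where
  toFun f :=
    { toFun := f
      map_add' := map_add f
      map_smul' := fun c w => ZMod.map_smul (f : W →+ W) c w }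
  map_one' := LinearMap.ext fun _ => rfl
  map_mul' _ _ := LinearMap.ext fun _ => rfl

theorem toZModEnd_apply {r : ℕ} {W : Type*} [AddCommGroup W] [Module (ZMod r) W]
    (f : AddMonoid.End W) (w : W) : toZModEnd r W f w = f w := rfl

/-- the linear step -/
theorem tau_trivial_linear {H : Type u} [Group H] [Finite H] (hsol : Group.IsSolvable H)
    (σ : H →* H) {p n : ℕ} (hp : p.Prime) (hp2 : p ≠ 2)
    (hσp : ∀ x, (⇑σ)^[p ^ (n + 1)] x = x) (hfpf : ∀ x, σ x = x → x = 1)
    {W : Type*} [AddCommGroup W] [Finite W] {r : ℕ} (hr : r.Prime)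
    (hWr : ∀ w : W, r • w = 0) (hW1 : ∃ w : W, w ≠ 0)
    (ρ : H →* AddMonoid.End W) (hρ : Function.Injective ρ) (S : AddMonoid.End W)
    (hSp : ∀ w, (⇑S)^[p ^ (n + 1)] w = w) (hS : ∀ w, S w = w → w = 0)
    (hcompat : ∀ x w, S (ρ x w) = ρ (σ x) (S w))
    (hirr : ∀ U : AddSubgroup W, (∀ x, ∀ u ∈ U, ρ x u ∈ U) → (∀ u ∈ U, S u ∈ U) →
      U = ⊥ ∨ U = ⊤) : ∀ x, (⇑σ)^[p ^ n] x = x := by
  classical
  haveI := hsol
  haveI := Fact.mk hp
  haveI := Fact.mk hr
  set M := p ^ (n + 1) with hM
  have hM0 : 0 < M := pow_pos hp.pos _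
  have hσbij := bijective_of_periodic σ hM0 hσp
  have hhom : ∀ k (a b : H), (⇑σ)^[k] (a * b) = (⇑σ)^[k] a * (⇑σ)^[k] b :=
    fun k a b => iterate_map_mul σ k a b
  let τ : H →* H := MonoidHom.mk' ((⇑σ)^[p ^ n]) (hhom _)
  have hτp : ∀ x, (⇑τ)^[p] x = x := by
    intro x
    have : (⇑τ)^[p] x = (⇑σ)^[p ^ n * p] x := by rw [Function.iterate_mul]; rfl
    rw [this, ← pow_succ]
    exact hσp x
  have hpH : ¬ p ∣ Nat.card H := not_dvd_of_periodic σ hσp hfpf
  -- no invariant normal `r`-subgroups
  have hno : ∀ P : Subgroup H, P.Normal → (∀ x ∈ P, σ x ∈ P) → IsPGroup r P → P = ⊥ := by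
    intro P hPn hPi hP
    refine eq_bot_of_exponent_fixed hWr hW1 ρ P hP ?_ ?_
    · intro h
      rw [eq_bot_iff]
      intro x hx
      exact mem_bot.2 (hρ (by rw [h x hx, map_one]))
    · intro U hU
      refine hirr U (fun x u hu => ?_) (fun u hu => ?_)
      · rw [hU] at hu ⊢
        intro y hy
        rw [← end_mul_apply, show y * x = x * (x⁻¹ * y * x) by group, end_mul_apply,
          hu _ (by simpa using hPn.conj_mem y hy x⁻¹)]
      · rw [hU] at hu ⊢
        intro y hy
        obtain ⟨z, hz⟩ := Finite.surjective_of_injective (f := fun z : P => (⟨σ z, hPi z z.2⟩ : P))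
          (fun a b h => Subtype.ext (hσbij.1 (congrArg Subtype.val h))) ⟨y, hy⟩
        have hz' : σ (z : H) = y := congrArg Subtype.val hz
        rw [← hz', ← hcompat, hu _ z.2]
  set F := Cfsg.fittingSubgroup H with hF
  have hFi : ∀ x ∈ F, σ x ∈ F := char_invariant σ hσbij F
  have hFr : ¬ r ∣ Nat.card F := by
    intro hd
    haveI : Group.IsNilpotent F := Cfsg.Agent.Fitting.fitting_isNilpotent
    obtain ⟨x, hx⟩ := exists_prime_orderOf_dvd_card' r hd
    have hxP : IsPGroup r (zpowers x) :=
      IsPGroup.of_card (n := 1) (by rw [Nat.card_zpowers, hx, pow_one])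
    obtain ⟨P, hP⟩ := hxP.exists_le_sylow
    haveI hPn : (P : Subgroup F).Normal :=
      P.normal_of_normalizerCondition Group.normalizerCondition_of_isNilpotent
    haveI : (P : Subgroup F).Characteristic := P.characteristic_of_normal hPn
    have hP' : ((P : Subgroup F).map F.subtype) ≤ Cfsg.pCore r H :=
      le_sSup ⟨Cfsg.Agent.Fitting.normal_map_subtype_of_characteristic _, P.2.map _⟩
    have hbot : Cfsg.pCore r H = ⊥ :=
      hno _ inferInstance (char_invariant σ hσbij _) (isPGroup_pCore H)
    have hx' : ((x : H)) ∈ Cfsg.pCore r H := hP' ⟨x, hP (mem_zpowers x), rfl⟩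
    rw [hbot, mem_bot] at hx'
    rw [← orderOf_coe, hx', orderOf_one] at hx
    exact hr.ne_one hx.symm
  -- `τ` centralises the Fitting subgroup
  have hτF : ∀ x ∈ F, τ x = x := by
    by_contra hne
    push Not at hne
    obtain ⟨R, -, hRmin⟩ := Finite.exists_le_minimal
      (p := fun K : Subgroup H => K ≤ F ∧ (∀ x ∈ K, σ x ∈ K) ∧ ∃ x ∈ K, τ x ≠ x) (a := F)
      ⟨le_rfl, hFi, hne⟩
    obtain ⟨hRF, hRi, x₁, hx₁R, hx₁⟩ := hRmin.prop
    let σR : R →* R := (σ.comp R.subtype).codRestrict R fun x => hRi x x.2
    have hval : ∀ k (x : R), (((⇑σR)^[k] x : R) : H) = (⇑σ)^[k] (x : H) := by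
      intro k x
      induction k with
      | zero => rfl
      | succ k ih => rw [Function.iterate_succ_apply', Function.iterate_succ_apply', ← ih]; rfl
    have hRp : ∀ x, (⇑σR)^[M] x = x := fun x => Subtype.ext (by rw [hval, hσp])
    have hRfpf : ∀ x, σR x = x → x = 1 := fun x hx =>
      Subtype.ext (hfpf x (congrArg Subtype.val hx))
    have hRbij := bijective_of_periodic σR hM0 hRp
    have hpR : ¬ p ∣ Nat.card R := fun hd => hpH (hd.trans (card_subgroup_dvd_card R))
    haveI : Group.IsNilpotent R :=
      Cfsg.Agent.Fitting.isNilpotent_of_le Cfsg.Agent.Fitting.fitting_isNilpotent hRF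
    have hcent : ∀ K : Subgroup R, (∀ x ∈ K, σR x ∈ K) → K ≠ ⊤ →
        ∀ x ∈ K, (⇑σR)^[p ^ n] x = x := by
      intro K hKi hK x hx
      by_contra hne'
      have hle : K.map R.subtype ≤ R := Subgroup.map_subtype_le K
      have h := hRmin.2 (y := K.map R.subtype) ⟨hle.trans hRF, ?_, (x : H), ⟨x, hx, rfl⟩, ?_⟩ hle
      · apply hK
        rw [eq_top_iff]
        intro y _
        obtain ⟨z, hz, hzy⟩ := h y.2
        exact (Subtype.ext hzy : z = y) ▸ hz
      · rintro _ ⟨z, hz, rfl⟩
        exact ⟨σR z, hKi z hz, rfl⟩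
      · intro h
        exact hne' (Subtype.ext (by rw [hval]; exact h))
    -- `R` is a `q`-group
    haveI hRnt : Nontrivial R := ⟨⟨⟨x₁, hx₁R⟩, 1, fun h => hx₁ (by
      have h' : x₁ = 1 := congrArg Subtype.val h
      rw [h', map_one])⟩⟩
    let τR : R →* R := MonoidHom.mk' ((⇑σR)^[p ^ n]) (fun a b => iterate_map_mul σR _ a b)
    have hτRp : ∀ x, (⇑τR)^[p] x = x := by
      intro x
      have : (⇑τR)^[p] x = (⇑σR)^[p ^ n * p] x := by rw [Function.iterate_mul]; rfl
      rw [this, ← pow_succ]
      exact hRp x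
    have hnotall : ¬ ∀ x : R, τR x = x := fun h => hx₁ (by
      have := congrArg Subtype.val (h ⟨x₁, hx₁R⟩)
      change (((⇑σR)^[p ^ n] (⟨x₁, hx₁R⟩ : R) : R) : H) = x₁ at this
      rw [hval] at this
      exact this)
    obtain ⟨q, hq, hqR⟩ : ∃ q, q.Prime ∧ IsPGroup q R := by
      by_contra hnone
      push Not at hnone
      apply hnotall
      let K : Subgroup R := τR.eqLocus (MonoidHom.id R)
      suffices hK : K = ⊤ from fun x => (hK ▸ mem_top x : x ∈ K)
      rw [← Subgroup.index_eq_one]
      by_contra hidx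
      obtain ⟨q, hq, hqd⟩ := Nat.exists_prime_and_dvd hidx
      haveI := Fact.mk hq
      obtain ⟨P⟩ : Nonempty (Sylow q R) := inferInstance
      haveI hPn : (P : Subgroup R).Normal :=
        P.normal_of_normalizerCondition Group.normalizerCondition_of_isNilpotent
      haveI : (P : Subgroup R).Characteristic := P.characteristic_of_normal hPn
      have hPtop : (P : Subgroup R) ≠ ⊤ := fun h =>
        hnone q hq ((P.2.to_le (le_of_eq h.symm)).of_equiv Subgroup.topEquiv)
      have hPK : (P : Subgroup R) ≤ K := fun x hx =>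
        hcent P (char_invariant σR hRbij _) hPtop x hx
      exact P.not_dvd_index (hqd.trans (Subgroup.index_dvd_of_le hPK))
    haveI := Fact.mk hq
    have hqr : q ≠ r := by
      rintro rfl
      obtain ⟨a, ha⟩ := IsPGroup.iff_card.1 hqR
      have hd : q ∣ Nat.card R := by
        rcases Nat.eq_zero_or_pos a with rfl | h0
        · exact absurd (Finite.one_lt_card_iff_nontrivial.2 hRnt) (by rw [ha]; simp)
        · exact ha ▸ dvd_pow_self q (Nat.pos_iff_ne_zero.1 h0)
      exact hFr (hd.trans (card_dvd_of_le hRF))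
    -- extend scalars
    haveI : Module (ZMod r) W := AddCommGroup.zmodModule hWr
    haveI : Module.Finite (ZMod r) W := Module.Finite.of_finite
    let K := AlgebraicClosure (ZMod r)
    let lin : AddMonoid.End W →* Module.End (ZMod r) W := toZModEnd r W
    let bc : Module.End (ZMod r) W →* Module.End K (K ⊗[ZMod r] W) :=
      (Module.End.baseChangeHom (ZMod r) K W).toRingHom.toMonoidHom
    let ρK : R →* Module.End K (K ⊗[ZMod r] W) := bc.comp (lin.comp (ρ.comp R.subtype))
    let SK : Module.End K (K ⊗[ZMod r] W) := bc (lin S)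
    have hbcinj : ∀ f g : AddMonoid.End W, bc (lin f) = bc (lin g) → f = g := by
      intro f g hfg
      refine AddMonoidHom.ext fun w => ?_
      have h1 := LinearMap.congr_fun hfg ((1 : K) ⊗ₜ[ZMod r] w)
      change (1 : K) ⊗ₜ[ZMod r] f w = (1 : K) ⊗ₜ[ZMod r] g w at h1
      let b := Module.Free.chooseBasis (ZMod r) W
      refine b.repr.injective (Finsupp.ext fun i => ?_)
      have h2 := congrArg (fun x => (Module.Basis.baseChange K b).repr x i) h1
      simp only [Module.Basis.baseChange_repr_tmul] at h2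
      simp only [Algebra.smul_def, mul_one] at h2
      exact (algebraMap (ZMod r) K).injective h2
    have hρK : Function.Injective ρK := fun a b h => Subtype.ext (hρ (hbcinj _ _ h))
    have hSKfix : ∀ v, SK v = v → v = 0 := by
      intro v hv
      have hker : LinearMap.ker (lin S - (1 : Module.End (ZMod r) W)) = ⊥ := by
        rw [LinearMap.ker_eq_bot']
        intro w hw
        exact hS w (sub_eq_zero.1 hw)
      have hu : IsUnit (bc (lin S - (1 : Module.End (ZMod r) W))) :=
        IsUnit.map bc ((LinearMap.isUnit_iff_ker_eq_bot _).2 hker)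
      have hinj := ((Module.End.isUnit_iff _).1 hu).1
      apply hinj
      rw [map_zero]
      change bc (lin S - (1 : Module.End (ZMod r) W)) v = 0
      have e : bc (lin S - (1 : Module.End (ZMod r) W)) = SK - 1 := by
        change (Module.End.baseChangeHom (ZMod r) K W) (lin S - (1 : Module.End (ZMod r) W)) = _
        rw [map_sub, map_one]; rfl
      rw [e, LinearMap.sub_apply, hv, Module.End.one_apply, sub_self]
    have hSKp : SK ^ (p ^ (n + 1)) = 1 := by
      have h1 : (lin S) ^ (p ^ (n + 1)) = 1 := by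
        refine LinearMap.ext fun w => ?_
        rw [Module.End.pow_apply]
        exact hSp w
      rw [← map_pow, h1, map_one]
    have hcompatK : ∀ x v, SK (ρK x v) = ρK (σR x) (SK v) := by
      intro x v
      have h1 : lin S * lin (ρ (x : H)) = lin (ρ (σR x : H)) * lin S :=
        LinearMap.ext fun w => hcompat x w
      have h2 := congrArg bc h1
      rw [map_mul, map_mul] at h2
      exact LinearMap.congr_fun h2 v
    have hqK : (q : K) ≠ 0 := by
      rw [Ne, CharP.cast_eq_zero_iff K r]
      exact fun h => hqr ((Nat.prime_dvd_prime_iff_eq hr hq).1 h).symm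
    have hpr : p ≠ r := by
      rintro rfl
      have hWp : ¬ p ∣ Nat.card (Multiplicative W) :=
        not_dvd_of_periodic (AddMonoidHom.toMultiplicative (S : W →+ W)) (m := n + 1)
          (fun g => by exact hSp g) (fun g hg => hS g hg)
      apply hWp
      obtain ⟨w, hw⟩ := hW1
      have h1 : addOrderOf w = p := addOrderOf_eq_prime (hWr w) hw
      have h2 := addOrderOf_dvd_natCard w
      rw [h1] at h2
      exact h2
    have hpK : (p : K) ≠ 0 := by
      rw [Ne, CharP.cast_eq_zero_iff K r]
      exact fun h => hpr ((Nat.prime_dvd_prime_iff_eq hr hp).1 h).symm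
    have hRK : (Nat.card R : K) ≠ 0 := by
      obtain ⟨a, ha⟩ := IsPGroup.iff_card.1 hqR
      rw [ha, Nat.cast_pow]
      exact pow_ne_zero _ hqK
    -- `R` is not abelian
    have hna : ∃ a b : R, a * b ≠ b * a := by
      by_contra hab
      push Not at hab
      apply hnotall
      intro x
      have h1 := end_abelian_linear ρK (fun a b => by rw [← map_mul, ← map_mul, hab]) σR SK hp
        (n := n) hRp hSKp hSKfix hcompatK hRK x
      rw [← map_one ρK] at h1
      exact (inv_mul_eq_one.1 (hρK h1)).symm
    set Z := center R with hZ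
    have hZne : Z ≠ ⊤ := by
      intro h
      obtain ⟨a, b, hab⟩ := hna
      have hb : b ∈ Z := by rw [h]; exact mem_top b
      exact hab (mem_center_iff.1 hb a)
    have hfr : frattini R ≠ ⊤ := by
      obtain h | ⟨M', hM', -⟩ := eq_top_or_exists_le_coatom (⊥ : Subgroup R)
      · exact absurd h bot_ne_top
      · exact fun hfr => hM'.1 (top_le_iff.1 (hfr ▸ frattini_le_coatom hM'))
    have hcentral : ∀ K : Subgroup R, K.Normal → (∀ x ∈ K, σR x ∈ K) → K ≠ ⊤ → K ≤ Z := by
      intro K hKn hKi hK c hc
      let L : Subgroup R := Subgroup.closure (Set.range fun x : R => x⁻¹ * τR x)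
      have hLi : ∀ x ∈ L, σR x ∈ L := by
        intro x hx
        have h1 : L ≤ L.comap σR := by
          rw [closure_le]
          rintro _ ⟨y, rfl⟩
          refine subset_closure ⟨σR y, ?_⟩
          simp only [map_mul, map_inv]
          congr 1
          change (⇑σR)^[p ^ n] (σR y) = σR ((⇑σR)^[p ^ n] y)
          rw [← Function.iterate_succ_apply, Function.iterate_succ_apply']
        exact h1 hx
      have hLtop : L = ⊤ := by
        by_contra hL
        apply hnotall
        intro x
        exact eq_one_of_fixed_commutator τR hp hτRp hpR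
          (hcent L hLi hL _ (subset_closure ⟨x, rfl⟩))
      rw [hZ, mem_center_iff]
      have hle : L ≤ centralizer {c} := by
        rw [closure_le]
        rintro _ ⟨x, rfl⟩
        rw [SetLike.mem_coe, mem_centralizer_singleton_iff]
        have h1 : τR c = c := hcent K hKi hK c hc
        have h2 : τR (x * c * x⁻¹) = x * c * x⁻¹ := hcent K hKi hK _ (hKn.conj_mem c hc x)
        rw [map_mul, map_mul, map_inv, h1] at h2
        calc x⁻¹ * τR x * c = x⁻¹ * (τR x * c * (τR x)⁻¹) * τR x := by group
          _ = x⁻¹ * (x * c * x⁻¹) * τR x := by rw [h2]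
          _ = c * (x⁻¹ * τR x) := by group
      intro y
      exact mem_centralizer_singleton_iff.1 (hle (hLtop ▸ mem_top y))
    have hfrZ : frattini R ≤ Z :=
      hcentral _ inferInstance (char_invariant σR hRbij _) hfr
    have hcommZ : ∀ a b : R, ⁅a, b⁆ ∈ Z := fun a b =>
      hfrZ (Cfsg.Agent.PGroup.comm_mem_frattini hqR a b)
    have hZi : ∀ z ∈ Z, σR z ∈ Z := char_invariant σR hRbij Z
    have hZc : ∀ z ∈ Z, ∀ x : R, z * x = x * z := fun z hz x => (mem_center_iff.1 hz x).symm
    have hirred : ∀ K : Subgroup R, Z ≤ K → (∀ x ∈ K, σR x ∈ K) → K = Z ∨ K = ⊤ := by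
      intro K hZK hKi
      by_cases hK : K = ⊤
      · exact Or.inr hK
      refine Or.inl (le_antisymm (hcentral K ⟨fun c hc g => ?_⟩ hKi hK) hZK)
      have h1 : g * c * g⁻¹ = ⁅g, c⁆ * c := by simp [commutatorElement_def, mul_assoc]
      rw [h1]
      exact K.mul_mem (hZK (hcommZ g c)) hc
    have C : Critical σR p n q Z :=
      { qgroup := hqR
        periodic := hRp
        fpf := hRfpf
        comm_mem := hcommZ
        central := hZc
        pow_mem := fun x => hfrZ (Cfsg.Agent.PGroup.pow_mem_frattini hqR x)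
        inv := hZi
        fixed_Z := fun z hz => hcent Z hZi hZne z hz
        free := fun x hx => by
          let K' : Subgroup R :=
            { carrier := {y | y⁻¹ * τR y ∈ Z}
              one_mem' := by simp
              mul_mem' := fun {a b} ha hb => by
                change (a * b)⁻¹ * τR (a * b) ∈ Z
                rw [map_mul, show (a * b)⁻¹ * (τR a * τR b) = b⁻¹ * (a⁻¹ * τR a) * τR b by group,
                  ← hZc _ ha b⁻¹, mul_assoc]
                exact Z.mul_mem ha hb
              inv_mem' := fun {a} ha => by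
                change (a⁻¹)⁻¹ * τR a⁻¹ ∈ Z
                have h := Z.inv_mem ha
                rw [map_inv, inv_inv]
                rw [show a * (τR a)⁻¹ = a * ((a⁻¹ * τR a)⁻¹ * a⁻¹) by group,
                  hZc _ h a⁻¹, ← mul_assoc, mul_inv_cancel, one_mul]
                exact h }
          rcases hirred K' (fun z hz => by
              change z⁻¹ * τR z ∈ Z
              rw [show τR z = z from hcent Z hZi hZne z hz, inv_mul_cancel]
              exact one_mem _)
            (fun y hy => by
              change (σR y)⁻¹ * τR (σR y) ∈ Z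
              have e : τR (σR y) = σR (τR y) := by
                change (⇑σR)^[p ^ n] (σR y) = σR ((⇑σR)^[p ^ n] y)
                rw [← Function.iterate_succ_apply, Function.iterate_succ_apply']
              rw [e, ← map_inv, ← map_mul]
              exact hZi _ hy) with h | h
          · have h' : x ∈ K' := hx
            rwa [h] at h'
          · exfalso
            apply hnotall
            intro y
            refine eq_one_of_fixed_commutator τR hp hτRp hpR (hcent Z hZi hZne _ ?_)
            exact (h ▸ mem_top y : y ∈ K')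
        irred := hirred
        nontriv := by
          obtain ⟨a, b, hab⟩ := hna
          exact ⟨a, b, fun h => hab (commutatorElement_eq_one_iff_mul_comm.1 h)⟩ }
    exact C.false_of_rep hp hp2 hq ρK hρK SK hSKfix hSKp hcompatK hqK hpK
  intro h
  have hFn : F.Normal := inferInstance
  have hmem : h⁻¹ * τ h ∈ F := by
    refine Cfsg.Agent.Fitting.centralizer_fitting_le (mem_centralizer_iff.2 fun f hf => ?_)
    have h1 := hτF _ (hFn.conj_mem f hf h)
    rw [map_mul, map_mul, map_inv, hτF f hf] at h1
    calc f * (h⁻¹ * τ h) = h⁻¹ * (h * f * h⁻¹) * τ h := by group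
      _ = h⁻¹ * (τ h * f * (τ h)⁻¹) * τ h := by rw [h1]
      _ = h⁻¹ * τ h * f := by group
  exact eq_one_of_fixed_commutator τ hp hτp hpH (hτF _ hmem)

theorem iterate_quotEnd {G : Type*} [Group G] (N : Subgroup G) [N.Normal] (σ : G →* G)
    (h : ∀ x ∈ N, σ x ∈ N) (k : ℕ) (g : G) :
    (⇑(quotEnd N σ h))^[k] (QuotientGroup.mk' N g) = QuotientGroup.mk' N ((⇑σ)^[k] g) := by
  induction k with
  | zero => rfl
  | succ k ih => simp only [Function.iterate_succ_apply', ih, quotEnd_mk]

/-- `x⁻¹ τ x` lies in the Fitting subgroup. -/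
theorem tau_mem_fitting {p n : ℕ} (hp : p.Prime) (hp2 : p ≠ 2) (c : ℕ) :
    ∀ (G : Type u) [Group G] [Finite G], Nat.card G ≤ c → Group.IsSolvable G → ∀ σ : G →* G,
      (∀ g, (⇑σ)^[p ^ (n + 1)] g = g) → (∀ g, σ g = g → g = 1) →
        ∀ g, g⁻¹ * (⇑σ)^[p ^ n] g ∈ Cfsg.fittingSubgroup G := by
  induction c with
  | zero =>
    intro G _ _ h
    exact absurd h (by simp [Nat.card_pos.ne'])
  | succ c ih =>
    intro G _ _ hc hG σ hσp hfpf
    classical
    rcases subsingleton_or_nontrivial G with hs | hs
    · intro g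
      rw [Subsingleton.elim (g⁻¹ * _) 1]
      exact one_mem _
    have hM0 : 0 < p ^ (n + 1) := pow_pos hp.pos _
    have hσinj := (bijective_of_periodic σ hM0 hσp).1
    obtain ⟨V, r, hr, hV, hexp, hmin⟩ := exists_minimal_isAbInv hG ({σ} : Set (G →* G))
    haveI := hV.normal
    haveI : IsMulCommutative V := ⟨⟨fun a b => Subtype.ext (hV.comm a a.2 b b.2)⟩⟩
    haveI : Finite (Additive V) := inferInstanceAs (Finite V)
    have hVs : ∀ x ∈ V, σ x ∈ V := hV.inv σ rfl
    have hCs := centralizer_invariant V σ hσinj hVs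
    have hquot : ∀ (N : Subgroup G) [N.Normal] (h : ∀ x ∈ N, σ x ∈ N) (x : G ⧸ N),
        (⇑(quotEnd N σ h))^[p ^ (n + 1)] x = x := by
      intro N _ h x
      obtain ⟨g, rfl⟩ := QuotientGroup.mk'_surjective N x
      rw [iterate_quotEnd, hσp]
    have hSval : ∀ k (w : Additive V),
        ((((⇑(endOn V σ hVs))^[k] w).toMul : V) : G) = (⇑σ)^[k] (w.toMul : G) := by
      intro k w
      induction k with
      | zero => rfl
      | succ k ih => simp only [Function.iterate_succ_apply', ← ih]; rfl
    -- the centraliser of `V` contains every `g⁻¹ τ g`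
    have hC : ∀ g, g⁻¹ * (⇑σ)^[p ^ n] g ∈ centralizer (V : Set G) := by
      have key := tau_trivial_linear (isSolvable_quotient hG _) (quotEnd _ σ hCs) hp hp2 (n := n)
        (fun x => hquot _ hCs x) (quotEnd_fpf _ σ hCs hfpf) (W := Additive V) hr
        (fun w => additive_ext V (by simpa using hexp _ w.toMul.2))
        (by
          obtain ⟨v, hv⟩ := Subgroup.ne_bot_iff_exists_ne_one.1 hV.ne_bot
          exact ⟨Additive.ofMul v, fun h => hv h⟩)
        (conjQuot V) (conjQuot_injective V) (endOn V σ hVs)
        (fun w => additive_ext V (by rw [hSval, hσp]))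
        (fun w hw => additive_ext V
          (hfpf _ (congrArg (fun u : Additive V => (u.toMul : G)) hw)))
        (fun x w => by
          obtain ⟨g, rfl⟩ := QuotientGroup.mk'_surjective (centralizer (V : Set G)) x
          exact endOn_conjQuot V σ hVs g w)
        (fun U hρU hSU => by
          let U' : Subgroup G :=
            (((AddSubgroup.toSubgroup U).comap (MonoidHom.id V : V →* V)).map V.subtype)
          have hmem : ∀ v : V, (v : G) ∈ U' ↔ Additive.ofMul v ∈ U := by
            intro v
            constructor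
            · rintro ⟨w, hw, hwv⟩
              obtain rfl : w = v := Subtype.ext hwv
              exact hw
            · exact fun h => ⟨v, h, rfl⟩
          have hU'V : U' ≤ V := by
            rintro _ ⟨w, -, rfl⟩
            exact w.2
          have hn : U'.Normal := by
            constructor
            intro x hx g
            obtain ⟨v, hv, rfl⟩ := hx
            have h2 := (hmem _).2 (hρU (QuotientGroup.mk' _ g) _ hv)
            exact (conjQuot_val V g (Additive.ofMul v)) ▸ h2
          rcases hmin U' hU'V hn (by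
            rintro s hs x ⟨v, hv, rfl⟩
            obtain rfl := Set.mem_singleton_iff.1 hs
            exact (hmem _).2 (hSU _ hv)) with h | h
          · refine Or.inl ((AddSubgroup.eq_bot_iff_forall U).2 fun w hw => ?_)
            have h1 : (w.toMul : G) ∈ U' := (hmem _).2 hw
            rw [h, mem_bot] at h1
            exact additive_ext V h1
          · exact Or.inr (eq_top_iff.2 fun w _ => (hmem _).1 (h.symm ▸ w.toMul.2)))
      intro g
      have h1 := key (QuotientGroup.mk' _ g)
      rw [iterate_quotEnd] at h1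
      exact QuotientGroup.eq.1 h1.symm
    have hQ := ih (G ⧸ V) (by have := card_quotient_lt V hV.ne_bot; omega)
      (isSolvable_quotient hG V) (quotEnd V σ hVs) (fun x => hquot V hVs x)
      (quotEnd_fpf V σ hVs hfpf)
    set T := Subgroup.closure (Set.range fun g => g⁻¹ * (⇑σ)^[p ^ n] g) with hT
    have hTn : T.Normal := by
      refine ⟨fun x hx y => ?_⟩
      have h1 : T ≤ T.comap (MulAut.conj y).toMonoidHom := by
        rw [hT, closure_le]
        rintro _ ⟨g, rfl⟩
        rw [SetLike.mem_coe, Subgroup.mem_comap]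
        have hm : ∀ g, g⁻¹ * (⇑σ)^[p ^ n] g ∈ T := fun g => subset_closure ⟨g, rfl⟩
        have h2 := T.mul_mem (hm (g * y⁻¹)) (T.inv_mem (hm y⁻¹))
        convert h2 using 1
        simp [iterate_map_mul, mul_assoc]
      exact h1 hx
    have hTC : T ≤ centralizer (V : Set G) := by
      rw [hT, closure_le]
      rintro _ ⟨g, rfl⟩
      exact hC g
    have hTnil : Group.IsNilpotent T := by
      haveI : Group.IsNilpotent (Cfsg.fittingSubgroup (G ⧸ V)) :=
        Cfsg.Agent.Fitting.fitting_isNilpotent
      have hmap : ∀ x : T, QuotientGroup.mk' V x ∈ Cfsg.fittingSubgroup (G ⧸ V) := by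
        have h1 : T ≤ (Cfsg.fittingSubgroup (G ⧸ V)).comap (QuotientGroup.mk' V) := by
          rw [hT, closure_le]
          rintro _ ⟨g, rfl⟩
          have h2 := hQ (QuotientGroup.mk' V g)
          rw [iterate_quotEnd] at h2
          rw [SetLike.mem_coe, Subgroup.mem_comap, map_mul, map_inv]
          exact h2
        exact fun x => h1 x.2
      apply Subgroup.isNilpotent_of_ker_le_center
        (((QuotientGroup.mk' V).comp T.subtype).codRestrict _ hmap)
      intro x hx
      have hxV : (x : G) ∈ V := (QuotientGroup.eq_one_iff _).1 (congrArg Subtype.val hx)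
      rw [mem_center_iff]
      intro y
      exact Subtype.ext (mem_centralizer_iff.1 (hTC y.2) x hxV).symm
    intro g
    exact Cfsg.Agent.Fitting.le_fitting hTn hTnil (subset_closure ⟨g, rfl⟩)

theorem fitting_chain {p : ℕ} (hp : p.Prime) (hp2 : p ≠ 2) (n : ℕ) :
    ∀ (G : Type u) [Group G] [Finite G], Group.IsSolvable G → ∀ σ : G →* G,
      (∀ g, (⇑σ)^[p ^ n] g = g) → (∀ g, σ g = g → g = 1) →
      ∃ F : Fin (n + 1) → Subgroup G, F 0 = ⊥ ∧ F (Fin.last n) = ⊤ ∧ Monotone F ∧
        (∀ i, (F i).Normal) ∧
        ∀ i : Fin n, ∃ k : ℕ, (F i.succ).lowerCentralSeries k ≤ F i.castSucc := by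
  induction n with
  | zero =>
    intro G _ _ _ σ hσp hfpf
    have htriv : ∀ g : G, g = 1 := fun g => hfpf g (by simpa using hσp g)
    refine ⟨fun _ => ⊥, rfl, ?_, monotone_const, fun _ => inferInstance, fun i => i.elim0⟩
    rw [eq_comm, eq_bot_iff]
    exact fun g _ => by rw [htriv g]; exact one_mem _
  | succ n ih =>
    intro G _ _ hG σ hσp hfpf
    set F := Cfsg.fittingSubgroup G with hF
    have hbij := bijective_of_periodic σ (pow_pos hp.pos _) hσp
    have hFi : ∀ x ∈ F, σ x ∈ F := char_invariant σ hbij F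
    have hτ : ∀ x : G ⧸ F, (⇑(quotEnd F σ hFi))^[p ^ n] x = x := by
      intro x
      obtain ⟨g, rfl⟩ := QuotientGroup.mk'_surjective F x
      rw [iterate_quotEnd]
      exact (QuotientGroup.eq.2 (tau_mem_fitting hp hp2 _ G le_rfl hG σ hσp hfpf g)).symm
    obtain ⟨E, hE0, hEl, hEm, hEn, hEk⟩ := ih (G ⧸ F) (isSolvable_quotient hG F)
      (quotEnd F σ hFi) hτ (quotEnd_fpf F σ hFi hfpf)
    refine ⟨Fin.cons (α := fun _ => Subgroup G) ⊥ fun i => (E i).comap (QuotientGroup.mk' F),
      rfl, ?_, ?_, ?_, ?_⟩
    · rw [show Fin.last (n + 1) = (Fin.last n).succ from rfl, Fin.cons_succ, hEl, comap_top]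
    · refine Fin.monotone_iff_le_succ.2 fun i => ?_
      induction i using Fin.cases with
      | zero => rw [Fin.castSucc_zero, Fin.cons_zero]; exact bot_le
      | succ i =>
        rw [Fin.castSucc_succ, Fin.cons_succ, Fin.cons_succ]
        exact comap_mono (hEm (Fin.castSucc_le_succ i))
    · intro i
      induction i using Fin.cases with
      | zero => rw [Fin.cons_zero]; infer_instance
      | succ i =>
        rw [Fin.cons_succ]
        exact (hEn i).comap _
    · intro i
      induction i using Fin.cases with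
      | zero =>
        rw [Fin.castSucc_zero, Fin.cons_zero, Fin.cons_succ, hE0, MonoidHom.comap_bot,
          QuotientGroup.ker_mk']
        obtain ⟨k, hk⟩ := (Subgroup.isNilpotent_iff_lowerCentralSeries F).1
          Cfsg.Agent.Fitting.fitting_isNilpotent
        exact ⟨k, hk.le⟩
      | succ i =>
        obtain ⟨k, hk⟩ := hEk i
        refine ⟨k, ?_⟩
        rw [Fin.castSucc_succ, Fin.cons_succ, Fin.cons_succ, ← map_le_iff_le_comap,
          map_lowerCentralSeries,
          map_comap_eq_self_of_surjective (QuotientGroup.mk'_surjective F)]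
        exact hk

end Cfsg.Agent.FGS73
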