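import Cfsg.Agent.FGS73.GrossCore
import Cfsg.Agent.FGS73.SGMain
import Cfsg.Agent.Fus93.Critical

/-!
Groups with an automorphism of `2`-power order acting on modules: extension of scalars for the core
lemma, critical subgroups of `O_q`, and the module induction.
-/

namespace Cfsg.Agent.FGS73

open Subgroup
open scoped TensorProduct commutatorElement

universe u v

theorem iterate_restrict {G : Type*} [Group G] (σ : G →* G) (Z : Subgroup G)
    (hZ : ∀ z ∈ Z, σ z ∈ Z) (σZ : Z →* Z) (hσZ : ∀ z : Z, (σZ z : G) = σ z) (k : ℕ) (z : Z) :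
    (((⇑σZ)^[k] z : Z) : G) = (⇑σ)^[k] (z : G) := by
  induction k with
  | zero => rfl
  | succ k ih => rw [Function.iterate_succ_apply', Function.iterate_succ_apply', hσZ, ih]

theorem odd_of_periodic_two {G : Type*} [Group G] [Finite G] (σ : G →* G) {m : ℕ}
    (hσp : ∀ g, (⇑σ)^[2 ^ m] g = g) (hfpf : ∀ g, σ g = g → g = 1) : Odd (Nat.card G) := by
  haveI : Fact (Nat.Prime 2) := ⟨Nat.prime_two⟩
  rw [← Nat.not_even_iff_odd, even_iff_two_dvd]
  exact not_dvd_of_periodic σ hσp hfpf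

/-- `τ` fixes an invariant abelian subgroup of order prime to `r`. -/
theorem fixed_of_abelian {G : Type*} [Group G] [Finite G] {W : Type*} [AddCommGroup W] {r : ℕ}
    (hr : r.Prime) (hWr : ∀ w : W, r • w = 0) (ρ : G →* AddMonoid.End W)
    (hρ : Function.Injective ρ) (σ : G →* G) (S : AddMonoid.End W) {p n : ℕ} (hp : p.Prime)
    (hσp : ∀ g, (⇑σ)^[p ^ (n + 1)] g = g) (hSp : ∀ w, (⇑S)^[p ^ (n + 1)] w = w)
    (hS : ∀ w, S w = w → w = 0) (hcompat : ∀ g w, S (ρ g w) = ρ (σ g) (S w))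
    (Z : Subgroup G) (hZi : ∀ z ∈ Z, σ z ∈ Z) (hZc : ∀ a ∈ Z, ∀ b ∈ Z, a * b = b * a)
    (hZr : ¬ r ∣ Nat.card Z) : ∀ z ∈ Z, (⇑σ)^[p ^ n] z = z := by
  haveI := Fact.mk hr
  haveI : Module (ZMod r) W := AddCommGroup.zmodModule hWr
  intro z hz
  let σZ : Z →* Z := (σ.comp Z.subtype).codRestrict Z fun z => hZi z z.2
  have hval := iterate_restrict σ Z hZi σZ (fun _ => rfl)
  have h1 := end_abelian_linear ((toZModEnd r W).comp (ρ.comp Z.subtype))
    (fun a b => by rw [← map_mul, ← map_mul]; congr 1; exact Subtype.ext (hZc a a.2 b b.2)) σZ (toZModEnd r W S) hp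
    (n := n) (fun e => Subtype.ext (by rw [hval]; exact hσp e))
    (LinearMap.ext fun w => by rw [Module.End.pow_apply]; exact hSp w) hS
    (fun e w => hcompat (e : G) w)
    (by rwa [Ne, CharP.cast_eq_zero_iff (ZMod r) r]) ⟨z, hz⟩
  have h2 : ρ (((⟨z, hz⟩ : Z)⁻¹ * (⇑σZ)^[p ^ n] ⟨z, hz⟩ : Z) : G) = ρ 1 := by
    rw [map_one]
    exact AddMonoidHom.ext fun w => LinearMap.congr_fun h1 w
  have h3 := hρ h2
  rw [Subgroup.coe_mul, Subgroup.coe_inv, hval, inv_mul_eq_one] at h3
  exact h3.symm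

/-- The core lemma for a module over the prime field. -/
theorem gross_step {T : Type*} [Group T] [Finite T] (hTodd : Odd (Nat.card T)) (σ : T →* T) {n : ℕ}
    (hσp : ∀ x, (⇑σ)^[2 ^ (n + 1)] x = x) {W : Type*} [AddCommGroup W] [Finite W] {r : ℕ}
    (hr : r.Prime) (hr2 : r ≠ 2) (hWr : ∀ w : W, r • w = 0) (hTr : ¬ r ∣ Nat.card T)
    (ρ : T →* AddMonoid.End W) (hρ : Function.Injective ρ) (S : AddMonoid.End W)
    (hS : ∀ w, S w = w → w = 0) (hSp : ∀ w, (⇑S)^[2 ^ (n + 1)] w = w)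
    (hcompat : ∀ x w, S (ρ x w) = ρ (σ x) (S w))
    (hcomm : ∀ a b : T, ⁅a, b⁆ ∈ center T) {x : T} (hx : x ∉ center T) :
    ∃ R : Subgroup T, x ∉ R ∧ center T ≤ R ∧
      (∀ g : T →* T, Function.Surjective g → (∀ z ∈ center T, g z = z) → ∀ t ∈ R, g t ∈ R) ∧
      ((∀ t, t⁻¹ * (⇑σ)^[2 ^ n] t ∈ R) ∨
        ((∀ y, (⇑σ)^[2 ^ n] y = y → y⁻¹ * (⇑σ)^[2 ^ (n - 1)] y ∈ R) ∧
          ∃ w : W, (⇑S)^[2 ^ (n - 1)] (w + (⇑S)^[2 ^ n] w) ≠ w + (⇑S)^[2 ^ n] w)) := by
  classical
  haveI := Fact.mk hr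
  haveI : Module (ZMod r) W := AddCommGroup.zmodModule hWr
  haveI : Module.Finite (ZMod r) W := Module.Finite.of_finite
  let K := AlgebraicClosure (ZMod r)
  let bc : Module.End (ZMod r) W →* Module.End K (K ⊗[ZMod r] W) :=
    (Module.End.baseChangeHom (ZMod r) K W).toRingHom.toMonoidHom
  let lin := toZModEnd r W
  have hbcinj : ∀ f g : AddMonoid.End W, bc (lin f) = bc (lin g) → f = g := by
    intro f g hfg
    refine AddMonoidHom.ext fun w => ?_
    have h1 := LinearMap.congr_fun hfg ((1 : K) ⊗ₜ[ZMod r] w)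
    change (1 : K) ⊗ₜ[ZMod r] f w = (1 : K) ⊗ₜ[ZMod r] g w at h1
    let b := Module.Free.chooseBasis (ZMod r) W
    refine b.repr.injective (Finsupp.ext fun i => ?_)
    have h2 := congrArg (fun x => (Module.Basis.baseChange K b).repr x i) h1
    simp only [Module.Basis.baseChange_repr_tmul] at h2
    simp only [Algebra.smul_def, mul_one] at h2
    exact (algebraMap (ZMod r) K).injective h2
  let ρK : T →* Module.End K (K ⊗[ZMod r] W) := bc.comp (lin.comp ρ)
  let SK : Module.End K (K ⊗[ZMod r] W) := bc (lin S)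
  have hρK : Function.Injective ρK := fun a b h => hρ (hbcinj _ _ h)
  have hSKfix : ∀ v, SK v = v → v = 0 := by
    intro v hv
    have hker : LinearMap.ker (lin S - (1 : Module.End (ZMod r) W)) = ⊥ := by
      rw [LinearMap.ker_eq_bot']
      intro w hw
      exact hS w (sub_eq_zero.1 hw)
    have hu : IsUnit (bc (lin S - (1 : Module.End (ZMod r) W))) :=
      IsUnit.map bc ((LinearMap.isUnit_iff_ker_eq_bot _).2 hker)
    have hinj := ((Module.End.isUnit_iff _).1 hu).1
    apply hinj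
    rw [map_zero]
    change bc (lin S - (1 : Module.End (ZMod r) W)) v = 0
    have e : bc (lin S - (1 : Module.End (ZMod r) W)) = SK - 1 := by
      change (Module.End.baseChangeHom (ZMod r) K W) (lin S - (1 : Module.End (ZMod r) W)) = _
      rw [map_sub, map_one]; rfl
    rw [e, LinearMap.sub_apply, hv, Module.End.one_apply, sub_self]
  have hSKp : SK ^ (2 ^ (n + 1)) = 1 := by
    have h1 : (lin S) ^ (2 ^ (n + 1)) = 1 := by
      refine LinearMap.ext fun w => ?_
      rw [Module.End.pow_apply]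
      exact hSp w
    rw [← map_pow, h1, map_one]
  have hcompatK : ∀ x v, SK (ρK x v) = ρK (σ x) (SK v) := by
    intro x v
    have h1 : lin S * lin (ρ x) = lin (ρ (σ x)) * lin S :=
      LinearMap.ext fun w => hcompat x w
    have h2 := congrArg bc h1
    rw [map_mul, map_mul] at h2
    exact LinearMap.congr_fun h2 v
  have hTK : (Nat.card T : K) ≠ 0 := by
    rwa [Ne, CharP.cast_eq_zero_iff K r]
  have h2K : (2 : K) ≠ 0 := by
    rw [← Nat.cast_two, Ne, CharP.cast_eq_zero_iff K r]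
    exact fun h => hr2 ((Nat.prime_dvd_prime_iff_eq hr Nat.prime_two).1 h)
  obtain ⟨R, h1, h2, h3, h4⟩ := gross_core hTodd σ hσp ρK hρK SK hSKfix hSKp hcompatK hTK h2K hcomm hx
  refine ⟨R, h1, h2, h3, h4.imp_right fun ⟨h5, v, hv1, hv2⟩ => ⟨h5, ?_⟩⟩
  by_contra hall
  push Not at hall
  apply hv2
  have he : lin S ^ 2 ^ (n - 1) * (1 + lin S ^ 2 ^ n) = 1 + lin S ^ 2 ^ n := by
    refine LinearMap.ext fun w => ?_
    simp only [Module.End.mul_apply, LinearMap.add_apply, Module.End.one_apply, Module.End.pow_apply]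
    exact hall w
  have he' : SK ^ 2 ^ (n - 1) * (1 + SK ^ 2 ^ n) = 1 + SK ^ 2 ^ n := by
    have h6 := congrArg (Module.End.baseChangeHom (ZMod r) K W) he
    rw [map_mul, map_add, map_one, map_pow, map_pow] at h6
    exact h6
  have h7 := LinearMap.congr_fun he' v
  simp only [Module.End.mul_apply, LinearMap.add_apply, Module.End.one_apply, hv1, map_add] at h7
  rw [← two_smul K, ← two_smul K v] at h7
  exact smul_right_injective _ h2K h7

/-- `r` does not divide the order of the Fitting subgroup of a group acting irreducibly. -/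
theorem not_dvd_fitting {H : Type*} [Group H] [Finite H] (σ : H →* H) (hσ : Function.Bijective σ)
    {W : Type*} [AddCommGroup W] [Finite W] {r : ℕ} (hr : r.Prime) (hWr : ∀ w : W, r • w = 0)
    (hW1 : ∃ w : W, w ≠ 0) (ρ : H →* AddMonoid.End W) (hρ : Function.Injective ρ)
    (S : AddMonoid.End W) (hcompat : ∀ x w, S (ρ x w) = ρ (σ x) (S w))
    (hirr : ∀ U : AddSubgroup W, (∀ x, ∀ u ∈ U, ρ x u ∈ U) → (∀ u ∈ U, S u ∈ U) →
      U = ⊥ ∨ U = ⊤) : ¬ r ∣ Nat.card (Cfsg.fittingSubgroup H) := by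
  haveI := Fact.mk hr
  have hno : ∀ P : Subgroup H, P.Normal → (∀ x ∈ P, σ x ∈ P) → IsPGroup r P → P = ⊥ := by
    intro P hPn hPi hP
    refine eq_bot_of_exponent_fixed hWr hW1 ρ P hP ?_ ?_
    · intro h
      rw [eq_bot_iff]
      intro x hx
      exact mem_bot.2 (hρ (by rw [h x hx, map_one]))
    · intro U hU
      refine hirr U (fun x u hu => ?_) (fun u hu => ?_)
      · rw [hU] at hu ⊢
        intro y hy
        rw [← end_mul_apply, show y * x = x * (x⁻¹ * y * x) by group, end_mul_apply,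
          hu _ (by simpa using hPn.conj_mem y hy x⁻¹)]
      · rw [hU] at hu ⊢
        intro y hy
        obtain ⟨z, hz⟩ := Finite.surjective_of_injective (f := fun z : P => (⟨σ z, hPi z z.2⟩ : P))
          (fun a b h => Subtype.ext (hσ.1 (congrArg Subtype.val h))) ⟨y, hy⟩
        have hz' : σ (z : H) = y := congrArg Subtype.val hz
        rw [← hz', ← hcompat, hu _ z.2]
  intro hd
  haveI : Group.IsNilpotent (Cfsg.fittingSubgroup H) := Cfsg.Agent.Fitting.fitting_isNilpotent
  obtain ⟨x, hx⟩ := exists_prime_orderOf_dvd_card' r hd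
  have hxP : IsPGroup r (zpowers x) :=
    IsPGroup.of_card (n := 1) (by rw [Nat.card_zpowers, hx, pow_one])
  obtain ⟨P, hP⟩ := hxP.exists_le_sylow
  haveI hPn : (P : Subgroup (Cfsg.fittingSubgroup H)).Normal :=
    P.normal_of_normalizerCondition Group.normalizerCondition_of_isNilpotent
  haveI : (P : Subgroup (Cfsg.fittingSubgroup H)).Characteristic := P.characteristic_of_normal hPn
  have hP' : ((P : Subgroup (Cfsg.fittingSubgroup H)).map (Cfsg.fittingSubgroup H).subtype) ≤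
      Cfsg.pCore r H :=
    le_sSup ⟨Cfsg.Agent.Fitting.normal_map_subtype_of_characteristic _, P.2.map _⟩
  have hbot : Cfsg.pCore r H = ⊥ :=
    hno _ inferInstance (char_invariant σ hσ _) (isPGroup_pCore H)
  have hx' : ((x : H)) ∈ Cfsg.pCore r H := hP' ⟨x, hP (mem_zpowers x), rfl⟩
  rw [hbot, mem_bot] at hx'
  rw [← orderOf_coe, hx', orderOf_one] at hx
  exact hr.ne_one hx.symm

theorem mem_pCore_of_fitting {H : Type*} [Group H] [Finite H] {s : ℕ} (hs : s.Prime) {y : H}
    (hy : y ∈ Cfsg.fittingSubgroup H) {k : ℕ} (hk : y ^ s ^ k = 1) : y ∈ Cfsg.pCore s H := by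
  haveI := Fact.mk hs
  haveI : Group.IsNilpotent (Cfsg.fittingSubgroup H) := Cfsg.Agent.Fitting.fitting_isNilpotent
  obtain ⟨a, -, ha⟩ := (Nat.dvd_prime_pow hs).1 (orderOf_dvd_of_pow_eq_one hk)
  have hxP : IsPGroup s (zpowers (⟨y, hy⟩ : Cfsg.fittingSubgroup H)) :=
    IsPGroup.of_card (n := a) (by rw [Nat.card_zpowers, ← orderOf_coe]; exact ha)
  obtain ⟨P, hP⟩ := hxP.exists_le_sylow
  haveI hPn : (P : Subgroup (Cfsg.fittingSubgroup H)).Normal :=
    P.normal_of_normalizerCondition Group.normalizerCondition_of_isNilpotent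
  haveI : (P : Subgroup (Cfsg.fittingSubgroup H)).Characteristic := P.characteristic_of_normal hPn
  have hP' : ((P : Subgroup (Cfsg.fittingSubgroup H)).map (Cfsg.fittingSubgroup H).subtype) ≤
      Cfsg.pCore s H :=
    le_sSup ⟨Cfsg.Agent.Fitting.normal_map_subtype_of_characteristic _, P.2.map _⟩
  exact hP' ⟨_, hP (mem_zpowers _), rfl⟩

theorem pCore_le_fitting {H : Type*} [Group H] [Finite H] (s : ℕ) [Fact s.Prime] :
    Cfsg.pCore s H ≤ Cfsg.fittingSubgroup H :=
  Cfsg.Agent.Fitting.le_fitting inferInstance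
    (IsPGroup.isNilpotent (isPGroup_pCore H))

/-- a subgroup containing all prime-power parts of `x` contains `x` -/
theorem mem_of_prime_parts {H : Type*} [Group H] [Finite H] (K : Subgroup H) (x : H)
    (h : ∀ s : ℕ, s.Prime → ∀ y ∈ zpowers x, (∃ k, y ^ s ^ k = 1) → y ∈ K) : x ∈ K := by
  classical
  set D := (K ⊓ zpowers x).relIndex (zpowers x) with hD
  suffices hD1 : D = 1 from ((Subgroup.relIndex_eq_one.1 hD1) (mem_zpowers x)).1
  by_contra hne
  obtain ⟨s, hs, hsD⟩ := Nat.exists_prime_and_dvd hne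
  haveI := Fact.mk hs
  obtain ⟨P⟩ : Nonempty (Sylow s (zpowers x)) := inferInstance
  have hle : (P : Subgroup (zpowers x)) ≤ (K ⊓ zpowers x).subgroupOf (zpowers x) := by
    intro y hy
    obtain ⟨k, hk⟩ := P.2 ⟨y, hy⟩
    refine ⟨h s hs y y.2 ⟨k, ?_⟩, y.2⟩
    exact congrArg (fun z : (P : Subgroup (zpowers x)) => ((z : zpowers x) : H)) hk
  exact P.not_dvd_index (hsD.trans (Subgroup.index_dvd_of_le hle))

theorem commute_of_parts {H : Type*} [Group H] [Finite H] {c f : H}
    (hf : f ∈ Cfsg.fittingSubgroup H)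
    (h : ∀ s : ℕ, s.Prime → ∀ g ∈ Cfsg.pCore s H, g ∈ zpowers f → c * g = g * c) :
    c * f = f * c := by
  have := mem_of_prime_parts (centralizer {c}) f fun s hs y hy ⟨k, hk⟩ =>
    mem_centralizer_singleton_iff.2 (h s hs y
      (mem_pCore_of_fitting hs ((zpowers_le.2 hf) hy) hk) hy).symm
  exact (mem_centralizer_singleton_iff.1 this).symm

/-- A normal subgroup whose elements act as `q`-elements on each `O_q` lies in the Fitting
subgroup. -/
theorem le_fitting_of_actions {H : Type*} [Group H] [Finite H] (hsol : Group.IsSolvable H)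
    (L : Subgroup H) (hL : L.Normal)
    (h : ∀ q : ℕ, q.Prime → ∀ l ∈ L, ∃ e, ∀ g ∈ Cfsg.pCore q H, l ^ q ^ e * g = g * l ^ q ^ e) :
    L ≤ Cfsg.fittingSubgroup H := by
  classical
  haveI := hsol
  intro x hx
  refine mem_of_prime_parts _ x fun s hs y hy ⟨k, hk⟩ => ?_
  haveI := Fact.mk hs
  have hyL : y ∈ L := zpowers_le.2 hx hy
  let M : Subgroup H :=
    { carrier := {a | a ∈ L ∧ ∀ q : ℕ, q.Prime → q ≠ s → ∀ g ∈ Cfsg.pCore q H, a * g = g * a}
      one_mem' := ⟨one_mem _, fun q _ _ g _ => by rw [one_mul, mul_one]⟩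
      mul_mem' := fun {a b} ha hb => ⟨L.mul_mem ha.1 hb.1, fun q hq hqs g hg => by
        rw [mul_assoc, hb.2 q hq hqs g hg, ← mul_assoc, ha.2 q hq hqs g hg, mul_assoc]⟩
      inv_mem' := fun {a} ha => ⟨L.inv_mem ha.1, fun q hq hqs g hg => by
        rw [inv_mul_eq_iff_eq_mul, ← mul_assoc, ha.2 q hq hqs g hg, mul_inv_cancel_right]⟩ }
  have hMn : M.Normal := ⟨fun a ha c => ⟨hL.conj_mem a ha.1 c, fun q hq hqs g hg => by
    have h1 : c⁻¹ * g * c ∈ Cfsg.pCore q H := by
      simpa using (inferInstance : (Cfsg.pCore q H).Normal).conj_mem g hg c⁻¹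
    calc c * a * c⁻¹ * g = c * (a * (c⁻¹ * g * c)) * c⁻¹ := by group
      _ = c * ((c⁻¹ * g * c) * a) * c⁻¹ := by rw [ha.2 q hq hqs _ h1]
      _ = g * (c * a * c⁻¹) := by group⟩⟩
  have hyM : y ∈ M := by
    refine ⟨hyL, fun q hq hqs g hg => ?_⟩
    obtain ⟨e, he⟩ := h q hq y hyL
    have hco : Nat.Coprime (q ^ e) (s ^ k) :=
      Nat.Coprime.pow e k ((Nat.coprime_primes hq hs).2 hqs)
    have hmem : y ∈ centralizer {g} := by
      obtain ⟨a, b, hab⟩ := Nat.isCoprime_iff_coprime.2 hco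
      have hz : y = (y ^ q ^ e) ^ a := by
        conv_lhs => rw [← zpow_one y, ← hab]
        rw [zpow_add, zpow_mul' y b, zpow_natCast, hk, one_zpow, mul_one, zpow_mul', zpow_natCast]
      rw [hz]
      exact zpow_mem (mem_centralizer_singleton_iff.2 (he g hg)) a
    exact mem_centralizer_singleton_iff.1 hmem
  refine Cfsg.Agent.Fitting.le_fitting hMn ?_ hyM
  have hMp : IsPGroup s (M ⧸ center M) := by
    intro a
    induction a using QuotientGroup.induction_on with
    | H a =>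
      obtain ⟨e, he⟩ := h s hs (a : H) a.2.1
      refine ⟨e + (Nat.card H).factorization s, ?_⟩
      rw [← QuotientGroup.mk_pow, QuotientGroup.eq_one_iff, mem_center_iff]
      intro b
      set z := (a : H) ^ s ^ e with hz
      have hzC : z ∈ centralizer (Cfsg.fittingSubgroup H : Set H) := by
        refine mem_centralizer_iff.2 fun f hf => (commute_of_parts hf fun q hq g hg _ => ?_).symm
        by_cases hqs : q = s
        · subst hqs
          exact he g hg
        · exact ((M.pow_mem a.2 _ : z ∈ M)).2 q hq hqs g hg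
      have hzF : z ∈ Cfsg.fittingSubgroup H := Cfsg.Agent.Fitting.centralizer_fitting_le hzC
      apply Subtype.ext
      simp only [Subgroup.coe_mul, SubmonoidClass.coe_pow]
      rw [pow_add, pow_mul, ← hz]
      refine commute_of_parts (Subgroup.pow_mem _ hzF _) fun q hq g hg hgz => ?_
      by_cases hqs : q = s
      · subst hqs
        have hg1 : g = 1 := by
          obtain ⟨i, rfl⟩ := mem_zpowers_iff.1 hgz
          obtain ⟨k', hk'⟩ := (IsPGroup.iff_card.1 (isPGroup_pCore (p := q) H))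
          have h1 : ((z ^ q ^ (Nat.card H).factorization q) ^ i) ^ q ^ k' = 1 := by
            rw [← hk']
            exact congrArg Subtype.val (pow_card_eq_one' (x := (⟨_, hg⟩ : Cfsg.pCore q H)))
          have h2 : ((z ^ q ^ (Nat.card H).factorization q) ^ i) ^
              (Nat.card H / q ^ (Nat.card H).factorization q) = 1 := by
            rw [← zpow_natCast ((z ^ q ^ (Nat.card H).factorization q) ^ i), ← zpow_mul, mul_comm,
              zpow_mul, zpow_natCast, ← pow_mul, Nat.ordProj_mul_ordCompl_eq_self,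
              pow_card_eq_one', one_zpow]
          have hco : Nat.Coprime (q ^ k') (Nat.card H / q ^ (Nat.card H).factorization q) :=
            (Nat.coprime_ordCompl hq Nat.card_pos.ne').pow_left k'
          have h3 := Nat.dvd_gcd (orderOf_dvd_of_pow_eq_one h1) (orderOf_dvd_of_pow_eq_one h2)
          rw [hco.gcd_eq_one, Nat.dvd_one, orderOf_eq_one_iff] at h3
          exact h3
        rw [hg1, one_mul, mul_one]
      · exact b.2.2 q hq hqs g hg
  haveI : Group.IsNilpotent (M ⧸ center M) := hMp.isNilpotent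
  exact Group.of_quotient_center_nilpotent inferInstance

/-- A critical subgroup of `O_q`. -/
theorem exists_critical_pCore {H : Type*} [Group H] [Finite H] (σ : H →* H)
    (hσ : Function.Bijective σ) (q : ℕ) [Fact q.Prime] :
    ∃ T : Subgroup H, T.Normal ∧ (∀ t ∈ T, σ t ∈ T) ∧ T ≤ Cfsg.pCore q H ∧
      (∀ a b : T, ⁅a, b⁆ ∈ center T) ∧
      (∀ g ∈ Cfsg.pCore q H, (∀ t ∈ T, g * t = t * g) → g ∈ T) := by
  set P := Cfsg.pCore q H with hP
  obtain ⟨C, hCc, hCcen, -, hCcomm⟩ :=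
    Cfsg.Agent.Fus93.exists_critical (P := P) (p := q) (isPGroup_pCore H)
  haveI := hCc
  have hPi : ∀ x ∈ P, σ x ∈ P := char_invariant σ hσ _
  refine ⟨C.map P.subtype, Cfsg.Agent.Fitting.normal_map_subtype_of_characteristic _, ?_,
    Subgroup.map_subtype_le _, ?_, ?_⟩
  · rintro _ ⟨c, hc, rfl⟩
    let σP : P →* P := (σ.comp P.subtype).codRestrict P fun x => hPi x x.2
    have hb : Function.Bijective σP := Finite.injective_iff_bijective.1 fun a b h =>
      Subtype.ext (hσ.1 (congrArg Subtype.val h))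
    exact ⟨σP c, char_invariant σP hb C c hc, rfl⟩
  · rintro ⟨_, a, ha, rfl⟩ ⟨_, b, hb, rfl⟩
    rw [mem_center_iff]
    rintro ⟨_, t, ht, rfl⟩
    apply Subtype.ext
    have h1 := mem_centralizer_iff.1 (hCcomm a⁻¹ (inv_mem ha) b) t ht
    have h2 : a⁻¹⁻¹ * (b * a⁻¹ * b⁻¹) = ⁅a, b⁆ := by
      simp [commutatorElement_def, mul_assoc]
    rw [h2] at h1
    exact congrArg P.subtype h1
  · intro g hg hcomm
    refine ⟨⟨g, hg⟩, hCcen (mem_centralizer_iff.2 fun c hc => Subtype.ext ?_), rfl⟩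
    exact (hcomm _ ⟨c, hc, rfl⟩).symm

/-- an element centralising a critical subgroup acts as a `q`-element on `O_q` -/
theorem pow_commute_of_critical {H : Type*} [Group H] [Finite H] {P T : Subgroup H}
    (hP : P.Normal) (hT : T.Normal) (hcrit : ∀ g ∈ P, (∀ t ∈ T, g * t = t * g) → g ∈ T) {a : H}
    (ha : ∀ t ∈ T, a * t = t * a) {g : H} (hg : g ∈ P) :
    a ^ Nat.card T * g = g * a ^ Nat.card T := by
  set d := g⁻¹ * (a * g * a⁻¹) with hd
  have hdT : d ∈ T := by
    refine hcrit d (P.mul_mem (P.inv_mem hg) (hP.conj_mem g hg a)) fun t ht => ?_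
    have h1 := ha _ (hT.conj_mem t ht g)
    have h2 : a * (g * t * g⁻¹) * a⁻¹ = g * t * g⁻¹ := by rw [h1, mul_inv_cancel_right]
    have h3 : a⁻¹ * t * a = t := by rw [mul_assoc, ← ha t ht, inv_mul_cancel_left]
    calc d * t = g⁻¹ * (a * (g * (a⁻¹ * t * a) * g⁻¹) * a⁻¹) * (a * g * a⁻¹) := by
          rw [hd]; group
      _ = g⁻¹ * (g * t * g⁻¹) * (a * g * a⁻¹) := by rw [h3, h2]
      _ = t * d := by rw [hd]; group
  have hpow : ∀ k : ℕ, a ^ k * g * (a ^ k)⁻¹ = g * d ^ k := by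
    intro k
    induction k with
    | zero => simp
    | succ k ih =>
      have h4 : a * d ^ k * a⁻¹ = d ^ k := by rw [ha _ (T.pow_mem hdT k), mul_inv_cancel_right]
      calc a ^ (k + 1) * g * (a ^ (k + 1))⁻¹ = a * (a ^ k * g * (a ^ k)⁻¹) * a⁻¹ := by
            rw [pow_succ']; group
        _ = (a * g * a⁻¹) * (a * d ^ k * a⁻¹) := by rw [ih]; group
        _ = g * d * d ^ k := by rw [h4, hd]; group
        _ = g * d ^ (k + 1) := by rw [pow_succ', mul_assoc]
  have h5 := hpow (Nat.card T)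
  have h6 : d ^ Nat.card T = 1 := congrArg Subtype.val (pow_card_eq_one' (x := (⟨d, hdT⟩ : T)))
  rw [h6, mul_one, mul_inv_eq_iff_eq_mul] at h5
  exact h5

end Cfsg.Agent.FGS73
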