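import Cfsg.Agent.FGS73.Commutant

/-!
The counting argument behind the Hall–Higman theorem: a linear map `S` of order `N` without fixed
vectors inducing on a group `E` with scalar, nondegenerate commutator quotient `E / Z` an
automorphism whose nontrivial powers move every nontrivial element of `E / Z`.
-/

namespace Cfsg.Agent.FGS73

open Module Subgroup
open scoped commutatorElement

variable {K : Type*} [Field K] {U : Type*} [AddCommGroup U] [Module K U]
  {E : Type*} [Group E]

/-- The hypotheses of the counting argument. -/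
structure HHBase (ρ : E →* Module.End K U) (Z : Subgroup E) (ψ : E → K) (η : E →* E)
    (S : Module.End K U) (N : ℕ) : Prop where
  mem_center : ∀ z ∈ Z, ∀ u, ρ (z * u) = ρ (u * z)
  commutator_mem : ∀ u v : E, ⁅u, v⁆ ∈ Z
  scalar : ∀ z ∈ Z, ρ z = ψ z • (1 : Module.End K U)
  nondeg : ∀ v : E, v ∉ Z → ∃ u : E, ψ ⁅u, v⁆ ≠ 1
  periodic : ∀ e, (⇑η)^[N] e = e
  inv : ∀ z ∈ Z, η z ∈ Z
  scalar_inv : ∀ z ∈ Z, ψ (η z) = ψ z
  free : ∀ v : E, ∀ i : ℕ, 0 < i → i < N → v⁻¹ * (⇑η)^[i] v ∈ Z → v ∈ Z
  pow_eq : S ^ N = 1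
  compat : ∀ e w, S (ρ e w) = ρ (η e) (S w)

/-- The counting hypotheses for a map without fixed vectors. -/
structure HHData (ρ : E →* Module.End K U) (Z : Subgroup E) (ψ : E → K) (η : E →* E)
    (S : Module.End K U) (N : ℕ) : Prop extends HHBase ρ Z ψ η S N where
  fixed : ∀ w, S w = w → w = 0

variable {ρ : E →* Module.End K U} {Z : Subgroup E} {ψ : E → K} {η : E →* E}
  {S : Module.End K U} {N : ℕ}

theorem HHBase.psi_one (h : HHBase ρ Z ψ η S N) [Nontrivial U] : ψ 1 = 1 := by
  obtain ⟨w, hw⟩ := exists_ne (0 : U)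
  have h1 := LinearMap.congr_fun (h.scalar 1 (one_mem Z)) w
  rw [map_one, LinearMap.smul_apply, Module.End.one_apply] at h1
  by_contra hne
  have : (ψ 1 - 1) • w = 0 := by rw [sub_smul, one_smul, ← h1, sub_self]
  exact hw ((smul_eq_zero.1 this).resolve_left (sub_ne_zero.2 hne))

theorem HHBase.psi_ne_zero (h : HHBase ρ Z ψ η S N) [Nontrivial U] {z : E} (hz : z ∈ Z) :
    ψ z ≠ 0 := by
  intro h0
  obtain ⟨w, hw⟩ := exists_ne (0 : U)
  apply hw
  have h1 : ρ z w = 0 := by rw [h.scalar z hz, h0, zero_smul]; rfl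
  have h2 : ρ z⁻¹ (ρ z w) = w := by
    rw [← Module.End.mul_apply, ← map_mul, inv_mul_cancel, map_one]; rfl
  rw [h1, map_zero] at h2
  exact h2.symm

theorem HHBase.psi_mul (h : HHBase ρ Z ψ η S N) [Nontrivial U] {y z : E} (hy : y ∈ Z)
    (hz : z ∈ Z) : ψ (y * z) = ψ y * ψ z := by
  obtain ⟨w, hw⟩ := exists_ne (0 : U)
  have h1 := LinearMap.congr_fun (h.scalar _ (Z.mul_mem hy hz)) w
  rw [map_mul, Module.End.mul_apply, h.scalar y hy, h.scalar z hz] at h1
  simp only [LinearMap.smul_apply, Module.End.one_apply, smul_smul] at h1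
  by_contra hne
  have : (ψ y * ψ z - ψ (y * z)) • w = 0 := by rw [sub_smul, h1, sub_self]
  exact hw ((smul_eq_zero.1 this).resolve_left (sub_ne_zero.2 (Ne.symm hne)))

theorem HHBase.conj_eq (h : HHBase ρ Z ψ η S N) (e w : E) :
    ρ (e * w * e⁻¹) = ψ ⁅e, w⁆ • ρ w := by
  rw [show e * w * e⁻¹ = ⁅e, w⁆ * w by simp [commutatorElement_def, mul_assoc], map_mul,
    h.scalar _ (h.commutator_mem e w), smul_mul_assoc, one_mul]

/-- the sums of commutator values over `E` -/
theorem HHBase.sum_psi_commutator (h : HHBase ρ Z ψ η S N) [Nontrivial U] [Fintype E] (w : E) :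
    (w ∈ Z → ∑ e : E, ψ ⁅e, w⁆ = (Fintype.card E : K)) ∧
      (w ∉ Z → ∑ e : E, ψ ⁅e, w⁆ = 0) := by
  constructor
  · intro hw
    have h1 : ∀ e : E, ψ ⁅e, w⁆ = 1 := by
      intro e
      obtain ⟨u, hu⟩ := exists_ne (0 : U)
      have h2 := h.conj_eq e w
      have h3 : ρ (e * w * e⁻¹) = ρ w := by
        rw [map_mul, ← h.mem_center w hw e, ← map_mul, mul_inv_cancel_right]
      rw [h3, h.scalar w hw, smul_smul] at h2
      have h4 := LinearMap.congr_fun h2 u
      simp only [LinearMap.smul_apply, Module.End.one_apply] at h4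
      have h5 : (ψ w - ψ ⁅e, w⁆ * ψ w) • u = 0 := by rw [sub_smul, ← h4, sub_self]
      have h6 := sub_eq_zero.1 ((smul_eq_zero.1 h5).resolve_right hu)
      exact (mul_eq_right₀ (h.psi_ne_zero hw)).1 h6.symm
    simp [h1]
  · intro hw
    obtain ⟨u, hu⟩ := h.nondeg w hw
    have hmul : ∀ a b : E, ψ ⁅a * b, w⁆ = ψ ⁅a, w⁆ * ψ ⁅b, w⁆ := by
      intro a b
      obtain ⟨x, hx⟩ := exists_ne (0 : U)
      have h0 : ρ w x ≠ 0 := by
        intro h0
        have h' : ρ w⁻¹ (ρ w x) = x := by
          rw [← Module.End.mul_apply, ← map_mul, inv_mul_cancel, map_one]; rfl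
        rw [h0, map_zero] at h'
        exact hx h'.symm
      have e1 := h.conj_eq (a * b) w
      rw [show a * b * w * (a * b)⁻¹ = a * (b * w * b⁻¹) * a⁻¹ by group, map_mul, map_mul,
        h.conj_eq b w, mul_smul_comm, smul_mul_assoc, ← map_mul, ← map_mul, h.conj_eq a w,
        smul_smul] at e1
      have h4 := LinearMap.congr_fun e1 x
      simp only [LinearMap.smul_apply] at h4
      have h5 : (ψ ⁅a * b, w⁆ - ψ ⁅a, w⁆ * ψ ⁅b, w⁆) • ρ w x = 0 := by
        rw [sub_smul, ← h4, mul_comm, sub_self]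
      exact sub_eq_zero.1 ((smul_eq_zero.1 h5).resolve_right h0)
    have hs : ψ ⁅u, w⁆ * ∑ e : E, ψ ⁅e, w⁆ = ∑ e : E, ψ ⁅e, w⁆ := by
      rw [Finset.mul_sum]
      simp only [← hmul]
      exact Equiv.sum_comp (Equiv.mulLeft u) (fun e => ψ ⁅e, w⁆)
    by_contra hne
    exact hu ((mul_eq_right₀ hne).1 hs)

theorem finrank_end [FiniteDimensional K U] :
    finrank K (Module.End K U) = finrank K U * finrank K U := Module.finrank_linearMap K K U U

theorem commutes_of_sum_conj [Fintype E] (ρ : E →* Module.End K U) (X : Module.End K U) (e : E) :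
    ρ e * (∑ w : E, ρ w * X * ρ w⁻¹) = (∑ w : E, ρ w * X * ρ w⁻¹) * ρ e := by
  rw [Finset.mul_sum, Finset.sum_mul,
    ← Equiv.sum_comp (Equiv.mulLeft e) (fun w => ρ w * X * ρ w⁻¹ * ρ e)]
  refine Finset.sum_congr rfl fun w _ => ?_
  simp only [Equiv.coe_mulLeft, mul_inv_rev, map_mul, mul_assoc]
  rw [← map_mul ρ e⁻¹ e, inv_mul_cancel, map_one, mul_one]

theorem scalar_of_commutes [IsAlgClosed K] [FiniteDimensional K U] [Nontrivial U]
    (hsimple : ∀ M : Submodule K U, (∀ e, ∀ w ∈ M, ρ e w ∈ M) → M = ⊥ ∨ M = ⊤)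
    (Y : Module.End K U) (hY : ∀ e, ρ e * Y = Y * ρ e) : ∃ c : K, Y = c • 1 := by
  obtain ⟨c, hc⟩ := Module.End.exists_eigenvalue Y
  refine ⟨c, ?_⟩
  rcases hsimple (Module.End.eigenspace Y c) (fun e w hw => by
    rw [Module.End.mem_eigenspace_iff] at hw ⊢
    rw [← Module.End.mul_apply, ← hY, Module.End.mul_apply, hw, map_smul]) with h | h
  · exact absurd h hc
  · refine LinearMap.ext fun w => ?_
    have hw : w ∈ Module.End.eigenspace Y c := h ▸ Submodule.mem_top
    exact Module.End.mem_eigenspace_iff.1 hw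

/-- The counts in the simple case. -/
theorem HHBase.simple_count (h : HHBase ρ Z ψ η S N) [IsAlgClosed K] [FiniteDimensional K U]
    [Nontrivial U] [Finite E]
    (hsimple : ∀ M : Submodule K U, (∀ e, ∀ w ∈ M, ρ e w ∈ M) → M = ⊥ ∨ M = ⊤)
    (hE : (Nat.card E : K) ≠ 0) (hN0 : 0 < N) :
    finrank K U ^ 2 = Z.index ∧ N ∣ Z.index - 1 ∧
      finrank K (commutant S) ≤ 1 + (Z.index - 1) / N := by
  classical
  cases nonempty_fintype E
  rw [Nat.card_eq_fintype_card] at hE
  -- coefficients
  let Y : E → Module.End K U → Module.End K U :=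
    fun e X => ∑ w : E, ρ w * (ρ e⁻¹ * X) * ρ w⁻¹
  have hY : ∀ e X, ∃ c : K, Y e X = c • 1 := fun e X =>
    scalar_of_commutes hsimple _ fun f => commutes_of_sum_conj ρ _ f
  have hYshift : ∀ e, ∀ z ∈ Z, ∀ X, Y (e * z) X = ψ z⁻¹ • Y e X := by
    intro e z hz X
    simp only [Y, Finset.smul_sum, mul_inv_rev, map_mul, h.scalar _ (Z.inv_mem hz), smul_mul_assoc,
      one_mul, mul_smul_comm, mul_assoc]
  have hzero_ext : ∀ (T : Finset E), (∀ e, ∃ t ∈ T, t⁻¹ * e ∈ Z) → ∀ X,
      (∀ t ∈ T, Y t X = 0) → ∀ e, Y e X = 0 := by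
    intro T hT X hX e
    obtain ⟨t, ht, hz⟩ := hT e
    have := hYshift t _ hz X
    rw [mul_inv_cancel_left] at this
    rw [this, hX t ht, smul_zero]
  -- completeness
  have hcomplete : ∀ X, (∀ e, Y e X = 0) → X = 0 := by
    intro X hX
    have h1 : ∑ e : E, ρ e * Y e X = 0 := Finset.sum_eq_zero fun e _ => by rw [hX, mul_zero]
    have h2 : ∑ e : E, ρ e * Y e X =
        ∑ w : E, (∑ e : E, ψ ⁅e, w⁆) • (ρ w * X * ρ w⁻¹) := by
      simp only [Y, Finset.mul_sum]
      rw [Finset.sum_comm]
      refine Finset.sum_congr rfl fun w _ => ?_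
      rw [Finset.sum_smul]
      refine Finset.sum_congr rfl fun e _ => ?_
      rw [← smul_mul_assoc, ← smul_mul_assoc, ← h.conj_eq, map_mul, map_mul]
      simp only [mul_assoc]
    rw [h2, ← Finset.sum_filter_add_sum_filter_not Finset.univ (· ∈ Z)] at h1
    rw [Finset.sum_eq_zero (s := Finset.univ.filter fun w => w ∉ Z) (fun w hw => by
      rw [(h.sum_psi_commutator w).2 (Finset.mem_filter.1 hw).2, zero_smul]), add_zero,
      Finset.sum_congr rfl (fun w hw => by
        rw [(h.sum_psi_commutator w).1 (Finset.mem_filter.1 hw).2,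
          h.scalar w (Finset.mem_filter.1 hw).2,
          h.scalar w⁻¹ (Z.inv_mem (Finset.mem_filter.1 hw).2), smul_mul_assoc, one_mul,
          smul_mul_smul_comm, mul_one, ← h.psi_mul (Finset.mem_filter.1 hw).2
            (Z.inv_mem (Finset.mem_filter.1 hw).2), mul_inv_cancel, h.psi_one, one_smul]),
      Finset.sum_const, ← Nat.cast_smul_eq_nsmul K, smul_smul] at h1
    refine (smul_eq_zero.1 h1).resolve_left (mul_ne_zero ?_ hE)
    intro h0
    have hdvd : (Finset.univ.filter fun w => w ∈ Z).card ∣ Fintype.card E := by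
      rw [show (Finset.univ.filter fun w => w ∈ Z).card = Nat.card Z from by
        rw [Nat.card_eq_fintype_card, Fintype.card_subtype], ← Nat.card_eq_fintype_card]
      exact card_subgroup_dvd_card Z
    obtain ⟨b, hb⟩ := hdvd
    exact hE (by rw [hb, Nat.cast_mul, h0, zero_mul])
  -- finite-dimensionality comparisons
  have hle : ∀ (T : Finset E), (∀ e, ∃ t ∈ T, t⁻¹ * e ∈ Z) → finrank K U * finrank K U ≤ T.card := by
    intro T hT
    choose c hc using hY
    obtain ⟨u₀, hu₀⟩ := exists_ne (0 : U)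
    have hcl : ∀ t, IsLinearMap K fun X => c t X := by
      intro t
      have inj : ∀ a b : K, a • (1 : Module.End K U) = b • 1 → a = b := fun a b hab => by
        have := LinearMap.congr_fun hab u₀
        simp only [LinearMap.smul_apply, Module.End.one_apply] at this
        exact smul_left_injective K hu₀ this
      refine ⟨fun X X' => inj _ _ ?_, fun a X => inj _ _ ?_⟩
      · rw [add_smul, ← hc, ← hc, ← hc]
        simp only [Y, mul_add, add_mul, Finset.sum_add_distrib]
      · rw [smul_eq_mul, mul_smul, ← hc, ← hc]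
        simp only [Y, mul_smul_comm, smul_mul_assoc, Finset.smul_sum]
    let L : Module.End K U →ₗ[K] (T → K) := LinearMap.pi fun t => (hcl t).mk' _
    have hL : Function.Injective L := by
      rw [← LinearMap.ker_eq_bot, LinearMap.ker_eq_bot']
      intro X hX
      refine hcomplete X (hzero_ext T hT X fun t ht => ?_)
      have : c t X = 0 := congrFun hX ⟨t, ht⟩
      rw [hc, this, zero_smul]
    have := LinearMap.finrank_le_finrank_of_injective hL
    rwa [finrank_end, Module.finrank_pi, Fintype.card_coe] at this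
  -- transversal
  let s : E ⧸ Z → E := fun v => v.out
  have hs : ∀ v : E ⧸ Z, QuotientGroup.mk (s v) = v := fun v => QuotientGroup.out_eq' v
  have hge : Z.index ≤ finrank K U * finrank K U := by
    let M : ((E ⧸ Z) → K) →ₗ[K] Module.End K U :=
      ∑ v : E ⧸ Z, (LinearMap.proj v : ((E ⧸ Z) → K) →ₗ[K] K).smulRight (ρ (s v))
    have hM : Function.Injective M := by
      rw [← LinearMap.ker_eq_bot, LinearMap.ker_eq_bot']
      intro g hg
      funext v
      have h1 : Y (s v) (M g) = 0 := by rw [hg]; simp [Y]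
      have h2 : ∀ v' : E ⧸ Z, Y (s v) (ρ (s v')) =
          (∑ w : E, ψ ⁅w, (s v)⁻¹ * s v'⁆) • ρ ((s v)⁻¹ * s v') := by
        intro v'
        simp only [Y, Finset.sum_smul]
        refine Finset.sum_congr rfl fun w _ => ?_
        rw [← map_mul, ← map_mul, ← map_mul, h.conj_eq]
      have h3 : ∀ v' : E ⧸ Z, v' ≠ v → Y (s v) (ρ (s v')) = 0 := fun v' hne => by
        rw [h2, (h.sum_psi_commutator _).2 (fun hm => hne ?_), zero_smul]
        rw [← hs v', ← hs v]
        exact (QuotientGroup.eq.2 hm).symm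
      have h4 : Y (s v) (M g) = g v • Y (s v) (ρ (s v)) := by
        have hlin : Y (s v) (M g) = ∑ v' : E ⧸ Z, g v' • Y (s v) (ρ (s v')) := by
          simp only [M, Y, LinearMap.sum_apply, LinearMap.smulRight_apply, LinearMap.proj_apply,
            Finset.mul_sum, Finset.sum_mul, mul_smul_comm, smul_mul_assoc, Finset.smul_sum]
          exact Finset.sum_comm
        rw [hlin]
        exact Finset.sum_eq_single v (fun v' _ hne => by rw [h3 v' hne, smul_zero])
          (fun h => absurd (Finset.mem_univ v) h)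
      rw [h4, h2, inv_mul_cancel, (h.sum_psi_commutator 1).1 (one_mem Z), map_one, smul_smul] at h1
      obtain ⟨u₀, hu₀⟩ := exists_ne (0 : U)
      have h5 := LinearMap.congr_fun h1 u₀
      simp only [LinearMap.smul_apply, Module.End.one_apply, LinearMap.zero_apply] at h5
      exact (mul_eq_zero.1 ((smul_eq_zero.1 h5).resolve_right hu₀)).resolve_right hE
    have := LinearMap.finrank_le_finrank_of_injective hM
    rwa [finrank_end, Module.finrank_pi, ← Nat.card_eq_fintype_card] at this
  have hD : finrank K U ^ 2 = Z.index := by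
    rw [sq]
    refine le_antisymm ?_ hge
    refine le_trans (hle ((Finset.univ : Finset (E ⧸ Z)).image s) fun e => ?_) ?_
    · refine ⟨s (QuotientGroup.mk e), Finset.mem_image_of_mem _ (Finset.mem_univ _), ?_⟩
      exact QuotientGroup.eq.1 (hs _)
    · refine Finset.card_image_le.trans ?_
      rw [Finset.card_univ, ← Nat.card_eq_fintype_card]
      rfl
  -- orbits of `η` on cosets
  let orb : E ⧸ Z → Finset (E ⧸ Z) :=
    fun v => (Finset.range N).image fun i => QuotientGroup.mk ((⇑η)^[i] (s v))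
  have hiter_Z : ∀ i, ∀ z ∈ Z, (⇑η)^[i] z ∈ Z := by
    intro i z hz
    induction i with
    | zero => exact hz
    | succ i ih => rw [Function.iterate_succ_apply']; exact h.inv _ ih
  have hcongr : ∀ i a b, (QuotientGroup.mk a : E ⧸ Z) = QuotientGroup.mk b →
      (QuotientGroup.mk ((⇑η)^[i] a) : E ⧸ Z) = QuotientGroup.mk ((⇑η)^[i] b) := by
    intro i a b hab
    refine QuotientGroup.eq.2 ?_
    have := hiter_Z i _ (QuotientGroup.eq.1 hab)
    rwa [iterate_map_mul, iterate_map_inv] at this
  have horb_mem : ∀ v w, w ∈ orb v → ∀ i, (QuotientGroup.mk ((⇑η)^[i] (s w)) : E ⧸ Z) ∈ orb v := by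
    intro v w hw i
    obtain ⟨j, -, rfl⟩ := Finset.mem_image.1 hw
    refine Finset.mem_image.2 ⟨(i + j) % N, Finset.mem_range.2 (Nat.mod_lt _ hN0), ?_⟩
    rw [hcongr i _ _ (hs _), ← Function.iterate_add_apply]
    conv_rhs => rw [← Nat.mod_add_div (i + j) N, Function.iterate_add_apply,
      Function.IsPeriodicPt.mul_const (h.periodic _) _]
  have horb_self : ∀ v, v ∈ orb v := fun v =>
    Finset.mem_image.2 ⟨0, Finset.mem_range.2 hN0, hs v⟩
  have horb_eq : ∀ v w, w ∈ orb v → orb w = orb v := by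
    intro v w hw
    have h1 : orb w ⊆ orb v := by
      intro x hx
      obtain ⟨i, -, rfl⟩ := Finset.mem_image.1 hx
      exact horb_mem v w hw i
    refine Finset.Subset.antisymm h1 ?_
    obtain ⟨j, hj, rfl⟩ := Finset.mem_image.1 hw
    have hv : v ∈ orb (QuotientGroup.mk ((⇑η)^[j] (s v))) := by
      refine Finset.mem_image.2 ⟨(N - j) % N, Finset.mem_range.2 (Nat.mod_lt _ hN0), ?_⟩
      rw [hcongr _ _ _ (hs _), ← Function.iterate_add_apply]
      rw [Finset.mem_range] at hj
      by_cases hj0 : j = 0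
      · subst hj0; simp [hs]
      · rw [Nat.mod_eq_of_lt (by omega), Nat.sub_add_cancel hj.le, h.periodic, hs]
    intro x hx
    obtain ⟨i, -, rfl⟩ := Finset.mem_image.1 hx
    exact horb_mem _ v hv i
  have horb_card : ∀ v : E ⧸ Z, v ≠ QuotientGroup.mk 1 → (orb v).card = N := by
    intro v hv
    rw [Finset.card_image_of_injOn, Finset.card_range]
    intro i hi j hj hij
    simp only [Finset.coe_range, Set.mem_Iio] at hi hj
    by_contra hne
    have hnz : s v ∉ Z := fun hm => hv (by
      rw [← hs v]; exact QuotientGroup.eq.2 (by simpa using hm))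
    rcases lt_or_gt_of_ne hne with hlt | hlt
    · refine hnz (h.free _ (j - i) (by omega) (by omega) ?_)
      have h1 := hcongr (N - i) _ _ hij
      rw [← Function.iterate_add_apply, ← Function.iterate_add_apply, Nat.sub_add_cancel hi.le,
        h.periodic, show N - i + j = (j - i) + N by omega, Function.iterate_add_apply,
        h.periodic] at h1
      exact QuotientGroup.eq.1 h1
    · refine hnz (h.free _ (i - j) (by omega) (by omega) ?_)
      have h1 := hcongr (N - j) _ _ hij.symm
      rw [← Function.iterate_add_apply, ← Function.iterate_add_apply, Nat.sub_add_cancel hj.le,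
        h.periodic, show N - j + i = (i - j) + N by omega, Function.iterate_add_apply,
        h.periodic] at h1
      exact QuotientGroup.eq.1 h1
  set nz := (Finset.univ : Finset (E ⧸ Z)).erase (QuotientGroup.mk 1) with hnz
  have hfib : ∀ O ∈ nz.image orb, (nz.filter fun v => orb v = O).card = N := by
    intro O hO
    obtain ⟨v, hv, rfl⟩ := Finset.mem_image.1 hO
    rw [← horb_card v (Finset.ne_of_mem_erase hv)]
    congr 1
    ext w
    constructor
    · intro hw
      rw [Finset.mem_filter] at hw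
      rw [← hw.2]
      exact horb_self w
    · intro hw
      refine Finset.mem_filter.2 ⟨Finset.mem_erase.2 ⟨fun h1 => ?_, Finset.mem_univ _⟩, horb_eq v w hw⟩
      subst h1
      apply Finset.ne_of_mem_erase hv
      have hv' : v ∈ orb (QuotientGroup.mk 1) := horb_eq v _ hw ▸ horb_self v
      obtain ⟨i, -, hi⟩ := Finset.mem_image.1 hv'
      rw [← hi, hcongr i _ _ (hs _), iterate_map_one]
  have hcount : Z.index - 1 = N * (nz.image orb).card := by
    have := Finset.card_eq_sum_card_image orb nz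
    rw [Finset.sum_congr rfl hfib, Finset.sum_const, smul_eq_mul, mul_comm] at this
    rw [← this, hnz, Finset.card_erase_of_mem (Finset.mem_univ _), Finset.card_univ,
      ← Nat.card_eq_fintype_card]
    rfl
  suffices hsuff : finrank K (commutant S) ≤ 1 + (nz.image orb).card by
    refine ⟨hD, ⟨_, hcount⟩, ?_⟩
    rw [hcount, Nat.mul_div_cancel_left _ hN0]
    exact hsuff
  -- representatives of orbits
  let rep : Finset (E ⧸ Z) → E ⧸ Z := fun O =>
    if hO : O.Nonempty then hO.choose else QuotientGroup.mk 1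
  let T : Finset E := insert 1 ((nz.image orb).image fun O => s (rep O))
  have hTcard : T.card ≤ 1 + (nz.image orb).card :=
    (Finset.card_insert_le _ _).trans (by rw [add_comm]; exact Nat.add_le_add_left Finset.card_image_le 1)
  -- bound on the commutant
  have hcomm : finrank K (commutant S) ≤ 1 + (nz.image orb).card := by
    refine le_trans ?_ hTcard
    have hcoef : ∀ X ∈ commutant S, (∀ t ∈ T, Y t X = 0) → X = 0 := by
      intro X hX hT
      have hηZ : ∀ e, Y e X = 0 → Y (η e) X = 0 := by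
        intro e he
        have hbij : Function.Bijective η := by
          refine ⟨fun a b hab => ?_, fun b => ⟨(⇑η)^[N - 1] b, ?_⟩⟩
          · have := congrArg ((⇑η)^[N - 1]) hab
            rwa [← Function.iterate_succ_apply, ← Function.iterate_succ_apply,
              show (N - 1).succ = N by omega, h.periodic, h.periodic] at this
          · rw [← Function.iterate_succ_apply' (⇑η), show (N - 1).succ = N by omega, h.periodic]
        have hS : S * Y e X = Y (η e) X * S := by
          have hc : ∀ a, S * ρ a = ρ (η a) * S := fun a => LinearMap.ext fun w => h.compat a w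
          simp only [Y, Finset.mul_sum, Finset.sum_mul]
          conv_rhs => rw [← hbij.sum_comp]
          refine Finset.sum_congr rfl fun w _ => ?_
          have hX' : S * X = X * S := hX
          calc S * (ρ w * (ρ e⁻¹ * X) * ρ w⁻¹) = (S * ρ w) * (ρ e⁻¹ * X) * ρ w⁻¹ := by
                simp only [mul_assoc]
            _ = ρ (η w) * ((S * ρ e⁻¹) * X) * ρ w⁻¹ := by rw [hc]; simp only [mul_assoc]
            _ = ρ (η w) * (ρ (η e)⁻¹ * (S * X)) * ρ w⁻¹ := by
                rw [hc, map_inv η]; simp only [mul_assoc]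
            _ = ρ (η w) * (ρ (η e)⁻¹ * X) * (S * ρ w⁻¹) := by rw [hX']; simp only [mul_assoc]
            _ = _ := by rw [hc, map_inv η]; simp only [mul_assoc]
        rw [he, mul_zero] at hS
        have hunit : IsUnit S := IsUnit.of_pow_eq_one h.pow_eq hN0.ne'
        exact hunit.mul_left_eq_zero.1 hS.symm
      have hiter : ∀ i e, Y e X = 0 → Y ((⇑η)^[i] e) X = 0 := by
        intro i
        induction i with
        | zero => exact fun e he => he
        | succ i ih => intro e he; rw [Function.iterate_succ_apply']; exact hηZ _ (ih e he)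
      refine hcomplete X fun e => ?_
      by_cases he : (QuotientGroup.mk e : E ⧸ Z) = QuotientGroup.mk 1
      · have := hYshift 1 e (by simpa using QuotientGroup.eq.1 he.symm) X
        rw [one_mul, hT 1 (Finset.mem_insert_self _ _), smul_zero] at this
        exact this
      · have hO : orb (QuotientGroup.mk e) ∈ nz.image orb :=
          Finset.mem_image_of_mem _ (Finset.mem_erase.2 ⟨he, Finset.mem_univ _⟩)
        have hne : (orb (QuotientGroup.mk e)).Nonempty := ⟨_, horb_self _⟩
        have hrep : rep (orb (QuotientGroup.mk e)) ∈ orb (QuotientGroup.mk e) := by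
          simp only [rep, dif_pos hne]
          exact hne.choose_spec
        have hback : (QuotientGroup.mk e : E ⧸ Z) ∈ orb (rep (orb (QuotientGroup.mk e))) := by
          rw [horb_eq _ _ hrep]; exact horb_self _
        obtain ⟨i, -, hi⟩ := Finset.mem_image.1 hback
        have h1 := hiter i (s (rep (orb (QuotientGroup.mk e))))
          (hT (s (rep (orb (QuotientGroup.mk e))))
            (Finset.mem_insert_of_mem (Finset.mem_image_of_mem (fun O => s (rep O)) hO)))
        have := hYshift ((⇑η)^[i] (s (rep (orb (QuotientGroup.mk e)))))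
          (((⇑η)^[i] (s (rep (orb (QuotientGroup.mk e)))))⁻¹ * e) (QuotientGroup.eq.1 hi) X
        rw [mul_inv_cancel_left, h1, smul_zero] at this
        exact this
    choose c hc using hY
    obtain ⟨u₀, hu₀⟩ := exists_ne (0 : U)
    have inj : ∀ a b : K, a • (1 : Module.End K U) = b • 1 → a = b := fun a b hab => by
      have := LinearMap.congr_fun hab u₀
      simp only [LinearMap.smul_apply, Module.End.one_apply] at this
      exact smul_left_injective K hu₀ this
    let L : commutant S →ₗ[K] (T → K) :=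
      { toFun := fun X t => c t X
        map_add' := fun X X' => funext fun t => inj _ _ (by
          rw [Pi.add_apply, add_smul, ← hc, ← hc, ← hc]
          simp only [Y, Submodule.coe_add, mul_add, add_mul, Finset.sum_add_distrib])
        map_smul' := fun a X => funext fun t => inj _ _ (by
          rw [Pi.smul_apply, RingHom.id_apply, smul_eq_mul, mul_smul, ← hc, ← hc]
          simp only [Y, Submodule.coe_smul, mul_smul_comm, smul_mul_assoc, Finset.smul_sum]) }
    have hL : Function.Injective L := by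
      rw [← LinearMap.ker_eq_bot, LinearMap.ker_eq_bot']
      intro X hX
      refine Subtype.ext (hcoef X X.2 fun t ht => ?_)
      have : c t (X : Module.End K U) = 0 := congrFun hX ⟨t, ht⟩
      rw [hc, this, zero_smul]
    have := LinearMap.finrank_le_finrank_of_injective hL
    rwa [Module.finrank_pi, Fintype.card_coe] at this
  exact hcomm

/-- The bound in the simple case. -/
theorem HHBase.bound_simple_of (h : HHBase ρ Z ψ η S N) [IsAlgClosed K] [FiniteDimensional K U]
    [Nontrivial U] [Finite E]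
    (hsimple : ∀ M : Submodule K U, (∀ e, ∀ w ∈ M, ρ e w ∈ M) → M = ⊥ ∨ M = ⊤)
    (hE : (Nat.card E : K) ≠ 0) (hN0 : 0 < N)
    (hC : finrank K U ^ 2 ≤ (N - 1) * finrank K (commutant S)) :
    finrank K U ^ 2 = Z.index ∧ N ∣ Z.index - 1 ∧ finrank K U ≤ N - 1 ∧
      finrank K (commutant S) ≤ 1 + (Z.index - 1) / N := by
  obtain ⟨hD, hdvd, hcomm⟩ := h.simple_count hsimple hE hN0
  refine ⟨hD, hdvd, ?_, hcomm⟩
  obtain ⟨f, hf⟩ := hdvd
  rw [hf, Nat.mul_div_cancel_left _ hN0] at hcomm
  have hmain := hC.trans (Nat.mul_le_mul_left (N - 1) hcomm)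
  have hd0 : 0 < finrank K U := Module.finrank_pos
  obtain ⟨N', rfl⟩ : ∃ N', N = N' + 1 := ⟨N - 1, by omega⟩
  simp only [Nat.add_sub_cancel] at hmain ⊢
  rw [← hD] at hf
  generalize finrank K U = d at *
  have hd2 : 0 < d ^ 2 := by positivity
  have h1 : d ^ 2 = (N' + 1) * f + 1 := by omega
  have h2 : f + 1 ≤ N' := by
    by_contra h3
    nlinarith
  have h4 : d ^ 2 ≤ N' ^ 2 := by nlinarith
  exact le_of_pow_le_pow_left₀ two_ne_zero (Nat.zero_le _) h4

theorem HHData.ne_one (h : HHData ρ Z ψ η S N) [Nontrivial U] : N ≠ 1 := by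
  rintro rfl
  obtain ⟨w, hw⟩ := exists_ne (0 : U)
  have h1 := h.pow_eq
  rw [pow_one] at h1
  exact hw (h.fixed w (by rw [h1]; rfl))

theorem HHData.bound_simple (h : HHData ρ Z ψ η S N) [IsAlgClosed K] [FiniteDimensional K U]
    [Nontrivial U] [Finite E]
    (hsimple : ∀ M : Submodule K U, (∀ e, ∀ w ∈ M, ρ e w ∈ M) → M = ⊥ ∨ M = ⊤)
    (hE : (Nat.card E : K) ≠ 0) (hN : (N : K) ≠ 0) :
    finrank K U ^ 2 = Z.index ∧ N ∣ Z.index - 1 ∧ finrank K U ≤ N - 1 ∧
      finrank K (commutant S) ≤ 1 + (Z.index - 1) / N :=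
  h.toHHBase.bound_simple_of hsimple hE (Nat.pos_of_ne_zero fun h0 => hN (by simp [h0]))
    (sq_finrank_le_commutant S hN h.pow_eq h.fixed)

theorem HHBase.bijective (h : HHBase ρ Z ψ η S N) (hN0 : 0 < N) : Function.Bijective η := by
  refine ⟨fun a b hab => ?_, fun b => ⟨(⇑η)^[N - 1] b, ?_⟩⟩
  · have := congrArg ((⇑η)^[N - 1]) hab
    rwa [← Function.iterate_succ_apply, ← Function.iterate_succ_apply,
      show (N - 1).succ = N by omega, h.periodic, h.periodic] at this
  · rw [← Function.iterate_succ_apply' (⇑η), show (N - 1).succ = N by omega, h.periodic]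

/-- `∑ w * (η w)⁻¹` -/
def inter [Fintype E] (ρ : E →* Module.End K U) (η : E →* E) : Module.End K U :=
  ∑ w : E, ρ (w * (η w)⁻¹)

/-- `∑ η w * w⁻¹` -/
def inter' [Fintype E] (ρ : E →* Module.End K U) (η : E →* E) : Module.End K U :=
  ∑ w : E, ρ (η w * w⁻¹)

theorem inter_mul [Fintype E] (ρ : E →* Module.End K U) (η : E →* E) (x : E) :
    inter ρ η * ρ (η x) = ρ x * inter ρ η := by
  rw [inter, Finset.sum_mul, Finset.mul_sum,
    ← Equiv.sum_comp (Equiv.mulLeft x) (fun w => ρ (w * (η w)⁻¹) * ρ (η x))]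
  refine Finset.sum_congr rfl fun w _ => ?_
  rw [← map_mul, ← map_mul, Equiv.coe_mulLeft, map_mul η, mul_inv_rev]
  simp only [mul_assoc, inv_mul_cancel, mul_one]

theorem HHBase.inter_comm (h : HHBase ρ Z ψ η S N) [Fintype E] (hN0 : 0 < N) :
    S * inter ρ η = inter ρ η * S := by
  have hbij : Function.Bijective η := h.bijective hN0
  have hc : ∀ a, S * ρ a = ρ (η a) * S := fun a => LinearMap.ext fun w => h.compat a w
  rw [inter, Finset.mul_sum, Finset.sum_mul]
  conv_rhs => rw [← hbij.sum_comp]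
  refine Finset.sum_congr rfl fun w _ => ?_
  rw [hc, map_mul η, map_inv]

theorem HHBase.inter'_mul_inter (h : HHBase ρ Z ψ η S N) [Fintype E] [Nontrivial U] (hN0 : 0 < N)
    (hN1 : N ≠ 1) :
    inter' ρ η * inter ρ η = ((Fintype.card E * Nat.card Z : ℕ) : K) • 1 := by
  classical
  have hbij : Function.Bijective η := h.bijective hN0
  rw [inter, inter', Finset.sum_mul_sum]
  have key : ∀ w' : E, ∑ w : E, ρ (η w' * w'⁻¹) * ρ (w * (η w)⁻¹) =
      ∑ u : E, ψ ⁅η w', u * (η u)⁻¹⁆ • ρ (u * (η u)⁻¹) := by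
    intro w'
    rw [← Equiv.sum_comp (Equiv.mulLeft w') (fun w => ρ (η w' * w'⁻¹) * ρ (w * (η w)⁻¹))]
    refine Finset.sum_congr rfl fun u _ => ?_
    rw [← map_mul, ← h.conj_eq, Equiv.coe_mulLeft, map_mul η]
    congr 1
    group
  rw [Finset.sum_congr rfl fun w' _ => key w', Finset.sum_comm]
  have h1 : ∀ u : E, ∑ w' : E, ψ ⁅η w', u * (η u)⁻¹⁆ • ρ (u * (η u)⁻¹) =
      if u ∈ Z then (Fintype.card E : K) • 1 else 0 := by
    intro u
    rw [← Finset.sum_smul, hbij.sum_comp (fun e => ψ ⁅e, u * (η u)⁻¹⁆)]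
    split_ifs with hu
    · have hm : u * (η u)⁻¹ ∈ Z := Z.mul_mem hu (Z.inv_mem (h.inv u hu))
      rw [(h.sum_psi_commutator _).1 hm, h.scalar _ hm, h.psi_mul hu (Z.inv_mem (h.inv u hu)),
        ← map_inv, h.scalar_inv _ (Z.inv_mem hu), ← h.psi_mul hu (Z.inv_mem hu), mul_inv_cancel,
        h.psi_one, one_smul]
    · have hm : u * (η u)⁻¹ ∉ Z := by
        intro hm
        apply hu
        · refine h.free u 1 one_pos (by omega) ?_
          have hcz : ρ ((u * (η u)⁻¹) * u) = ρ (u * (u * (η u)⁻¹)) := h.mem_center _ hm u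
          have hm' : u⁻¹ * (u * (η u)⁻¹) * u ∈ Z := by
            have := Z.mul_mem (h.commutator_mem u⁻¹ (u * (η u)⁻¹)) hm
            convert this using 1
            simp [commutatorElement_def, mul_assoc]
          simpa [mul_assoc] using Z.inv_mem hm'
      rw [(h.sum_psi_commutator _).2 hm, zero_smul]
  rw [Finset.sum_congr rfl fun u _ => h1 u, Finset.sum_ite, Finset.sum_const, Finset.sum_const_zero,
    add_zero, ← Nat.cast_smul_eq_nsmul K, smul_smul, ← Nat.cast_mul, mul_comm,
    show (Finset.univ.filter fun w => w ∈ Z).card = Nat.card Z from by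
      rw [Nat.card_eq_fintype_card, Fintype.card_subtype]]

theorem cst_ne_zero [Fintype E] (hE : (Fintype.card E : K) ≠ 0) :
    ((Fintype.card E * Nat.card Z : ℕ) : K) ≠ 0 := by
  rw [Nat.cast_mul]
  refine mul_ne_zero hE fun h0 => ?_
  obtain ⟨b, hb⟩ := card_subgroup_dvd_card Z
  exact hE (by rw [← Nat.card_eq_fintype_card, hb, Nat.cast_mul, h0, zero_mul])

/-- a simple submodule inside an eigenspace of `inter ρ η * S` -/
theorem HHBase.exists_simple_le (h : HHBase ρ Z ψ η S N) [Fintype E] [FiniteDimensional K U]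
    [Nontrivial U] (hN0 : 0 < N) (hN1 : N ≠ 1) (hE : (Fintype.card E : K) ≠ 0) {t : K} (X0 : Submodule K U)
    (hX0 : X0 ≠ ⊥) (hX0i : ∀ e, ∀ w ∈ X0, ρ e w ∈ X0)
    (hX0t : X0 ≤ Module.End.eigenspace (inter ρ η * S) t) :
    ∃ (M : Submodule K U) (_ : Nontrivial M) (ρM : E →* Module.End K M) (SM : Module.End K M),
      (∀ e (w : M), ((ρM e w : M) : U) = ρ e (w : U)) ∧
      (∀ w : M, ((SM w : M) : U) = S (w : U)) ∧
      (∀ w : M, inter ρ η (S (w : U)) = t • (w : U)) ∧ M ≤ X0 ∧
      (∀ L : Submodule K M, (∀ e, ∀ w ∈ L, ρM e w ∈ L) → L = ⊥ ∨ L = ⊤) ∧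
      HHBase ρM Z ψ η SM N := by
  have hc : ∀ a, S * ρ a = ρ (η a) * S := fun a => LinearMap.ext fun w => h.compat a w
  have hcst := cst_ne_zero (K := K) (Z := Z) hE
  set T := inter ρ η * S with hT
  have hTρ : ∀ x, T * ρ x = ρ x * T := fun x => by
    rw [hT, mul_assoc, hc, ← mul_assoc, inter_mul, mul_assoc]
  let P : Submodule K U → Prop := fun M =>
    M ≠ ⊥ ∧ M ≤ X0 ∧ ∀ e, ∀ w ∈ M, ρ e w ∈ M
  have hPX : P X0 := ⟨hX0, le_rfl, hX0i⟩
  obtain ⟨M, ⟨hM0, hMle0, hMinv⟩, hMmin⟩ :=
    (wellFounded_lt (α := Submodule K U)).has_min {M | P M} ⟨_, hPX⟩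
  have hMle : M ≤ Module.End.eigenspace T t := hMle0.trans hX0t
  have hA'mem : ∀ w ∈ M, inter' ρ η w ∈ M := fun w hw => by
    rw [inter', LinearMap.sum_apply]
    exact M.sum_mem fun x _ => hMinv _ w hw
  have hSM : ∀ w ∈ M, S w ∈ M := by
    intro w hw
    have h1 := Module.End.mem_eigenspace_iff.1 (hMle hw)
    have h2 : ((Fintype.card E * Nat.card Z : ℕ) : K) • S w = t • inter' ρ η w := by
      rw [← map_smul (inter' ρ η), ← h1, hT, ← Module.End.mul_apply (inter' ρ η), ← mul_assoc, h.inter'_mul_inter hN0 hN1, smul_mul_assoc,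
        one_mul]
      rfl
    have h3 : S w = ((Fintype.card E * Nat.card Z : ℕ) : K)⁻¹ • (t • inter' ρ η w) := by
      rw [← h2, smul_smul, inv_mul_cancel₀ hcst, one_smul]
    rw [h3]
    exact M.smul_mem _ (M.smul_mem _ (hA'mem w hw))
  let ρM : E →* Module.End K M :=
    { toFun := fun e => (ρ e).restrict (hMinv e)
      map_one' := LinearMap.ext fun w => Subtype.ext (by simp)
      map_mul' := fun a b => LinearMap.ext fun w => Subtype.ext (by simp) }
  haveI : Nontrivial M := Submodule.nontrivial_iff_ne_bot.2 hM0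
  have hpow : ∀ k (w : M), (((S.restrict hSM) ^ k) w : U) = (S ^ k) (w : U) := by
    intro k w
    induction k with
    | zero => rfl
    | succ k ih =>
      rw [pow_succ', pow_succ', Module.End.mul_apply, Module.End.mul_apply, LinearMap.restrict_apply]
      exact congrArg S ih
  have hdata : HHBase ρM Z ψ η (S.restrict hSM) N :=
    { h with
      mem_center := fun z hz u => LinearMap.ext fun w => Subtype.ext
        (LinearMap.congr_fun (h.mem_center z hz u) (w : U))
      scalar := fun z hz => LinearMap.ext fun w => Subtype.ext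
        (LinearMap.congr_fun (h.scalar z hz) (w : U))
      pow_eq := LinearMap.ext fun w => Subtype.ext (by rw [hpow, h.pow_eq]; rfl)
      compat := fun e w => Subtype.ext (h.compat e w) }
  have hsimple : ∀ L : Submodule K M, (∀ e, ∀ w ∈ L, ρM e w ∈ L) → L = ⊥ ∨ L = ⊤ := by
    intro L hL
    by_cases h0 : L = ⊥
    · exact Or.inl h0
    refine Or.inr ?_
    have hP : P (L.map M.subtype) := by
      refine ⟨fun hb => h0 ((Submodule.map_injective_of_injective M.subtype_injective).eq_iff.1
        (hb.trans (Submodule.map_bot _).symm)), (Submodule.map_subtype_le M L).trans hMle0, ?_⟩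
      rintro e _ ⟨x, hx, rfl⟩
      exact ⟨_, hL e x hx, rfl⟩
    have := (Submodule.map_subtype_le M L).eq_or_lt.resolve_right (fun hlt => hMmin _ hP hlt)
    apply Submodule.map_injective_of_injective M.subtype_injective
    rw [this, Submodule.map_subtype_top]
  exact ⟨M, inferInstance, ρM, S.restrict hSM, fun _ _ => rfl, fun _ => rfl,
    fun w => Module.End.mem_eigenspace_iff.1 (hMle w.2), hMle0, hsimple, hdata⟩

theorem HHData.exists_simple (h : HHData ρ Z ψ η S N) [Fintype E] [FiniteDimensional K U]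
    [Nontrivial U] (hN0 : 0 < N) (hE : (Fintype.card E : K) ≠ 0) {t : K}
    (ht : (inter ρ η * S).HasEigenvalue t) :
    ∃ (M : Submodule K U) (_ : Nontrivial M) (ρM : E →* Module.End K M) (SM : Module.End K M),
      (∀ e (w : M), ((ρM e w : M) : U) = ρ e (w : U)) ∧
      (∀ w : M, ((SM w : M) : U) = S (w : U)) ∧
      (∀ w : M, inter ρ η (S (w : U)) = t • (w : U)) ∧
      (∀ L : Submodule K M, (∀ e, ∀ w ∈ L, ρM e w ∈ L) → L = ⊥ ∨ L = ⊤) ∧
      HHData ρM Z ψ η SM N := by
  obtain ⟨M, hM, ρM, SM, h1, h2, h3, -, h4, h5⟩ := h.toHHBase.exists_simple_le hN0 h.ne_one hE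
    (t := t) (Module.End.eigenspace (inter ρ η * S) t) ht (fun e w hw => by
      rw [Module.End.mem_eigenspace_iff] at hw ⊢
      have hc : ∀ a, S * ρ a = ρ (η a) * S := fun a => LinearMap.ext fun w => h.compat a w
      have hT : inter ρ η * S * ρ e = ρ e * (inter ρ η * S) := by
        rw [mul_assoc, hc, ← mul_assoc, inter_mul, mul_assoc]
      rw [← Module.End.mul_apply, hT, Module.End.mul_apply, hw, map_smul]) le_rfl
  exact ⟨M, hM, ρM, SM, h1, h2, h3, h4, { h5 with
    fixed := fun w hw => Subtype.ext (h.fixed (w : U) (by rw [← h2 w, hw])) }⟩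

/-- The bound without assuming simplicity. -/
theorem HHData.bound (h : HHData ρ Z ψ η S N) [IsAlgClosed K] [FiniteDimensional K U]
    [Nontrivial U] [Finite E] (hE : (Nat.card E : K) ≠ 0) (hN : (N : K) ≠ 0) :
    ∃ d : ℕ, d ^ 2 = Z.index ∧ N ∣ Z.index - 1 ∧ d ≤ N - 1 := by
  classical
  cases nonempty_fintype E
  have hN0 : 0 < N := Nat.pos_of_ne_zero fun h => hN (by simp [h])
  have hE' : (Fintype.card E : K) ≠ 0 := by rwa [← Nat.card_eq_fintype_card]
  obtain ⟨t, ht⟩ := Module.End.exists_eigenvalue (inter ρ η * S)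
  obtain ⟨M, _, ρM, SM, -, -, -, hsimple, hdata⟩ := h.exists_simple hN0 hE' ht
  obtain ⟨h1, h2, h3, -⟩ := hdata.bound_simple hsimple hE hN
  exact ⟨_, h1, h2, h3⟩

end Cfsg.Agent.FGS73
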