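import Cfsg.Agent.FGS73.HHBWeight

/-!
The linear core of Theorem B of Hall and Higman.
-/

namespace Cfsg.Agent.FGS73

open Subgroup
open scoped commutatorElement

theorem lift_nil {K U : Type*} [Field K] [AddCommGroup U] [Module K U] {p j : ℕ} [Fact p.Prime]
    [CharP K p] (S : Module.End K U) (U0 : Submodule K U) (hSU : ∀ w ∈ U0, (S ^ p ^ j) w ∈ U0)
    (hsep : ∀ w ∈ U0, ∑ i ∈ Finset.range (p ^ j), (S ^ i) w = 0 → w = 0) (k : ℕ) {w : U}
    (hw : w ∈ U0) (h : ((S - 1) ^ (p ^ j * (k + 1) - 1)) w = 0) :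
    ((S ^ p ^ j - 1) ^ k) w = 0 := by
  have hB : 0 < p ^ j := pow_pos (Fact.out : p.Prime).pos j
  have e : (S - 1) ^ (p ^ j) = S ^ p ^ j - 1 := by
    have h1 := congrArg (Polynomial.aeval S) (sub_pow_char_pow (p := p) (n := j)
      (Polynomial.X : Polynomial K) 1)
    simpa using h1
  rw [Nat.mul_succ, Nat.add_comm, show p ^ j + p ^ j * k - 1 = (p ^ j - 1) + p ^ j * k by omega,
    pow_add, pow_mul, e, Module.End.mul_apply, ← sum_pow_eq, LinearMap.sum_apply] at h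
  refine hsep _ ?_ h
  clear h
  induction k with
  | zero => exact hw
  | succ k ih =>
    rw [pow_succ', Module.End.mul_apply, LinearMap.sub_apply, Module.End.one_apply]
    exact U0.sub_mem (hSU _ ih) ih

theorem exists_fixed_mul_prime {G : Type*} [Group G] [Finite G] {p : ℕ} [Fact p.Prime] (τ : G →* G)
    (hτ : ∀ y, (⇑τ)^[p] y = y) (hG : ¬ p ∣ Nat.card G) (E : Subgroup G) (hE : ∀ e ∈ E, τ e ∈ E)
    (t : G) (ht : t⁻¹ * τ t ∈ E) : ∃ y, τ y = y ∧ t⁻¹ * y ∈ E := by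
  haveI : NeZero p := ⟨(Fact.out : p.Prime).ne_zero⟩
  have hmod : ∀ k g, (⇑τ)^[k] g = (⇑τ)^[k % p] g := by
    intro k g
    conv_lhs => rw [← Nat.mod_add_div k p, Function.iterate_add_apply,
      Function.IsPeriodicPt.mul_const (hτ _) _]
  let φ : Multiplicative (ZMod p) →* Monoid.End G :=
    { toFun := fun a => MonoidHom.mk' ((⇑τ)^[a.toAdd.val]) (fun x y => iterate_map_mul τ _ x y)
      map_one' := MonoidHom.ext fun g => by
        change (⇑τ)^[(0 : ZMod p).val] g = g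
        rw [ZMod.val_zero]; rfl
      map_mul' := fun a b => MonoidHom.ext fun g => by
        change (⇑τ)^[(a.toAdd + b.toAdd).val] g = (⇑τ)^[a.toAdd.val] ((⇑τ)^[b.toAdd.val] g)
        rw [ZMod.val_add, ← hmod, Function.iterate_add_apply] }
  have hEk : ∀ k, ∀ e ∈ E, (⇑τ)^[k] e ∈ E := by
    intro k e he
    induction k with
    | zero => exact he
    | succ k ih => rw [Function.iterate_succ_apply']; exact hE _ ih
  obtain ⟨y, hy, hfix⟩ := exists_fixed_in_coset (p := p) (A := Multiplicative (ZMod p))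
    (IsPGroup.of_card (n := 1) (by change Nat.card (ZMod p) = _; rw [Nat.card_zmod, pow_one]))
    φ E (fun a e he => hEk _ e he) (fun h => hG (h.trans (card_subgroup_dvd_card E))) t (fun a => by
      change t⁻¹ * (⇑τ)^[a.toAdd.val] t ∈ E
      generalize a.toAdd.val = k
      induction k with
      | zero => simp
      | succ k ih =>
        have := E.mul_mem ih (hEk k _ ht)
        rw [iterate_map_mul, iterate_map_inv] at this
        rw [Function.iterate_succ_apply]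
        simpa [mul_assoc] using this)
  refine ⟨y, ?_, hy⟩
  have h1 : (⇑τ)^[(1 : ZMod p).val] y = y := hfix (Multiplicative.ofAdd 1)
  rwa [ZMod.val_one, Function.iterate_one] at h1

variable {T : Type*} [Group T] [Finite T] {K U : Type*} [Field K] [IsAlgClosed K] [AddCommGroup U]
  [Module K U] [FiniteDimensional K U]

/-- The exceptional configuration on the commutator `E` of `τ = σ ^ p ^ n`, modulo the kernel `R` of a
weight `ψ`: `σ ^ p ^ j` moves `E / R` only, and freely. -/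
structure HHBPlane {T K : Type*} [Group T] (σ : T →* T) (ψ : T → K) (p n r j : ℕ) (R : Subgroup T) :
    Prop where
  le : j ≤ n
  three_le : 3 ≤ p ^ (n + 1 - j)
  card_dvd : (p ^ (n + 1 - j) - 1) ^ 2 ∣ Nat.card T
  le_r : p ^ j * (p ^ (n + 1 - j) - 1) ≤ r
  fix_mem : ∀ y, (⇑σ)^[p ^ n] y = y → y⁻¹ * (⇑σ)^[p ^ j] y ∈ R
  inv : ∀ e ∈ closure (Set.range fun t => t⁻¹ * (⇑σ)^[p ^ n] t),
    (⇑σ)^[p ^ j] e ∈ closure (Set.range fun t => t⁻¹ * (⇑σ)^[p ^ n] t)
  index_eq : (R.subgroupOf (closure (Set.range fun t => t⁻¹ * (⇑σ)^[p ^ n] t))).index =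
    (p ^ (n + 1 - j) - 1) ^ 2
  free : ∀ v ∈ closure (Set.range fun t => t⁻¹ * (⇑σ)^[p ^ n] t), ∀ i, 0 < i →
    i < p ^ (n + 1 - j) → v⁻¹ * (⇑σ)^[p ^ j * i] v ∈ R → v ∈ R
  weight : ∀ z ∈ center T, ψ ((⇑σ)^[p ^ j] z) = ψ z

/-- The core of Theorem B at a weight: a weight `ψ` occurring in `L`, and the configuration modulo its
kernel. -/
theorem hhb_core_weight {p : ℕ} [Fact p.Prime] [CharP K p] (σ : T →* T) {n : ℕ}
    (hσp : ∀ x, (⇑σ)^[p ^ (n + 1)] x = x) (ρ : T →* Module.End K U)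
    (S : Module.End K U) (hSp : S ^ (p ^ (n + 1)) = 1) {r : ℕ} (hr : (S - 1) ^ r = 0)
    (hrn : r < p ^ (n + 1)) (hcompat : ∀ x w, S (ρ x w) = ρ (σ x) (S w))
    (hT : (Nat.card T : K) ≠ 0) (hcomm : ∀ a b : T, ⁅a, b⁆ ∈ center T)
    (L : Submodule K U) (hL : L ≠ ⊥) (hLi : ∀ z ∈ center T, ∀ w ∈ L, ρ z w ∈ L) :
    ∃ ψ : T → K, (∃ v ∈ L, v ≠ 0 ∧ ∀ z ∈ center T, ρ z v = ψ z • v) ∧
      (∀ a ∈ center T, ∀ b ∈ center T, ψ (a * b) = ψ a * ψ b) ∧ ψ 1 = 1 ∧
      (∀ z ∈ center T, ψ ((⇑σ)^[p ^ n] z) = ψ z) ∧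
      ∀ R : Subgroup T, (∀ a, a ∈ R ↔ ∀ t : T, ψ ⁅t, a⁆ = 1) →
        (∀ t, t⁻¹ * (⇑σ)^[p ^ n] t ∈ R) ∨ ∃ j, HHBPlane σ ψ p n r j R := by
  classical
  cases nonempty_fintype T
  have h2p : Nat.Prime p := Fact.out
  set M := p ^ (n + 1) with hM
  have hM0 : 0 < M := pow_pos h2p.pos _
  have hTp : ¬ p ∣ Nat.card T := fun hd => hT ((CharP.cast_eq_zero_iff K p _).2 hd)
  have hhom : ∀ k (a b : T), (⇑σ)^[k] (a * b) = (⇑σ)^[k] a * (⇑σ)^[k] b :=
    fun k a b => iterate_map_mul σ k a b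
  have hσinv : ∀ k (a : T), (⇑σ)^[k] a⁻¹ = ((⇑σ)^[k] a)⁻¹ := fun k a => iterate_map_inv σ k a
  have hσbij : ∀ k, Function.Bijective ((⇑σ)^[k]) := by
    intro k
    refine Function.Bijective.iterate ?_ k
    refine Finite.injective_iff_bijective.1 fun a b hab => ?_
    have := congrArg ((⇑σ)^[M - 1]) hab
    rwa [← Function.iterate_succ_apply, ← Function.iterate_succ_apply,
      show (M - 1).succ = M by omega, hσp, hσp] at this
  have hcen : ∀ z ∈ center T, σ z ∈ center T := by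
    intro z hz
    rw [mem_center_iff] at hz ⊢
    intro g
    obtain ⟨g', rfl⟩ : ∃ g', σ g' = g := (hσbij 1).2 g
    rw [← map_mul, ← map_mul, hz]
  have hmulapp : ∀ a b w, ρ (a * b) w = ρ a (ρ b w) := fun a b w => by rw [map_mul]; rfl
  have honeapp : ∀ w, ρ 1 w = w := fun w => by rw [map_one]; rfl
  have hcc : ∀ z ∈ center T, ∀ t, ρ z * ρ t = ρ t * ρ z := fun z hz t => by
    rw [← map_mul, ← map_mul, mem_center_iff.1 hz t]
  obtain ⟨j₀, hj₀, ψ₀, U0, hU0, hU0T, hU0S, hU0norm, hU0sep, ⟨v₀, hv₀L, hv₀U, hv₀⟩, hψmul, hψ1, hψj, hψτ⟩ :=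
    exists_weight_norm σ h2p hσp ρ S (norm_of_sub_one_pow S hr hrn) hSp hcompat hT (center T) hcen hcc L hL
      hLi
  have hψne : ∀ z ∈ center T, ψ₀ z ≠ 0 := fun z hz h0 => by
    have := hψmul z hz z⁻¹ (inv_mem hz)
    rw [mul_inv_cancel, hψ1, h0, zero_mul] at this
    exact one_ne_zero this
  -- bilinearity
  have hbr : ∀ a b t : T, ψ₀ ⁅t, a * b⁆ = ψ₀ ⁅t, a⁆ * ψ₀ ⁅t, b⁆ := by
    intro a b t
    have e : ⁅t, a * b⁆ = ⁅t, a⁆ * ⁅t, b⁆ := by
      rw [show ⁅t, a * b⁆ = ⁅t, a⁆ * (a * ⁅t, b⁆ * a⁻¹) by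
        simp [commutatorElement_def, mul_assoc], mem_center_iff.1 (hcomm t b) a,
        mul_inv_cancel_right]
    rw [e, hψmul _ (hcomm _ _) _ (hcomm _ _)]
  have hswap : ∀ a b : T, ψ₀ ⁅a, b⁆ = 1 → ψ₀ ⁅b, a⁆ = 1 := by
    intro a b h
    have h1 := hψmul _ (hcomm a b) _ (hcomm b a)
    rwa [← commutatorElement_inv a b, mul_inv_cancel, hψ1, h, one_mul, eq_comm,
      commutatorElement_inv] at h1
  have hbl : ∀ a b t : T, ψ₀ ⁅a * b, t⁆ = ψ₀ ⁅a, t⁆ * ψ₀ ⁅b, t⁆ := by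
    intro a b t
    have e : ⁅a * b, t⁆ = ⁅a, t⁆ * ⁅b, t⁆ := by
      rw [show ⁅a * b, t⁆ = a * ⁅b, t⁆ * a⁻¹ * ⁅a, t⁆ by
        simp [commutatorElement_def, mul_assoc], mem_center_iff.1 (hcomm b t) a,
        mul_inv_cancel_right, mem_center_iff.1 (hcomm a t)]
    rw [e, hψmul _ (hcomm _ _) _ (hcomm _ _)]
  refine ⟨ψ₀, ⟨v₀, hv₀L, hv₀, (hU0 v₀).1 hv₀U⟩, hψmul, hψ1, hψτ, fun R hRdef => ?_⟩
  have hZR : center T ≤ R := fun z hz => (hRdef z).2 fun t => by
    rw [show ⁅t, z⁆ = 1 from commutatorElement_eq_one_iff_mul_comm.2 (mem_center_iff.1 hz t), hψ1]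
  have hiterc : ∀ k (a b : T), (⇑σ)^[k] ⁅a, b⁆ = ⁅(⇑σ)^[k] a, (⇑σ)^[k] b⁆ := fun k a b =>
    map_commutatorElement (MonoidHom.mk' ((⇑σ)^[k]) (hhom k)) a b
  set B₀ := p ^ j₀ with hB₀
  have hRB : ∀ a ∈ R, (⇑σ)^[B₀] a ∈ R := by
    intro a ha
    refine (hRdef _).2 fun t => ?_
    obtain ⟨s, rfl⟩ := (hσbij B₀).2 t
    rw [← hiterc, hψj _ (hcomm s a), (hRdef a).1 ha s]
  -- the second weight
  let σ₁ : T →* T := MonoidHom.mk' ((⇑σ)^[B₀]) (hhom B₀)
  have hσ₁ : ∀ i y, (⇑σ₁)^[i] y = (⇑σ)^[B₀ * i] y := fun i y => by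
    rw [Function.iterate_mul]; rfl
  have hm₀ : B₀ * p ^ (n - j₀ + 1) = M := by rw [hB₀, hM, ← pow_add]; congr 1; omega
  let ρ0 : T →* Module.End K U0 :=
    { toFun := fun t => (ρ t).restrict (hU0T t)
      map_one' := LinearMap.ext fun w => Subtype.ext (honeapp _)
      map_mul' := fun a b => LinearMap.ext fun w => Subtype.ext (hmulapp a b _) }
  let S0 : Module.End K U0 := (S ^ B₀).restrict hU0S
  haveI hU0nt : Nontrivial U0 := ⟨⟨⟨v₀, hv₀U⟩, 0, fun h => hv₀ (congrArg Subtype.val h)⟩⟩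
  have hRc : ∀ a ∈ R, ∀ b, ρ0 a * ρ0 b = ρ0 b * ρ0 a := by
    intro a ha b
    refine LinearMap.ext fun w => Subtype.ext ?_
    change ρ a (ρ b (w : U)) = ρ b (ρ a (w : U))
    have h1 : ρ b (ρ a (w : U)) = ρ ⁅b, a⁆ (ρ a (ρ b (w : U))) := by
      rw [← hmulapp, ← hmulapp, ← hmulapp]
      congr 2
      simp [commutatorElement_def, mul_assoc]
    rw [h1, (hU0 _).1 (hU0T a _ (hU0T b _ w.2)) _ (hcomm b a), (hRdef a).1 ha b, one_smul]
  have hSit : ∀ k x w, (S ^ k) (ρ x w) = ρ ((⇑σ)^[k] x) ((S ^ k) w) := by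
    intro k
    induction k with
    | zero => intro x w; rfl
    | succ k ih =>
      intro x w
      rw [pow_succ', Module.End.mul_apply, ih, hcompat, Function.iterate_succ_apply',
        Module.End.mul_apply]
  have hS0pow : ∀ k (w : U0), (((S0 ^ k) w : U0) : U) = (S ^ (B₀ * k)) (w : U) := by
    intro k w
    induction k with
    | zero => simp
    | succ k ih =>
      rw [pow_succ', Module.End.mul_apply, Nat.mul_succ, Nat.add_comm, pow_add,
        Module.End.mul_apply, ← ih]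
      rfl
  obtain ⟨j₁, hj₁, ψ, U00, hU00, hU00T, hU00S, hU00norm, hU00sep, ⟨v₁, -, hv₁U, hv₁⟩, hφmul, hφ1, hφj, -⟩ :=
    exists_weight_norm σ₁ h2p (m := n - j₀) (fun y => by rw [hσ₁, hm₀]; exact hσp y) ρ0 S0
      (fun w => Subtype.ext (by
        rw [Submodule.coe_sum, Submodule.coe_zero, show n - j₀ + 1 = n + 1 - j₀ by omega]
        refine Eq.trans (Finset.sum_congr rfl fun k _ => ?_) (hU0norm w w.2)
        rw [hS0pow, ← pow_mul]))
      (LinearMap.ext fun w => Subtype.ext (by rw [hS0pow, hm₀, hSp]; rfl))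
      (fun y w => Subtype.ext (hSit B₀ y (w : U))) hT R hRB hRc ⊤ top_ne_bot
      (fun _ _ _ _ => Submodule.mem_top)
  set m := n + 1 - j₀ - j₁ with hm
  set B := p ^ (j₀ + j₁) with hB
  set N := p ^ m with hN
  have hBN : B * N = M := by rw [hB, hN, hM, ← pow_add]; congr 1; omega
  have hB' : B₀ * p ^ j₁ = B := by rw [hB₀, hB, pow_add]
  have hφj' : ∀ a ∈ R, ψ ((⇑σ)^[B] a) = ψ a := fun a ha => by
    rw [← hB', ← hσ₁]; exact hφj a ha
  have hRBB : ∀ a ∈ R, (⇑σ)^[B] a ∈ R := by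
    intro a ha
    rw [← hB']
    generalize p ^ j₁ = t
    induction t with
    | zero => simpa using ha
    | succ t ih => rw [Nat.mul_succ, Nat.add_comm, Function.iterate_add_apply]; exact hRB _ ih
  have hψφ : ∀ z ∈ center T, ψ z = ψ₀ z := by
    intro z hz
    have h1 := congrArg Subtype.val ((hU00 v₁).1 hv₁U z (hZR hz))
    change ρ z (v₁ : U) = ψ z • (v₁ : U) at h1
    rw [(hU0 _).1 v₁.2 z hz] at h1
    exact (smul_left_injective K (fun h => hv₁ (Subtype.ext h)) h1).symm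
  -- `τ`
  let τ : T →* T := MonoidHom.mk' ((⇑σ)^[p ^ n]) (hhom _)
  have hτp : ∀ y, (⇑τ)^[p] y = y := by
    intro y
    change ((⇑σ)^[p ^ n])^[p] y = y
    rw [← Function.iterate_mul, ← pow_succ]
    exact hσp y
  let E : Subgroup T := closure (Set.range fun t => t⁻¹ * τ t)
  have hEgen : ∀ t, t⁻¹ * τ t ∈ E := fun t => subset_closure ⟨t, rfl⟩
  by_cases hER : E ≤ R
  · exact Or.inl fun t => hER (hEgen t)
  refine Or.inr ?_
  have hEB : ∀ e ∈ E, (⇑σ)^[B] e ∈ E := by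
    intro e he
    have h1 : E ≤ E.comap (MonoidHom.mk' ((⇑σ)^[B]) (hhom B)) := by
      rw [closure_le]
      rintro _ ⟨t, rfl⟩
      refine subset_closure ⟨(⇑σ)^[B] t, ?_⟩
      change ((⇑σ)^[B] t)⁻¹ * (⇑σ)^[p ^ n] ((⇑σ)^[B] t) = (⇑σ)^[B] (t⁻¹ * (⇑σ)^[p ^ n] t)
      rw [hhom, hσinv, ← Function.iterate_add_apply, ← Function.iterate_add_apply, Nat.add_comm]
    exact h1 he
  have hEτ : ∀ e ∈ E, τ e ∈ E := by
    intro e he
    have h1 : E ≤ E.comap τ := by
      rw [closure_le]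
      rintro _ ⟨t, rfl⟩
      refine subset_closure ⟨τ t, ?_⟩
      rw [map_mul, map_inv]
    exact h1 he
  have hinvτ : ∀ a b, ψ₀ ⁅τ a, τ b⁆ = ψ₀ ⁅a, b⁆ := by
    intro a b
    rw [← map_commutatorElement]
    exact hψτ _ (hcomm a b)
  have hperp : ∀ y, τ y = y → ∀ e ∈ E, ψ₀ ⁅y, e⁆ = 1 := by
    intro y hy e he
    let P : Subgroup T :=
      { carrier := {e | ψ₀ ⁅y, e⁆ = 1}
        one_mem' := by simp [hψ1]
        mul_mem' := fun {a b} ha hb => by
          change ψ₀ ⁅y, a * b⁆ = 1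
          rw [hbr, show ψ₀ ⁅y, a⁆ = 1 from ha, show ψ₀ ⁅y, b⁆ = 1 from hb, one_mul]
        inv_mem' := fun {a} ha => by
          change ψ₀ ⁅y, a⁻¹⁆ = 1
          have h := hbr a a⁻¹ y
          rw [mul_inv_cancel, commutatorElement_one_right, hψ1, show ψ₀ ⁅y, a⁆ = 1 from ha,
            one_mul] at h
          exact h.symm }
    have h1 : E ≤ P := by
      rw [closure_le]
      rintro _ ⟨t, rfl⟩
      change ψ₀ ⁅y, t⁻¹ * τ t⁆ = 1
      have h2 := hinvτ y t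
      rw [hy, show τ t = t * (t⁻¹ * τ t) by group, hbr] at h2
      exact (mul_eq_left₀ (hψne _ (hcomm y t))).1 h2
    exact h1 he
  have hdet : ∀ v ∈ E, (∀ u ∈ E, ψ₀ ⁅u, v⁆ = 1) → v ∈ R := by
    intro v hv hu
    refine (hRdef v).2 fun t => ?_
    obtain ⟨y, hy, hty⟩ := exists_fixed_mul_prime τ hτp hTp E hEτ t (hEgen t)
    rw [show t = y * (t⁻¹ * y)⁻¹ by group, hbl, hperp y hy v hv, one_mul]
    exact hu _ (inv_mem hty)
  have hdetτ : ∀ v ∈ E, v⁻¹ * τ v ∈ R → v ∈ R := by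
    intro v hv hvR
    refine hdet v hv fun u hu => ?_
    let P : Subgroup T :=
      { carrier := {u | ψ₀ ⁅u, v⁆ = 1}
        one_mem' := by simp [hψ1]
        mul_mem' := fun {a b} ha hb => by
          change ψ₀ ⁅a * b, v⁆ = 1
          rw [hbl, show ψ₀ ⁅a, v⁆ = 1 from ha, show ψ₀ ⁅b, v⁆ = 1 from hb, one_mul]
        inv_mem' := fun {a} ha => by
          change ψ₀ ⁅a⁻¹, v⁆ = 1
          have h := hbl a a⁻¹ v
          rw [mul_inv_cancel, commutatorElement_one_left, hψ1, show ψ₀ ⁅a, v⁆ = 1 from ha,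
            one_mul] at h
          exact h.symm }
    have h1 : E ≤ P := by
      rw [closure_le]
      rintro _ ⟨t, rfl⟩
      change ψ₀ ⁅t⁻¹ * τ t, v⁆ = 1
      have h2 := hinvτ t v
      rw [show τ v = v * (v⁻¹ * τ v) by group, hbr, (hRdef _).1 hvR (τ t), mul_one,
        show τ t = t * (t⁻¹ * τ t) by group, hbl] at h2
      exact (mul_eq_left₀ (hψne _ (hcomm t v))).1 h2
    exact h1 hu
  haveI hU00nt : Nontrivial U00 := ⟨⟨⟨v₁, hv₁U⟩, 0, fun h => hv₁ (congrArg Subtype.val h)⟩⟩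
  let ρ00 : T →* Module.End K U00 :=
    { toFun := fun t => (ρ0 t).restrict (hU00T t)
      map_one' := LinearMap.ext fun w => Subtype.ext (by simp)
      map_mul' := fun a b => LinearMap.ext fun w => Subtype.ext (by simp) }
  let S00 : Module.End K U00 := (S0 ^ p ^ j₁).restrict hU00S
  have hS00pow : ∀ k (w : U00), ((((S00 ^ k) w : U00) : U0) : U) = (S ^ (B * k)) ((w : U0) : U) := by
    intro k w
    induction k with
    | zero => simp
    | succ k ih =>
      rw [pow_succ', Module.End.mul_apply, Nat.mul_succ, Nat.add_comm, pow_add,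
        Module.End.mul_apply, ← ih, ← hB']
      exact hS0pow (p ^ j₁) _
  let ηE : E →* E := MonoidHom.mk' (fun e => ⟨(⇑σ)^[B] (e : T), hEB e e.2⟩)
    (fun a b => Subtype.ext (hhom B _ _))
  have hηit : ∀ i (e : E), (((⇑ηE)^[i] e : E) : T) = (⇑σ)^[B * i] (e : T) := by
    intro i e
    induction i with
    | zero => simp
    | succ i ih =>
      rw [Function.iterate_succ_apply', Nat.mul_succ, Nat.add_comm, Function.iterate_add_apply,
        ← ih]
      rfl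
  let σB : T →* T := MonoidHom.mk' ((⇑σ)^[B]) (hhom B)
  have hσB : ∀ i y, (⇑σB)^[i] y = (⇑σ)^[B * i] y := fun i y => by
    rw [Function.iterate_mul]; rfl
  have hm1 : 1 ≤ m := by omega
  have hdata : HHBase (ρ00.comp E.subtype) (R.subgroupOf E) (fun e => ψ (e : T)) ηE S00 N := by
    refine
      { mem_center := fun z hz u => ?_
        commutator_mem := fun u v => hZR (hcomm u v)
        scalar := fun z hz => ?_
        nondeg := fun v hv => ?_
        periodic := fun e => Subtype.ext (by rw [hηit, hBN]; exact hσp e)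
        inv := fun z hz => hRBB _ hz
        scalar_inv := fun z hz => hφj' _ hz
        free := fun v i hi hiN hv => ?_
        pow_eq := LinearMap.ext fun w => Subtype.ext (Subtype.ext ?_)
        compat := fun e w => Subtype.ext (Subtype.ext ?_) }
    · rw [map_mul, map_mul]
      refine LinearMap.ext fun w => Subtype.ext ?_
      exact LinearMap.congr_fun (hRc (z : T) hz (u : T)) (w : U0)
    · refine LinearMap.ext fun w => Subtype.ext ?_
      exact (hU00 (w : U0)).1 w.2 (z : T) hz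
    · by_contra hcon
      push Not at hcon
      apply hv
      refine hdet v v.2 fun u hu => ?_
      have h1 := hcon ⟨u, hu⟩
      rwa [show (((⁅(⟨u, hu⟩ : E), v⁆ : E) : T)) = ⁅u, (v : T)⁆ from rfl, hψφ _ (hcomm _ _)] at h1
    · refine hdetτ v v.2 ?_
      have h1 : (v : T)⁻¹ * (⇑σB)^[i] (v : T) ∈ R := by
        rw [hσB, ← hηit]
        exact hv
      have h3 := period_reduce σB R hRBB (p := p) (n := m - 1)
        (fun e => by rw [show m - 1 + 1 = m by omega, hσB, hBN]; exact hσp e) h2p hi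
        (by rwa [show m - 1 + 1 = m by omega]) h1
      rwa [hσB, show B * p ^ (m - 1) = p ^ n by rw [hB, ← pow_add]; congr 1; omega] at h3
    · rw [hS00pow, hBN, hSp]; rfl
    · change (((S0 ^ p ^ j₁) (ρ0 (e : T) (w : U0)) : U0) : U) =
        ρ ((⇑σ)^[B] (e : T)) (((S0 ^ p ^ j₁) (w : U0) : U0) : U)
      rw [hS0pow, hS0pow, hB']
      exact hSit B _ _
  have hN0 : 0 < N := pow_pos h2p.pos _
  have hEK : (Nat.card E : K) ≠ 0 := by
    intro h0
    obtain ⟨b, hb⟩ := card_subgroup_dvd_card E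
    exact hT (by rw [hb, Nat.cast_mul, h0, zero_mul])
  have hnorm00 : (S00 - 1) ^ (N - 1) = 0 := by
    rw [hN, ← sum_pow_eq]
    refine LinearMap.ext fun w => Subtype.ext ?_
    rw [LinearMap.sum_apply, LinearMap.zero_apply, Submodule.coe_sum, Submodule.coe_zero,
      show m = n - j₀ + 1 - j₁ by omega]
    refine Eq.trans (Finset.sum_congr rfl fun k _ => ?_) (hU00norm w w.2)
    rw [Module.End.pow_restrict, LinearMap.restrict_apply]
  obtain ⟨hidx, hN3, hX, hsharp⟩ := hdata.exact_mod hm1 hN hEK hnorm00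
    (fun h => hER (Subgroup.subgroupOf_eq_top.1 (Subgroup.index_eq_one.1 h)))
  have hfix1 : ∀ y, τ y = y → y⁻¹ * (⇑σ)^[B] y ∈ R := by
    intro y hy
    have h1 := hX (ρ00 y) fun e => by
      refine LinearMap.ext fun w => Subtype.ext (Subtype.ext ?_)
      change ρ (e : T) (ρ y ((w : U0) : U)) = ρ y (ρ (e : T) ((w : U0) : U))
      have h2 : ρ (e : T) (ρ y ((w : U0) : U)) =
          ρ ⁅(e : T), y⁆ (ρ y (ρ (e : T) ((w : U0) : U))) := by
        rw [← hmulapp, ← hmulapp, ← hmulapp]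
        congr 2
        simp [commutatorElement_def, mul_assoc]
      rw [h2, (hU0 _).1 (hU0T _ _ (hU0T _ _ (w : U0).2)) _ (hcomm _ _),
        hswap _ _ (hperp y hy e e.2), one_smul]
    -- `ρ00 (σ^B y) = ρ00 y`
    have h2 : ∀ w : U00, ρ00 ((⇑σ)^[B] y) w = ρ00 y w := by
      intro w
      obtain ⟨u, rfl⟩ : ∃ u, S00 u = w :=
        ((Module.End.isUnit_iff _).1 (IsUnit.of_pow_eq_one hdata.pow_eq hN0.ne')).2 w
      refine Eq.trans ?_ (LinearMap.congr_fun h1 u)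
      refine Subtype.ext (Subtype.ext ?_)
      change ρ ((⇑σ)^[B] y) (((S0 ^ p ^ j₁) (u : U0) : U0) : U) =
        ((S0 ^ p ^ j₁) (ρ0 y (u : U0)) : U0)
      rw [hS0pow, hS0pow, hB']
      exact (hSit B y _).symm
    set z := y⁻¹ * (⇑σ)^[B] y with hz
    have hz1 : ρ00 z = 1 := by
      refine LinearMap.ext fun w => ?_
      rw [hz, map_mul, Module.End.mul_apply, h2, ← Module.End.mul_apply, ← map_mul,
        inv_mul_cancel, map_one]
    refine (hRdef z).2 fun t => ?_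
    have h3 : ρ00 ⁅t, z⁆ = 1 := by
      rw [commutatorElement_def, map_mul, map_mul, map_mul, hz1, mul_one, ← map_mul,
        mul_inv_cancel, map_one, one_mul]
      exact (eq_comm.1 (by
        calc (1 : Module.End K U00) = ρ00 (z * z⁻¹) := by rw [mul_inv_cancel, map_one]
          _ = ρ00 z⁻¹ := by rw [map_mul, hz1, one_mul]))
    have h4 := congrArg (fun w : U00 => ((w : U0) : U)) (LinearMap.congr_fun h3 ⟨v₁, hv₁U⟩)
    change ρ ⁅t, z⁆ (v₁ : U) = (v₁ : U) at h4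
    rw [(hU0 _).1 v₁.2 _ (hcomm t z)] at h4
    nth_rw 2 [← one_smul K (v₁ : U)] at h4
    exact smul_left_injective K (fun h => hv₁ (Subtype.ext h)) h4
  refine ⟨j₀ + j₁, ⟨by omega, ?_, ?_, ?_, hfix1, hEB, ?_, ?_, ?_⟩⟩
  · rw [show n + 1 - (j₀ + j₁) = m by omega]; exact hN3
  · rw [show n + 1 - (j₀ + j₁) = m by omega, ← hN, ← hidx]
    exact (Subgroup.index_dvd_card _).trans (card_subgroup_dvd_card E)
  rotate_left
  · rw [show n + 1 - (j₀ + j₁) = m by omega]; exact hidx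
  · intro v hv i hi hiN h1
    rw [show n + 1 - (j₀ + j₁) = m by omega] at hiN
    exact hdata.free ⟨v, hv⟩ i hi hiN (by
      rw [mem_subgroupOf, Subgroup.coe_mul, Subgroup.coe_inv, hηit]
      exact h1)
  · intro z hz
    change ψ₀ ((⇑σ)^[B] z) = ψ₀ z
    rw [← hψφ _ hz, ← hφj' _ (hZR hz), hψφ]
    rw [mem_center_iff]
    intro g
    obtain ⟨g', rfl⟩ := (hσbij B).2 g
    rw [← hhom, ← hhom, mem_center_iff.1 hz]
  rw [show n + 1 - (j₀ + j₁) = m by omega, ← hN, ← hB]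
  by_contra hlt
  apply hsharp
  refine LinearMap.ext fun w => Subtype.ext (Subtype.ext ?_)
  have hge : r ≤ B * (N - 1) - 1 := by omega
  have hB1 : 0 < p ^ j₁ := pow_pos h2p.pos _
  have h1 : 1 ≤ N - 1 := by omega
  -- first stage
  have h2 : ((S ^ B₀ - 1) ^ (p ^ j₁ * (N - 1) - 1)) ((w : U0) : U) = 0 := by
    refine lift_nil S U0 hU0S hU0sep _ (w : U0).2 ?_
    rw [Nat.sub_add_cancel (Nat.one_le_iff_ne_zero.2 (Nat.mul_pos hB1 h1).ne'), ← mul_assoc, ← pow_add,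
      ← hB, pow_eq_zero_of_le hge hr]
    rfl
  have hpow : ∀ (k : ℕ) (u : U0), ((((S0 - 1) ^ k) u : U0) : U) = ((S ^ B₀ - 1) ^ k) (u : U) := by
    intro k u
    induction k with
    | zero => rfl
    | succ k ih =>
      rw [pow_succ', pow_succ', Module.End.mul_apply, Module.End.mul_apply, ← ih]
      rfl
  have h3 : ((S0 ^ p ^ j₁ - 1) ^ (N - 2)) (w : U0) = 0 := by
    refine lift_nil S0 U00 hU00S hU00sep _ w.2 (Subtype.ext ?_)
    rw [hpow, show N - 2 + 1 = N - 1 by omega]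
    exact h2
  have hpow2 : ∀ (k : ℕ) (u : U00), ((((S00 - 1) ^ k) u : U00) : U0) =
      ((S0 ^ p ^ j₁ - 1) ^ k) (u : U0) := by
    intro k u
    induction k with
    | zero => rfl
    | succ k ih =>
      rw [pow_succ', pow_succ', Module.End.mul_apply, Module.End.mul_apply, ← ih]
      rfl
  rw [hpow2, h3]
  rfl


/-- The core of Theorem B: the exceptional case of a short Jordan block. -/
theorem hhb_core {p : ℕ} [Fact p.Prime] [CharP K p] (σ : T →* T) {n : ℕ}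
    (hσp : ∀ x, (⇑σ)^[p ^ (n + 1)] x = x) (ρ : T →* Module.End K U) (hρ : Function.Injective ρ)
    (S : Module.End K U) (hSp : S ^ (p ^ (n + 1)) = 1) {r : ℕ} (hr : (S - 1) ^ r = 0)
    (hrn : r < p ^ (n + 1)) (hcompat : ∀ x w, S (ρ x w) = ρ (σ x) (S w))
    (hT : (Nat.card T : K) ≠ 0) (hcomm : ∀ a b : T, ⁅a, b⁆ ∈ center T) {x : T} (hx : x ∉ center T) :
    ∃ R : Subgroup T, x ∉ R ∧ center T ≤ R ∧
      (∀ g : T →* T, Function.Surjective g → (∀ z ∈ center T, g z = z) → ∀ t ∈ R, g t ∈ R) ∧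
      ((∀ t, t⁻¹ * (⇑σ)^[p ^ n] t ∈ R) ∨
        ∃ j, j ≤ n ∧ 3 ≤ p ^ (n + 1 - j) ∧ (p ^ (n + 1 - j) - 1) ^ 2 ∣ Nat.card T ∧
          p ^ j * (p ^ (n + 1 - j) - 1) ≤ r ∧
          ∀ y, (⇑σ)^[p ^ n] y = y → y⁻¹ * (⇑σ)^[p ^ j] y ∈ R) := by
  classical
  cases nonempty_fintype T
  have hmulapp : ∀ a b w, ρ (a * b) w = ρ a (ρ b w) := fun a b w => by rw [map_mul]; rfl
  have honeapp : ∀ w, ρ 1 w = w := fun w => by rw [map_one]; rfl
  -- a commutator with no fixed vectors on `L`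
  obtain ⟨x₀, hx₀⟩ : ∃ x₀, ⁅x₀, x⁆ ≠ 1 := by
    by_contra h
    push Not at h
    exact hx (mem_center_iff.2 fun g => commutatorElement_eq_one_iff_mul_comm.1 (h g))
  set c₀ := ⁅x₀, x⁆ with hc₀
  let L : Submodule K U := LinearMap.range (ρ c₀ - 1)
  have hL : L ≠ ⊥ := by
    intro h
    apply hx₀
    apply hρ
    rw [map_one, ← sub_eq_zero, ← LinearMap.range_eq_bot]
    exact h
  have hLfix : ∀ w ∈ L, ρ c₀ w = w → w = 0 := by
    rintro _ ⟨u, rfl⟩ hw
    set d := (ρ c₀ - 1) u with hd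
    have hpow : ∀ i : ℕ, ρ (c₀ ^ i) u = u + (i : K) • d := by
      intro i
      induction i with
      | zero => simp [honeapp]
      | succ i ih =>
        rw [pow_succ', hmulapp, ih, map_add, map_smul, hw]
        have : ρ c₀ u = u + d := by simp [hd]
        rw [this, Nat.cast_succ, add_smul, one_smul]
        abel
    have h1 := hpow (orderOf c₀)
    rw [pow_orderOf_eq_one, honeapp] at h1
    have h2 : ((orderOf c₀ : ℕ) : K) • d = 0 := left_eq_add.1 h1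
    refine (smul_eq_zero.1 h2).resolve_left fun h0 => hT ?_
    obtain ⟨b, hb⟩ := orderOf_dvd_natCard c₀
    rw [hb, Nat.cast_mul, h0, zero_mul]
  obtain ⟨ψ, ⟨v, hvL, hv, hψv⟩, hψmul, hψ1, hψτ, hR⟩ :=
    hhb_core_weight σ hσp ρ S hSp hr hrn hcompat hT hcomm L hL (by
      rintro z hz _ ⟨u, rfl⟩
      refine ⟨ρ z u, ?_⟩
      simp only [LinearMap.sub_apply, Module.End.one_apply, map_sub, ← hmulapp,
        mem_center_iff.1 hz c₀])
  have hψc : ψ c₀ ≠ 1 := fun h1 => hv (hLfix v hvL (by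
    rw [hψv c₀ (hcomm x₀ x), h1, one_smul]))
  have hbr : ∀ a b t : T, ψ ⁅t, a * b⁆ = ψ ⁅t, a⁆ * ψ ⁅t, b⁆ := by
    intro a b t
    have e : ⁅t, a * b⁆ = ⁅t, a⁆ * ⁅t, b⁆ := by
      rw [show ⁅t, a * b⁆ = ⁅t, a⁆ * (a * ⁅t, b⁆ * a⁻¹) by
        simp [commutatorElement_def, mul_assoc], mem_center_iff.1 (hcomm t b) a,
        mul_inv_cancel_right]
    rw [e, hψmul _ (hcomm _ _) _ (hcomm _ _)]
  let R : Subgroup T :=
    { carrier := {a | ∀ t : T, ψ ⁅t, a⁆ = 1}
      one_mem' := fun t => by simp [hψ1]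
      mul_mem' := fun {a b} ha hb t => by rw [hbr, ha t, hb t, one_mul]
      inv_mem' := fun {a} ha t => by
        have h := hbr a a⁻¹ t
        rw [mul_inv_cancel, ha t, one_mul, commutatorElement_one_right, hψ1] at h
        exact h.symm }
  refine ⟨R, fun h => hψc (h x₀), fun z hz t => by
    rw [show ⁅t, z⁆ = 1 from commutatorElement_eq_one_iff_mul_comm.2 (mem_center_iff.1 hz t), hψ1],
    fun g hg hgz t ht s => ?_, ?_⟩
  · obtain ⟨s, rfl⟩ := hg s
    rw [← map_commutatorElement, hgz _ (hcomm s t)]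
    exact ht s
  · rcases hR R (fun a => Iff.rfl) with h | ⟨j, hj⟩
    · exact Or.inl h
    · exact Or.inr ⟨j, hj.le, hj.three_le, hj.card_dvd, hj.le_r, hj.fix_mem⟩

end Cfsg.Agent.FGS73
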