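import Cfsg.Agent.FGS73.HHBCore
import Cfsg.Agent.FGS73.SGMain
import Cfsg.Agent.FGS73.GrossModule
import Cfsg.Agent.Fus93.Critical
import Cfsg.Agent.Lib.Thompson.QuadApply
import Cfsg.Agent.Lib.Coprime.Action

/-!
Theorem B of Hall and Higman.
-/

namespace Cfsg.Agent.FGS73

open Subgroup
open scoped TensorProduct commutatorElement

/-- Theorem B: an element of order `p ^ (n + 1)` with nilpotency index `r < p ^ (n + 1)`. -/
theorem hhb_linear {H : Type*} [Group H] [Finite H] {p : ℕ} [Fact p.Prime] {F : Type*} [Field F]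
    [CharP F p] {V : Type*} [AddCommGroup V] [Module F V] [FiniteDimensional F V]
    (ρ : H →* Module.End F V) (hρ : Function.Injective ρ) (hsol : Cfsg.IsPSolvable p H)
    (hO : Cfsg.pCore p H = ⊥) {x : H} {n : ℕ} (hx : x ^ p ^ (n + 1) = 1) (hx1 : x ^ p ^ n ≠ 1)
    {r : ℕ} (hr : (ρ x - 1) ^ r = 0) (hrn : r < p ^ (n + 1)) :
    ∃ n₀ q k : ℕ, 1 ≤ n₀ ∧ n₀ ≤ n + 1 ∧ q.Prime ∧ 1 ≤ k ∧ p ^ n₀ - 1 = q ^ k ∧
      (∀ Q : Sylow q H, ¬ IsMulCommutative (Q : Subgroup H)) ∧
      p ^ (n + 1 - n₀) * (p ^ n₀ - 1) ≤ r := by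
  classical
  have hp : p.Prime := Fact.out
  set τ := x ^ p ^ n with hτ
  set Q := Cfsg.pPrimeCore p H with hQ
  have hQp : (Nat.card Q).Coprime p := Cfsg.Agent.Thompson.card_pPrimeCore_coprime
  set A := zpowers x with hA
  have hcardA : Nat.card A ∣ p ^ (n + 1) := by
    rw [Nat.card_zpowers]; exact orderOf_dvd_of_pow_eq_one hx
  have hcop : (Nat.card A).Coprime (Nat.card Q) :=
    Nat.Coprime.coprime_dvd_left hcardA (Nat.Coprime.pow_left _ hQp.symm)
  haveI hQn : Q.Normal := inferInstance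
  have hAQ : A ≤ normalizer (Q : Set H) := by
    rw [Subgroup.normalizer_eq_top]; exact le_top
  haveI : IsMulCommutative A := inferInstance
  have hAsol : Group.IsSolvable A ∨ Group.IsSolvable Q := Or.inl inferInstance
  -- some invariant Sylow subgroup of `Q` is not centralised by `τ`
  obtain ⟨q, hq, P, hPn, y, hy, hyne⟩ : ∃ (q : ℕ) (_ : Fact q.Prime) (P : Sylow q Q),
      A ≤ normalizer ((P : Subgroup Q).map Q.subtype : Set H) ∧
        ∃ y ∈ (P : Subgroup Q).map Q.subtype, τ * y ≠ y * τ := by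
    by_contra hall
    push Not at hall
    have hc : ∀ g ∈ Q, τ * g = g * τ := by
      let C : Subgroup Q := (centralizer {τ}).subgroupOf Q
      have hC : C = ⊤ := by
        rw [← Subgroup.index_eq_one]
        by_contra hne
        obtain ⟨q, hq, hqd⟩ := Nat.exists_prime_and_dvd hne
        haveI := Fact.mk hq
        obtain ⟨P, hP⟩ := Cfsg.Agent.Coprime.exists_invariant_sylow A Q hAQ hcop hAsol q
        refine P.not_dvd_index (hqd.trans (Subgroup.index_dvd_of_le fun g hg => ?_))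
        exact mem_centralizer_singleton_iff.2 (hall q ⟨hq⟩ P hP g ⟨g, hg, rfl⟩).symm
      intro g hg
      have h1 : (⟨g, hg⟩ : Q) ∈ C := hC ▸ mem_top _
      exact (mem_centralizer_singleton_iff.1 h1).symm
    have hτQ : τ ∈ Q := Cfsg.Agent.Thompson.centralizer_pPrimeCore_le hsol hO
      (mem_centralizer_iff.2 fun g hg => (hc g hg).symm)
    apply hx1
    have h1 : orderOf τ ∣ p ^ (n + 1) := orderOf_dvd_of_pow_eq_one (by
      rw [hτ, ← pow_mul, mul_comm, pow_mul, hx, one_pow])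
    have h2 : orderOf τ ∣ Nat.card Q :=
      (orderOf_coe (⟨τ, hτQ⟩ : Q)).symm ▸ orderOf_dvd_natCard (⟨τ, hτQ⟩ : Q)
    have h3 := Nat.dvd_gcd h1 h2
    rw [(Nat.Coprime.pow_left _ hQp.symm).gcd_eq_one, Nat.dvd_one, orderOf_eq_one_iff] at h3
    exact h3
  haveI := hq
  set P' := (P : Subgroup Q).map Q.subtype with hP'
  have hP'Q : P' ≤ Q := map_subtype_le _
  have hP'q : IsPGroup q P' := P.2.map _
  have hP'p : ¬ p ∣ Nat.card P' := fun hd =>
    (hp.coprime_iff_not_dvd.1 hQp.symm) (hd.trans (card_dvd_of_le hP'Q))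
  have hxP : ∀ g ∈ P', x * g * x⁻¹ ∈ P' := fun g hg =>
    (Subgroup.mem_normalizer_iff.1 (hPn (mem_zpowers x)) g).1 hg
  let σ : P' →* P' :=
    ((MulAut.conj x).toMonoidHom.comp P'.subtype).codRestrict P' fun g => hxP g g.2
  have hσit : ∀ k (g : P'), (((⇑σ)^[k] g : P') : H) = x ^ k * g * (x ^ k)⁻¹ := by
    intro k g
    induction k with
    | zero => simp
    | succ k ih =>
      rw [Function.iterate_succ_apply', pow_succ']
      change x * (((⇑σ)^[k] g : P') : H) * x⁻¹ = _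
      rw [ih]; group
  have hσp : ∀ g, (⇑σ)^[p ^ (n + 1)] g = g := fun g => Subtype.ext (by rw [hσit, hx]; simp)
  have hσbij := bijective_of_periodic σ (pow_pos hp.pos _) hσp
  let τP : P' →* P' := MonoidHom.mk' ((⇑σ)^[p ^ n]) (fun a b => iterate_map_mul σ _ a b)
  have hτPp : ∀ g, (⇑τP)^[p] g = g := by
    intro g
    change ((⇑σ)^[p ^ n])^[p] g = g
    rw [← Function.iterate_mul, ← pow_succ]
    exact hσp g
  have hτPbij := bijective_of_periodic τP hp.pos hτPp
  have hmoved : τP ⟨y, hy⟩ ≠ ⟨y, hy⟩ := by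
    intro h
    have h1 := congrArg Subtype.val h
    change (((⇑σ)^[p ^ n] ⟨y, hy⟩ : P') : H) = y at h1
    rw [hσit, ← hτ, mul_inv_eq_iff_eq_mul] at h1
    exact hyne h1
  obtain ⟨T, hTc, hTcen, -, hTcomm⟩ := Cfsg.Agent.Fus93.exists_critical (p := q) hP'q
  haveI := hTc
  have hTn : T.Normal := Subgroup.normal_of_characteristic T
  have hTi : ∀ t ∈ T, σ t ∈ T := char_invariant σ hσbij T
  obtain ⟨t, ht, htne⟩ : ∃ t ∈ T, τP t ≠ t := by
    by_contra hT
    push Not at hT
    apply hmoved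
    refine eq_one_of_fixed_commutator τP hp hτPp hP'p (hT _ (hTcen (mem_centralizer_iff.2 fun c hc => ?_)))
    have h1 := hT _ (hTn.conj_mem c hc ⟨y, hy⟩)
    rw [map_mul, map_mul, map_inv, hT c hc] at h1
    symm
    calc (⟨y, hy⟩ : P')⁻¹ * τP ⟨y, hy⟩ * c
        = (⟨y, hy⟩ : P')⁻¹ * (τP ⟨y, hy⟩ * c * (τP ⟨y, hy⟩)⁻¹) * τP ⟨y, hy⟩ := by group
      _ = (⟨y, hy⟩ : P')⁻¹ * (⟨y, hy⟩ * c * (⟨y, hy⟩ : P')⁻¹) * τP ⟨y, hy⟩ := by rw [h1]
      _ = c * ((⟨y, hy⟩ : P')⁻¹ * τP ⟨y, hy⟩) := by group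
  let σT : T →* T := (σ.comp T.subtype).codRestrict T fun t => hTi t t.2
  have hTval := iterate_restrict σ T hTi σT (fun _ => rfl)
  have hTp : ∀ t, (⇑σT)^[p ^ (n + 1)] t = t := fun t => Subtype.ext (by rw [hTval, hσp])
  -- extend scalars
  let K := AlgebraicClosure F
  haveI : CharP K p := charP_of_injective_algebraMap (algebraMap F K).injective p
  let bc : Module.End F V →* Module.End K (K ⊗[F] V) :=
    (Module.End.baseChangeHom F K V).toRingHom.toMonoidHom
  have hbcinj : ∀ f g : Module.End F V, bc f = bc g → f = g := by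
    intro f g hfg
    refine LinearMap.ext fun w => ?_
    have h1 := LinearMap.congr_fun hfg ((1 : K) ⊗ₜ[F] w)
    change (1 : K) ⊗ₜ[F] f w = (1 : K) ⊗ₜ[F] g w at h1
    let b := Module.Free.chooseBasis F V
    refine b.repr.injective (Finsupp.ext fun i => ?_)
    have h2 := congrArg (fun x => (Module.Basis.baseChange K b).repr x i) h1
    simp only [Module.Basis.baseChange_repr_tmul] at h2
    simp only [Algebra.smul_def, mul_one] at h2
    exact (algebraMap F K).injective h2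
  let ρK : T →* Module.End K (K ⊗[F] V) := bc.comp (ρ.comp (P'.subtype.comp T.subtype))
  have hρK : Function.Injective ρK := fun a b h =>
    Subtype.ext (Subtype.ext (hρ (hbcinj _ _ h)))
  let SK : Module.End K (K ⊗[F] V) := bc (ρ x)
  have hSr : (SK - 1) ^ r = 0 := by
    have e : SK - 1 = Module.End.baseChangeHom F K V (ρ x - 1) := by
      rw [map_sub, map_one]; rfl
    rw [e, ← map_pow, hr, map_zero]
  have hSp : SK ^ p ^ (n + 1) = 1 := by
    change bc (ρ x) ^ p ^ (n + 1) = 1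
    rw [← map_pow, ← map_pow, hx, map_one, map_one]
  have hcompat : ∀ g v, SK (ρK g v) = ρK (σT g) (SK v) := by
    intro g v
    change (bc (ρ x) * bc (ρ ((g : P') : H))) v = (bc (ρ ((σT g : P') : H)) * bc (ρ x)) v
    rw [← map_mul, ← map_mul, ← map_mul, ← map_mul]
    congr 3
    change x * ((g : P') : H) = x * ((g : P') : H) * x⁻¹ * x
    group
  have hTK : (Nat.card T : K) ≠ 0 := by
    rw [Ne, CharP.cast_eq_zero_iff K p]
    exact fun hd => hP'p (hd.trans (card_subgroup_dvd_card T))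
  have hcomm : ∀ a b : T, ⁅a, b⁆ ∈ center T := by
    intro a b
    rw [mem_center_iff]
    intro s
    apply Subtype.ext
    have h1 := mem_centralizer_iff.1 (hTcomm (a : P')⁻¹ (inv_mem a.2) (b : P')) (s : P') s.2
    have h2 : (a : P')⁻¹⁻¹ * ((b : P') * (a : P')⁻¹ * (b : P')⁻¹) = ((⁅a, b⁆ : T) : P') := by
      simp [commutatorElement_def, mul_assoc]
    rw [h2] at h1
    exact h1
  have hσTbij := bijective_of_periodic σT (pow_pos hp.pos _) hTp
  have hZ : ∀ z ∈ center T, (⇑σT)^[p ^ n] z = z := by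
    intro z hz
    let Z := center T
    let σZ : Z →* Z := (σT.comp Z.subtype).codRestrict Z fun z =>
      char_invariant σT hσTbij (center T) z z.2
    have hval := iterate_restrict σT Z (char_invariant σT hσTbij _) σZ (fun _ => rfl)
    have key := end_abelian_norm (ρK.comp Z.subtype)
      (fun a b => by rw [← map_mul, ← map_mul]; congr 1; exact Subtype.ext (mem_center_iff.1 b.2 a))
      σZ SK hp (n := n) (fun e => Subtype.ext (by rw [hval]; exact hTp e))
      (norm_of_sub_one_pow SK hSr hrn) (fun e w => hcompat (e : T) w) (fun h0 => hTK (by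
        obtain ⟨b, hb⟩ := card_subgroup_dvd_card Z
        rw [hb, Nat.cast_mul, h0, zero_mul])) ⟨z, hz⟩
    have h2 : ρK ((((⟨z, hz⟩ : Z)⁻¹ * (⇑σZ)^[p ^ n] ⟨z, hz⟩ : Z)) : T) = ρK 1 := by
      rw [map_one]; exact key
    have h3 := hρK h2
    rw [Subgroup.coe_mul, Subgroup.coe_inv, hval, inv_mul_eq_one] at h3
    exact h3.symm
  set d : T := (⟨t, ht⟩ : T)⁻¹ * (⇑σT)^[p ^ n] ⟨t, ht⟩ with hd
  have hd' : ((d : T) : P') = t⁻¹ * τP t := by
    rw [hd, Subgroup.coe_mul, Subgroup.coe_inv, hTval]; rfl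
  have hdc : d ∉ center T := by
    intro hdc
    apply htne
    refine eq_one_of_fixed_commutator τP hp hτPp hP'p ?_
    have h1 := congrArg Subtype.val (hZ d hdc)
    rw [hTval, hd'] at h1
    exact h1
  obtain ⟨R, hdR, hZR, -, h4⟩ := hhb_core σT hTp ρK hρK SK hSp hSr hrn hcompat hTK hcomm hdc
  rcases h4 with h4 | ⟨j, hj, h3, hdvd, hle, -⟩
  · exact absurd (h4 ⟨t, ht⟩) hdR
  have hTq : IsPGroup q T := hP'q.to_subgroup T
  obtain ⟨a, ha⟩ := IsPGroup.iff_card.1 hTq
  rw [ha] at hdvd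
  obtain ⟨k, -, hk⟩ := (Nat.dvd_prime_pow hq.out).1 ((dvd_pow_self _ two_ne_zero).trans hdvd)
  have hk1 : 1 ≤ k := by
    rcases Nat.eq_zero_or_pos k with rfl | h
    · rw [pow_zero] at hk; omega
    · exact h
  refine ⟨n + 1 - j, q, k, by omega, by omega, hq.out, hk1, hk, fun S hS => ?_, ?_⟩
  · obtain ⟨S₁, hS₁⟩ := hP'q.exists_le_sylow
    obtain ⟨g, hg⟩ := MulAction.exists_smul_eq H S S₁
    apply hdc
    rw [mem_center_iff]
    intro s
    have hmem : ∀ u : T, g⁻¹ * ((u : P') : H) * g ∈ (S : Subgroup H) := by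
      intro u
      have h1 := hS₁ (u : P').2
      rw [← hg, Sylow.smul_def] at h1
      obtain ⟨z, hz, hzu⟩ := h1
      have : g⁻¹ * ((u : P') : H) * g = z := by
        rw [← hzu]
        simp [mul_assoc]
      rw [this]
      exact hz
    have h1 := congrArg Subtype.val
      (hS.is_comm.comm (⟨_, hmem s⟩ : (S : Subgroup H)) ⟨_, hmem d⟩)
    apply Subtype.ext
    apply Subtype.ext
    change g⁻¹ * ((s : P') : H) * g * (g⁻¹ * ((d : P') : H) * g) =
      g⁻¹ * ((d : P') : H) * g * (g⁻¹ * ((s : P') : H) * g) at h1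
    simp only [mul_assoc, mul_inv_cancel_left, mul_left_cancel_iff] at h1
    simp only [← mul_assoc, mul_right_cancel_iff] at h1
    exact h1
  · rw [show n + 1 - (n + 1 - j) = j by omega]
    exact hle

end Cfsg.Agent.FGS73
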