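import Cfsg.Agent.FGS73.Commutant

/-!
The commutant of a nilpotent endomorphism: `d ^ 2 ≤ m * dim C` and `d ≤ dim C` if `Z ^ m = 0`.
-/

namespace Cfsg.Agent.FGS73

open Module

theorem cyclic_inj {K U : Type*} [Field K] [AddCommGroup U] [Module K U] (Z : Module.End K U)
    (φ : U →ₗ[K] K) {m : ℕ} (hm : Z ^ m = 0) {v : U} (hv : φ ((Z ^ (m - 1)) v) ≠ 0) (a : Fin m → K)
    (ha : ∀ j : ℕ, φ ((Z ^ j) (∑ i : Fin m, a i • (Z ^ (i : ℕ)) v)) = 0) : a = 0 := by
  suffices h : ∀ k : ℕ, ∀ i : Fin m, (i : ℕ) < k → a i = 0 from funext fun i => h m i i.2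
  intro k
  induction k with
  | zero => exact fun i hi => absurd hi (Nat.not_lt_zero _)
  | succ k ih =>
    intro i hi
    rcases Nat.lt_or_ge (i : ℕ) k with h | h
    · exact ih i h
    have hik : (i : ℕ) = k := by omega
    have h1 := ha (m - 1 - k)
    rw [map_sum, map_sum, Finset.sum_eq_single i ?_ (fun h => absurd (Finset.mem_univ i) h)] at h1
    · rw [map_smul, map_smul, smul_eq_mul, ← Module.End.mul_apply, ← pow_add, hik,
        show m - 1 - k + k = m - 1 by omega] at h1
      exact (mul_eq_zero.1 h1).resolve_right hv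
    intro l _ hl
    rcases Nat.lt_or_ge (l : ℕ) k with hlk | hlk
    · rw [ih l hlk, zero_smul, map_zero, map_zero]
    · have hlk' : k < (l : ℕ) := by
        rcases Nat.lt_or_ge k (l : ℕ) with h' | h'
        · exact h'
        · exact absurd (Fin.ext (by omega)) hl
      rw [map_smul, ← Module.End.mul_apply, ← pow_add]
      have : Z ^ (m - 1 - k + (l : ℕ)) = 0 := pow_eq_zero_of_le (by omega) hm
      rw [this, LinearMap.zero_apply, smul_zero, map_zero]

theorem commutant_free {K A : Type*} [Field K] [AddCommGroup A] [Module K A] [FiniteDimensional K A]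
    (Z : Module.End K A) : Module.Free K (commutant Z) ∧ Module.Finite K (commutant Z) :=
  ⟨inferInstance, inferInstance⟩

theorem nil_commutant_bound {K : Type*} [Field K] (c : ℕ) :
    ∀ {U : Type*} [AddCommGroup U] [Module K U] [FiniteDimensional K U] (Z : Module.End K U) (m : ℕ),
      finrank K U ≤ c → Z ^ m = 0 →
      finrank K U ^ 2 ≤ m * finrank K (commutant Z) ∧ finrank K U ≤ finrank K (commutant Z) := by
  induction c with
  | zero =>
    intro U _ _ _ Z m hc _
    have : finrank K U = 0 := by omega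
    simp [this]
  | succ c ih =>
    intro U _ _ _ Z m hc hZ
    classical
    rcases subsingleton_or_nontrivial U with hs | hs
    · have : finrank K U = 0 := Module.finrank_zero_of_subsingleton
      simp [this]
    have hex : ∃ k, Z ^ k = 0 := ⟨m, hZ⟩
    set m₀ := Nat.find hex with hm₀def
    have hm₀ : Z ^ m₀ = 0 := Nat.find_spec hex
    have hle : m₀ ≤ m := Nat.find_min' hex hZ
    have hpos : 0 < m₀ := by
      rcases Nat.eq_zero_or_pos m₀ with h | h
      · rw [h, pow_zero] at hm₀
        obtain ⟨u, hu⟩ := exists_ne (0 : U)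
        exact absurd (by simpa using LinearMap.congr_fun hm₀ u) hu
      · exact h
    obtain ⟨v, hv⟩ : ∃ v, (Z ^ (m₀ - 1)) v ≠ 0 := by
      by_contra h
      push Not at h
      exact Nat.find_min hex (show m₀ - 1 < m₀ by omega) (LinearMap.ext h)
    obtain ⟨φ, hφ⟩ : ∃ φ : U →ₗ[K] K, φ ((Z ^ (m₀ - 1)) v) ≠ 0 := by
      by_contra h
      push Not at h
      exact hv ((Module.forall_dual_apply_eq_zero_iff K _).1 h)
    let ι : (Fin m₀ → K) →ₗ[K] U :=
      ∑ i : Fin m₀, (LinearMap.proj i : (Fin m₀ → K) →ₗ[K] K).smulRight ((Z ^ (i : ℕ)) v)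
    have hι : ∀ a, ι a = ∑ i : Fin m₀, a i • (Z ^ (i : ℕ)) v := fun a => by simp [ι]
    let Φ : U →ₗ[K] (Fin m₀ → K) := LinearMap.pi fun j : Fin m₀ => φ.comp (Z ^ (j : ℕ))
    let U' := LinearMap.ker Φ
    have hmemU' : ∀ u, u ∈ U' → ∀ j : ℕ, φ ((Z ^ j) u) = 0 := by
      intro u hu j
      rcases Nat.lt_or_ge j m₀ with h | h
      · exact congrFun (LinearMap.mem_ker.1 hu) ⟨j, h⟩
      · rw [pow_eq_zero_of_le h hm₀, LinearMap.zero_apply, map_zero]
    have hιinj : ∀ a, ι a ∈ U' → a = 0 := fun a ha =>
      cyclic_inj Z φ hm₀ hφ a fun j => by rw [← hι]; exact hmemU' _ ha j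
    have hι' : Function.Injective ι := by
      rw [← LinearMap.ker_eq_bot, LinearMap.ker_eq_bot']
      exact fun a ha => hιinj a (ha ▸ U'.zero_mem)
    have hrk : finrank K (LinearMap.range ι) = m₀ := by
      rw [LinearMap.finrank_range_of_inj hι', Module.finrank_pi, Fintype.card_fin]
    have hdisj : LinearMap.range ι ⊓ U' = ⊥ := by
      rw [eq_bot_iff]
      rintro _ ⟨⟨a, rfl⟩, ha⟩
      rw [hιinj a ha, map_zero]
      exact Submodule.zero_mem _
    have hker : finrank K U ≤ m₀ + finrank K U' := by
      have : finrank K (LinearMap.range Φ) + finrank K U' = finrank K U :=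
        LinearMap.finrank_range_add_finrank_ker Φ
      have h1 : finrank K (LinearMap.range Φ) ≤ m₀ :=
        (Submodule.finrank_le _).trans (by rw [Module.finrank_pi, Fintype.card_fin])
      omega
    have hsum : finrank K U = m₀ + finrank K U' := by
      have h1 := Submodule.finrank_sup_add_finrank_inf_eq (LinearMap.range ι) U'
      rw [hdisj, finrank_bot, hrk] at h1
      have h2 := Submodule.finrank_le (LinearMap.range ι ⊔ U')
      omega
    have hcompl : IsCompl U' (LinearMap.range ι) := by
      refine ⟨disjoint_iff.2 (inf_comm U' _ ▸ hdisj), codisjoint_iff.2 ?_⟩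
      apply Submodule.eq_top_of_finrank_eq
      have h1 := Submodule.finrank_sup_add_finrank_inf_eq (LinearMap.range ι) U'
      rw [hdisj, finrank_bot, hrk] at h1
      rw [sup_comm]
      omega
    have hZU' : ∀ u ∈ U', Z u ∈ U' := by
      intro u hu
      rw [LinearMap.mem_ker]
      funext j
      change φ ((Z ^ (j : ℕ)) (Z u)) = 0
      rw [← Module.End.mul_apply, ← pow_succ]
      exact hmemU' u hu _
    let Z' : Module.End K U' := Z.restrict hZU'
    have hZ' : Z' ^ m₀ = 0 := by
      refine LinearMap.ext fun u => Subtype.ext ?_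
      rw [Module.End.pow_restrict, LinearMap.restrict_apply]
      exact LinearMap.congr_fun hm₀ (u : U)
    obtain ⟨ih1, ih2⟩ := ih Z' m₀ (by omega) hZ'
    -- the three families
    let π : U →ₗ[K] U' := U'.linearProjOfIsCompl _ hcompl
    have hπ1 : ∀ u : U', π u = u := fun u => Submodule.linearProjOfIsCompl_apply_left hcompl u
    have hπ2 : ∀ u ∈ LinearMap.range ι, π u = 0 := fun u hu =>
      (Submodule.linearProjOfIsCompl_apply_eq_zero_iff hcompl).2 hu
    have hZι : ∀ u ∈ LinearMap.range ι, Z u ∈ LinearMap.range ι := by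
      rintro _ ⟨a, rfl⟩
      rw [hι, map_sum]
      refine Submodule.sum_mem _ fun i _ => ?_
      rw [map_smul, ← Module.End.mul_apply, ← pow_succ']
      refine Submodule.smul_mem _ _ ?_
      by_cases h : (i : ℕ) + 1 < m₀
      · refine ⟨Pi.single ⟨(i : ℕ) + 1, h⟩ 1, ?_⟩
        rw [hι, Finset.sum_eq_single ⟨(i : ℕ) + 1, h⟩ (fun l _ hl => by simp [hl])
          (fun h => absurd (Finset.mem_univ _) h), Pi.single_eq_same, one_smul]
      · rw [pow_eq_zero_of_le (by omega) hm₀, LinearMap.zero_apply]
        exact Submodule.zero_mem _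
    have hπZ : ∀ u, π (Z u) = Z' (π u) := by
      intro u
      obtain ⟨y, hy, z, hz, rfl⟩ := Submodule.mem_sup.1
        ((codisjoint_iff.1 hcompl.2).symm ▸ (Submodule.mem_top : u ∈ ⊤))
      rw [map_add Z, map_add π, map_add π, hπ2 z hz, hπ2 _ (hZι z hz), add_zero, add_zero]
      have e1 : π y = ⟨y, hy⟩ := hπ1 ⟨y, hy⟩
      have e2 : π (Z y) = ⟨Z y, hZU' y hy⟩ := hπ1 ⟨Z y, hZU' y hy⟩
      rw [e1, e2]
      rfl
    haveI := (commutant_free Z').1
    haveI := (commutant_free Z').2
    let f : (U →ₗ[K] K) × U' × commutant Z' →ₗ[K] Module.End K U :=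
      { toFun := fun t =>
          (∑ i ∈ Finset.range m₀, (t.1.comp (Z ^ i)).smulRight ((Z ^ (m₀ - 1 - i)) v)) +
          (∑ i ∈ Finset.range m₀, (φ.comp (Z ^ i)).smulRight ((Z ^ (m₀ - 1 - i)) (t.2.1 : U))) +
          U'.subtype.comp ((t.2.2 : Module.End K U').comp π)
        map_add' := fun s t => by
          refine LinearMap.ext fun u => ?_
          simp [Finset.sum_add_distrib, add_smul, smul_add]
          abel
        map_smul' := fun k s => by
          refine LinearMap.ext fun u => ?_
          simp [Finset.smul_sum, smul_smul, mul_comm] }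
    have hf : ∀ t u, f t u = (∑ i ∈ Finset.range m₀, t.1 ((Z ^ i) u) • (Z ^ (m₀ - 1 - i)) v) +
        (∑ i ∈ Finset.range m₀, φ ((Z ^ i) u) • (Z ^ (m₀ - 1 - i)) (t.2.1 : U)) +
        (((t.2.2 : Module.End K U') (π u) : U') : U) := fun t u => by simp [f]
    have hshift : ∀ (θ : U →ₗ[K] K) (w : U), (Z ^ m₀) w = 0 → ∀ u,
        ∑ i ∈ Finset.range m₀, θ ((Z ^ i) (Z u)) • (Z ^ (m₀ - 1 - i)) w =
          Z (∑ i ∈ Finset.range m₀, θ ((Z ^ i) u) • (Z ^ (m₀ - 1 - i)) w) := by
      intro θ w hw u
      obtain ⟨m', hm'⟩ : ∃ m', m₀ = m' + 1 := ⟨m₀ - 1, by omega⟩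
      rw [hm'] at hw hm₀
      rw [map_sum, hm', Finset.sum_range_succ, Finset.sum_range_succ']
      simp only [Nat.add_sub_cancel, map_smul]
      have e0 : (Z ^ m') (Z u) = 0 := by
        rw [← Module.End.mul_apply, ← pow_succ, hm₀]; rfl
      have e1 : Z ((Z ^ (m' - 0)) w) = 0 := by
        rw [Nat.sub_zero, ← Module.End.mul_apply, ← pow_succ', hw]
      rw [e0, map_zero, zero_smul, add_zero, e1, smul_zero, add_zero]
      refine Finset.sum_congr rfl fun i hi => ?_
      rw [Finset.mem_range] at hi
      rw [pow_succ, Module.End.mul_apply, ← Module.End.mul_apply Z, ← pow_succ',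
        show m' - (i + 1) + 1 = m' - i by omega]
    have hfmem : ∀ t, f t ∈ commutant Z := by
      intro t
      change Z * f t = f t * Z
      refine LinearMap.ext fun u => ?_
      rw [Module.End.mul_apply, Module.End.mul_apply, hf, hf, map_add, map_add,
        hshift t.1 v (by rw [hm₀]; rfl), hshift φ _ (by rw [hm₀]; rfl), hπZ]
      congr 1
      exact congrArg Subtype.val (LinearMap.congr_fun t.2.2.2 (π u))
    have hinj : Function.Injective (f.codRestrict (commutant Z) hfmem) := by
      suffices hf0 : ∀ t, f t = 0 → t = 0 by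
        intro s t hst
        refine sub_eq_zero.1 (hf0 _ ?_)
        rw [map_sub, sub_eq_zero]
        exact congrArg Subtype.val hst
      rintro ⟨θ, w, X⟩ h
      have hcyc : ∀ k : ℕ, (Z ^ k) v ∈ LinearMap.range ι := by
        intro k
        induction k with
        | zero =>
          refine ⟨Pi.single ⟨0, hpos⟩ 1, ?_⟩
          rw [hι, Finset.sum_eq_single ⟨0, hpos⟩ (fun l _ hl => by simp [hl])
            (fun h => absurd (Finset.mem_univ _) h), Pi.single_eq_same, one_smul]
        | succ k ihk => rw [pow_succ', Module.End.mul_apply]; exact hZι _ ihk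
      have hpowU' : ∀ k, ∀ u ∈ U', (Z ^ k) u ∈ U' := by
        intro k u hu
        induction k with
        | zero => exact hu
        | succ k ihk => rw [pow_succ', Module.End.mul_apply]; exact hZU' _ ihk
      have hsplit : ∀ u, (∑ i ∈ Finset.range m₀, θ ((Z ^ i) u) • (Z ^ (m₀ - 1 - i)) v) = 0 ∧
          (∑ i ∈ Finset.range m₀, φ ((Z ^ i) u) • (Z ^ (m₀ - 1 - i)) (w : U)) +
            ((X : Module.End K U') (π u) : U) = 0 := by
        intro u
        have h1 : f ((θ, w, X) : (U →ₗ[K] K) × U' × commutant Z') u = 0 := by rw [h]; rfl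
        rw [hf, add_assoc] at h1
        have ha : (∑ i ∈ Finset.range m₀, θ ((Z ^ i) u) • (Z ^ (m₀ - 1 - i)) v) ∈
            LinearMap.range ι := Submodule.sum_mem _ fun i _ => Submodule.smul_mem _ _ (hcyc _)
        have hb : (∑ i ∈ Finset.range m₀, φ ((Z ^ i) u) • (Z ^ (m₀ - 1 - i)) (w : U)) +
            ((X : Module.End K U') (π u) : U) ∈ U' :=
          U'.add_mem (Submodule.sum_mem _ fun i _ => U'.smul_mem _ (hpowU' _ _ w.2)) (Submodule.coe_mem _)
        have ha' := ha
        rw [eq_neg_of_add_eq_zero_left h1] at ha'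
        have h2 : (∑ i ∈ Finset.range m₀, φ ((Z ^ i) u) • (Z ^ (m₀ - 1 - i)) (w : U)) +
            ((X : Module.End K U') (π u) : U) ∈ LinearMap.range ι ⊓ U' :=
          ⟨by simpa using Submodule.neg_mem _ ha', hb⟩
        rw [hdisj, Submodule.mem_bot] at h2
        exact ⟨by rw [eq_neg_of_add_eq_zero_left h1, h2, neg_zero], h2⟩
      have hθ : θ = 0 := by
        refine LinearMap.ext fun u => ?_
        have h1 := (hsplit u).1
        have h2 : φ (∑ i ∈ Finset.range m₀, θ ((Z ^ i) u) • (Z ^ (m₀ - 1 - i)) v) = 0 := by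
          rw [h1, map_zero]
        -- coefficients of the cyclic basis
        have h3 := cyclic_inj Z φ hm₀ hφ (fun i : Fin m₀ => θ ((Z ^ (m₀ - 1 - (i : ℕ))) u)) (fun j => by
          have e : (∑ i : Fin m₀, θ ((Z ^ (m₀ - 1 - (i : ℕ))) u) • (Z ^ (i : ℕ)) v) = 0 := by
            rw [Fin.sum_univ_eq_sum_range (fun i => θ ((Z ^ (m₀ - 1 - i)) u) • (Z ^ i) v),
              ← Finset.sum_range_reflect]
            refine Eq.trans (Finset.sum_congr rfl fun i hi => ?_) h1
            rw [Finset.mem_range] at hi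
            rw [show m₀ - 1 - (m₀ - 1 - i) = i by omega]
          rw [e, map_zero, map_zero])
        have h4 := congrFun h3 ⟨m₀ - 1, by omega⟩
        simpa using h4
      have hX : X = 0 := by
        refine Subtype.ext (LinearMap.ext fun u => Subtype.ext ?_)
        have h1 := (hsplit (u : U)).2
        rw [hπ1, Finset.sum_eq_zero (fun i _ => by rw [hmemU' _ u.2, zero_smul]), zero_add] at h1
        exact h1
      have hw : w = 0 := by
        have hall : ∀ u, ∑ i ∈ Finset.range m₀, φ ((Z ^ i) u) • (Z ^ (m₀ - 1 - i)) (w : U) = 0 := by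
          intro u
          have h1 := (hsplit u).2
          rw [hX] at h1
          simpa using h1
        -- descend along the powers
        have key : ∀ k, k ≤ m₀ → (Z ^ (m₀ - k)) (w : U) = 0 := by
          intro k
          induction k with
          | zero => intro _; rw [Nat.sub_zero, hm₀]; rfl
          | succ k ihk =>
            intro hk
            have h1 := congrArg (Z ^ (m₀ - (k + 1))) (hall v)
            rw [map_zero, map_sum] at h1
            rw [Finset.sum_eq_single_of_mem (m₀ - 1) (Finset.mem_range.2 (by omega)) ?_] at h1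
            · rw [map_smul, Nat.sub_self, pow_zero, Module.End.one_apply] at h1
              exact (smul_eq_zero.1 h1).resolve_left hφ
            intro i hi hne
            rw [Finset.mem_range] at hi
            rw [map_smul, ← Module.End.mul_apply, ← pow_add,
              show m₀ - (k + 1) + (m₀ - 1 - i) = (m₀ - 2 - i) + (m₀ - k) by omega, pow_add,
              Module.End.mul_apply, ihk (by omega), map_zero, smul_zero]
        exact Subtype.ext (by simpa using key m₀ le_rfl)
      rw [hθ, hw, hX]
      rfl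
    have hdim := LinearMap.finrank_le_finrank_of_injective hinj
    rw [Module.finrank_prod, Module.finrank_prod, Subspace.dual_finrank_eq] at hdim
    refine ⟨le_trans ?_ (Nat.mul_le_mul_right _ hle), by omega⟩
    calc finrank K U ^ 2 = m₀ * (m₀ + 2 * finrank K U') + finrank K U' ^ 2 := by rw [hsum]; ring
      _ ≤ m₀ * (m₀ + 2 * finrank K U') + m₀ * finrank K (commutant Z') :=
          Nat.add_le_add_left ih1 _
      _ ≤ m₀ * finrank K (commutant Z) := by
          rw [← Nat.mul_add]
          exact Nat.mul_le_mul_left _ (by omega)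

end Cfsg.Agent.FGS73
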