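import Cfsg.Agent.FGS73.HHExact
import Cfsg.Agent.FGS73.NilCommutant

/-!
The Hall–Higman count in the characteristic of the acting cyclic `p`-group: a map `S` of order
`N = p ^ m` without regular Jordan block.
-/

namespace Cfsg.Agent.FGS73

open Module Subgroup
open scoped commutatorElement

section poly

variable {K : Type*} [Field K]

theorem geom_sum_X (p m : ℕ) [Fact p.Prime] [CharP K p] :
    ∑ i ∈ Finset.range (p ^ m), (Polynomial.X : Polynomial K) ^ i =
      (Polynomial.X - 1) ^ (p ^ m - 1) := by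
  refine mul_right_cancel₀ (show (Polynomial.X - 1 : Polynomial K) ≠ 0 from
    Polynomial.X_sub_C_ne_zero 1) ?_
  rw [geom_sum_mul, ← pow_succ, show p ^ m - 1 + 1 = p ^ m by
    have := pow_pos (Fact.out : p.Prime).pos m; omega, sub_pow_char_pow, one_pow]

theorem weighted_sum_X (p m : ℕ) [Fact p.Prime] [CharP K p] :
    ∑ i ∈ Finset.range (p ^ m), Polynomial.C (i : K) * (Polynomial.X : Polynomial K) ^ i =
      Polynomial.C ((p ^ m - 1 : ℕ) : K) * (Polynomial.X - 1) ^ (p ^ m - 2) * Polynomial.X := by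
  have h := congrArg (fun P => Polynomial.derivative P * Polynomial.X) (geom_sum_X (K := K) p m)
  rw [← map_one Polynomial.C] at h
  simp only [Polynomial.derivative_sum, Polynomial.derivative_X_pow,
    Polynomial.derivative_X_sub_C_pow, Finset.sum_mul] at h
  rw [map_one] at h
  rw [Nat.sub_sub] at h
  refine Eq.trans (Finset.sum_congr rfl fun i _ => ?_) h
  rcases i with _ | i
  · simp
  · rw [Nat.add_sub_cancel, mul_assoc, ← pow_succ]

end poly

variable {K : Type*} [Field K] {U : Type*} [AddCommGroup U] [Module K U]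
  {E : Type*} [Group E] {ρ : E →* Module.End K U} {Z : Subgroup E} {ψ : E → K} {η : E →* E}
  {S : Module.End K U} {N : ℕ}

theorem sum_pow_eq (p m : ℕ) [Fact p.Prime] [CharP K p] (S : Module.End K U) :
    ∑ i ∈ Finset.range (p ^ m), S ^ i = (S - 1) ^ (p ^ m - 1) := by
  have h := congrArg (Polynomial.aeval S) (geom_sum_X (K := K) p m)
  simpa using h

theorem commutant_sub_one (S : Module.End K U) : commutant (S - 1) = commutant S := by
  ext X
  change (S - 1) * X = X * (S - 1) ↔ S * X = X * S
  rw [sub_mul, mul_sub, one_mul, mul_one, sub_left_inj]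

/-- an element of the algebra of `ρ` vanishing on an invariant subspace is zero -/
theorem HHBase.eq_zero_of_ann (h : HHBase ρ Z ψ η S N) [Fintype E] [Nontrivial U]
    (hE : (Fintype.card E : K) ≠ 0) (Y : Module.End K U)
    (hY : ∀ e : E, ∃ c : K, ∑ u : E, ρ u * (ρ e * Y) * ρ u⁻¹ = c • 1)
    (M : Submodule K U) (hM : M ≠ ⊥) (hMi : ∀ e, ∀ w ∈ M, ρ e w ∈ M) (hYM : ∀ w ∈ M, Y w = 0) :
    Y = 0 := by
  classical
  obtain ⟨w₀, hw₀, hw₀0⟩ := Submodule.exists_mem_ne_zero_of_ne_bot hM
  have hzero : ∀ e : E, ∑ u : E, ρ u * (ρ e * Y) * ρ u⁻¹ = 0 := by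
    intro e
    obtain ⟨c, hc⟩ := hY e
    rw [hc]
    have h1 := LinearMap.congr_fun hc w₀
    simp only [LinearMap.sum_apply, Module.End.mul_apply, LinearMap.smul_apply,
      Module.End.one_apply] at h1
    rw [Finset.sum_eq_zero (fun u _ => by rw [hYM _ (hMi _ _ hw₀), map_zero, map_zero])] at h1
    rw [(smul_eq_zero.1 h1.symm).resolve_right hw₀0, zero_smul]
  have h1 : ∑ e : E, ρ e⁻¹ * ∑ u : E, ρ u * (ρ e * Y) * ρ u⁻¹ = 0 :=
    Finset.sum_eq_zero fun e _ => by rw [hzero, mul_zero]
  have h2 : ∀ e u : E, ρ e⁻¹ * (ρ u * (ρ e * Y) * ρ u⁻¹) = ψ ⁅e⁻¹, u⁆ • (ρ u * Y * ρ u⁻¹) := by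
    intro e u
    rw [← smul_mul_assoc, ← smul_mul_assoc, ← h.conj_eq, inv_inv, map_mul, map_mul]
    simp only [mul_assoc]
  simp only [Finset.mul_sum, h2] at h1
  rw [Finset.sum_comm] at h1
  simp only [← Finset.sum_smul] at h1
  have h3 : ∀ u : E, ∑ e : E, ψ ⁅e⁻¹, u⁆ = ∑ e : E, ψ ⁅e, u⁆ := fun u =>
    Equiv.sum_comp (Equiv.inv E) (fun e => ψ ⁅e, u⁆)
  simp only [h3] at h1
  rw [← Finset.sum_filter_add_sum_filter_not Finset.univ (· ∈ Z),
    Finset.sum_eq_zero (s := Finset.univ.filter fun w => w ∉ Z) (fun w hw => by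
      rw [(h.sum_psi_commutator w).2 (Finset.mem_filter.1 hw).2, zero_smul]), add_zero,
    Finset.sum_congr rfl (fun w hw => by
      rw [(h.sum_psi_commutator w).1 (Finset.mem_filter.1 hw).2,
        h.scalar w (Finset.mem_filter.1 hw).2,
        h.scalar w⁻¹ (Z.inv_mem (Finset.mem_filter.1 hw).2), smul_mul_assoc, one_mul,
        smul_mul_smul_comm, mul_one, ← h.psi_mul (Finset.mem_filter.1 hw).2
          (Z.inv_mem (Finset.mem_filter.1 hw).2), mul_inv_cancel, h.psi_one, one_smul]),
    Finset.sum_const, ← Nat.cast_smul_eq_nsmul K, smul_smul] at h1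
  refine (smul_eq_zero.1 h1).resolve_left (mul_ne_zero ?_ hE)
  intro h0
  obtain ⟨b, hb⟩ := card_subgroup_dvd_card Z
  apply hE
  rw [← Nat.card_eq_fintype_card, hb, Nat.cast_mul, Nat.card_eq_fintype_card, Fintype.card_subtype,
    h0, zero_mul]

/-- The equality case in the defining characteristic. -/
theorem HHBase.exact_mod (h : HHBase ρ Z ψ η S N) [IsAlgClosed K] [FiniteDimensional K U]
    [Nontrivial U] [Finite E] {p m : ℕ} [Fact p.Prime] [CharP K p] (hm : 1 ≤ m) (hN : N = p ^ m)
    (hE : (Nat.card E : K) ≠ 0) (hnorm : (S - 1) ^ (N - 1) = 0) (hidx : Z.index ≠ 1) :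
    Z.index = (N - 1) ^ 2 ∧ 3 ≤ N ∧ (∀ X, (∀ e, ρ e * X = X * ρ e) → S * X = X * S) ∧
      (S - 1) ^ (N - 2) ≠ 0 := by
  classical
  cases nonempty_fintype E
  have hp1 := (Fact.out : p.Prime).one_lt
  have hN1 : N ≠ 1 := by
    have := Nat.one_lt_pow (by omega : m ≠ 0) hp1
    omega
  have hN0 : 0 < N := hN ▸ pow_pos (Fact.out : p.Prime).pos m
  have hNK : (N : K) = 0 := by
    rw [hN, Nat.cast_pow, CharP.cast_eq_zero, zero_pow (by omega)]
  have hE' : (Fintype.card E : K) ≠ 0 := by rwa [← Nat.card_eq_fintype_card]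
  have hcst := cst_ne_zero (K := K) (Z := Z) hE'
  have hc : ∀ a, S * ρ a = ρ (η a) * S := fun a => LinearMap.ext fun w => h.compat a w
  set T := inter ρ η * S with hT
  have hTρ : ∀ x, T * ρ x = ρ x * T := fun x => by
    rw [hT, mul_assoc, hc, ← mul_assoc, inter_mul, mul_assoc]
  have hA' : ∀ (Y : Module.End K U), (∀ x, Y * ρ x = ρ x * Y) →
      Commute Y (inter' ρ η) := fun Y hY => by
    change Y * inter' ρ η = inter' ρ η * Y
    rw [inter', Finset.mul_sum, Finset.sum_mul]
    exact Finset.sum_congr rfl fun w _ => hY _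
  -- the analysis of a simple submodule
  have hkey : ∀ t (X0 : Submodule K U), X0 ≠ ⊥ → (∀ e, ∀ w ∈ X0, ρ e w ∈ X0) →
      X0 ≤ Module.End.eigenspace T t →
      t * (Nat.card Z : K) = ((Fintype.card E * Nat.card Z : ℕ) : K) ∧ Z.index = (N - 1) ^ 2 ∧
        3 ≤ N ∧ ∃ (M : Submodule K U) (SM : Module.End K M), M ≤ X0 ∧ M ≠ ⊥ ∧
          (∀ e, ∀ w ∈ M, ρ e w ∈ M) ∧ (∀ w : M, ((SM w : M) : U) = S (w : U)) ∧
          (SM - 1) ^ (N - 2) ≠ 0 ∧ (SM - 1) ^ (N - 1) = 0 := by
    intro t X0 hX0 hX0i hX0t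
    obtain ⟨M, _, ρM, SM, hρM, hSM, hMt, hMX, hsimple, hdata⟩ :=
      h.exists_simple_le hN0 hN1 hE' X0 hX0 hX0i hX0t
    have hpow : ∀ (k : ℕ) (w : M), ((((SM - 1) ^ k) w : M) : U) = ((S - 1) ^ k) (w : U) := by
      intro k w
      induction k with
      | zero => rfl
      | succ k ih =>
        rw [pow_succ', pow_succ', Module.End.mul_apply, Module.End.mul_apply, ← ih]
        simp [hSM]
    have hnM : (SM - 1) ^ (N - 1) = 0 := LinearMap.ext fun w => Subtype.ext (by
      rw [hpow, hnorm]; rfl)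
    obtain ⟨hb1, hb2⟩ := nil_commutant_bound _ (SM - 1) (N - 1) le_rfl hnM
    rw [commutant_sub_one] at hb1 hb2
    obtain ⟨h1, h2, h3, h4⟩ := hdata.bound_simple_of hsimple hE hN0 hb1
    set d := finrank K M with hd
    obtain ⟨f, hf⟩ := h2
    rw [hf, Nat.mul_div_cancel_left _ hN0] at h4
    have hd1 : 2 ≤ d := by
      rcases Nat.lt_or_ge d 2 with hlt | hge
      · have hpos : 0 < d := Module.finrank_pos
        rw [show d = 1 by omega, one_pow] at h1
        exact absurd h1.symm hidx
      · exact hge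
    have hidx' : d ^ 2 = N * f + 1 := by
      have : 1 ≤ Z.index := Nat.pos_of_ne_zero Subgroup.index_ne_zero_of_finite
      omega
    have hdN : d = N - 1 := by
      have : N * (d - 1) ≤ (d - 1) * (d + 1) := by
        have e1 : (d - 1) * (d + 1) = d ^ 2 - 1 := by
          obtain ⟨d', hd'⟩ := Nat.exists_eq_succ_of_ne_zero (show d ≠ 0 by omega)
          rw [hd']
          simp only [Nat.succ_eq_add_one, Nat.add_sub_cancel]
          have : (d' + 1) ^ 2 = d' * (d' + 1 + 1) + 1 := by ring
          omega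
        rw [e1, hidx', Nat.add_sub_cancel]
        exact Nat.mul_le_mul_left _ (by omega)
      rw [mul_comm (d - 1)] at this
      have := Nat.le_of_mul_le_mul_right this (by omega)
      omega
    have hcomm : finrank K (commutant SM) ≤ N - 1 := by
      have : N * (f + 1) ≤ N * (N - 1) := by
        rw [Nat.mul_succ, ← hdN]
        have e2 : N = d + 1 := by omega
        rw [e2]
        nlinarith
      have := Nat.le_of_mul_le_mul_left this hN0
      omega
    have hsharp : (SM - 1) ^ (N - 2) ≠ 0 := by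
      intro h0
      have h5 := (nil_commutant_bound _ (SM - 1) (N - 2) le_rfl h0).1
      rw [commutant_sub_one, ← hd, hdN] at h5
      have h6 : (N - 1) ^ 2 ≤ (N - 2) * (N - 1) := h5.trans (Nat.mul_le_mul_left _ hcomm)
      rw [sq] at h6
      have := Nat.le_of_mul_le_mul_right h6 (by omega)
      omega
    refine ⟨?_, by rw [← h1, hdN], by omega, M, SM, hMX, ?_, fun e w hw => ?_, hSM, hsharp, hnM⟩
    · have hdK : (d : K) ≠ 0 := by
        have e : ((d + 1 : ℕ) : K) = 0 := by rw [show d + 1 = N by omega, hNK]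
        rw [Nat.cast_succ] at e
        intro h0
        rw [h0, zero_add] at e
        exact one_ne_zero e
      have htr : LinearMap.trace K M SM = (d : K) := by
        have h7 := LinearMap.isNilpotent_trace_of_isNilpotent (R := K) (f := SM - 1) ⟨_, hnM⟩
        rw [map_sub, LinearMap.trace_one, isNilpotent_iff_eq_zero, sub_eq_zero] at h7
        exact h7
      have htr' : LinearMap.trace K M (inter' ρM η) = (Nat.card Z : K) * (d : K) := by
        rw [inter', map_sum]
        have hterm : ∀ w : E, LinearMap.trace K M (ρM (η w * w⁻¹)) =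
            if w ∈ Z then (d : K) else 0 := by
          intro w
          rw [hdata.trace_eq]
          by_cases hw : w ∈ Z
          · rw [if_pos hw, if_pos (Z.mul_mem (hdata.inv w hw) (Z.inv_mem hw)),
              hdata.psi_mul (hdata.inv w hw) (Z.inv_mem hw), hdata.scalar_inv w hw,
              ← hdata.psi_mul hw (Z.inv_mem hw), mul_inv_cancel, hdata.psi_one, one_mul]
          · rw [if_neg hw, if_neg]
            intro hm'
            apply hw
            refine hdata.free w 1 one_pos (by omega) ?_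
            have := Z.mul_mem (hdata.commutator_mem w⁻¹ (η w * w⁻¹)) hm'
            convert this using 1
            simp [commutatorElement_def, mul_assoc]
        rw [Finset.sum_congr rfl fun w _ => hterm w, Finset.sum_ite, Finset.sum_const,
          Finset.sum_const_zero, add_zero, nsmul_eq_mul]
        congr 2
        rw [Nat.card_eq_fintype_card, Fintype.card_subtype]
      have hSM' : ((Fintype.card E * Nat.card Z : ℕ) : K) • SM = t • inter' ρM η := by
        refine LinearMap.ext fun w => Subtype.ext ?_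
        have h5 : ∀ x : M, ((inter' ρM η x : M) : U) = inter' ρ η (x : U) := by
          intro x
          simp [inter', LinearMap.sum_apply, hρM]
        simp only [LinearMap.smul_apply, Submodule.coe_smul, h5, hSM]
        rw [← map_smul (inter' ρ η), ← hMt w, ← Module.End.mul_apply (inter' ρ η),
          h.inter'_mul_inter hN0 hN1]
        simp
      have h6 := congrArg (LinearMap.trace K M) hSM'
      rw [map_smul, map_smul, htr, htr', smul_eq_mul, smul_eq_mul, ← mul_assoc] at h6
      exact (mul_right_cancel₀ hdK h6).symm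
    · exact Submodule.nontrivial_iff_ne_bot.1 inferInstance
    · rw [← hρM e ⟨w, hw⟩]
      exact Submodule.coe_mem _
  obtain ⟨t, ht⟩ := Module.End.exists_eigenvalue T
  have hinvE : ∀ c e, ∀ w ∈ Module.End.eigenspace T c, ρ e w ∈ Module.End.eigenspace T c := by
    intro c e w hw
    rw [Module.End.mem_eigenspace_iff] at hw ⊢
    rw [← Module.End.mul_apply, hTρ, Module.End.mul_apply, hw, map_smul]
  obtain ⟨hteq, hidx₀, hN3, M₀, SM₀, -, -, -, hSM₀, hsharp₀, -⟩ :=
    hkey t (Module.End.eigenspace T t) ht (hinvE t) le_rfl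
  have hZK : (Nat.card Z : K) ≠ 0 := by
    intro h0
    rw [h0, mul_zero] at hteq
    exact hcst hteq.symm
  have ht0 : t ≠ 0 := by
    intro h0
    rw [h0, zero_mul] at hteq
    exact hcst hteq.symm
  refine ⟨hidx₀, hN3, ?_, ?_⟩
  swap
  · intro h0
    apply hsharp₀
    refine LinearMap.ext fun w => Subtype.ext ?_
    have hpow : ∀ (k : ℕ) (w : M₀), ((((SM₀ - 1) ^ k) w : M₀) : U) = ((S - 1) ^ k) (w : U) := by
      intro k w
      induction k with
      | zero => rfl
      | succ k ih =>
        rw [pow_succ', pow_succ', Module.End.mul_apply, Module.End.mul_apply, ← ih]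
        simp [hSM₀]
    rw [hpow, h0]
    rfl
  -- `T` is the scalar `t`
  suffices hTt : T = t • 1 by
    intro X hX
    have hS : ((Fintype.card E * Nat.card Z : ℕ) : K) • S = t • inter' ρ η := by
      have h1 := congrArg (inter' ρ η * ·) hTt
      simp only [hT, ← mul_assoc, h.inter'_mul_inter hN0 hN1, smul_mul_assoc, one_mul,
        mul_smul_comm, mul_one] at h1
      exact h1
    have hX' : inter' ρ η * X = X * inter' ρ η := (hA' X fun x => (hX x).symm).symm.eq
    have h2 : ((Fintype.card E * Nat.card Z : ℕ) : K) • (S * X) =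
        ((Fintype.card E * Nat.card Z : ℕ) : K) • (X * S) := by
      rw [← smul_mul_assoc, ← mul_smul_comm, hS, smul_mul_assoc, mul_smul_comm, hX']
    exact smul_right_injective _ hcst h2
  have huniq : ∀ c, T.HasEigenvalue c → c = t := fun c hc' =>
    mul_right_cancel₀ hZK ((hkey c _ hc' (hinvE c) le_rfl).1.trans hteq.symm)
  set Q := T - t • (1 : Module.End K U) with hQ
  have hQnil : ∀ w, ∃ k : ℕ, (Q ^ k) w = 0 := by
    have htop : T.maxGenEigenspace t = ⊤ := by
      rw [eq_top_iff, ← Module.End.iSup_maxGenEigenspace_eq_top T]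
      refine iSup_le fun c => ?_
      by_cases hc' : c = t
      · rw [hc']
      · intro w hw
        by_contra hne
        refine hc' (huniq c ?_)
        refine Module.End.hasEigenvalue_of_hasGenEigenvalue (k := finrank K U) ?_
        intro hbot
        rw [← Module.End.maxGenEigenspace_eq_genEigenspace_finrank] at hbot
        rw [hbot, Submodule.mem_bot] at hw
        exact hne (hw ▸ Submodule.zero_mem _)
    intro w
    have hw : w ∈ T.maxGenEigenspace t := htop ▸ Submodule.mem_top
    rw [Module.End.mem_maxGenEigenspace] at hw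
    exact hw
  by_contra hne
  have hQ0 : Q ≠ 0 := fun h0 => hne (sub_eq_zero.1 h0)
  have hQρ : ∀ x, Q * ρ x = ρ x * Q := fun x => by
    rw [hQ, sub_mul, mul_sub, hTρ, smul_mul_assoc, mul_smul_comm, one_mul, mul_one]
  let X0 : Submodule K U := LinearMap.ker Q ⊓ LinearMap.range Q
  have hX0 : X0 ≠ ⊥ := by
    obtain ⟨w, hw⟩ : ∃ w, Q w ≠ 0 := by
      by_contra h'
      push Not at h'
      exact hQ0 (LinearMap.ext h')
    have hex := hQnil w
    set k := Nat.find hex with hk
    have hk0 : (Q ^ k) w = 0 := Nat.find_spec hex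
    have hk2 : 2 ≤ k := by
      by_contra h'
      have h01 : k = 0 ∨ k = 1 := by omega
      rcases h01 with h01 | h01 <;> rw [h01] at hk0
      · rw [pow_zero, Module.End.one_apply] at hk0
        exact hw (by rw [hk0, map_zero])
      · rw [pow_one] at hk0
        exact hw hk0
    intro hbot
    apply Nat.find_min hex (show k - 1 < k by omega)
    refine (Submodule.mem_bot K).1 (hbot ▸ (⟨?_, ?_⟩ : (Q ^ (k - 1)) w ∈ X0))
    · rw [SetLike.mem_coe, LinearMap.mem_ker, ← Module.End.mul_apply, ← pow_succ',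
        show k - 1 + 1 = k by omega, hk0]
    · refine ⟨(Q ^ (k - 2)) w, ?_⟩
      rw [← Module.End.mul_apply, ← pow_succ', show k - 2 + 1 = k - 1 by omega]
  have hX0i : ∀ e, ∀ w ∈ X0, ρ e w ∈ X0 := by
    rintro e w ⟨hw1, ⟨u, hu⟩⟩
    refine ⟨?_, ⟨ρ e u, ?_⟩⟩
    · rw [SetLike.mem_coe, LinearMap.mem_ker, ← Module.End.mul_apply, hQρ, Module.End.mul_apply,
        LinearMap.mem_ker.1 hw1, map_zero]
    · rw [← Module.End.mul_apply, hQρ, Module.End.mul_apply, hu]
  have hX0t : X0 ≤ Module.End.eigenspace T t := fun w hw =>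
    Module.End.mem_eigenspace_iff.2 (sub_eq_zero.1 (LinearMap.mem_ker.1 hw.1))
  obtain ⟨-, -, -, M, SM, hMX, hM0, hMi, hSM, hsharp, hnM⟩ := hkey t X0 hX0 hX0i hX0t
  set k₀ := ((Fintype.card E * Nat.card Z : ℕ) : K)⁻¹ with hk₀
  set a := (k₀ * t) • inter' ρ η with ha
  clear_value a
  have hSa : S = a + t⁻¹ • (a * Q) := by
    have h1 : ((Fintype.card E * Nat.card Z : ℕ) : K) • S = inter' ρ η * T := by
      rw [hT, ← mul_assoc, h.inter'_mul_inter hN0 hN1, smul_mul_assoc, one_mul]
    have h2 : S = k₀ • (inter' ρ η * T) := by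
      rw [← h1, smul_smul, hk₀, inv_mul_cancel₀ hcst, one_smul]
    rw [h2, ha, show T = Q + t • 1 by rw [hQ, sub_add_cancel], smul_mul_assoc, smul_smul, mul_add,
      mul_smul_comm, mul_one, smul_add, smul_smul, add_comm]
    congr 2
    field_simp
  have haQ : ∀ (i : ℕ) w, (a ^ i) (Q w) = Q ((a ^ i) w) := by
    intro i w
    have hco : Commute Q a := ha ▸ (hA' Q hQρ).smul_right _
    rw [← Module.End.mul_apply, ← Module.End.mul_apply, (hco.pow_right i).eq]
  have hkerS : ∀ w, Q w = 0 → ∀ i, (S ^ i) w = (a ^ i) w := by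
    intro w hw i
    induction i with
    | zero => rfl
    | succ i ih =>
      rw [pow_succ', Module.End.mul_apply, ih, hSa, LinearMap.add_apply, LinearMap.smul_apply,
        Module.End.mul_apply, ← haQ, hw, map_zero, map_zero, smul_zero, add_zero, pow_succ',
        Module.End.mul_apply]
  have hMk : ∀ w ∈ M, Q w = 0 := fun w hw => LinearMap.mem_ker.1 (hMX hw).1
  have hsum : ∑ i ∈ Finset.range N, a ^ i = 0 := by
    have hQY : ∀ i : ℕ, ∀ e : E, ∃ c : K, ∑ u : E, ρ u * (ρ e * a ^ i) * ρ u⁻¹ = c • 1 := by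
      intro i
      induction i with
      | zero => intro e; simpa using h.avg_scalar e
      | succ i ih =>
        intro e
        choose c hc' using ih
        refine ⟨(k₀ * t) * ∑ w : E, c (e * (η w * w⁻¹)), ?_⟩
        rw [mul_smul, Finset.sum_smul]
        simp only [← hc', map_mul ρ e]
        rw [Finset.sum_comm, Finset.smul_sum]
        refine Finset.sum_congr rfl fun u _ => ?_
        rw [pow_succ']
        nth_rw 1 [ha]
        rw [inter', smul_mul_assoc, mul_smul_comm, mul_smul_comm, smul_mul_assoc, Finset.sum_mul,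
          Finset.mul_sum, Finset.mul_sum, Finset.sum_mul]
        simp only [mul_assoc]
    refine h.eq_zero_of_ann hE' _ (fun e => ?_) M hM0 hMi (fun w hw => ?_)
    · choose c hc' using fun i => hQY i e
      refine ⟨∑ i ∈ Finset.range N, c i, ?_⟩
      rw [Finset.sum_smul]
      simp only [← hc', Finset.mul_sum, Finset.sum_mul]
      exact Finset.sum_comm
    · rw [LinearMap.sum_apply]
      simp only [← hkerS w (hMk w hw)]
      rw [← LinearMap.sum_apply, hN, sum_pow_eq, ← hN, hnorm]
      rfl
  -- the derivative of the norm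
  apply hsharp
  refine LinearMap.ext fun v => Subtype.ext ?_
  obtain ⟨w, hw⟩ := (hMX v.2).2
  have hv : Q (v : U) = 0 := hMk _ v.2
  have hSiw : ∀ i : ℕ, (S ^ i) w = (a ^ i) w + ((i : K) * t⁻¹) • (a ^ i) (v : U) := by
    intro i
    induction i with
    | zero => simp
    | succ i ih =>
      have e1 : S ((a ^ i) w) = (a ^ (i + 1)) w + t⁻¹ • (a ^ (i + 1)) (v : U) := by
        rw [hSa, LinearMap.add_apply, LinearMap.smul_apply, Module.End.mul_apply, ← haQ, hw,
          pow_succ', Module.End.mul_apply, Module.End.mul_apply]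
      have e2 : S ((a ^ i) (v : U)) = (a ^ (i + 1)) (v : U) := by
        rw [hSa, LinearMap.add_apply, LinearMap.smul_apply, Module.End.mul_apply, ← haQ, hv,
          map_zero, map_zero, smul_zero, add_zero, pow_succ', Module.End.mul_apply]
      rw [pow_succ', Module.End.mul_apply, ih, map_add, map_smul, e1, e2, add_assoc, Nat.cast_succ,
        add_mul, one_mul, add_smul]
      abel
  have h0 : ∑ i ∈ Finset.range N, (S ^ i) w = 0 := by
    rw [← LinearMap.sum_apply, hN, sum_pow_eq, ← hN, hnorm]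
    rfl
  simp only [hSiw, Finset.sum_add_distrib] at h0
  rw [← LinearMap.sum_apply, hsum, LinearMap.zero_apply, zero_add] at h0
  simp only [mul_comm _ t⁻¹, mul_smul, ← Finset.smul_sum] at h0
  have h1 : ∑ i ∈ Finset.range N, (i : K) • (S ^ i) (v : U) = 0 := by
    simp only [hkerS (v : U) hv]
    exact (smul_eq_zero.1 h0).resolve_left (inv_ne_zero ht0)
  -- polynomial identity
  have h2 : ((N - 1 : ℕ) : K) • (((S - 1) ^ (N - 2)) (S (v : U))) = 0 := by
    have h3 := congrArg (fun P => Polynomial.aeval S P (v : U)) (weighted_sum_X (K := K) p m)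
    simp only [map_sum, map_mul, map_pow, map_sub, map_one, Polynomial.aeval_X, Polynomial.aeval_C,
      Module.algebraMap_end_eq_smul_id, LinearMap.sum_apply, LinearMap.smul_apply,
      Module.End.mul_apply, LinearMap.id_apply] at h3
    rw [← hN] at h3
    rw [← h1]
    exact h3.symm
  have hN1K : ((N - 1 : ℕ) : K) ≠ 0 := by
    intro h0'
    have e : ((N - 1 + 1 : ℕ) : K) = 0 := by rw [show N - 1 + 1 = N by omega, hNK]
    rw [Nat.cast_succ, h0', zero_add] at e
    exact one_ne_zero e
  have h3 := (smul_eq_zero.1 h2).resolve_left hN1K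
  have hco : Commute S ((S - 1) ^ (N - 2)) :=
    ((Commute.refl S).sub_right (Commute.one_right S)).pow_right _
  rw [← Module.End.mul_apply, ← hco.eq, Module.End.mul_apply] at h3
  have hunit : IsUnit S := IsUnit.of_pow_eq_one h.pow_eq hN0.ne'
  have h4 : ((S - 1) ^ (N - 2)) (v : U) = 0 :=
    ((Module.End.isUnit_iff _).1 hunit).1 (by rw [h3, map_zero])
  have hpow : ∀ (k : ℕ) (w : M), ((((SM - 1) ^ k) w : M) : U) = ((S - 1) ^ k) (w : U) := by
    intro k w
    induction k with
    | zero => rfl
    | succ k ih =>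
      rw [pow_succ', pow_succ', Module.End.mul_apply, Module.End.mul_apply, ← ih]
      simp [hSM]
  rw [hpow, h4]
  rfl

end Cfsg.Agent.FGS73
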