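import Cfsg.Agent.FGS73.SGLinear
import Cfsg.Agent.FGS73.HHModular

/-!
The linear core of Theorem B of Hall and Higman.
-/

namespace Cfsg.Agent.FGS73

open Subgroup
open scoped commutatorElement

/-- averaging lemma for commuting images and a map of zero norm -/
theorem end_abelian_norm {E : Type*} [Group E] [Finite E] {K U : Type*} [Field K] [AddCommGroup U]
    [Module K U]
    (ψ : E →* Module.End K U) (hcomm : ∀ a b, ψ a * ψ b = ψ b * ψ a) (σ : E →* E)
    (S : Module.End K U) {p n : ℕ} (hp : p.Prime) (hσp : ∀ e, (⇑σ)^[p ^ (n + 1)] e = e)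
    (hnorm : ∀ w, ∑ i ∈ Finset.range (p ^ (n + 1)), (S ^ i) w = 0)
    (hcompat : ∀ e w, S (ψ e w) = ψ (σ e) (S w)) (hE : (Nat.card E : K) ≠ 0) :
    ∀ e, ψ (e⁻¹ * (⇑σ)^[p ^ n] e) = 1 := by
  classical
  cases nonempty_fintype E
  set M := p ^ (n + 1) with hM
  have hM0 : 0 < M := pow_pos hp.pos _
  have hmulapp : ∀ a b w, ψ (a * b) w = ψ a (ψ b w) := fun a b w => by rw [map_mul]; rfl
  have honeapp : ∀ w, ψ 1 w = w := fun w => by rw [map_one]; rfl
  let Fix : ℕ → Submodule K U := fun k =>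
    { carrier := {w | ∀ e, ψ (e⁻¹ * (⇑σ)^[k] e) w = w}
      zero_mem' := fun e => map_zero _
      add_mem' := fun {a b} ha hb e => by rw [map_add, ha e, hb e]
      smul_mem' := fun c {a} ha e => by rw [map_smul, ha e] }
  have hswap : ∀ a b w, ψ a (ψ b w) = ψ b (ψ a w) := fun a b w => by
    rw [← Module.End.mul_apply, hcomm, Module.End.mul_apply]
  have hsum : ∀ i j w, w ∈ Fix i → w ∈ Fix j → w ∈ Fix (i + j) := by
    intro i j w hi hj e
    rw [show e⁻¹ * (⇑σ)^[i + j] e = (e⁻¹ * (⇑σ)^[j] e) *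
      (((⇑σ)^[j] e)⁻¹ * (⇑σ)^[i] ((⇑σ)^[j] e)) by rw [Function.iterate_add_apply]; group,
      hmulapp, hi _, hj e]
  have hmul : ∀ k j w, w ∈ Fix k → w ∈ Fix (k * j) := by
    intro k j w hk
    induction j with
    | zero => intro e; simp [honeapp]
    | succ j ih => rw [Nat.mul_succ]; exact hsum _ _ w ih hk
  have htau : ∀ k, 0 < k → k < M → ∀ w, w ∈ Fix k → w ∈ Fix (p ^ n) := by
    intro k hk0 hkM w hw
    obtain ⟨a, ha, hga⟩ := (Nat.dvd_prime_pow hp).1 (Nat.gcd_dvd_right k M)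
    have hle := Nat.le_of_dvd hk0 (Nat.gcd_dvd_left k M)
    rw [hga] at hle
    have ha' : a ≤ n := by
      by_contra h
      have : M ≤ p ^ a := Nat.pow_le_pow_right hp.pos (by omega)
      omega
    obtain ⟨b, hb⟩ := Nat.exists_mul_mod_eq_gcd (n := k) (k := M) (by rw [hga]; omega)
    rw [hga] at hb
    have hpa : w ∈ Fix (p ^ a) := by
      intro e
      have h := hmul k b w hw e
      rwa [← Nat.mod_add_div (k * b) M, Nat.add_comm, Function.iterate_add_apply,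
        Function.IsPeriodicPt.mul_const (hσp _) _, hb.2] at h
    obtain ⟨c, hc⟩ := pow_dvd_pow p ha'
    rw [hc]
    exact hmul _ _ w hpa
  intro e
  refine LinearMap.ext fun w => ?_
  change ψ (e⁻¹ * (⇑σ)^[p ^ n] e) w = w
  have hit : ∀ k a u, (S ^ k) (ψ a u) = ψ ((⇑σ)^[k] a) ((S ^ k) u) := by
    intro k
    induction k with
    | zero => intro a u; rfl
    | succ k ih =>
      intro a u
      rw [pow_succ', Module.End.mul_apply, ih, hcompat, Function.iterate_succ_apply',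
        Module.End.mul_apply]
  have hsumzero : ∀ a, ∑ k ∈ Finset.range M, ψ ((⇑σ)^[k] a) ((S ^ k) w) = 0 := by
    intro a
    simp only [← hit]
    exact hnorm _
  have hPmem : ∀ k u, ∑ a : E, ψ (a⁻¹ * (⇑σ)^[k] a) u ∈ Fix k := by
    intro k u b
    rw [map_sum]
    refine (Finset.sum_congr rfl fun a _ => ?_).trans
      (Equiv.sum_comp (Equiv.mulRight b) (fun a => ψ (a⁻¹ * (⇑σ)^[k] a) u))
    rw [Equiv.coe_mulRight, iterate_map_mul, mul_inv_rev,
      show b⁻¹ * a⁻¹ * ((⇑σ)^[k] a * (⇑σ)^[k] b) =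
        b⁻¹ * ((a⁻¹ * (⇑σ)^[k] a) * (⇑σ)^[k] b) by group,
      hmulapp b⁻¹, hmulapp b⁻¹, hmulapp (a⁻¹ * (⇑σ)^[k] a), hswap ((⇑σ)^[k] b)]
  have h0 : Fintype.card E • w +
      ∑ k ∈ (Finset.range M).erase 0, ∑ a : E, ψ (a⁻¹ * (⇑σ)^[k] a) ((S ^ k) w) = 0 := by
    have h0 : ∑ k ∈ Finset.range M, ∑ a : E, ψ (a⁻¹ * (⇑σ)^[k] a) ((S ^ k) w) = 0 := by
      rw [Finset.sum_comm]
      refine Finset.sum_eq_zero fun a _ => ?_
      simp only [hmulapp]
      rw [← map_sum, hsumzero, map_zero]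
    rw [← Finset.add_sum_erase _ _ (Finset.mem_range.2 hM0)] at h0
    simpa [honeapp] using h0
  have hmem : Fintype.card E • w ∈ Fix (p ^ n) := by
    rw [eq_neg_of_add_eq_zero_left h0]
    refine Submodule.neg_mem _ (Submodule.sum_mem _ fun k hk => ?_)
    obtain ⟨hk0, hkM⟩ := Finset.mem_erase.1 hk
    exact htau k (Nat.pos_of_ne_zero hk0) (Finset.mem_range.1 hkM) _ (hPmem k _)
  have h1 := hmem e
  rw [map_nsmul, ← Nat.cast_smul_eq_nsmul K, ← Nat.cast_smul_eq_nsmul K,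
    ← Nat.card_eq_fintype_card] at h1
  exact smul_right_injective U hE h1


theorem norm_of_sub_one_pow {K U : Type*} [Field K] [AddCommGroup U] [Module K U] (S : Module.End K U)
    {p m r : ℕ} [Fact p.Prime] [CharP K p] (hr : (S - 1) ^ r = 0) (hrm : r < p ^ m) :
    ∀ w, ∑ i ∈ Finset.range (p ^ m), (S ^ i) w = 0 := by
  intro w
  rw [← LinearMap.sum_apply, sum_pow_eq, pow_eq_zero_of_le (by omega) hr]
  rfl

variable {T : Type*} [Group T] [Finite T] {K U : Type*} [Field K] [IsAlgClosed K] [AddCommGroup U]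
  [Module K U] [FiniteDimensional K U]

/-- A weight of an invariant subgroup with central image, and its period; `S` has zero norm. -/
theorem exists_weight_norm (σ : T →* T) {p m : ℕ} (hp : p.Prime)
    (hσp : ∀ x, (⇑σ)^[p ^ (m + 1)] x = x) (ρ : T →* Module.End K U) (S : Module.End K U)
    (hnorm : ∀ w, ∑ i ∈ Finset.range (p ^ (m + 1)), (S ^ i) w = 0)
    (hSp : S ^ (p ^ (m + 1)) = 1)
    (hcompat : ∀ x w, S (ρ x w) = ρ (σ x) (S w)) (hT : (Nat.card T : K) ≠ 0)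
    (Z : Subgroup T) (hZi : ∀ z ∈ Z, σ z ∈ Z) (hZc : ∀ z ∈ Z, ∀ t, ρ z * ρ t = ρ t * ρ z)
    (L : Submodule K U) (hL : L ≠ ⊥) (hLi : ∀ z ∈ Z, ∀ w ∈ L, ρ z w ∈ L) :
    ∃ j, j ≤ m ∧ ∃ (ψ : T → K) (U0 : Submodule K U),
      (∀ w, w ∈ U0 ↔ ∀ z ∈ Z, ρ z w = ψ z • w) ∧ (∀ t, ∀ w ∈ U0, ρ t w ∈ U0) ∧
      (∀ w ∈ U0, (S ^ p ^ j) w ∈ U0) ∧ (∀ w ∈ U0, ∑ k ∈ Finset.range (p ^ (m + 1 - j)), ((S ^ p ^ j) ^ k) w = 0) ∧
      (∀ w ∈ U0, ∑ i ∈ Finset.range (p ^ j), (S ^ i) w = 0 → w = 0) ∧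
      (∃ v ∈ L, v ∈ U0 ∧ v ≠ 0) ∧ (∀ a ∈ Z, ∀ b ∈ Z, ψ (a * b) = ψ a * ψ b) ∧ ψ 1 = 1 ∧
      (∀ z ∈ Z, ψ ((⇑σ)^[p ^ j] z) = ψ z) ∧ (∀ z ∈ Z, ψ ((⇑σ)^[p ^ m] z) = ψ z) := by
  classical
  cases nonempty_fintype T
  set M := p ^ (m + 1) with hM
  have hM0 : 0 < M := pow_pos hp.pos _
  have hhom : ∀ k (a b : T), (⇑σ)^[k] (a * b) = (⇑σ)^[k] a * (⇑σ)^[k] b :=
    fun k a b => iterate_map_mul σ k a b
  have hZk : ∀ k, ∀ z ∈ Z, (⇑σ)^[k] z ∈ Z := by
    intro k z hz
    induction k with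
    | zero => exact hz
    | succ k ih => rw [Function.iterate_succ_apply']; exact hZi _ ih
  have hmulapp : ∀ a b w, ρ (a * b) w = ρ a (ρ b w) := fun a b w => by rw [map_mul]; rfl
  have honeapp : ∀ w, ρ 1 w = w := fun w => by rw [map_one]; rfl
  have hcard : (Nat.card Z : K) ≠ 0 := by
    intro h0
    obtain ⟨b, hb⟩ := card_subgroup_dvd_card Z
    exact hT (by rw [hb, Nat.cast_mul, h0, zero_mul])
  obtain ⟨χ, v₀, hv₀L, hv₀, hχ⟩ := common_eigen (fun z : Z => ρ (z : T))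
    (fun a b => hZc a a.2 b) L hL (fun z => hLi z z.2)
  let Ψ : T → K := fun x => if hx : x ∈ Z then χ ⟨x, hx⟩ else 0
  have hΨ : ∀ z (hz : z ∈ Z), Ψ z = χ ⟨z, hz⟩ := fun z hz => dif_pos hz
  have hΨv : ∀ z ∈ Z, ρ z v₀ = Ψ z • v₀ := fun z hz => by rw [hΨ z hz]; exact hχ ⟨z, hz⟩
  have heigne : ∀ a b : K, a • v₀ = b • v₀ → a = b := fun a b h => smul_left_injective K hv₀ h
  have hΨmul : ∀ a ∈ Z, ∀ b ∈ Z, Ψ (a * b) = Ψ a * Ψ b := by
    intro a ha b hb
    apply heigne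
    rw [← hΨv _ (Z.mul_mem ha hb), hmulapp, hΨv b hb, map_smul, hΨv a ha, smul_smul, mul_comm]
  have hΨ1 : Ψ 1 = 1 := heigne _ _ (by rw [← hΨv 1 (one_mem Z), honeapp, one_smul])
  let per : ℕ → Prop := fun i => ∀ z ∈ Z, Ψ ((⇑σ)^[i] z) = Ψ z
  have hperτ : per (p ^ m) := by
    intro z hz
    let σZ : Z →* Z := (σ.comp Z.subtype).codRestrict Z fun z => hZi z z.2
    have hval : ∀ k (z : Z), (((⇑σZ)^[k] z : Z) : T) = (⇑σ)^[k] (z : T) := by
      intro k z
      induction k with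
      | zero => rfl
      | succ k ih => rw [Function.iterate_succ_apply', Function.iterate_succ_apply', ← ih]; rfl
    have key := end_abelian_norm (ρ.comp Z.subtype) (fun a b => hZc a a.2 b) σZ S hp
      (n := m) (fun e => Subtype.ext (by rw [hval]; exact hσp e)) hnorm
      (fun e w => hcompat (e : T) w) hcard ⟨z, hz⟩
    have key' : ρ (z⁻¹ * (⇑σ)^[p ^ m] z) = 1 := by
      rw [← hval (p ^ m) ⟨z, hz⟩]
      exact key
    apply heigne
    rw [← hΨv _ (hZk _ z hz), ← hΨv z hz]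
    conv_rhs => rw [← Module.End.one_apply (R := K) v₀, ← key', ← Module.End.mul_apply, ← map_mul,
      mul_inv_cancel_left]
  have hexper : ∃ j, per (p ^ j) := ⟨m, hperτ⟩
  set j := Nat.find hexper with hjdef
  have hj : per (p ^ j) := Nat.find_spec hexper
  have hjm : j ≤ m := Nat.find_min' hexper hperτ
  set B := p ^ j with hB
  have hB0 : 0 < B := pow_pos hp.pos _
  have hBM : B ∣ M := pow_dvd_pow p (by omega)
  have hBM' : B ≤ M := Nat.le_of_dvd hM0 hBM
  have hperinv : ∀ z ∈ Z, ∃ y ∈ Z, (⇑σ)^[B] y = z := by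
    intro z hz
    refine ⟨(⇑σ)^[M - B] z, hZk _ z hz, ?_⟩
    rw [← Function.iterate_add_apply, Nat.add_sub_cancel' hBM', hσp]
  have hSit : ∀ k x w, (S ^ k) (ρ x w) = ρ ((⇑σ)^[k] x) ((S ^ k) w) := by
    intro k
    induction k with
    | zero => intro x w; rfl
    | succ k ih =>
      intro x w
      rw [pow_succ', Module.End.mul_apply, ih, hcompat, Function.iterate_succ_apply',
        Module.End.mul_apply]
  let U0 : Submodule K U :=
    { carrier := {w | ∀ z ∈ Z, ρ z w = Ψ z • w}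
      zero_mem' := fun z _ => by simp
      add_mem' := fun {a b} ha hb z hz => by rw [map_add, ha z hz, hb z hz, smul_add]
      smul_mem' := fun c {a} ha z hz => by rw [map_smul, ha z hz, smul_comm] }
  suffices hsep : ∀ w ∈ U0, ∑ i ∈ Finset.range B, (S ^ i) w = 0 → w = 0 by
    have hSU : ∀ w ∈ U0, (S ^ B) w ∈ U0 := by
      intro w hw z hz
      obtain ⟨y, hy, rfl⟩ := hperinv z hz
      rw [← hSit, hw y hy, map_smul, hj y hy]
    refine ⟨j, hjm, Ψ, U0, fun w => Iff.rfl, fun t w hw z hz => ?_, hSU, fun w hw => ?_, hsep,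
    ⟨v₀, hv₀L, hΨv, hv₀⟩, hΨmul, hΨ1, hj, hperτ⟩
    · rw [← Module.End.mul_apply, hZc z hz t, Module.End.mul_apply, hw z hz, map_smul]
    · have hk : ∀ k, ((S ^ B) ^ k) w ∈ U0 := by
        intro k
        induction k with
        | zero => exact hw
        | succ k ih => rw [pow_succ', Module.End.mul_apply]; exact hSU _ ih
      refine hsep _ (U0.sum_mem fun k _ => hk k) ?_
      have hBN : B * p ^ (m + 1 - j) = M := by
        rw [hB, hM, ← pow_add]; congr 1; omega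
      have hg : ∀ N : ℕ, ∑ i ∈ Finset.range B, (S ^ i) (∑ k ∈ Finset.range N, ((S ^ B) ^ k) w) =
          ∑ l ∈ Finset.range (B * N), (S ^ l) w := by
        intro N
        induction N with
        | zero => simp
        | succ N ih =>
          simp only [Finset.sum_range_succ, map_add]
          rw [Finset.sum_add_distrib, ih, Nat.mul_succ, Finset.sum_range_add]
          congr 1
          refine Finset.sum_congr rfl fun i _ => ?_
          rw [← pow_mul, ← Module.End.mul_apply, ← pow_add, Nat.add_comm]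
      rw [hg, hBN]
      exact hnorm w
  intro w hw hw0
  have hSk : ∀ k, k ≤ M → ∀ y, ρ y ((S ^ k) w) = (S ^ k) (ρ ((⇑σ)^[M - k] y) w) := by
    intro k hk y
    rw [hSit, ← Function.iterate_add_apply, Nat.add_sub_cancel' hk, hσp]
  have hsum : ∀ z ∈ Z, ∑ i ∈ Finset.range B, Ψ ((⇑σ)^[M - i] z) • (S ^ i) w = 0 := by
    intro z hz
    have h1 := congrArg (ρ z) hw0
    rw [map_zero, map_sum] at h1
    rw [← h1]
    refine Finset.sum_congr rfl fun i hi => ?_
    rw [hSk i ((Finset.mem_range.1 hi).le.trans hBM'), hw _ (hZk _ z hz), map_smul]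
  have htot : ∑ i ∈ Finset.range B,
      (∑ z : Z, Ψ ((z : T)⁻¹) * Ψ ((⇑σ)^[M - i] (z : T))) • (S ^ i) w = 0 := by
    simp only [Finset.sum_smul]
    rw [Finset.sum_comm]
    refine Finset.sum_eq_zero fun z _ => ?_
    simp only [mul_smul, ← Finset.smul_sum]
    rw [hsum z z.2, smul_zero]
  rw [Finset.sum_eq_single_of_mem 0 (Finset.mem_range.2 hB0) ?_] at htot
  · have h1 : ∀ z : Z, Ψ ((z : T)⁻¹) * Ψ ((⇑σ)^[M - 0] (z : T)) = 1 := fun z => by
      rw [Nat.sub_zero, hσp, ← hΨmul _ (Z.inv_mem z.2) _ z.2, inv_mul_cancel, hΨ1]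
    simp only [h1, Finset.sum_const, nsmul_eq_mul, mul_one, pow_zero, Module.End.one_apply,
      Finset.card_univ] at htot
    refine (smul_eq_zero.1 htot).resolve_left ?_
    rwa [← Nat.card_eq_fintype_card]
  intro i hi hi0
  rw [Finset.mem_range] at hi
  let χ' : Z →* K :=
    { toFun := fun z => Ψ ((z : T)⁻¹) * Ψ ((⇑σ)^[M - i] (z : T))
      map_one' := by simp [iterate_map_one, hΨ1]
      map_mul' := fun a b => by
        simp only [Subgroup.coe_mul, mul_inv_rev, hhom]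
        rw [hΨmul _ (Z.inv_mem b.2) _ (Z.inv_mem a.2), hΨmul _ (hZk _ _ a.2) _ (hZk _ _ b.2)]
        ring }
  have hχ' : χ' ≠ 1 := by
    intro h1
    have hperMi : per (M - i) := by
      intro z hz
      have h2 : Ψ (z⁻¹) * Ψ ((⇑σ)^[M - i] z) = 1 := DFunLike.congr_fun h1 ⟨z, hz⟩
      calc Ψ ((⇑σ)^[M - i] z) = (Ψ z * Ψ z⁻¹) * Ψ ((⇑σ)^[M - i] z) := by
            rw [← hΨmul _ hz _ (Z.inv_mem hz), mul_inv_cancel, hΨ1, one_mul]
        _ = Ψ z := by rw [mul_assoc, h2, mul_one]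
    have hperi : per i := by
      intro z hz
      have h2 := hperMi _ (hZk i z hz)
      rw [← Function.iterate_add_apply, Nat.sub_add_cancel (hi.le.trans hBM'), hσp] at h2
      exact h2.symm
    have hgcd : ∀ a b, per a → per b → per (Nat.gcd a b) := by
      intro a b
      induction a, b using Nat.gcd.induction with
      | H0 b => intro _ hb; simpa using hb
      | H1 a b _ ih =>
        intro ha hb
        rw [Nat.gcd_rec]
        refine ih ?_ ha
        intro z hz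
        have hq' : ∀ t z, z ∈ Z → Ψ ((⇑σ)^[a * t] z) = Ψ z := by
          intro t
          induction t with
          | zero => intro z _; simp
          | succ t iht =>
            intro z hz
            rw [Nat.mul_succ, Function.iterate_add_apply, iht _ (hZk _ z hz), ha z hz]
        have h3 := hq' (b / a) _ (hZk (b % a) z hz)
        rw [← Function.iterate_add_apply, Nat.add_comm, Nat.mod_add_div, hb z hz] at h3
        exact h3.symm
    obtain ⟨a, -, hga⟩ := (Nat.dvd_prime_pow hp).1 (Nat.gcd_dvd_right i B)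
    have h4 := hgcd i B hperi hj
    rw [hga] at h4
    have h5 : j ≤ a := Nat.find_min' hexper h4
    have h6 : Nat.gcd i B ≤ i := Nat.le_of_dvd (Nat.pos_of_ne_zero hi0) (Nat.gcd_dvd_left i B)
    have h7 : B ≤ p ^ a := Nat.pow_le_pow_right hp.pos h5
    omega
  rw [show ∑ z : Z, Ψ ((z : T)⁻¹) * Ψ ((⇑σ)^[M - i] (z : T)) = 0 from
    sum_hom_units_eq_zero χ' hχ', zero_smul]

end Cfsg.Agent.FGS73
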