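import Mathlib

/-!
Minimal abelian normal subgroups invariant under a family of endomorphisms, quotients by
invariant normal subgroups, fixed-point-free endomorphisms.
-/

namespace Cfsg.Agent.FGS73

open Subgroup
open scoped commutatorElement

variable {G : Type*} [Group G]

/-- nontrivial abelian normal subgroup invariant under `T` -/
structure IsAbInv (T : Set (G →* G)) (V : Subgroup G) : Prop where
  normal : V.Normal
  comm : ∀ x ∈ V, ∀ y ∈ V, x * y = y * x
  ne_bot : V ≠ ⊥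
  inv : ∀ s ∈ T, ∀ x ∈ V, s x ∈ V

theorem derivedSeries_invariant (s : G →* G) (n : ℕ) :
    (derivedSeries G n).map s ≤ derivedSeries G n := by
  induction n with
  | zero => simp
  | succ n ih =>
    rw [derivedSeries_succ, map_commutator]
    exact commutator_mono ih ih

theorem exists_isAbInv [Finite G] [Nontrivial G] (hG : Group.IsSolvable G) (T : Set (G →* G)) :
    ∃ V : Subgroup G, IsAbInv T V := by
  classical
  have hex : ∃ n, derivedSeries G n = ⊥ := hG.solvable
  have hn0 : Nat.find hex ≠ 0 := by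
    intro h
    have := Nat.find_spec hex
    rw [h, derivedSeries_zero] at this
    exact top_ne_bot this
  obtain ⟨k, hk⟩ := Nat.exists_eq_succ_of_ne_zero hn0
  refine ⟨derivedSeries G k, inferInstance, ?_, Nat.find_min hex (by omega), fun s _ x hx => derivedSeries_invariant s k ⟨x, hx, rfl⟩⟩
  intro x hx y hy
  have h1 : ⁅derivedSeries G k, derivedSeries G k⁆ = ⊥ := by
    rw [← derivedSeries_succ, ← Nat.succ_eq_add_one, ← hk]
    exact Nat.find_spec hex
  have h2 : ⁅x, y⁆ = 1 := mem_bot.1 (h1 ▸ commutator_mem_commutator hx hy)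
  exact commutatorElement_eq_one_iff_mul_comm.1 h2

/-- A minimal invariant abelian normal subgroup has prime exponent. -/
theorem exists_minimal_isAbInv [Finite G] [Nontrivial G] (hG : Group.IsSolvable G)
    (T : Set (G →* G)) :
    ∃ (V : Subgroup G) (r : ℕ), r.Prime ∧ IsAbInv T V ∧ (∀ x ∈ V, x ^ r = 1) ∧
      ∀ U ≤ V, U.Normal → (∀ s ∈ T, ∀ x ∈ U, s x ∈ U) → U = ⊥ ∨ U = V := by
  obtain ⟨V0, hV0⟩ := exists_isAbInv hG T
  obtain ⟨V, -, hV⟩ := Finite.exists_le_minimal (p := IsAbInv T) (a := V0) hV0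
  have hmin : ∀ U ≤ V, U.Normal → (∀ s ∈ T, ∀ x ∈ U, s x ∈ U) → U = ⊥ ∨ U = V := by
    intro U hU hUn hUi
    refine or_iff_not_imp_left.2 fun h => le_antisymm hU (hV.2 ⟨hUn, ?_, h, hUi⟩ hU)
    exact fun x hx y hy => hV.prop.comm x (hU hx) y (hU hy)
  obtain ⟨r, hr, hrd⟩ := Nat.exists_prime_and_dvd (n := Nat.card V)
    (fun h => hV.prop.ne_bot (Subgroup.eq_bot_of_card_eq V h))
  refine ⟨V, r, hr, hV.prop, ?_, hmin⟩
  let U : Subgroup G :=
    { carrier := {x | x ∈ V ∧ x ^ r = 1}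
      one_mem' := ⟨one_mem _, one_pow _⟩
      mul_mem' := fun {a b} ha hb =>
        ⟨mul_mem ha.1 hb.1, by
          rw [(show Commute a b from hV.prop.comm a ha.1 b hb.1).mul_pow, ha.2, hb.2, one_mul]⟩
      inv_mem' := fun {a} ha => ⟨inv_mem ha.1, by rw [inv_pow, ha.2, inv_one]⟩ }
  have hUn : U.Normal :=
    ⟨fun x hx g => ⟨hV.prop.normal.conj_mem x hx.1 g, by rw [conj_pow, hx.2]; group⟩⟩
  have hUi : ∀ s ∈ T, ∀ x ∈ U, s x ∈ U := fun s hs x hx =>
    ⟨hV.prop.inv s hs x hx.1, by rw [← map_pow, hx.2, map_one]⟩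
  rcases hmin U (fun x hx => hx.1) hUn hUi with h | h
  · exfalso
    haveI := Fact.mk hr
    obtain ⟨x, hx⟩ := exists_prime_orderOf_dvd_card' r hrd
    have h1 : (x : G) ∈ U := ⟨x.2, by rw [← SubmonoidClass.coe_pow, ← hx, pow_orderOf_eq_one]; rfl⟩
    rw [h, mem_bot] at h1
    rw [← Subgroup.orderOf_coe, h1, orderOf_one] at hx
    exact hr.ne_one hx.symm
  · intro x hx
    rw [← h] at hx
    exact hx.2

/-- The endomorphism induced on a quotient. -/
def quotEnd (N : Subgroup G) [N.Normal] (s : G →* G) (h : ∀ x ∈ N, s x ∈ N) : G ⧸ N →* G ⧸ N :=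
  QuotientGroup.map N N s h

@[simp] theorem quotEnd_mk (N : Subgroup G) [N.Normal] (s : G →* G) (h : ∀ x ∈ N, s x ∈ N) (g : G) :
    quotEnd N s h (QuotientGroup.mk' N g) = QuotientGroup.mk' N (s g) := rfl

theorem surjective_inv_mul [Finite G] (s : G →* G) (hs : ∀ g, s g = g → g = 1) :
    Function.Surjective fun g => g⁻¹ * s g := by
  refine Finite.surjective_of_injective fun x y h => ?_
  have h' : x⁻¹ * s x = y⁻¹ * s y := h
  have h1 : s (x * y⁻¹) = x * y⁻¹ := by
    rw [map_mul, map_inv, mul_inv_eq_iff_eq_mul]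
    calc s x = x * (x⁻¹ * s x) := by group
      _ = x * y⁻¹ * s y := by rw [h']; group
  exact mul_inv_eq_one.1 (hs _ h1)

theorem bijective_inv_mul [Finite G] (s : G →* G) (hs : ∀ g, s g = g → g = 1) :
    Function.Bijective fun g => g⁻¹ * s g :=
  Finite.surjective_iff_bijective.1 (surjective_inv_mul s hs)

theorem restrict_fpf (s : G →* G) (hs : ∀ g, s g = g → g = 1) (N : Subgroup G)
    (h : ∀ x ∈ N, s x ∈ N) :
    ∀ x : N, ((s.comp N.subtype).codRestrict N fun x => h x x.2) x = x → x = 1 := fun x hx =>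
  Subtype.ext (hs x (congrArg Subtype.val hx))

theorem quotEnd_fpf [Finite G] (N : Subgroup G) [N.Normal] (s : G →* G)
    (h : ∀ x ∈ N, s x ∈ N) (hs : ∀ g, s g = g → g = 1) :
    ∀ x, quotEnd N s h x = x → x = 1 := by
  intro x hx
  obtain ⟨g, rfl⟩ := QuotientGroup.mk'_surjective N x
  rw [quotEnd_mk] at hx
  have h1 : g⁻¹ * s g ∈ N := QuotientGroup.eq.1 hx.symm
  let t : N →* N := (s.comp N.subtype).codRestrict N fun x => h x x.2
  obtain ⟨m, hm⟩ := surjective_inv_mul t (restrict_fpf s hs N h) ⟨g⁻¹ * s g, h1⟩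
  have hm' : (m : G)⁻¹ * s m = g⁻¹ * s g := congrArg Subtype.val hm
  have h2 : s (g * (m : G)⁻¹) = g * (m : G)⁻¹ := by
    have h3 : s g = g * ((m : G)⁻¹ * s m) := by rw [hm']; group
    rw [map_mul, map_inv, h3]; group
  have h4 := mul_inv_eq_one.1 (hs _ h2)
  rw [QuotientGroup.mk'_apply, QuotientGroup.eq_one_iff, h4]
  exact m.2

theorem isSolvable_quotient (hG : Group.IsSolvable G) (N : Subgroup G) [N.Normal] :
    Group.IsSolvable (G ⧸ N) :=
  Group.isSolvable_of_surjective (QuotientGroup.mk'_surjective N)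

theorem card_quotient_lt [Finite G] (N : Subgroup G) [N.Normal] (hN : N ≠ ⊥) :
    Nat.card (G ⧸ N) < Nat.card G := by
  have h1 := Subgroup.card_eq_card_quotient_mul_card_subgroup N
  have h2 : 1 < Nat.card N := (Subgroup.one_lt_card_iff_ne_bot N).2 hN
  have h3 : 0 < Nat.card (G ⧸ N) := Nat.card_pos
  nlinarith

theorem isPGroup_of_exponent {r : ℕ} (V : Subgroup G) (h : ∀ x ∈ V, x ^ r = 1) :
    IsPGroup r V := fun x => ⟨1, Subtype.ext (by simpa using h x x.2)⟩

end Cfsg.Agent.FGS73
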