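import Cfsg.Agent.FGS73.HHBCore
import Cfsg.Agent.FGS73.QuadPair

/-!
In the exceptional case of Theorem B for odd `p` the `p ^ n`-th powers of a `p`-group commute on a
critical subgroup.
-/

namespace Cfsg.Agent.FGS73

open Subgroup
open scoped commutatorElement

variable {T : Type*} [Group T] [Finite T] {P : Type*} [Group P] [Finite P]
  {K U : Type*} [Field K] [IsAlgClosed K] [AddCommGroup U] [Module K U] [FiniteDimensional K U]

/-- For odd `p`: commutators of `p ^ n`-th powers act trivially on `T`. -/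
theorem omega_trivial {p q n : ℕ} [Fact p.Prime] [Fact q.Prime] [CharP K p] (hp2 : p ≠ 2)
    (hqp : q ≠ p) (hP : IsPGroup p P) (φ : P →* MulAut T) (hTq : IsPGroup q T)
    (hcomm : ∀ a b : T, ⁅a, b⁆ ∈ center T) (hpow : ∀ t : T, t ^ q ∈ center T)
    (ρ : T →* Module.End K U) (hρ : Function.Injective ρ) (σU : P →* Module.End K U)
    (hcompat : ∀ g t w, σU g (ρ t w) = ρ (φ g t) (σU g w))
    (hexp : ∀ g : P, g ^ p ^ (n + 1) = 1)
    (hnil : ∀ g : P, (σU g - 1) ^ (p ^ (n + 1) - 1) = 0) (x x' : P) (t : T) :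
    φ ⁅x ^ p ^ n, x' ^ p ^ n⁆ t = t := by
  classical
  cases nonempty_fintype T
  have hp : p.Prime := Fact.out
  have hTK : (Nat.card T : K) ≠ 0 := by
    rw [Ne, CharP.cast_eq_zero_iff K p]
    intro hd
    obtain ⟨l, hl⟩ := IsPGroup.iff_card.1 hTq
    rw [hl] at hd
    exact hqp.symm ((Nat.prime_dvd_prime_iff_eq hp Fact.out).1 (hp.dvd_of_dvd_pow hd))
  -- the map induced by an element of `P`
  have hit : ∀ (g : P) (k : ℕ) (a : T), (⇑(φ g).toMonoidHom)^[k] a = φ (g ^ k) a := by
    intro g k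
    induction k with
    | zero => intro a; simp
    | succ k ih =>
      intro a
      rw [Function.iterate_succ_apply', ih, pow_succ', map_mul]
      rfl
  have hper : ∀ (g : P) (a : T), (⇑(φ g).toMonoidHom)^[p ^ (n + 1)] a = a := fun g a => by
    rw [hit, hexp, map_one]; rfl
  have hSp : ∀ g : P, σU g ^ p ^ (n + 1) = 1 := fun g => by rw [← map_pow, hexp, map_one]
  have hlt : p ^ (n + 1) - 1 < p ^ (n + 1) := Nat.sub_lt (pow_pos hp.pos _) one_pos
  have hcen : ∀ (g : P), ∀ z ∈ center T, φ g z ∈ center T := fun g z hz => by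
    rw [mem_center_iff] at hz ⊢
    intro a
    obtain ⟨a, rfl⟩ := (φ g).surjective a
    rw [← map_mul, ← map_mul, hz]
  -- `p ^ n`-th powers fix the centre
  have hfix : ∀ (g : P), ∀ z ∈ center T, φ (g ^ p ^ n) z = z := by
    intro g z hz
    let Z := center T
    let σZ : Z →* Z := ((φ g).toMonoidHom.comp Z.subtype).codRestrict Z fun w => hcen g w w.2
    have hval : ∀ (k : ℕ) (w : Z), (((⇑σZ)^[k] w : Z) : T) = φ (g ^ k) w := by
      intro k w
      rw [← hit]
      induction k with
      | zero => rfl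
      | succ k ih => rw [Function.iterate_succ_apply', Function.iterate_succ_apply', ← ih]; rfl
    have key := end_abelian_norm (ρ.comp Z.subtype)
      (fun a b => by rw [← map_mul, ← map_mul]; congr 1; exact Subtype.ext (mem_center_iff.1 b.2 a))
      σZ (σU g) hp (n := n) (fun e => Subtype.ext (by rw [hval, hexp, map_one]; rfl))
      (norm_of_sub_one_pow _ (hnil g) hlt) (fun e w => hcompat g (e : T) w)
      (fun h0 => hTK (by
        obtain ⟨b, hb⟩ := card_subgroup_dvd_card Z
        rw [hb, Nat.cast_mul, h0, zero_mul])) ⟨z, hz⟩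
    have h2 : ρ ((((⟨z, hz⟩ : Z)⁻¹ * (⇑σZ)^[p ^ n] ⟨z, hz⟩ : Z)) : T) = ρ 1 := by
      rw [map_one]; exact key
    have h3 := hρ h2
    rw [Subgroup.coe_mul, Subgroup.coe_inv, hval, inv_mul_eq_one] at h3
    exact h3.symm
  set τ := x ^ p ^ n
  set τ' := x' ^ p ^ n
  set c := ⁅τ, τ'⁆ with hc
  have hcfix : ∀ z ∈ center T, φ c z = z := by
    have hinv : ∀ g : P, (∀ z ∈ center T, φ g z = z) → ∀ z ∈ center T, φ g⁻¹ z = z := by
      intro g hg z hz
      nth_rw 1 [← hg z hz]
      rw [← MulAut.mul_apply, ← map_mul, inv_mul_cancel, map_one, MulAut.one_apply]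
    intro z hz
    rw [hc, commutatorElement_def, map_mul, map_mul, map_mul, MulAut.mul_apply, MulAut.mul_apply,
      MulAut.mul_apply, hinv τ' (hfix x') z hz, hinv τ (hfix x) z hz, hfix x' z hz, hfix x z hz]
  -- `c` is trivial modulo the centre
  set d := t⁻¹ * φ c t with hd
  suffices hdc : d ∈ center T by
    have hpowc : ∀ k : ℕ, φ (c ^ k) t = t * d ^ k := by
      intro k
      induction k with
      | zero => simp
      | succ k ih =>
        rw [pow_succ', map_mul, MulAut.mul_apply, ih, map_mul, map_pow, hcfix d hdc,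
          show φ c t = t * d by rw [hd]; group, mul_assoc, ← pow_succ']
    have h1 := hpowc (p ^ (n + 1))
    rw [hexp, map_one, MulAut.one_apply, left_eq_mul] at h1
    obtain ⟨l, hl⟩ := hTq d
    have h2 := Nat.dvd_gcd (orderOf_dvd_of_pow_eq_one h1) (orderOf_dvd_of_pow_eq_one hl)
    rw [Nat.Coprime.gcd_eq_one (Nat.Coprime.pow _ _
      ((Nat.coprime_primes hp Fact.out).2 hqp.symm)), Nat.dvd_one, orderOf_eq_one_iff, hd,
      inv_mul_eq_one] at h2
    exact h2.symm
  by_contra hdc
  obtain ⟨x₀, hx₀⟩ : ∃ x₀ : T, ⁅x₀, d⁆ ≠ 1 := by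
    by_contra h
    push Not at h
    exact hdc (mem_center_iff.2 fun g => commutatorElement_eq_one_iff_mul_comm.1 (h g))
  set c₀ := ⁅x₀, d⁆ with hc₀
  -- a weight nontrivial on `c₀`
  let L₀ : Submodule K U := LinearMap.range (ρ c₀ - 1)
  have hL₀ : L₀ ≠ ⊥ := by
    intro h
    apply hx₀
    apply hρ
    rw [map_one, ← sub_eq_zero, ← LinearMap.range_eq_bot]
    exact h
  haveI : Fintype (center T) := Fintype.ofFinite _
  obtain ⟨χ, v₀, hv₀L, hv₀, hχ⟩ := common_eigen (fun z : center T => ρ (z : T))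
    (fun a b => by rw [← map_mul, ← map_mul, mem_center_iff.1 b.2 (a : T)]) L₀ hL₀ (by
      rintro z _ ⟨u, rfl⟩
      refine ⟨ρ (z : T) u, ?_⟩
      simp only [LinearMap.sub_apply, Module.End.one_apply, map_sub, ← Module.End.mul_apply (f := ρ _),
        ← map_mul, mem_center_iff.1 z.2 c₀])
  let ψ : T → K := fun z => if hz : z ∈ center T then χ ⟨z, hz⟩ else 0
  have hψv : ∀ z ∈ center T, ρ z v₀ = ψ z • v₀ := fun z hz => by
    rw [show ψ z = χ ⟨z, hz⟩ from dif_pos hz]; exact hχ ⟨z, hz⟩
  have heig : ∀ a b : K, a • v₀ = b • v₀ → a = b := fun a b h => smul_left_injective K hv₀ h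
  have hψmul : ∀ a ∈ center T, ∀ b ∈ center T, ψ (a * b) = ψ a * ψ b := by
    intro a ha b hb
    apply heig
    rw [← hψv _ (mul_mem ha hb), map_mul, Module.End.mul_apply, hψv b hb, map_smul, hψv a ha,
      smul_smul, mul_comm]
  have hψ1 : ψ 1 = 1 := heig _ _ (by rw [← hψv 1 (one_mem _), map_one, one_smul]; rfl)
  have hψc : ψ c₀ ≠ 1 := by
    intro h1
    obtain ⟨u, hu⟩ := hv₀L
    have hfix0 : ρ c₀ v₀ = v₀ := by rw [hψv c₀ (hcomm _ _), h1, one_smul]
    have h2 : (∑ i ∈ Finset.range (orderOf c₀), ρ c₀ ^ i) v₀ = 0 := by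
      rw [← hu, ← Module.End.mul_apply, geom_sum_mul, ← map_pow, pow_orderOf_eq_one, map_one,
        sub_self]
      rfl
    have h3 : ∀ i, (ρ c₀ ^ i) v₀ = v₀ := by
      intro i
      induction i with
      | zero => rfl
      | succ i ih => rw [pow_succ', Module.End.mul_apply, ih, hfix0]
    rw [LinearMap.sum_apply, Finset.sum_congr rfl (fun i _ => h3 i), Finset.sum_const,
      Finset.card_range, ← Nat.cast_smul_eq_nsmul K] at h2
    refine hv₀ ((smul_eq_zero.1 h2).resolve_left fun h0 => hTK ?_)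
    obtain ⟨b, hb⟩ := orderOf_dvd_natCard c₀
    rw [hb, Nat.cast_mul, h0, zero_mul]
  have hbr : ∀ a b t : T, ψ ⁅t, a * b⁆ = ψ ⁅t, a⁆ * ψ ⁅t, b⁆ := by
    intro a b t
    have e : ⁅t, a * b⁆ = ⁅t, a⁆ * ⁅t, b⁆ := by
      rw [show ⁅t, a * b⁆ = ⁅t, a⁆ * (a * ⁅t, b⁆ * a⁻¹) by
        simp [commutatorElement_def, mul_assoc], mem_center_iff.1 (hcomm t b) a,
        mul_inv_cancel_right]
    rw [e, hψmul _ (hcomm _ _) _ (hcomm _ _)]
  let R : Subgroup T :=
    { carrier := {a | ∀ t : T, ψ ⁅t, a⁆ = 1}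
      one_mem' := fun t => by simp [hψ1]
      mul_mem' := fun {a b} ha hb t => by rw [hbr, ha t, hb t, one_mul]
      inv_mem' := fun {a} ha t => by
        have h := hbr a a⁻¹ t
        rw [mul_inv_cancel, ha t, one_mul, commutatorElement_one_right, hψ1] at h
        exact h.symm }
  have hdR : d ∉ R := fun h => hψc (h x₀)
  have hZR : center T ≤ R := fun z hz t => by
    rw [show ⁅t, z⁆ = 1 from commutatorElement_eq_one_iff_mul_comm.2 (mem_center_iff.1 hz t), hψ1]
  haveI hRn : R.Normal := ⟨fun a ha g => by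
    rw [show g * a * g⁻¹ = ⁅g, a⁆ * a by simp [commutatorElement_def, mul_assoc]]
    exact R.mul_mem (hZR (hcomm _ _)) ha⟩
  letI : CommGroup (T ⧸ R) :=
    { (inferInstance : Group (T ⧸ R)) with
      mul_comm := fun a b => by
        induction a using QuotientGroup.induction_on with
        | H a =>
          induction b using QuotientGroup.induction_on with
          | H b =>
            rw [← QuotientGroup.mk_mul, ← QuotientGroup.mk_mul, QuotientGroup.eq]
            rw [show (a * b)⁻¹ * (b * a) = ⁅b⁻¹, a⁻¹⁆ by simp [commutatorElement_def, mul_assoc]]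
            exact hZR (hcomm _ _) }
  haveI : Module (ZMod q) (Additive (T ⧸ R)) := AddCommGroup.zmodModule fun w => by
    obtain ⟨a, ha⟩ := QuotientGroup.mk_surjective w.toMul
    change Additive.ofMul (w.toMul ^ q) = 0
    rw [← ha, ← QuotientGroup.mk_pow, (QuotientGroup.eq_one_iff _).2 (hZR (hpow a))]
    rfl
  haveI : Module.Finite (ZMod q) (Additive (T ⧸ R)) := Module.Finite.of_finite
  let cls : T → Additive (T ⧸ R) := fun a => Additive.ofMul (QuotientGroup.mk a)
  have hcls0 : ∀ {a : T}, cls a = 0 ↔ a ∈ R := fun {a} => QuotientGroup.eq_one_iff a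
  have hclsdiv : ∀ a b : T, cls (a⁻¹ * b) = cls b - cls a := fun a b => by
    change Additive.ofMul ((QuotientGroup.mk a : T ⧸ R)⁻¹ * QuotientGroup.mk b) = _
    rw [mul_comm, ← div_eq_mul_inv]; rfl
  -- the stabiliser of the weight
  let G : Subgroup P :=
    { carrier := {g | ∀ z ∈ center T, ψ (φ g z) = ψ z}
      one_mem' := fun z _ => by simp
      mul_mem' := fun {a b} ha hb z hz => by
        rw [map_mul, MulAut.mul_apply, ha _ (hcen b z hz), hb z hz]
      inv_mem' := fun {a} ha z hz => by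
        have := ha _ (hcen a⁻¹ z hz)
        rw [← MulAut.mul_apply, ← map_mul, mul_inv_cancel, map_one, MulAut.one_apply] at this
        exact this.symm }
  have hRinv : ∀ g ∈ G, ∀ a ∈ R, φ g a ∈ R := by
    intro g hg a ha s
    obtain ⟨s, rfl⟩ := (φ g).surjective s
    rw [← map_commutatorElement, hg _ (hcomm s a)]
    exact ha s
  let f : G →* Module.End (ZMod q) (Additive (T ⧸ R)) :=
    { toFun := fun g => AddMonoidHom.toZModLinearMap q (MonoidHom.toAdditive
        (QuotientGroup.map R R (φ (g : P)).toMonoidHom (fun a ha => hRinv g g.2 a ha)))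
      map_one' := LinearMap.ext fun w => by
        obtain ⟨a, ha⟩ := QuotientGroup.mk_surjective w.toMul
        obtain rfl : w = cls a := by rw [show cls a = Additive.ofMul w.toMul from by rw [← ha]]; rfl
        change cls (φ ((1 : G) : P) a) = cls a
        simp
      map_mul' := fun g g' => LinearMap.ext fun w => by
        obtain ⟨a, ha⟩ := QuotientGroup.mk_surjective w.toMul
        obtain rfl : w = cls a := by rw [show cls a = Additive.ofMul w.toMul from by rw [← ha]]; rfl
        change cls (φ ((g * g' : G) : P) a) = cls (φ (g : P) (φ (g' : P) a))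
        rw [Subgroup.coe_mul, map_mul, MulAut.mul_apply] }
  have hclssurj : Function.Surjective cls := fun w => by
    obtain ⟨a, ha⟩ := QuotientGroup.mk_surjective w.toMul
    exact ⟨a, congrArg Additive.ofMul ha⟩
  have hfcls : ∀ (g : G) (a : T), f g (cls a) = cls (φ (g : P) a) := fun g a => rfl
  have hτG : ∀ g : P, g ^ p ^ n ∈ G := fun g z hz => by rw [hfix g z hz]
  -- each element gives a Singer-like pair
  have hsing : ∀ g : P, ∃ j ≤ n, ∃ hμ : g ^ p ^ j ∈ G,
      IsSingerLike p (f ⟨g ^ p ^ j, hμ⟩) (f (⟨g ^ p ^ j, hμ⟩ ^ p ^ (n - j))) := by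
    intro g
    let L : Submodule K U :=
      { carrier := {w | ∀ z ∈ center T, ρ z w = ψ z • w}
        zero_mem' := fun z _ => by simp
        add_mem' := fun {a b} ha hb z hz => by rw [map_add, ha z hz, hb z hz, smul_add]
        smul_mem' := fun s {a} ha z hz => by rw [map_smul, ha z hz, smul_comm] }
    obtain ⟨ψ', ⟨v, hvL, hv, hψ'v⟩, -, -, -, hR⟩ := hhb_core_weight (φ g).toMonoidHom (hper g) ρ
      (σU g) (hSp g) (hnil g) hlt (hcompat g) hTK hcomm L
      (fun h => hv₀ (by
        have : v₀ ∈ L := hψv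
        rwa [h, Submodule.mem_bot] at this))
      (fun z hz w hw y hy => by rw [hw z hz, map_smul, hw y hy, smul_comm])
    have hψeq : ∀ z ∈ center T, ψ' z = ψ z := fun z hz =>
      smul_left_injective K hv ((hψ'v z hz).symm.trans (hvL z hz))
    rcases hR R (fun a => forall_congr' fun s => by rw [hψeq _ (hcomm s a)]) with h | ⟨j, hj⟩
    · refine ⟨n, le_rfl, hτG g, ?_⟩
      have h1 : f ⟨g ^ p ^ n, hτG g⟩ = 1 := LinearMap.ext fun w => by
        obtain ⟨a, rfl⟩ := hclssurj w
        rw [Module.End.one_apply, hfcls, ← sub_eq_zero, ← hclsdiv, hcls0, ← hit]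
        exact h a
      rw [Nat.sub_self, pow_zero, pow_one, h1]
      exact ⟨rfl, one_pow _, le_rfl, fun W hW _ => Or.inl (by simpa using hW)⟩
    set B := p ^ j with hB
    have hμ : g ^ B ∈ G := by
      intro z hz
      rw [← hψeq _ (hcen _ z hz), ← hit, hj.weight z hz, hψeq z hz]
    set N := p ^ (n + 1 - j) with hN
    have hBN : B * N = p ^ (n + 1) := by
      rw [hB, hN, ← pow_add]; congr 1; have := hj.le; omega
    have hBn : B * p ^ (n - j) = p ^ n := by
      rw [hB, ← pow_add]; congr 1; have := hj.le; omega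
    refine ⟨j, hj.le, hμ, ?_⟩
    set μ : G := ⟨g ^ B, hμ⟩
    have hμτ : ((μ ^ p ^ (n - j) : G) : P) = g ^ p ^ n := by
      rw [SubmonoidClass.coe_pow, ← pow_mul, hBn]
    set E := closure (Set.range fun a => a⁻¹ * (⇑(φ g).toMonoidHom)^[p ^ n] a) with hE
    let Tm := f (μ ^ p ^ (n - j))
    have hTm : ∀ a, (Tm - 1) (cls a) = cls (a⁻¹ * (⇑(φ g).toMonoidHom)^[p ^ n] a) := fun a => by
      rw [LinearMap.sub_apply, Module.End.one_apply, hfcls, hclsdiv, hμτ, hit]
    have hrE : ∀ w, w ∈ LinearMap.range (Tm - 1) ↔ ∃ e ∈ E, w = cls e := by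
      intro w
      constructor
      · rintro ⟨u, rfl⟩
        obtain ⟨a, rfl⟩ := hclssurj u
        exact ⟨_, subset_closure ⟨a, rfl⟩, hTm a⟩
      · rintro ⟨e, he, rfl⟩
        induction he using Subgroup.closure_induction with
        | mem y hy =>
          obtain ⟨a, rfl⟩ := hy
          exact ⟨cls a, hTm a⟩
        | one => exact Submodule.zero_mem _
        | mul y z _ _ hy hz => exact Submodule.add_mem _ hy hz
        | inv y _ hy => exact Submodule.neg_mem _ hy
    have hEinv : ∀ e ∈ E, φ (g ^ B) e ∈ E := fun e he => by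
      rw [← hit]; exact hj.inv e he
    refine ⟨?_, ?_, ?_, ?_⟩
    · rw [← map_mul, ← map_mul, ← pow_succ', ← pow_succ]
    · rw [← map_pow, ← map_one f]
      congr 1
      apply Subtype.ext
      rw [SubmonoidClass.coe_pow, hμτ, ← pow_mul, ← pow_succ, hexp]
      rfl
    · rintro _ ⟨u, rfl⟩
      obtain ⟨a, rfl⟩ := hclssurj u
      rw [LinearMap.sub_apply, Module.End.one_apply, hfcls]
      let τT : T →* T := (φ (g ^ p ^ n)).toMonoidHom
      have hτTp : ∀ y, (⇑τT)^[p] y = y := fun y => by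
        change (⇑(φ (g ^ p ^ n)).toMonoidHom)^[p] y = y
        rw [hit, ← pow_mul, ← pow_succ, hexp, map_one]; rfl
      have hTp : ¬ p ∣ Nat.card T := fun hdv => hTK ((CharP.cast_eq_zero_iff K p _).2 hdv)
      have hτE : ∀ e ∈ E, τT e ∈ E := by
        intro e he
        have h1 : E ≤ E.comap τT := by
          rw [hE, closure_le]
          rintro _ ⟨b, rfl⟩
          refine subset_closure ⟨τT b, ?_⟩
          change (τT b)⁻¹ * (⇑(φ g).toMonoidHom)^[p ^ n] (τT b) =
            τT (b⁻¹ * (⇑(φ g).toMonoidHom)^[p ^ n] b)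
          rw [hit, hit, map_mul, map_inv]
          rfl
        exact h1 he
      obtain ⟨y, hy, hay⟩ := exists_fixed_mul_prime τT hτTp hTp E hτE a
        (by
          change a⁻¹ * φ (g ^ p ^ n) a ∈ E
          rw [← hit]; exact subset_closure ⟨a, rfl⟩)
      have h1 : cls (φ (g ^ B) y) = cls y := by
        rw [← sub_eq_zero, ← hclsdiv, hcls0, ← hit]
        exact hj.fix_mem y (by rw [hit]; exact hy)
      set e := a⁻¹ * y
      refine (hrE _).2 ⟨(φ (g ^ B) e)⁻¹ * e, E.mul_mem (inv_mem (hEinv e hay)) hay, ?_⟩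
      rw [hclsdiv, show cls e = cls y - cls a from hclsdiv a y,
        show φ (g ^ B) e = (φ (g ^ B) a)⁻¹ * φ (g ^ B) y by rw [map_mul, map_inv],
        hclsdiv, h1]
      change cls (φ (g ^ B) a) - cls a = _
      abel
    · intro W hWle hWinv
      let W' : Subgroup T :=
        { carrier := {e | e ∈ E ∧ cls e ∈ W}
          one_mem' := ⟨one_mem _, W.zero_mem⟩
          mul_mem' := fun {a b} ha hb => ⟨E.mul_mem ha.1 hb.1, W.add_mem ha.2 hb.2⟩
          inv_mem' := fun {a} ha => ⟨E.inv_mem ha.1, W.neg_mem ha.2⟩ }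
      have hW'inv : ∀ e ∈ W', φ (g ^ B) e ∈ W' := fun e he => ⟨hEinv e he.1, hWinv _ he.2⟩
      let σW : W' →* W' :=
        ((φ (g ^ B)).toMonoidHom.comp W'.subtype).codRestrict W' fun e => hW'inv e e.2
      have hσW : ∀ i (e : W'), (((⇑σW)^[i] e : W') : T) = φ (g ^ (B * i)) e := by
        intro i
        induction i with
        | zero => intro e; simp
        | succ i ih =>
          intro e
          rw [Function.iterate_succ_apply']
          change φ (g ^ B) (((⇑σW)^[i] e : W') : T) = _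
          rw [ih, ← MulAut.mul_apply, ← map_mul, ← pow_add, Nat.mul_succ, Nat.add_comm]
      haveI : NeZero N := ⟨(pow_pos hp.pos _).ne'⟩
      have hdvd : N ∣ (R.subgroupOf W').index - 1 :=
        orbit_count σW (R.subgroupOf W') (fun z hz => hRinv (g ^ B) hμ _ hz)
          (fun e => Subtype.ext (by rw [hσW, hBN, hexp, map_one]; rfl))
          (fun v i hi hiN hv => by
            rw [mem_subgroupOf, Subgroup.coe_mul, Subgroup.coe_inv, hσW, ← hit] at hv
            exact hj.free (v : T) v.2.1 i hi hiN hv)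
      have hWE : W' ≤ E := fun e he => he.1
      have hRE : R ⊓ E ≤ W' := fun e he => ⟨he.2, by rw [hcls0.2 he.1]; exact W.zero_mem⟩
      have hprod : (R.subgroupOf W').index * W'.relIndex E = (N - 1) ^ 2 := by
        rw [← hj.index_eq]
        change R.relIndex W' * W'.relIndex E = R.relIndex E
        rw [← inf_relIndex_right R W', ← inf_relIndex_right R E,
          show R ⊓ W' = R ⊓ E from le_antisymm (inf_le_inf_left R hWE) (le_inf inf_le_left hRE)]
        exact Subgroup.relIndex_mul_relIndex _ _ _ hRE hWE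
      set a := (R.subgroupOf W').index with ha
      set b := W'.relIndex E with hb
      have ha0 : 1 ≤ a := Nat.pos_of_ne_zero Subgroup.index_ne_zero_of_finite
      by_cases ha1 : a = 1
      · left
        rw [eq_bot_iff]
        intro w hw
        obtain ⟨e, he, rfl⟩ := (hrE w).1 (hWle hw)
        have hle : W' ≤ R := Subgroup.subgroupOf_eq_top.1 (Subgroup.index_eq_one.1 ha1)
        rw [Submodule.mem_bot, hcls0]
        exact hle ⟨he, hw⟩
      right
      refine le_antisymm hWle fun w hw => ?_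
      obtain ⟨e, he, rfl⟩ := (hrE w).1 hw
      suffices hb1 : b = 1 from ((Subgroup.relIndex_eq_one.1 hb1) he).2
      by_contra hb1
      obtain ⟨u, hu⟩ := hdvd
      have hN3 := hj.three_le
      rw [← hN] at hN3
      have hb0 : b ≠ 0 := fun h0 => by
        rw [h0, mul_zero] at hprod
        have : 0 < (N - 1) ^ 2 := pow_pos (by omega) _
        omega
      obtain ⟨N', hN'⟩ : ∃ N', N = N' + 1 := ⟨N - 1, by omega⟩
      rw [hN'] at hprod hu
      rw [Nat.add_sub_cancel] at hprod
      have hu1 : 1 ≤ u := by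
        rcases Nat.eq_zero_or_pos u with rfl | h0
        · omega
        · exact h0
      have ha' : a = (N' + 1) * u + 1 := by omega
      -- `b` is `1` modulo `N` as well
      have hbN : (b : ZMod (N' + 1)) = 1 := by
        have h1 := congrArg (Nat.cast : ℕ → ZMod (N' + 1)) hprod
        rw [ha'] at h1
        push_cast at h1
        rw [show (N' : ZMod (N' + 1)) + 1 = 0 by
          rw [← Nat.cast_succ]; exact ZMod.natCast_self _] at h1
        rw [show (N' : ZMod (N' + 1)) = -1 by
          rw [eq_neg_iff_add_eq_zero, ← Nat.cast_succ]; exact ZMod.natCast_self _] at h1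
        simpa using h1
      replace hbN := (ZMod.natCast_eq_natCast_iff' b 1 (N' + 1)).1 (hbN.trans Nat.cast_one.symm)
      rw [Nat.one_mod_eq_one.2 (by omega)] at hbN
      have h2 := Nat.mod_add_div b (N' + 1)
      have h3 : 1 ≤ b / (N' + 1) := by
        by_contra h4
        rw [Nat.lt_one_iff.1 (not_le.1 h4), mul_zero, add_zero] at h2
        exact hb1 (by rw [← h2, hbN])
      rw [hbN] at h2
      nlinarith [Nat.mul_le_mul_left (N' + 1) hu1, Nat.mul_le_mul_left (N' + 1) h3]
  obtain ⟨j, hjn, hμ, hs⟩ := hsing x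
  obtain ⟨j', hjn', hμ', hs'⟩ := hsing x'
  haveI : Fintype G := Fintype.ofFinite _
  have key := singer_pair_comm hp2 (hP.to_subgroup G) (by
    rw [Ne, ZMod.natCast_eq_zero_iff]
    exact fun hd => hqp ((Nat.prime_dvd_prime_iff_eq Fact.out hp).1 hd)) f hs hs'
  have eτ : ∀ (y : P) (i : ℕ), i ≤ n → ∀ h : y ^ p ^ i ∈ G,
      (⟨y ^ p ^ i, h⟩ : G) ^ p ^ (n - i) = ⟨y ^ p ^ n, hτG y⟩ := fun y i hi h => Subtype.ext (by
    rw [SubmonoidClass.coe_pow, ← pow_mul, ← pow_add]
    congr 2
    omega)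
  rw [eτ x j hjn, eτ x' j' hjn'] at key
  apply hdR
  have hcG : f ⁅(⟨τ, hτG x⟩ : G), ⟨τ', hτG x'⟩⁆ = 1 := by
    rw [commutatorElement_def, map_mul, map_mul, map_mul,
      show f ⟨τ, hτG x⟩ * f ⟨τ', hτG x'⟩ = f ⟨τ', hτG x'⟩ * f ⟨τ, hτG x⟩ from key, mul_assoc (f (⟨τ', hτG x'⟩ : G)),
      ← map_mul, mul_inv_cancel, map_one, mul_one, ← map_mul, mul_inv_cancel, map_one]
  have h1 := LinearMap.congr_fun hcG (cls t)
  rw [Module.End.one_apply, hfcls] at h1
  rw [← hcls0, hd, hclsdiv, sub_eq_zero]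
  exact h1

end Cfsg.Agent.FGS73
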