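import Mathlib

/-!
Counting orbits of an endomorphism of finite order on cosets; exponent reduction; the linear
version of the averaging lemma.
-/

namespace Cfsg.Agent.FGS73

variable {E : Type*} [Group E]

theorem period_reduce (σ : E →* E) (Z : Subgroup E) (hZ : ∀ z ∈ Z, σ z ∈ Z) {p n : ℕ}
    (hper : ∀ e, (⇑σ)^[p ^ (n + 1)] e = e) (hp : p.Prime) {v : E} {i : ℕ} (hi : 0 < i)
    (hiM : i < p ^ (n + 1)) (hv : v⁻¹ * (⇑σ)^[i] v ∈ Z) : v⁻¹ * (⇑σ)^[p ^ n] v ∈ Z := by
  have hZi : ∀ k, ∀ z ∈ Z, (⇑σ)^[k] z ∈ Z := by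
    intro k z hz
    induction k with
    | zero => exact hz
    | succ k ih => rw [Function.iterate_succ_apply']; exact hZ _ ih
  have hadd : ∀ a b, v⁻¹ * (⇑σ)^[a] v ∈ Z → v⁻¹ * (⇑σ)^[b] v ∈ Z →
      v⁻¹ * (⇑σ)^[a + b] v ∈ Z := by
    intro a b ha hb
    have h := Z.mul_mem ha (hZi a _ hb)
    rw [iterate_map_mul, iterate_map_inv] at h
    rw [Function.iterate_add_apply]
    simpa [mul_assoc] using h
  have hmul : ∀ t, v⁻¹ * (⇑σ)^[i * t] v ∈ Z := by
    intro t
    induction t with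
    | zero => simp
    | succ t ih => rw [Nat.mul_succ]; exact hadd _ _ ih hv
  obtain ⟨a, ha, hga⟩ := (Nat.dvd_prime_pow hp).1 (Nat.gcd_dvd_right i (p ^ (n + 1)))
  have hle := Nat.le_of_dvd hi (Nat.gcd_dvd_left i (p ^ (n + 1)))
  rw [hga] at hle
  have ha' : a ≤ n := by
    by_contra h
    have : p ^ (n + 1) ≤ p ^ a := Nat.pow_le_pow_right hp.pos (by omega)
    omega
  obtain ⟨b, hb⟩ := Nat.exists_mul_mod_eq_gcd (n := i) (k := p ^ (n + 1))
    (by rw [hga]; omega)
  rw [hga] at hb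
  have hga' : v⁻¹ * (⇑σ)^[p ^ a] v ∈ Z := by
    have h := hmul b
    rwa [← Nat.mod_add_div (i * b) (p ^ (n + 1)), Nat.add_comm, Function.iterate_add_apply,
      Function.IsPeriodicPt.mul_const (hper _) _, hb.2] at h
  obtain ⟨c, hc⟩ := pow_dvd_pow p ha'
  rw [hc]
  clear hc
  induction c with
  | zero => simp
  | succ c ih => rw [Nat.mul_succ]; exact hadd _ _ ih hga'

theorem orbit_count [Finite E] (σ : E →* E) (Z : Subgroup E) (hZ : ∀ z ∈ Z, σ z ∈ Z) {M : ℕ}
    [NeZero M] (hper : ∀ e, (⇑σ)^[M] e = e)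
    (hfree : ∀ v : E, ∀ i, 0 < i → i < M → v⁻¹ * (⇑σ)^[i] v ∈ Z → v ∈ Z) : M ∣ Z.index - 1 := by
  classical
  have hM0 : 0 < M := Nat.pos_of_ne_zero (NeZero.ne M)
  cases nonempty_fintype E
  have hZi : ∀ k, ∀ z ∈ Z, (⇑σ)^[k] z ∈ Z := by
    intro k z hz
    induction k with
    | zero => exact hz
    | succ k ih => rw [Function.iterate_succ_apply']; exact hZ _ ih
  have hcongr : ∀ i (a b : E), (QuotientGroup.mk a : E ⧸ Z) = QuotientGroup.mk b →
      (QuotientGroup.mk ((⇑σ)^[i] a) : E ⧸ Z) = QuotientGroup.mk ((⇑σ)^[i] b) := by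
    intro i a b hab
    refine QuotientGroup.eq.2 ?_
    have := hZi i _ (QuotientGroup.eq.1 hab)
    rwa [iterate_map_mul, iterate_map_inv] at this
  letI : AddAction (ZMod M) (E ⧸ Z) :=
    { vadd := fun a x => QuotientGroup.mk ((⇑σ)^[a.val] x.out)
      zero_vadd := fun x => by
        change (QuotientGroup.mk ((⇑σ)^[(0 : ZMod M).val] x.out) : E ⧸ Z) = x
        rw [ZMod.val_zero]
        exact QuotientGroup.out_eq' x
      add_vadd := fun a b x => by
        change (QuotientGroup.mk ((⇑σ)^[(a + b).val] x.out) : E ⧸ Z) = QuotientGroup.mk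
          ((⇑σ)^[a.val] (QuotientGroup.mk ((⇑σ)^[b.val] x.out) : E ⧸ Z).out)
        rw [hcongr a.val _ _ (QuotientGroup.out_eq' _), ← Function.iterate_add_apply, ZMod.val_add]
        congr 1
        conv_rhs => rw [← Nat.mod_add_div (a.val + b.val) M, Function.iterate_add_apply,
          Function.IsPeriodicPt.mul_const (hper _) _] }
  -- all nontrivial cosets have trivial stabiliser
  have hfix : ∀ (a : ZMod M) (x : E ⧸ Z), a +ᵥ x = x → a ≠ 0 → x = QuotientGroup.mk 1 := by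
    intro a x hx ha
    have h : (QuotientGroup.mk ((⇑σ)^[a.val] x.out) : E ⧸ Z) = QuotientGroup.mk x.out := by
      rw [QuotientGroup.out_eq']; exact hx
    have hmem := QuotientGroup.eq.1 h.symm
    have := hfree _ a.val (Nat.pos_of_ne_zero fun h0 => ha ((ZMod.val_eq_zero a).1 h0))
      (ZMod.val_lt a) hmem
    rw [← QuotientGroup.out_eq' x]
    exact QuotientGroup.eq.2 (by simpa using this)
  set nz := (Finset.univ : Finset (E ⧸ Z)).erase (QuotientGroup.mk 1) with hnz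
  have h1 : ∀ a : ZMod M, a +ᵥ (QuotientGroup.mk 1 : E ⧸ Z) = QuotientGroup.mk 1 := by
    intro a
    refine (hcongr a.val _ 1 (QuotientGroup.out_eq' _)).trans ?_
    rw [iterate_map_one]
  let orb : E ⧸ Z → Finset (E ⧸ Z) := fun x => (Finset.univ : Finset (ZMod M)).image (· +ᵥ x)
  have horb : ∀ x ∈ nz, (orb x).card = M := by
    intro x hx
    rw [Finset.card_image_of_injective, Finset.card_univ, ZMod.card]
    intro a b hab
    by_contra hne
    refine Finset.ne_of_mem_erase hx (hfix (-b + a) x ?_ (fun h => hne ?_))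
    · change a +ᵥ x = b +ᵥ x at hab
      rw [add_vadd, hab, ← add_vadd, neg_add_cancel, zero_vadd]
    · exact (neg_add_eq_zero.1 h).symm
  have hfib : ∀ O ∈ nz.image orb, (nz.filter fun x => orb x = O).card = M := by
    intro O hO
    obtain ⟨x, hx, rfl⟩ := Finset.mem_image.1 hO
    rw [← horb x hx]
    congr 1
    ext y
    simp only [Finset.mem_filter, orb, Finset.mem_image, Finset.mem_univ, true_and]
    constructor
    · rintro ⟨-, hy⟩
      have : y ∈ (Finset.univ : Finset (ZMod M)).image (· +ᵥ y) :=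
        Finset.mem_image.2 ⟨0, Finset.mem_univ _, zero_vadd _ y⟩
      rw [hy] at this
      simpa using this
    · rintro ⟨a, rfl⟩
      refine ⟨Finset.mem_erase.2 ⟨fun h => Finset.ne_of_mem_erase hx ?_, Finset.mem_univ _⟩, ?_⟩
      · rw [← zero_vadd (ZMod M) x, ← neg_add_cancel a, add_vadd, h, h1]
      · ext z
        simp only [Finset.mem_image, Finset.mem_univ, true_and]
        constructor
        · rintro ⟨b, rfl⟩; exact ⟨b + a, add_vadd b a x⟩
        · rintro ⟨b, rfl⟩; exact ⟨b - a, by rw [← add_vadd, sub_add_cancel]⟩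
  have := Finset.card_eq_sum_card_image orb nz
  rw [Finset.sum_congr rfl hfib, Finset.sum_const, smul_eq_mul] at this
  refine ⟨(nz.image orb).card, ?_⟩
  rw [mul_comm, ← this, hnz, Finset.card_erase_of_mem (Finset.mem_univ _), Finset.card_univ,
    ← Nat.card_eq_fintype_card]
  rfl

/-- linear version of the averaging lemma, for commuting images -/
theorem end_abelian_linear {K U : Type*} [Field K] [AddCommGroup U] [Module K U] [Finite E]
    (ψ : E →* Module.End K U) (hcomm : ∀ a b, ψ a * ψ b = ψ b * ψ a) (σ : E →* E)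
    (S : Module.End K U) {p n : ℕ} (hp : p.Prime) (hσp : ∀ e, (⇑σ)^[p ^ (n + 1)] e = e)
    (hSp : S ^ (p ^ (n + 1)) = 1) (hS : ∀ w, S w = w → w = 0)
    (hcompat : ∀ e w, S (ψ e w) = ψ (σ e) (S w)) (hE : (Nat.card E : K) ≠ 0) :
    ∀ e, ψ (e⁻¹ * (⇑σ)^[p ^ n] e) = 1 := by
  classical
  cases nonempty_fintype E
  set M := p ^ (n + 1) with hM
  have hM0 : 0 < M := pow_pos hp.pos _
  have hmulapp : ∀ a b w, ψ (a * b) w = ψ a (ψ b w) := fun a b w => by rw [map_mul]; rfl
  have honeapp : ∀ w, ψ 1 w = w := fun w => by rw [map_one]; rfl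
  let Fix : ℕ → Submodule K U := fun k =>
    { carrier := {w | ∀ e, ψ (e⁻¹ * (⇑σ)^[k] e) w = w}
      zero_mem' := fun e => map_zero _
      add_mem' := fun {a b} ha hb e => by rw [map_add, ha e, hb e]
      smul_mem' := fun c {a} ha e => by rw [map_smul, ha e] }
  have hswap : ∀ a b w, ψ a (ψ b w) = ψ b (ψ a w) := fun a b w => by
    rw [← Module.End.mul_apply, hcomm, Module.End.mul_apply]
  have hsum : ∀ i j w, w ∈ Fix i → w ∈ Fix j → w ∈ Fix (i + j) := by
    intro i j w hi hj e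
    rw [show e⁻¹ * (⇑σ)^[i + j] e = (e⁻¹ * (⇑σ)^[j] e) *
      (((⇑σ)^[j] e)⁻¹ * (⇑σ)^[i] ((⇑σ)^[j] e)) by rw [Function.iterate_add_apply]; group,
      hmulapp, hi _, hj e]
  have hmul : ∀ k j w, w ∈ Fix k → w ∈ Fix (k * j) := by
    intro k j w hk
    induction j with
    | zero => intro e; simp [honeapp]
    | succ j ih => rw [Nat.mul_succ]; exact hsum _ _ w ih hk
  have htau : ∀ k, 0 < k → k < M → ∀ w, w ∈ Fix k → w ∈ Fix (p ^ n) := by
    intro k hk0 hkM w hw
    obtain ⟨a, ha, hga⟩ := (Nat.dvd_prime_pow hp).1 (Nat.gcd_dvd_right k M)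
    have hle := Nat.le_of_dvd hk0 (Nat.gcd_dvd_left k M)
    rw [hga] at hle
    have ha' : a ≤ n := by
      by_contra h
      have : M ≤ p ^ a := Nat.pow_le_pow_right hp.pos (by omega)
      omega
    obtain ⟨b, hb⟩ := Nat.exists_mul_mod_eq_gcd (n := k) (k := M) (by rw [hga]; omega)
    rw [hga] at hb
    have hpa : w ∈ Fix (p ^ a) := by
      intro e
      have h := hmul k b w hw e
      rwa [← Nat.mod_add_div (k * b) M, Nat.add_comm, Function.iterate_add_apply,
        Function.IsPeriodicPt.mul_const (hσp _) _, hb.2] at h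
    obtain ⟨c, hc⟩ := pow_dvd_pow p ha'
    rw [hc]
    exact hmul _ _ w hpa
  intro e
  refine LinearMap.ext fun w => ?_
  change ψ (e⁻¹ * (⇑σ)^[p ^ n] e) w = w
  have hit : ∀ k a u, (S ^ k) (ψ a u) = ψ ((⇑σ)^[k] a) ((S ^ k) u) := by
    intro k
    induction k with
    | zero => intro a u; rfl
    | succ k ih =>
      intro a u
      rw [pow_succ', Module.End.mul_apply, ih, hcompat, Function.iterate_succ_apply',
        Module.End.mul_apply]
  have hsumzero : ∀ a, ∑ k ∈ Finset.range M, ψ ((⇑σ)^[k] a) ((S ^ k) w) = 0 := by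
    intro a
    apply hS
    simp only [← hit]
    rw [map_sum]
    simp only [← Module.End.mul_apply (f := S), ← pow_succ']
    have h1 := Finset.sum_range_succ' (fun k => (S ^ k) (ψ a w)) M
    have h2 := Finset.sum_range_succ (fun k => (S ^ k) (ψ a w)) M
    rw [h1, show (S ^ M) (ψ a w) = (S ^ 0) (ψ a w) by rw [hSp, pow_zero]] at h2
    exact add_right_cancel h2
  have hPmem : ∀ k u, ∑ a : E, ψ (a⁻¹ * (⇑σ)^[k] a) u ∈ Fix k := by
    intro k u b
    rw [map_sum]
    refine (Finset.sum_congr rfl fun a _ => ?_).trans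
      (Equiv.sum_comp (Equiv.mulRight b) (fun a => ψ (a⁻¹ * (⇑σ)^[k] a) u))
    rw [Equiv.coe_mulRight, iterate_map_mul, mul_inv_rev,
      show b⁻¹ * a⁻¹ * ((⇑σ)^[k] a * (⇑σ)^[k] b) =
        b⁻¹ * ((a⁻¹ * (⇑σ)^[k] a) * (⇑σ)^[k] b) by group,
      hmulapp b⁻¹, hmulapp b⁻¹, hmulapp (a⁻¹ * (⇑σ)^[k] a), hswap ((⇑σ)^[k] b)]
  have h0 : Fintype.card E • w +
      ∑ k ∈ (Finset.range M).erase 0, ∑ a : E, ψ (a⁻¹ * (⇑σ)^[k] a) ((S ^ k) w) = 0 := by
    have h0 : ∑ k ∈ Finset.range M, ∑ a : E, ψ (a⁻¹ * (⇑σ)^[k] a) ((S ^ k) w) = 0 := by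
      rw [Finset.sum_comm]
      refine Finset.sum_eq_zero fun a _ => ?_
      simp only [hmulapp]
      rw [← map_sum, hsumzero, map_zero]
    rw [← Finset.add_sum_erase _ _ (Finset.mem_range.2 hM0)] at h0
    simpa [honeapp] using h0
  have hmem : Fintype.card E • w ∈ Fix (p ^ n) := by
    rw [eq_neg_of_add_eq_zero_left h0]
    refine Submodule.neg_mem _ (Submodule.sum_mem _ fun k hk => ?_)
    obtain ⟨hk0, hkM⟩ := Finset.mem_erase.1 hk
    exact htau k (Nat.pos_of_ne_zero hk0) (Finset.mem_range.1 hkM) _ (hPmem k _)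
  have h1 := hmem e
  rw [map_nsmul, ← Nat.cast_smul_eq_nsmul K, ← Nat.cast_smul_eq_nsmul K,
    ← Nat.card_eq_fintype_card] at h1
  exact smul_right_injective U hE h1

end Cfsg.Agent.FGS73
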