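import Cfsg.Agent.FGS73.Omega
import Cfsg.Agent.FGS73.PLen

/-!
For odd `p` the exponent of the Sylow subgroups drops at least once along two steps of the upper
`p`-series.
-/

namespace Cfsg.Agent.FGS73

open Subgroup
open scoped commutatorElement TensorProduct

/-- In the exceptional case the `p ^ n`-th powers in a `p`-subgroup commute. -/
theorem omega_commute {H : Type*} [Group H] [Finite H] {p : ℕ} [Fact p.Prime] (hp2 : p ≠ 2)
    {F : Type*} [Field F] [CharP F p] {V : Type*} [AddCommGroup V] [Module F V]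
    [FiniteDimensional F V] (ρ : H →* Module.End F V) (hρ : Function.Injective ρ)
    (hsol : Cfsg.IsPSolvable p H) (hO : Cfsg.pCore p H = ⊥) (P : Subgroup H) (hP : IsPGroup p P)
    {n : ℕ} (hexp : ∀ g ∈ P, g ^ p ^ (n + 1) = 1)
    (hnil : ∀ g ∈ P, (ρ g - 1) ^ (p ^ (n + 1) - 1) = 0) {x x' : H} (hx : x ∈ P) (hx' : x' ∈ P) :
    x ^ p ^ n * x' ^ p ^ n = x' ^ p ^ n * x ^ p ^ n := by
  classical
  have hp : p.Prime := Fact.out
  rw [← commutatorElement_eq_one_iff_mul_comm]
  set c := ⁅x ^ p ^ n, x' ^ p ^ n⁆ with hc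
  have hcP : c ∈ P :=
    P.mul_mem (P.mul_mem (P.mul_mem (P.pow_mem hx _) (P.pow_mem hx' _)) (P.inv_mem (P.pow_mem hx _)))
      (P.inv_mem (P.pow_mem hx' _))
  have hcM : c ^ p ^ (n + 1) = 1 := hexp c hcP
  set Q := Cfsg.pPrimeCore p H with hQ
  have hQp : (Nat.card Q).Coprime p := Cfsg.Agent.Thompson.card_pPrimeCore_coprime
  have hPQ : P ≤ normalizer (Q : Set H) := by rw [normalizer_eq_top]; exact le_top
  have hcop : (Nat.card P).Coprime (Nat.card Q) := by
    obtain ⟨a, ha⟩ := IsPGroup.iff_card.1 hP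
    rw [ha]
    exact Nat.Coprime.pow_left _ hQp.symm
  have hPsol : Group.IsSolvable P ∨ Group.IsSolvable Q :=
    Or.inl (haveI := hP.isNilpotent; inferInstance)
  have hcent : ∀ g ∈ Q, c * g = g * c := by
    let C : Subgroup Q := (centralizer {c}).subgroupOf Q
    suffices hC : C = ⊤ by
      intro g hg
      have h1 : (⟨g, hg⟩ : Q) ∈ C := hC ▸ mem_top _
      exact (mem_centralizer_singleton_iff.1 h1).symm
    rw [← Subgroup.index_eq_one]
    by_contra hne
    obtain ⟨q, hq, hqd⟩ := Nat.exists_prime_and_dvd hne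
    haveI := Fact.mk hq
    obtain ⟨S, hS⟩ := Cfsg.Agent.Coprime.exists_invariant_sylow P Q hPQ hcop hPsol q
    have hqp : q ≠ p := by
      rintro rfl
      exact (hp.coprime_iff_not_dvd.1 hQp.symm) (hqd.trans (Subgroup.index_dvd_card C))
    refine S.not_dvd_index (hqd.trans (Subgroup.index_dvd_of_le fun g hg => ?_))
    apply mem_centralizer_singleton_iff.2
    -- `c` centralises the invariant Sylow subgroup `S`
    set S' := (S : Subgroup Q).map Q.subtype with hS'
    have hS'q : IsPGroup q S' := S.2.map _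
    have hgS' : (g : H) ∈ S' := ⟨g, hg, rfl⟩
    obtain ⟨T, hTc, hTcen, hTpow, hTcomm⟩ := Cfsg.Agent.Fus93.exists_critical (p := q) hS'q
    haveI := hTc
    let act : P →* MulAut S' :=
      { toFun := fun y =>
          { toFun := fun s => ⟨(y : H) * s * (y : H)⁻¹,
              (mem_normalizer_iff.1 (hS y.2) s).1 s.2⟩
            invFun := fun s => ⟨(y : H)⁻¹ * s * (y : H), by
              have := (mem_normalizer_iff.1 (inv_mem (hS y.2)) s).1 s.2
              simpa using this⟩
            left_inv := fun s => Subtype.ext (by simp [mul_assoc])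
            right_inv := fun s => Subtype.ext (by simp [mul_assoc])
            map_mul' := fun a b => Subtype.ext (by simp [mul_assoc]) }
        map_one' := by ext s; simp
        map_mul' := fun a b => by ext s; simp [mul_assoc] }
    have hTi : ∀ (y : P), ∀ t ∈ T, act y t ∈ T := fun y =>
      char_invariant (act y).toMonoidHom (act y).bijective T
    let φ : P →* MulAut T :=
      { toFun := fun y =>
          { toFun := fun t => ⟨act y t, hTi y t t.2⟩
            invFun := fun t => ⟨act y⁻¹ t, hTi y⁻¹ t t.2⟩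
            left_inv := fun t => Subtype.ext (by
              change act y⁻¹ (act y (t : S')) = t
              rw [← MulAut.mul_apply, ← map_mul, inv_mul_cancel, map_one]; rfl)
            right_inv := fun t => Subtype.ext (by
              change act y (act y⁻¹ (t : S')) = t
              rw [← MulAut.mul_apply, ← map_mul, mul_inv_cancel, map_one]; rfl)
            map_mul' := fun a b => Subtype.ext (map_mul (act y) _ _) }
        map_one' := by
          ext t
          change ((act 1 (t : S') : S') : H) = _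
          rw [map_one]; rfl
        map_mul' := fun a b => by
          ext t
          change ((act (a * b) (t : S') : S') : H) = _
          rw [map_mul]; rfl }
    -- extend scalars
    let K := AlgebraicClosure F
    haveI : CharP K p := charP_of_injective_algebraMap (algebraMap F K).injective p
    let bc : Module.End F V →* Module.End K (K ⊗[F] V) :=
      (Module.End.baseChangeHom F K V).toRingHom.toMonoidHom
    let ρK : T →* Module.End K (K ⊗[F] V) := bc.comp (ρ.comp (S'.subtype.comp T.subtype))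
    have hρK : Function.Injective ρK := fun a b h =>
      Subtype.ext (Subtype.ext (hρ (baseChangeHom_injective F K V h)))
    let σK : P →* Module.End K (K ⊗[F] V) := bc.comp (ρ.comp P.subtype)
    have hcompat : ∀ (y : P) (t : T) w, σK y (ρK t w) = ρK (φ y t) (σK y w) := by
      intro y t w
      change (bc (ρ y) * bc (ρ ((t : S') : H))) w =
        (bc (ρ ((φ y t : S') : H)) * bc (ρ y)) w
      rw [← map_mul, ← map_mul, ← map_mul, ← map_mul]
      congr 3
      change (y : H) * ((t : S') : H) = (y : H) * ((t : S') : H) * (y : H)⁻¹ * y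
      group
    have hcomm : ∀ a b : T, ⁅a, b⁆ ∈ center T := by
      intro a b
      rw [mem_center_iff]
      intro s
      apply Subtype.ext
      have h1 := mem_centralizer_iff.1 (hTcomm (a : S')⁻¹ (inv_mem a.2) (b : S')) (s : S') s.2
      have h2 : (a : S')⁻¹⁻¹ * ((b : S') * (a : S')⁻¹ * (b : S')⁻¹) = ((⁅a, b⁆ : T) : S') := by
        simp [commutatorElement_def, mul_assoc]
      rw [h2] at h1
      exact h1
    have hpow : ∀ t : T, t ^ q ∈ center T := fun t => mem_center_iff.2 fun s => Subtype.ext (by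
      have h1 := mem_centralizer_iff.1 (hTpow t t.2) (s : S') s.2
      simpa using h1)
    have key := omega_trivial hp2 hqp hP φ (hS'q.to_subgroup T) hcomm hpow ρK hρK σK hcompat
      (fun y => Subtype.ext (by rw [SubmonoidClass.coe_pow]; exact hexp y y.2))
      (fun y => by
        have e : σK y - 1 = Module.End.baseChangeHom F K V (ρ y - 1) := by
          rw [map_sub, map_one]; rfl
        rw [e, ← map_pow, hnil y y.2, map_zero]) (⟨x, hx⟩ : P) ⟨x', hx'⟩
    set C' : P := ⁅(⟨x, hx⟩ : P) ^ p ^ n, (⟨x', hx'⟩ : P) ^ p ^ n⁆ with hC'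
    have hC'c : (C' : H) = c := by
      rw [hC', hc, commutatorElement_def, commutatorElement_def]
      push_cast
      rfl
    have hTfix : ∀ t ∈ T, act C' t = t := fun t ht => congrArg Subtype.val (key ⟨t, ht⟩)
    set d := (⟨g, hgS'⟩ : S')⁻¹ * act C' ⟨g, hgS'⟩ with hd
    have hdT : d ∈ T := by
      refine hTcen (mem_centralizer_iff.2 fun t ht => ?_)
      have h1 := hTfix _ ((Subgroup.normal_of_characteristic T).conj_mem t ht ⟨g, hgS'⟩)
      rw [map_mul, map_mul, map_inv, hTfix t ht] at h1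
      rw [hd]
      symm
      calc (⟨g, hgS'⟩ : S')⁻¹ * act C' ⟨g, hgS'⟩ * t
          = (⟨g, hgS'⟩ : S')⁻¹ * (act C' ⟨g, hgS'⟩ * t * (act C' ⟨g, hgS'⟩)⁻¹) *
              act C' ⟨g, hgS'⟩ := by group
        _ = t * ((⟨g, hgS'⟩ : S')⁻¹ * act C' ⟨g, hgS'⟩) := by rw [h1]; group
    have hit : ∀ k : ℕ, act (C' ^ k) ⟨g, hgS'⟩ = ⟨g, hgS'⟩ * d ^ k := by
      intro k
      induction k with
      | zero => simp
      | succ k ih =>
        rw [pow_succ', map_mul, MulAut.mul_apply, ih, map_mul, map_pow, hTfix d hdT,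
          show act C' ⟨g, hgS'⟩ = ⟨g, hgS'⟩ * d by rw [hd]; group, mul_assoc, ← pow_succ']
    have h1 := hit (p ^ (n + 1))
    rw [show C' ^ p ^ (n + 1) = 1 from Subtype.ext (by
      rw [SubmonoidClass.coe_pow, hC'c]; exact hcM), map_one, MulAut.one_apply, left_eq_mul] at h1
    obtain ⟨l, hl⟩ := hS'q d
    have h2 := Nat.dvd_gcd (orderOf_dvd_of_pow_eq_one h1) (orderOf_dvd_of_pow_eq_one hl)
    rw [Nat.Coprime.gcd_eq_one (Nat.Coprime.pow _ _ ((Nat.coprime_primes hp hq).2 hqp.symm)),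
      Nat.dvd_one, orderOf_eq_one_iff, hd, inv_mul_eq_one] at h2
    have h3 : c * (g : H) * c⁻¹ = g := by
      rw [← hC'c]; exact (congrArg Subtype.val h2).symm
    exact (mul_inv_eq_iff_eq_mul.1 h3).symm
  have hcQ : c ∈ Q := Cfsg.Agent.Thompson.centralizer_pPrimeCore_le hsol hO
    (mem_centralizer_iff.2 fun g hg => (hcent g hg).symm)
  have h2 : orderOf c ∣ Nat.card Q :=
    (orderOf_coe (⟨c, hcQ⟩ : Q)).symm ▸ orderOf_dvd_natCard (⟨c, hcQ⟩ : Q)
  have h3 := Nat.dvd_gcd (orderOf_dvd_of_pow_eq_one hcM) h2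
  rw [(Nat.Coprime.pow_left _ hQp.symm).gcd_eq_one, Nat.dvd_one, orderOf_eq_one_iff] at h3
  exact h3

/-- For odd `p` the exponent drops over two steps. -/
theorem exp_drop_two {Y : Type*} [Group Y] [Finite Y] {p : ℕ} [Fact p.Prime] (hp2 : p ≠ 2)
    (hsol : Cfsg.IsPSolvable p Y) (hO : Cfsg.pPrimeCore p Y = ⊥) {e : ℕ}
    (hexp : ∀ y : Y, (∃ k, y ^ p ^ k = 1) → y ^ p ^ (e + 1) = 1)
    {W : Type*} [Group W] [Finite W] (f : Y ⧸ Cfsg.pCore p Y →* W) (hf : Function.Surjective f)
    (hWsol : Cfsg.IsPSolvable p W) (hWO : Cfsg.pPrimeCore p W = ⊥)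
    {w : W} (hw : ∃ k, w ^ p ^ k = 1) : w ^ p ^ e ∈ Cfsg.pCore p W := by
  classical
  have hp : p.Prime := Fact.out
  let π := QuotientGroup.mk' (Cfsg.pCore p Y)
  let ρ : Y ⧸ Cfsg.pCore p Y →* Module.End (ZMod p) (FratMod p Y) :=
    QuotientGroup.lift _ fratRep pCore_le_ker_fratRep
  have hρ : Function.Injective ρ := by
    rw [← MonoidHom.ker_eq_bot_iff, eq_bot_iff]
    intro a ha
    obtain ⟨g, rfl⟩ := QuotientGroup.mk'_surjective (Cfsg.pCore p Y) a
    rw [mem_bot, QuotientGroup.mk'_apply, QuotientGroup.eq_one_iff, ← ker_fratRep hsol hO]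
    exact ha
  haveI : Finite (FratMod p Y) := inferInstanceAs (Finite (Additive _))
  haveI : Module.Finite (ZMod p) (FratMod p Y) := Module.Finite.of_finite
  have hHexp : ∀ a : Y ⧸ Cfsg.pCore p Y, (∃ k, a ^ p ^ k = 1) →
      a ^ p ^ (e + 1) = 1 ∧ (ρ a - 1) ^ (p ^ (e + 1) - 1) = 0 := by
    intro a ha
    obtain ⟨y, hy, rfl⟩ := exists_pelt_lift π (QuotientGroup.mk'_surjective _) ha
    exact ⟨by rw [← map_pow, hexp y hy, map_one], sub_one_pow_fratRep hexp hy⟩
  have hWexp : ∀ a : W, (∃ k, a ^ p ^ k = 1) → a ^ p ^ (e + 1) = 1 := by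
    intro a ha
    obtain ⟨y, hy, rfl⟩ := exists_pelt_lift f hf ha
    rw [← map_pow, (hHexp y hy).1, map_one]
  by_contra hne
  let πW := QuotientGroup.mk' (Cfsg.pCore p W)
  let ρW : W ⧸ Cfsg.pCore p W →* Module.End (ZMod p) (FratMod p W) :=
    QuotientGroup.lift _ fratRep pCore_le_ker_fratRep
  have hρW : Function.Injective ρW := by
    rw [← MonoidHom.ker_eq_bot_iff, eq_bot_iff]
    intro a ha
    obtain ⟨g, rfl⟩ := QuotientGroup.mk'_surjective (Cfsg.pCore p W) a
    rw [mem_bot, QuotientGroup.mk'_apply, QuotientGroup.eq_one_iff, ← ker_fratRep hWsol hWO]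
    exact ha
  haveI : Finite (FratMod p W) := inferInstanceAs (Finite (Additive _))
  haveI : Module.Finite (ZMod p) (FratMod p W) := Module.Finite.of_finite
  have hpe : 0 < p ^ e := pow_pos hp.pos e
  have h3e : 3 * p ^ e ≤ p ^ (e + 1) := by
    rw [pow_succ, mul_comm 3]
    exact Nat.mul_le_mul_left _ (by have := hp.two_le; omega)
  -- the Jordan block of `w` is longer than `2 p ^ e - 1`
  obtain ⟨v, hv⟩ : ∃ v, ((fratRep (p := p) w - 1) ^ (2 * p ^ e - 1)) v ≠ 0 := by
    by_contra h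
    push Not at h
    obtain ⟨n₀, q, k, h1, h2, -, -, -, -, hle⟩ := hhb_linear ρW hρW
      (Cfsg.Agent.Thompson.isPSolvable_quotient _ hWsol) Cfsg.Agent.Thompson.pCore_quotient_pCore
      (x := πW w) (n := e) (by rw [← map_pow, hWexp w hw, map_one])
      (fun h0 => hne (by rwa [← map_pow, QuotientGroup.mk'_apply, QuotientGroup.eq_one_iff] at h0))
      (r := 2 * p ^ e - 1) (LinearMap.ext h) (by omega)
    rw [Nat.mul_sub, mul_one, ← pow_add, show e + 1 - n₀ + n₀ = e + 1 by omega] at hle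
    have h4 : p ^ (e + 1 - n₀) ≤ p ^ e := Nat.pow_le_pow_right hp.pos (by omega)
    omega
  apply hv
  obtain ⟨u, rfl⟩ := fratClass_surjective v
  -- a Sylow subgroup upstairs over `u` and `w`
  let H := Y ⧸ Cfsg.pCore p Y
  have hwu : IsPGroup p (Cfsg.pCore p W ⊔ zpowers w : Subgroup W) := by
    refine (Cfsg.Agent.Thompson.isPGroup_pCore).to_sup_of_normal_left ?_
    obtain ⟨k, hk⟩ := hw
    intro a
    obtain ⟨a, i, rfl⟩ := a
    refine ⟨k, Subtype.ext ?_⟩
    change (w ^ i) ^ p ^ k = 1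
    rw [← zpow_natCast, ← zpow_mul, mul_comm, zpow_mul, zpow_natCast, hk, one_zpow]
  obtain ⟨S, hS⟩ := hwu.exists_le_sylow
  obtain ⟨S₀, hS₀⟩ : ∃ S₀ : Sylow p (Y ⧸ Cfsg.pCore p Y), (S₀ : Subgroup _).map f = S := by
    let S₁ : Sylow p (Y ⧸ Cfsg.pCore p Y) := Classical.arbitrary _
    obtain ⟨g, hg⟩ := MulAction.exists_smul_eq W (S₁.mapSurjective hf) S
    obtain ⟨a, rfl⟩ := hf g
    refine ⟨a • S₁, ?_⟩
    rw [← hg]
    ext b
    constructor
    · rintro ⟨_, ⟨s, hs, rfl⟩, rfl⟩
      exact ⟨f s, ⟨s, hs, rfl⟩, by simp⟩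
    · rintro ⟨_, ⟨s, hs, rfl⟩, rfl⟩
      exact ⟨a * s * a⁻¹, ⟨s, hs, rfl⟩, by simp⟩
  obtain ⟨w', hw'S, hw'⟩ : w ∈ (S₀ : Subgroup _).map f := by
    rw [hS₀]; exact hS (mem_sup_right (mem_zpowers w))
  obtain ⟨u', hu'S, hu'⟩ : (u : W) ∈ (S₀ : Subgroup _).map f := by
    rw [hS₀]; exact hS (mem_sup_left u.2)
  have hpS : ∀ a ∈ (S₀ : Subgroup (Y ⧸ Cfsg.pCore p Y)), ∃ k, a ^ p ^ k = 1 := fun a ha => by
    obtain ⟨k, hk⟩ := S₀.2 ⟨a, ha⟩
    exact ⟨k, congrArg Subtype.val hk⟩
  have hcomm := omega_commute hp2 ρ hρ (Cfsg.Agent.Thompson.isPSolvable_quotient _ hsol)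
    Cfsg.Agent.Thompson.pCore_quotient_pCore (S₀ : Subgroup _) S₀.2
    (fun a ha => (hHexp a (hpS a ha)).1) (fun a ha => (hHexp a (hpS a ha)).2)
    (mul_mem hu'S hw'S) hw'S
  have hcommW := congrArg f hcomm
  rw [map_mul, map_mul, map_pow, map_pow, map_mul, hu', hw'] at hcommW
  obtain ⟨z, hz, hzc⟩ := mul_pow_fratClass w u (p ^ e)
  rw [hz] at hcommW
  have hfix : MulAut.conjNormal (w ^ p ^ e) z = z := Subtype.ext (by
    rw [MulAut.conjNormal_apply]
    rw [← mul_assoc (w ^ p ^ e), mul_right_cancel_iff] at hcommW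
    rw [← hcommW, mul_inv_cancel_right])
  have h1 : fratRep (p := p) (w ^ p ^ e) (fratClass z) = fratClass z := by
    rw [fratRep_class, hfix]
  have e1 : (fratRep (p := p) w - 1) ^ p ^ e = fratRep (w ^ p ^ e) - 1 := by
    have h2 := congrArg (Polynomial.aeval (fratRep (p := p) w)) (sub_pow_char_pow (p := p) (n := e)
      (Polynomial.X : Polynomial (ZMod p)) 1)
    simpa using h2
  rw [show 2 * p ^ e - 1 = p ^ e + (p ^ e - 1) by omega, pow_add, Module.End.mul_apply, e1,
    ← sum_pow_eq, ← hzc, LinearMap.sub_apply, h1, Module.End.one_apply, sub_self]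

/-- For odd `p` the `p`-length is at most twice the exponent. -/
theorem plength_le_two_exponent {G : Type*} [Group G] [Finite G] {p : ℕ} [Fact p.Prime]
    (hp2 : p ≠ 2) (hsol : Cfsg.IsPSolvable p G) {e : ℕ}
    (hexp : ∀ g : G, (∃ l, g ^ p ^ l = 1) → g ^ p ^ e = 1) : Cfsg.PLengthLE p (2 * e) G := by
  suffices H : ∀ k d, k + d = e → ∀ g : G, (∃ l, g ^ p ^ l = 1) →
      g ^ p ^ d ∈ (Cfsg.upperPSeries p G (2 * (2 * k) + 1)).1 from
    plength_of_upper fun g hg => by simpa using H e 0 (by omega) g hg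
  intro k
  induction k with
  | zero =>
    intro d hd g hg
    rw [show d = e by omega, hexp g hg]
    exact one_mem _
  | succ k ih =>
    intro d hd g hg
    rw [show 2 * (k + 1) = 2 * k + 1 + 1 by ring]
    refine upper_step (2 * k + 1) ?_
    set U := (Cfsg.upperPSeries p G (2 * (2 * k) + 1)).1 with hU
    set U' := (Cfsg.upperPSeries p G (2 * (2 * k + 1) + 1)).1 with hU'
    have hUU : U ≤ U' :=
      (Cfsg.Agent.PLocalB.upperPSeries_le_succ _).trans (Cfsg.Agent.PLocalB.upperPSeries_le_succ _)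
    rw [map_pow]
    have hker : Cfsg.pCore p (G ⧸ U) ≤
        (QuotientGroup.map U U' (MonoidHom.id G) (fun a ha => hUU ha)).ker := by
      intro a ha
      obtain ⟨y, rfl⟩ := QuotientGroup.mk'_surjective U a
      rw [MonoidHom.mem_ker]
      exact (QuotientGroup.eq_one_iff y).2 (upper_step (2 * k) ha)
    refine exp_drop_two hp2 (Cfsg.Agent.Thompson.isPSolvable_quotient U hsol)
      (Cfsg.Agent.PLocalB.pPrimeCore_quotient_upperPSeries (2 * k)) ?_
      (QuotientGroup.lift _ (QuotientGroup.map U U' (MonoidHom.id G) (fun a ha => hUU ha)) hker)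
      ?_ (Cfsg.Agent.Thompson.isPSolvable_quotient U' hsol)
      (Cfsg.Agent.PLocalB.pPrimeCore_quotient_upperPSeries (2 * k + 1)) ?_
    · intro a ha
      obtain ⟨g', hg', rfl⟩ := exists_pelt_lift (QuotientGroup.mk' U)
        (QuotientGroup.mk'_surjective U) ha
      rw [← map_pow, QuotientGroup.mk'_apply, QuotientGroup.eq_one_iff]
      exact ih (d + 1) (by omega) g' hg'
    · intro a
      obtain ⟨y, rfl⟩ := QuotientGroup.mk'_surjective U' a
      exact ⟨QuotientGroup.mk' _ (QuotientGroup.mk' U y), rfl⟩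
    · obtain ⟨l, hl⟩ := hg
      exact ⟨l, by rw [← map_pow, hl, map_one]⟩

end Cfsg.Agent.FGS73
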