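import Cfsg.Agent.FGS73.PLenTwoLocal
import Cfsg.Agent.FGS73.PLen
import Cfsg.Agent.Lib.Coprime.Action
import Cfsg.Agent.OddLocal44.Stability

/-!
For soluble groups the exponent of the Sylow 2-subgroups drops over two steps of the upper 2-series
until it reaches `2`.
-/

namespace Cfsg.Agent.FGS73

open Subgroup
open scoped commutatorElement TensorProduct

theorem pow_mem_zpowers_two {A B : Type*} [Group A] [Finite A] [Group B] (f : A →* B) (a : A)
    {k : ℕ} (h : f a ^ 2 ^ k = 1) :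
    ∃ a' ∈ zpowers a, f a' = f a ∧ ∃ l, a' ^ 2 ^ l = 1 := by
  obtain ⟨i, c, hc, hic⟩ := Nat.exists_eq_pow_mul_and_not_dvd (orderOf_pos a).ne' 2 (by norm_num)
  have hcop : (orderOf (f a)).Coprime c :=
    Nat.Coprime.coprime_dvd_left (orderOf_dvd_of_pow_eq_one h)
      (Nat.Coprime.pow_left _ (Nat.prime_two.coprime_iff_not_dvd.2 hc))
  obtain ⟨b, hb⟩ := exists_pow_eq_self_of_coprime hcop.symm
  refine ⟨(a ^ c) ^ b, pow_mem (pow_mem (mem_zpowers a) _) _, by rw [map_pow, map_pow, hb], i, ?_⟩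
  rw [← pow_mul, ← pow_mul, ← mul_assoc, show c * b * 2 ^ i = orderOf a * b by rw [hic]; ring,
    pow_mul, pow_orderOf_eq_one, one_pow]

theorem pow_mem_zpowers_odd {A B : Type*} [Group A] [Finite A] [Group B] (f : A →* B) (a : A)
    (h : Odd (orderOf (f a))) :
    ∃ a' ∈ zpowers a, f a' = f a ∧ Odd (orderOf a') := by
  obtain ⟨i, c, hc, hic⟩ := Nat.exists_eq_pow_mul_and_not_dvd (orderOf_pos a).ne' 2 (by norm_num)
  obtain ⟨b, hb⟩ := exists_pow_eq_self_of_coprime (x := f a) (n := 2 ^ i)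
    (Nat.Coprime.pow_left _ (Nat.coprime_two_left.2 h))
  refine ⟨(a ^ 2 ^ i) ^ b, pow_mem (pow_mem (mem_zpowers a) _) _, by rw [map_pow, map_pow, hb], ?_⟩
  have hco : Odd c := Nat.odd_iff.2 (Nat.two_dvd_ne_zero.1 hc)
  refine hco.of_dvd_nat (orderOf_dvd_of_pow_eq_one ?_)
  rw [← pow_mul, ← pow_mul, show 2 ^ i * (b * c) = orderOf a * b by rw [hic]; ring, pow_mul,
    pow_orderOf_eq_one, one_pow]

theorem eq_one_of_odd_of_two_pow {A : Type*} [Group A] {a : A} (ho : Odd (orderOf a))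
    (h : ∃ l, a ^ 2 ^ l = 1) : a = 1 := by
  obtain ⟨l, hl⟩ := h
  have h1 := Nat.dvd_gcd dvd_rfl (orderOf_dvd_of_pow_eq_one hl)
  rw [(Nat.Coprime.pow_right l (Nat.coprime_two_right.2 ho)).gcd_eq_one, Nat.dvd_one,
    orderOf_eq_one_iff] at h1
  exact h1

variable {H : Type*} [Group H] [Finite H] {F : Type*} [Field F] [CharP F 2]
  {V : Type*} [AddCommGroup V] [Module F V] [FiniteDimensional F V]

/-- One prime: subgroups of `H / O_{2'}(H)` detecting the action on a Sylow `q`-subgroup of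
`O_{2'}(H)` invariant under a Sylow 2-subgroup. -/
theorem sylow_drop [hsol : Group.IsSolvable H] (ρ : H →* Module.End F V) (hρ : Function.Injective ρ)
    (P : Sylow 2 H) {y : H} (hy : y ∈ (P : Subgroup H)) {n : ℕ} (hyexp : y ^ 2 ^ (n + 1) = 1)
    (hnil : (ρ y - 1) ^ (2 ^ (n + 1) - 1) = 0) (q : ℕ) [Fact q.Prime] (hq2 : q ≠ 2) :
    ∃ (Q : Sylow q (Cfsg.pPrimeCore 2 H)) (C X Y : Subgroup (H ⧸ Cfsg.pPrimeCore 2 H)),
      C.Normal ∧ X ≤ C ∧ Y ≤ C ∧ QuotientGroup.mk' _ y ^ 2 ^ n ∈ X ∧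
      (∀ c ∈ C, ∀ x ∈ X, c * x * c⁻¹ ∈ X) ∧ (∀ c ∈ C, ∀ x ∈ Y, c * x * c⁻¹ ∈ Y) ∧
      (∀ x ∈ X, Odd (orderOf x) → x ∈ Y) ∧
      ∀ p ∈ (P : Subgroup H), QuotientGroup.mk' (Cfsg.pPrimeCore 2 H) p ∈ Y →
        ∀ s ∈ (Q : Subgroup (Cfsg.pPrimeCore 2 H)), p * (s : H) = (s : H) * p := by
  classical
  haveI : Fact (Nat.Prime 2) := ⟨Nat.prime_two⟩
  have hqp : q.Prime := Fact.out
  set Q0 := Cfsg.pPrimeCore 2 H with hQ0
  have hQ2 : (Nat.card Q0).Coprime 2 := Cfsg.Agent.Thompson.card_pPrimeCore_coprime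
  have hcop : (Nat.card (P : Subgroup H)).Coprime (Nat.card Q0) := by
    obtain ⟨a, ha⟩ := IsPGroup.iff_card.1 P.2
    rw [ha]
    exact Nat.Coprime.pow_left _ hQ2.symm
  obtain ⟨Q, hQ⟩ := Cfsg.Agent.Coprime.exists_invariant_sylow (P : Subgroup H) Q0
    (by rw [normalizer_eq_top]; exact le_top) hcop
    (Or.inr inferInstance) q
  set S := (Q : Subgroup Q0).map Q0.subtype with hS
  have hSq : IsPGroup q S := Q.2.map _
  obtain ⟨T, hTc, hTcen, hTpow, hTcomm⟩ := Cfsg.Agent.Fus93.exists_critical (p := q) hSq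
  haveI := hTc
  set N := normalizer (S : Set H) with hN
  let act : N →* MulAut S := Subgroup.normalizerMonoidHom S
  have hact : ∀ (g : N) (s : S), ((act g s : S) : H) = (g : H) * s * (g : H)⁻¹ := fun g s => rfl
  have hTi : ∀ (g : N), ∀ t ∈ T, act g t ∈ T := fun g =>
    char_invariant (act g).toMonoidHom (act g).bijective T
  let φ : N →* MulAut T :=
    { toFun := fun g =>
        { toFun := fun t => ⟨act g t, hTi g t t.2⟩
          invFun := fun t => ⟨act g⁻¹ t, hTi g⁻¹ t t.2⟩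
          left_inv := fun t => Subtype.ext (by
            change act g⁻¹ (act g (t : S)) = t
            rw [← MulAut.mul_apply, ← map_mul, inv_mul_cancel, map_one]; rfl)
          right_inv := fun t => Subtype.ext (by
            change act g (act g⁻¹ (t : S)) = t
            rw [← MulAut.mul_apply, ← map_mul, mul_inv_cancel, map_one]; rfl)
          map_mul' := fun a b => Subtype.ext (map_mul (act g) _ _) }
      map_one' := by
        ext t
        change ((act 1 (t : S) : S) : H) = _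
        rw [map_one]; rfl
      map_mul' := fun a b => by
        ext t
        change ((act (a * b) (t : S) : S) : H) = _
        rw [map_mul]; rfl }
  -- extend scalars
  let K := AlgebraicClosure F
  haveI : CharP K 2 := charP_of_injective_algebraMap (algebraMap F K).injective 2
  let bc : Module.End F V →* Module.End K (K ⊗[F] V) :=
    (Module.End.baseChangeHom F K V).toRingHom.toMonoidHom
  let ρK : T →* Module.End K (K ⊗[F] V) := bc.comp (ρ.comp (S.subtype.comp T.subtype))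
  have hρK : Function.Injective ρK := fun a b h =>
    Subtype.ext (Subtype.ext (hρ (baseChangeHom_injective F K V h)))
  let σK : N →* Module.End K (K ⊗[F] V) := bc.comp (ρ.comp N.subtype)
  have hcompat : ∀ (g : N) (t : T) w, σK g (ρK t w) = ρK (φ g t) (σK g w) := by
    intro g t w
    change (bc (ρ g) * bc (ρ ((t : S) : H))) w = (bc (ρ ((φ g t : S) : H)) * bc (ρ g)) w
    rw [← map_mul, ← map_mul, ← map_mul, ← map_mul]
    congr 3
    change (g : H) * ((t : S) : H) = (g : H) * ((t : S) : H) * (g : H)⁻¹ * g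
    group
  have hcomm : ∀ a b : T, ⁅a, b⁆ ∈ center T := by
    intro a b
    rw [mem_center_iff]
    intro s
    apply Subtype.ext
    have h1 := mem_centralizer_iff.1 (hTcomm (a : S)⁻¹ (inv_mem a.2) (b : S)) (s : S) s.2
    have h2 : (a : S)⁻¹⁻¹ * ((b : S) * (a : S)⁻¹ * (b : S)⁻¹) = ((⁅a, b⁆ : T) : S) := by
      simp [commutatorElement_def, mul_assoc]
    rw [h2] at h1
    exact h1
  have hpow : ∀ t : T, t ^ q ∈ center T := fun t => mem_center_iff.2 fun s => Subtype.ext (by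
    have h1 := mem_centralizer_iff.1 (hTpow t t.2) (s : S) s.2
    simpa using h1)
  have hyN : y ∈ N := hQ hy
  obtain ⟨C, X, Y, hCn, hXC, hYC, hτX, hXc, hYc, hodd, htriv⟩ :=
    prime_drop (inferInstance : Group.IsSolvable N) φ (hSq.to_subgroup T) hq2 hcomm hpow ρK hρK σK
      hcompat (y := ⟨y, hyN⟩) (n := n) (Subtype.ext (by rw [SubmonoidClass.coe_pow, hyexp]; rfl))
      (by
        have e : σK ⟨y, hyN⟩ - 1 = Module.End.baseChangeHom F K V (ρ y - 1) := by
          rw [map_sub, map_one]; rfl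
        rw [e, ← map_pow, hnil, map_zero])
  let π : N →* H ⧸ Q0 := (QuotientGroup.mk' Q0).comp N.subtype
  have hπ : Function.Surjective π := by
    intro w
    obtain ⟨h, rfl⟩ := QuotientGroup.mk'_surjective Q0 w
    have h1 := Q.normalizer_sup_eq_top
    obtain ⟨a, ha, b, hb, rfl⟩ := mem_sup_of_normal_right.1 (h1.ge (mem_top h))
    refine ⟨⟨a, ha⟩, ?_⟩
    change QuotientGroup.mk' Q0 a = QuotientGroup.mk' Q0 (a * b)
    rw [map_mul, show QuotientGroup.mk' Q0 b = 1 from (QuotientGroup.eq_one_iff b).2 hb, mul_one]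
  -- elements of `2`-power order of `Y` centralise `S`
  have hYcent : ∀ k ∈ Y, (∃ l, k ^ 2 ^ l = 1) → act k = 1 := by
    intro k hk hk2
    have hTfix : ∀ t ∈ T, act k t = t := fun t ht =>
      congrArg Subtype.val (htriv k hk hk2 ⟨t, ht⟩)
    obtain ⟨l, hl⟩ := hk2
    refine MulEquiv.ext fun s => ?_
    rw [MulAut.one_apply]
    set d := s⁻¹ * act k s with hd
    have hdT : d ∈ T := by
      refine hTcen (mem_centralizer_iff.2 fun t ht => ?_)
      have h1 := hTfix _ ((Subgroup.normal_of_characteristic T).conj_mem t ht s)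
      rw [map_mul, map_mul, map_inv, hTfix t ht] at h1
      rw [hd]
      symm
      calc s⁻¹ * act k s * t = s⁻¹ * (act k s * t * (act k s)⁻¹) * act k s := by group
        _ = t * (s⁻¹ * act k s) := by rw [h1]; group
    have hit : ∀ i : ℕ, act (k ^ i) s = s * d ^ i := by
      intro i
      induction i with
      | zero => simp
      | succ i ih =>
        rw [pow_succ', map_mul, MulAut.mul_apply, ih, map_mul, map_pow, hTfix d hdT,
          show act k s = s * d by rw [hd]; group, mul_assoc, ← pow_succ']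
    have h1 := hit (2 ^ l)
    rw [hl, map_one, MulAut.one_apply, left_eq_mul] at h1
    obtain ⟨i, hi⟩ := hSq d
    have h2 := Nat.dvd_gcd (orderOf_dvd_of_pow_eq_one h1) (orderOf_dvd_of_pow_eq_one hi)
    rw [(Nat.Coprime.pow _ _ ((Nat.coprime_primes Nat.prime_two hqp).2 hq2.symm)).gcd_eq_one,
      Nat.dvd_one, orderOf_eq_one_iff, hd, inv_mul_eq_one] at h2
    exact h2.symm
  refine ⟨Q, C.map π, X.map π, Y.map π, hCn.map π hπ, map_mono hXC, map_mono hYC,
    ⟨_, hτX, by rw [← map_pow]; rfl⟩, ?_, ?_, ?_, ?_⟩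
  · rintro _ ⟨c, hc, rfl⟩ _ ⟨x, hx, rfl⟩
    exact ⟨c * x * c⁻¹, hXc c hc x hx, by rw [map_mul, map_mul, map_inv]⟩
  · rintro _ ⟨c, hc, rfl⟩ _ ⟨x, hx, rfl⟩
    exact ⟨c * x * c⁻¹, hYc c hc x hx, by rw [map_mul, map_mul, map_inv]⟩
  · rintro _ ⟨x, hx, rfl⟩ ho
    obtain ⟨x', hx', hxx, ho'⟩ := pow_mem_zpowers_odd π x ho
    exact ⟨x', hodd x' ((zpowers_le.2 hx) hx') ho', hxx⟩
  rintro p hp ⟨x, hx, hxp⟩ s hs
  obtain ⟨l, hl⟩ := P.2 ⟨p, hp⟩
  replace hl : p ^ 2 ^ l = 1 := congrArg Subtype.val hl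
  obtain ⟨k, hk, hkx, hk2⟩ := pow_mem_zpowers_two π x (k := l) (by
    rw [hxp, ← map_pow, hl, map_one])
  set pN : N := ⟨p, hQ hp⟩ with hpN
  set u : N := k⁻¹ * pN with hu
  have huQ : (u : H) ∈ Q0 := by
    rw [← QuotientGroup.eq_one_iff (N := Q0)]
    change π u = 1
    rw [hu, map_mul, map_inv, hkx, hxp, inv_mul_eq_one]
    rfl
  have h1 : act pN = act u := by
    rw [show pN = k * u by rw [hu, mul_inv_cancel_left], map_mul,
      hYcent k ((zpowers_le.2 hx) hk) hk2, one_mul]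
  have h2 : orderOf (act pN) ∣ 2 ^ l := orderOf_dvd_of_pow_eq_one (by
    rw [← map_pow, show pN ^ 2 ^ l = 1 from Subtype.ext (by
      rw [SubmonoidClass.coe_pow]; exact hl), map_one])
  have h3 : orderOf (act pN) ∣ Nat.card Q0 := by
    rw [h1]
    refine (orderOf_map_dvd act u).trans ?_
    rw [← orderOf_coe u]
    exact (orderOf_coe (⟨(u : H), huQ⟩ : Q0)).symm ▸ orderOf_dvd_natCard (⟨(u : H), huQ⟩ : Q0)
  have h4 := Nat.dvd_gcd h2 h3
  rw [(Nat.Coprime.pow_left l hQ2.symm).gcd_eq_one, Nat.dvd_one, orderOf_eq_one_iff] at h4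
  have h5 := congrArg Subtype.val (MulEquiv.congr_fun h4 ⟨(s : H), ⟨s, hs, rfl⟩⟩)
  rw [hact, MulAut.one_apply] at h5
  exact mul_inv_eq_iff_eq_mul.1 h5

/-- `y ^ 2 ^ n` lies in `O_{2',2}(H)`. -/
theorem tau_mem_core [hsol : Group.IsSolvable H] (ρ : H →* Module.End F V)
    (hρ : Function.Injective ρ) (hO : Cfsg.pCore 2 H = ⊥) {y : H} {n : ℕ}
    (hyexp : y ^ 2 ^ (n + 1) = 1) (hnil : (ρ y - 1) ^ (2 ^ (n + 1) - 1) = 0) :
    QuotientGroup.mk' (Cfsg.pPrimeCore 2 H) y ^ 2 ^ n ∈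
      Cfsg.pCore 2 (H ⧸ Cfsg.pPrimeCore 2 H) := by
  classical
  haveI : Fact (Nat.Prime 2) := ⟨Nat.prime_two⟩
  set Q0 := Cfsg.pPrimeCore 2 H with hQ0
  have hQ2 : (Nat.card Q0).Coprime 2 := Cfsg.Agent.Thompson.card_pPrimeCore_coprime
  let π := QuotientGroup.mk' Q0
  have hπ : Function.Surjective π := QuotientGroup.mk'_surjective Q0
  obtain ⟨P, hP⟩ : ∃ P : Sylow 2 H, y ∈ (P : Subgroup H) := by
    have hZ : IsPGroup 2 (zpowers y) := by
      obtain ⟨k, -, hk⟩ := (Nat.dvd_prime_pow Nat.prime_two).1 (orderOf_dvd_of_pow_eq_one hyexp)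
      exact IsPGroup.of_card (n := k) (by rw [Nat.card_zpowers, hk])
    obtain ⟨P, hP⟩ := hZ.exists_le_sylow
    exact ⟨P, hP (mem_zpowers y)⟩
  let ι := {q : ℕ // q ∈ (Nat.card Q0).primeFactors}
  have hι : ∀ q : ι, Fact (q : ℕ).Prime := fun q => ⟨Nat.prime_of_mem_primeFactors q.2⟩
  have hι2 : ∀ q : ι, (q : ℕ) ≠ 2 := fun q h => by
    have := Nat.dvd_of_mem_primeFactors q.2
    rw [h] at this
    exact Nat.prime_two.coprime_iff_not_dvd.1 hQ2.symm this
  choose Q C X Y hCn hXC hYC hτ hXc hYc hodd hcent using fun q : ι =>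
    haveI := hι q
    sylow_drop ρ hρ P hP hyexp hnil (q : ℕ) (hι2 q)
  set Wc := ⨅ q, C q with hWc
  haveI hWcn : Wc.Normal := normal_iInf_normal hCn
  set Xt := (⨅ q, X q) ⊓ Wc with hXt
  set Yt := (⨅ q, Y q) ⊓ Wc with hYt
  have hnX : (Xt.subgroupOf Wc).Normal := ⟨fun x hx c => by
    rw [mem_subgroupOf] at hx ⊢
    exact mem_inf.2 ⟨mem_iInf.2 fun q => hXc q c (mem_iInf.1 c.2 q) x
      (mem_iInf.1 (mem_inf.1 hx).1 q), (c * x * c⁻¹).2⟩⟩
  have hnY : (Yt.subgroupOf Wc).Normal := ⟨fun x hx c => by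
    rw [mem_subgroupOf] at hx ⊢
    exact mem_inf.2 ⟨mem_iInf.2 fun q => hYc q c (mem_iInf.1 c.2 q) x
      (mem_iInf.1 (mem_inf.1 hx).1 q), (c * x * c⁻¹).2⟩⟩
  -- a Sylow subgroup of `Wc` inside the image of `P`
  obtain ⟨S, hS⟩ : ∃ S : Sylow 2 Wc,
      ∀ x ∈ (S : Subgroup Wc), (x : H ⧸ Q0) ∈ (P : Subgroup H).map π := by
    let S2 : Sylow 2 Wc := Classical.arbitrary _
    obtain ⟨R, hR⟩ := (S2.2.map Wc.subtype).exists_le_sylow
    obtain ⟨g, hg⟩ := MulAction.exists_smul_eq (H ⧸ Q0) R (P.mapSurjective hπ)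
    refine ⟨(MulAut.conjNormal g : MulAut Wc) • S2, fun x hx => ?_⟩
    rw [← Sylow.coe_mapSurjective hπ P, ← hg, Sylow.smul_def]
    obtain ⟨a, ha, rfl⟩ := hx
    exact ⟨(a : H ⧸ Q0), hR ⟨a, ha, rfl⟩, (MulAut.conjNormal_apply g a).symm⟩
  -- `Yt` has odd order
  have hY1 : ∀ x : Wc, x ∈ Yt.subgroupOf Wc → (∃ l, x ^ 2 ^ l = 1) → x = 1 := by
    intro x hx hx2
    have hz : IsPGroup 2 (zpowers x) := by
      obtain ⟨l, hl⟩ := hx2
      obtain ⟨k, -, hk⟩ := (Nat.dvd_prime_pow Nat.prime_two).1 (orderOf_dvd_of_pow_eq_one hl)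
      exact IsPGroup.of_card (n := k) (by rw [Nat.card_zpowers, hk])
    obtain ⟨S4, hS4⟩ := hz.exists_le_sylow
    obtain ⟨c, hc⟩ := MulAction.exists_smul_eq Wc S4 S
    have hxc : c * x * c⁻¹ ∈ (S : Subgroup Wc) := by
      rw [← hc, Sylow.smul_def]
      exact ⟨x, hS4 (mem_zpowers x), rfl⟩
    have hw := mem_subgroupOf.1 (hnY.conj_mem x hx c)
    obtain ⟨p, hp, hpw⟩ := hS _ hxc
    rw [← hpw] at hw
    have hpQ : ∀ s ∈ Q0, p * s = s * p := by
      let Cp : Subgroup Q0 := (centralizer {p}).subgroupOf Q0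
      have hCp : Cp = ⊤ := by
        rw [← Subgroup.index_eq_one]
        by_contra hne
        obtain ⟨r, hr, hrd⟩ := Nat.exists_prime_and_dvd hne
        let qr : ι := ⟨r, Nat.mem_primeFactors.2
          ⟨hr, hrd.trans (Subgroup.index_dvd_card Cp), Nat.card_pos.ne'⟩⟩
        haveI := hι qr
        refine (Q qr).not_dvd_index (hrd.trans (Subgroup.index_dvd_of_le fun s hs => ?_))
        exact mem_centralizer_singleton_iff.2
          (hcent qr p hp (mem_iInf.1 (mem_inf.1 hw).1 qr) s hs).symm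
      intro s hs
      have h1 : (⟨s, hs⟩ : Q0) ∈ Cp := hCp ▸ mem_top _
      exact (mem_centralizer_singleton_iff.1 h1).symm
    have hp1 : p ∈ Q0 := Cfsg.Agent.Thompson.centralizer_pPrimeCore_le
      OddLocal44.isPSolvable_of_isSolvable hO
      (mem_centralizer_iff.2 fun s hs => (hpQ s hs).symm)
    have h1 : c * x * c⁻¹ = 1 := Subtype.ext (by
      rw [← hpw]; exact (QuotientGroup.eq_one_iff p).2 hp1)
    exact conj_eq_one_iff.1 h1
  have hYbot : Yt.subgroupOf Wc = ⊥ := by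
    have hcopY : (Nat.card (Yt.subgroupOf Wc)).Coprime 2 := by
      rw [Nat.coprime_two_right, ← Nat.not_even_iff_odd, even_iff_two_dvd]
      intro hd
      obtain ⟨x, hx⟩ := exists_prime_orderOf_dvd_card' 2 hd
      have h1 := hY1 (x : Wc) x.2 ⟨1, by
        have h2 := pow_orderOf_eq_one x
        rw [hx] at h2
        rw [pow_one]
        exact congrArg Subtype.val h2⟩
      rw [show x = 1 from Subtype.ext h1, orderOf_one] at hx
      exact absurd hx (by norm_num)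
    have h1 := (Cfsg.Agent.Thompson.le_pPrimeCore hnY hcopY)
    have h2 := (map_mono (f := Wc.subtype) h1).trans
      (Cfsg.Agent.Thompson.map_pPrimeCore_normal_le Wc)
    rw [Cfsg.Agent.Thompson.pPrimeCore_quotient_pPrimeCore, le_bot_iff, Subgroup.map_eq_bot_iff,
      ker_subtype] at h2
    exact le_bot_iff.1 h2
  have hX2 : IsPGroup 2 (Xt.subgroupOf Wc) := by
    intro x
    obtain ⟨a, c, hc, hac⟩ := Nat.exists_eq_pow_mul_and_not_dvd (orderOf_pos x).ne' 2 (by norm_num)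
    refine ⟨a, ?_⟩
    set z := x ^ 2 ^ a with hz
    have hzo : Odd (orderOf ((z : Wc) : H ⧸ Q0)) := by
      rw [Subgroup.orderOf_coe, Subgroup.orderOf_coe, hz, orderOf_pow, hac,
        Nat.gcd_eq_right (dvd_mul_right _ _), Nat.mul_div_cancel_left _ (pow_pos two_pos _)]
      exact Nat.odd_iff.2 (Nat.two_dvd_ne_zero.1 hc)
    have hzY : (z : Wc) ∈ Yt.subgroupOf Wc := by
      have hzX := mem_inf.1 (mem_subgroupOf.1 z.2)
      exact mem_subgroupOf.2 (mem_inf.2 ⟨mem_iInf.2 fun q =>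
        hodd q _ (mem_iInf.1 hzX.1 q) hzo, hzX.2⟩)
    rw [hYbot, mem_bot] at hzY
    exact Subtype.ext hzY
  have hτX : π y ^ 2 ^ n ∈ Xt :=
    mem_inf.2 ⟨mem_iInf.2 hτ, mem_iInf.2 fun q => hXC q (hτ q)⟩
  have h1 := (map_mono (f := Wc.subtype) (Cfsg.Agent.Thompson.le_pCore hnX hX2)).trans
    (Cfsg.Agent.Thompson.map_pCore_normal_le Wc)
  exact h1 ⟨⟨_, (mem_inf.1 hτX).2⟩, hτX, rfl⟩

/-- The exponent drops over two steps. -/
theorem exp_drop_two_solvable {Y : Type*} [Group Y] [Finite Y] [Group.IsSolvable Y]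
    (hO : Cfsg.pPrimeCore 2 Y = ⊥) {e : ℕ}
    (hexp : ∀ y : Y, (∃ k, y ^ 2 ^ k = 1) → y ^ 2 ^ (e + 1) = 1)
    {W : Type*} [Group W] [Finite W] (f : Y ⧸ Cfsg.pCore 2 Y →* W) (hf : Function.Surjective f)
    (hWO : Cfsg.pPrimeCore 2 W = ⊥)
    {w : W} (hw : ∃ k, w ^ 2 ^ k = 1) : w ^ 2 ^ e ∈ Cfsg.pCore 2 W := by
  classical
  haveI : Fact (Nat.Prime 2) := ⟨Nat.prime_two⟩
  let π := QuotientGroup.mk' (Cfsg.pCore 2 Y)
  let ρ : Y ⧸ Cfsg.pCore 2 Y →* Module.End (ZMod 2) (FratMod 2 Y) :=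
    QuotientGroup.lift _ fratRep pCore_le_ker_fratRep
  have hρ : Function.Injective ρ := by
    rw [← MonoidHom.ker_eq_bot_iff, eq_bot_iff]
    intro a ha
    obtain ⟨g, rfl⟩ := QuotientGroup.mk'_surjective (Cfsg.pCore 2 Y) a
    rw [mem_bot, QuotientGroup.mk'_apply, QuotientGroup.eq_one_iff,
      ← ker_fratRep OddLocal44.isPSolvable_of_isSolvable hO]
    exact ha
  haveI : Finite (FratMod 2 Y) := inferInstanceAs (Finite (Additive _))
  haveI : Module.Finite (ZMod 2) (FratMod 2 Y) := Module.Finite.of_finite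
  haveI : Group.IsSolvable (Y ⧸ Cfsg.pCore 2 Y) :=
    Group.isSolvable_of_surjective (QuotientGroup.mk'_surjective _)
  obtain ⟨h, hh, rfl⟩ := exists_pelt_lift f hf hw
  obtain ⟨y, hy, rfl⟩ := exists_pelt_lift π (QuotientGroup.mk'_surjective _) hh
  have key := tau_mem_core ρ hρ Cfsg.Agent.Thompson.pCore_quotient_pCore (y := π y) (n := e)
    (by rw [← map_pow, hexp y hy, map_one]) (sub_one_pow_fratRep hexp hy)
  have hker : Cfsg.pPrimeCore 2 (Y ⧸ Cfsg.pCore 2 Y) ≤ f.ker := by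
    intro a ha
    have h1 := Cfsg.Agent.Thompson.map_pPrimeCore_le_of_surjective f hf (p := 2) ⟨a, ha, rfl⟩
    rwa [hWO, mem_bot] at h1
  let g := QuotientGroup.lift _ f hker
  have hg : Function.Surjective g := fun a => by
    obtain ⟨b, rfl⟩ := hf a
    exact ⟨QuotientGroup.mk' _ b, rfl⟩
  have h1 := Cfsg.Agent.Thompson.map_pCore_le_of_surjective g hg ⟨_, key, rfl⟩
  rw [map_pow] at h1
  exact h1

/-- With exponent two every 2-element lies in `O_2`. -/
theorem mem_pCore_of_exp_two {Y : Type*} [Group Y] [Finite Y] [Group.IsSolvable Y]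
    (hO : Cfsg.pPrimeCore 2 Y = ⊥) (hexp : ∀ y : Y, (∃ k, y ^ 2 ^ k = 1) → y ^ 2 = 1)
    {y : Y} (hy : ∃ k, y ^ 2 ^ k = 1) : y ∈ Cfsg.pCore 2 Y := by
  haveI : Fact (Nat.Prime 2) := ⟨Nat.prime_two⟩
  refine Cfsg.Agent.Thompson.centralizer_pCore_le OddLocal44.isPSolvable_of_isSolvable hO
    (mem_centralizer_iff.2 fun u hu => ?_)
  have h1 := hexp _ (exists_pow_mul_pCore hy (⟨u, hu⟩ : Cfsg.pCore 2 Y))
  have h2 := hexp y hy
  obtain ⟨k, hk⟩ := Cfsg.Agent.Thompson.isPGroup_pCore (⟨u, hu⟩ : Cfsg.pCore 2 Y)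
  have h3 := hexp u ⟨k, congrArg Subtype.val hk⟩
  rw [pow_two] at h1 h2 h3
  calc u * y = u * (u * y * (u * y)) * y := by rw [h1, mul_one]
    _ = u * u * (y * u) * (y * y) := by group
    _ = y * u := by rw [h2, h3, one_mul, mul_one]

/-- The `2`-length of a soluble group is below twice the exponent. -/
theorem plength_two_le {G : Type*} [Group G] [Finite G] (hsol : Group.IsSolvable G) {e : ℕ}
    (he : 1 ≤ e) (hexp : ∀ g : G, (∃ l, g ^ 2 ^ l = 1) → g ^ 2 ^ e = 1) :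
    Cfsg.PLengthLE 2 (2 * e - 1) G := by
  haveI : Fact (Nat.Prime 2) := ⟨Nat.prime_two⟩
  haveI := hsol
  have hquot : ∀ U : Subgroup G, [U.Normal] → Group.IsSolvable (G ⧸ U) := fun U _ =>
    Group.isSolvable_of_surjective (QuotientGroup.mk'_surjective U)
  have H : ∀ k d, k + d = e → 1 ≤ d → ∀ g : G, (∃ l, g ^ 2 ^ l = 1) →
      g ^ 2 ^ d ∈ (Cfsg.upperPSeries 2 G (2 * (2 * k) + 1)).1 := by
    intro k
    induction k with
    | zero =>
      intro d hd _ g hg
      rw [show d = e by omega, hexp g hg]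
      exact one_mem _
    | succ k ih =>
      intro d hd hd1 g hg
      rw [show 2 * (k + 1) = 2 * k + 1 + 1 by ring]
      refine upper_step (2 * k + 1) ?_
      set U := (Cfsg.upperPSeries 2 G (2 * (2 * k) + 1)).1 with hU
      set U' := (Cfsg.upperPSeries 2 G (2 * (2 * k + 1) + 1)).1 with hU'
      have hUU : U ≤ U' :=
        (Cfsg.Agent.PLocalB.upperPSeries_le_succ _).trans (Cfsg.Agent.PLocalB.upperPSeries_le_succ _)
      rw [map_pow]
      have hker : Cfsg.pCore 2 (G ⧸ U) ≤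
          (QuotientGroup.map U U' (MonoidHom.id G) (fun a ha => hUU ha)).ker := by
        intro a ha
        obtain ⟨y, rfl⟩ := QuotientGroup.mk'_surjective U a
        rw [MonoidHom.mem_ker]
        exact (QuotientGroup.eq_one_iff y).2 (upper_step (2 * k) ha)
      haveI := hquot U
      refine exp_drop_two_solvable
        (Cfsg.Agent.PLocalB.pPrimeCore_quotient_upperPSeries (2 * k)) ?_
        (QuotientGroup.lift _ (QuotientGroup.map U U' (MonoidHom.id G) (fun a ha => hUU ha)) hker)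
        ?_ (Cfsg.Agent.PLocalB.pPrimeCore_quotient_upperPSeries (2 * k + 1)) ?_
      · intro a ha
        obtain ⟨g', hg', rfl⟩ := exists_pelt_lift (QuotientGroup.mk' U)
          (QuotientGroup.mk'_surjective U) ha
        rw [← map_pow, QuotientGroup.mk'_apply, QuotientGroup.eq_one_iff]
        exact ih (d + 1) (by omega) (by omega) g' hg'
      · intro a
        obtain ⟨y, rfl⟩ := QuotientGroup.mk'_surjective U' a
        exact ⟨QuotientGroup.mk' _ (QuotientGroup.mk' U y), rfl⟩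
      · obtain ⟨l, hl⟩ := hg
        exact ⟨l, by rw [← map_pow, hl, map_one]⟩
  refine plength_of_upper fun g hg => ?_
  rw [show 2 * e - 1 = 2 * (e - 1) + 1 by omega]
  refine upper_step (2 * (e - 1)) ?_
  set U := (Cfsg.upperPSeries 2 G (2 * (2 * (e - 1)) + 1)).1 with hU
  haveI := hquot U
  refine mem_pCore_of_exp_two (Cfsg.Agent.PLocalB.pPrimeCore_quotient_upperPSeries (2 * (e - 1)))
    ?_ ?_
  · intro a ha
    obtain ⟨g', hg', rfl⟩ := exists_pelt_lift (QuotientGroup.mk' U)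
      (QuotientGroup.mk'_surjective U) ha
    have h1 := H (e - 1) 1 (by omega) le_rfl g' hg'
    rw [pow_one] at h1
    rw [← map_pow, QuotientGroup.mk'_apply, QuotientGroup.eq_one_iff]
    exact h1
  · obtain ⟨l, hl⟩ := hg
    exact ⟨l, by rw [← map_pow, hl, map_one]⟩

end Cfsg.Agent.FGS73
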