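import Cfsg.Agent.FGS73.BireflectionSolvable
import Cfsg.Agent.FGS73.HHBCore
import Cfsg.Agent.FGS73.QuadPair

/-!
The squares of a 2-element acting on a critical `q`-subgroup: the exceptional weights give
bireflections over a field with `q` elements.
-/

namespace Cfsg.Agent.FGS73

open Subgroup
open scoped commutatorElement TensorProduct

/-- A Mersenne number which is a prime power is a prime. -/
theorem mersenne_exponent {q k m : ℕ} (hq : q.Prime) (hm : 2 ≤ m) (h : 2 ^ m - 1 = q ^ k) :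
    k = 1 := by
  have h4 : 4 ∣ 2 ^ m := pow_dvd_pow 2 hm
  have hpos : 1 ≤ 2 ^ m := Nat.one_le_two_pow
  have hodd : Odd q := by
    refine hq.odd_of_ne_two ?_
    rintro rfl
    rcases k with _ | k
    · simp at h; omega
    · rw [pow_succ] at h; omega
  have hk : Odd k := by
    by_contra hk
    obtain ⟨i, rfl⟩ := Nat.not_odd_iff_even.1 hk
    obtain ⟨c, hc⟩ := hodd.pow (n := i)
    rw [pow_add, hc] at h
    ring_nf at h
    omega
  obtain ⟨a, ha, ha'⟩ := (Nat.dvd_prime_pow Nat.prime_two).1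
    (show q + 1 ∣ 2 ^ m by
      have := hk.nat_add_dvd_pow_add_pow q 1
      rwa [one_pow, ← h, Nat.sub_add_cancel hpos] at this)
  have ha0 : a ≠ 0 := fun h0 => by rw [h0] at ha'; have := hq.two_le; omega
  have hq1 : (2 : ℤ) ^ (a + 1) ∣ (q : ℤ) ^ 2 - 1 := by
    obtain ⟨c, hc⟩ := hodd
    refine ⟨(c : ℤ), ?_⟩
    have ha'' : (q : ℤ) + 1 = (2 : ℤ) ^ a := by exact_mod_cast ha'
    rw [show (q : ℤ) ^ 2 - 1 = ((q : ℤ) + 1) * ((q : ℤ) - 1) by ring, ha'', pow_succ, hc]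
    push_cast
    ring
  obtain ⟨i, rfl⟩ := hk
  have hqk : (2 : ℤ) ^ (a + 1) ∣ (q : ℤ) ^ (2 * i + 1) - q := by
    rw [show (q : ℤ) ^ (2 * i + 1) - q = q * (((q : ℤ) ^ 2) ^ i - 1) by ring]
    exact Dvd.dvd.mul_left (hq1.trans (sub_one_dvd_pow_sub_one _ _)) _
  rcases ha.eq_or_lt with rfl | hlt
  · have h1 : q ^ (2 * i + 1) = q ^ 1 := by rw [pow_one]; omega
    exact Nat.pow_right_injective hq.two_le h1
  · exfalso
    have h1 : (2 : ℤ) ^ (a + 1) ∣ (q : ℤ) ^ (2 * i + 1) + 1 := by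
      have : 2 ^ (a + 1) ∣ q ^ (2 * i + 1) + 1 := by
        rw [← h, Nat.sub_add_cancel hpos]; exact pow_dvd_pow 2 hlt
      exact_mod_cast this
    have h2 := dvd_sub h1 hqk
    rw [show (q : ℤ) ^ (2 * i + 1) + 1 - ((q : ℤ) ^ (2 * i + 1) - q) = (q : ℤ) + 1 by ring] at h2
    have h3 : 2 ^ (a + 1) ∣ q + 1 := by exact_mod_cast h2
    rw [ha', Nat.pow_dvd_pow_iff_le_right (by norm_num)] at h3
    omega

theorem finrank_range_baseChange_le (F K V : Type*) [Field F] [Field K] [Algebra F K]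
    [AddCommGroup V] [Module F V] [Module.Finite F V] (h : V →ₗ[F] V) :
    Module.finrank K (LinearMap.range (h.baseChange K)) ≤
      Module.finrank F (LinearMap.range h) := by
  have e : h.baseChange K =
      (LinearMap.range h).subtype.baseChange K ∘ₗ h.rangeRestrict.baseChange K := by
    rw [← LinearMap.baseChange_comp]
    exact congrArg _ (LinearMap.ext fun w => rfl)
  rw [e]
  calc Module.finrank K (LinearMap.range ((LinearMap.range h).subtype.baseChange K ∘ₗ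
        h.rangeRestrict.baseChange K))
      ≤ Module.finrank K (LinearMap.range ((LinearMap.range h).subtype.baseChange K)) :=
        Submodule.finrank_mono (LinearMap.range_comp_le_range _ _)
    _ ≤ Module.finrank K (K ⊗[F] LinearMap.range h) := LinearMap.finrank_range_le _
    _ = Module.finrank F (LinearMap.range h) := Module.finrank_baseChange

/-- A bireflection over the field with `q` elements. -/
theorem linear_core_aux (K2 : Type*) [Field K2] [IsAlgClosed K2] {L : Type*} [Group L] [Finite L] (hL : Group.IsSolvable L) {q : ℕ}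
    [Fact q.Prime] [CharP K2 q] [Algebra (ZMod q) K2] {V : Type*} [AddCommGroup V] [Module (ZMod q) V] [Module.Finite (ZMod q) V]
    (f : L →* Module.End (ZMod q) V) {m : ℕ} (hm : 2 ≤ m) (hmq : 2 ^ m - 1 = q) {μ : L}
    (hpow : μ ^ 2 ^ m = 1) (hrank : Module.finrank (ZMod q) (LinearMap.range (f μ - 1)) ≤ 2)
    (hker : LinearMap.ker (f (μ ^ 2 ^ (m - 1)) - 1) ≤ LinearMap.ker (f μ - 1)) :
    ∃ X Y : Subgroup L, X.Normal ∧ Y.Normal ∧ μ ^ 2 ^ (m - 1) ∈ X ∧
      (∀ x ∈ X, Odd (orderOf x) → x ∈ Y) ∧ ∀ x ∈ Y, (∃ l, x ^ 2 ^ l = 1) → f x = 1 := by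
  classical
  haveI := hL
  have hqp : q.Prime := Fact.out
  have hq2 : q ≠ 2 := by
    have : 2 ∣ 2 ^ m := dvd_pow_self 2 (by omega)
    omega
  set Tm := f (μ ^ 2 ^ (m - 1)) with hTm
  obtain ⟨A, hA⟩ : ∃ A : Module.End (ZMod q) V, A * (Tm - 1) = f μ - 1 := by
    obtain ⟨A, hA⟩ := LinearMap.exists_extend
      ((LinearMap.ker (Tm - 1)).liftQ (f μ - 1) hker ∘ₗ
        ((Tm - 1).quotKerEquivRange.symm : LinearMap.range (Tm - 1) →ₗ[ZMod q] _))
    refine ⟨A, LinearMap.ext fun w => ?_⟩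
    refine (LinearMap.congr_fun hA ⟨(Tm - 1) w, LinearMap.mem_range_self _ w⟩).trans ?_
    rw [LinearMap.comp_apply, LinearEquiv.coe_coe, LinearMap.quotKerEquivRange_symm_apply_image,
      Submodule.mkQ_apply, Submodule.liftQ_apply]
  haveI : Group.IsSolvable (L ⧸ f.ker) :=
    Group.isSolvable_of_surjective (QuotientGroup.mk'_surjective _)
  let bc : Module.End (ZMod q) V →* Module.End K2 (K2 ⊗[ZMod q] V) :=
    (Module.End.baseChangeHom (ZMod q) K2 V).toRingHom.toMonoidHom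
  let ρ0 : L ⧸ f.ker →* Module.End K2 (K2 ⊗[ZMod q] V) := bc.comp (QuotientGroup.lift f.ker f le_rfl)
  have hbc : Function.Injective bc := fun a b h => baseChangeHom_injective (ZMod q) K2 V h
  have hρ0 : Function.Injective ρ0 := hbc.comp (by
    rw [← MonoidHom.ker_eq_bot_iff, eq_bot_iff]
    intro a ha
    obtain ⟨x, rfl⟩ := QuotientGroup.mk'_surjective f.ker a
    rw [mem_bot, QuotientGroup.mk'_apply, QuotientGroup.eq_one_iff]
    exact ha)
  set g0 : L ⧸ f.ker := QuotientGroup.mk' f.ker μ with hg0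
  have hbcsub : ∀ e, bc e - 1 = (e - 1).baseChange K2 := fun e => by
    change Module.End.baseChangeHom (ZMod q) K2 V e - 1 = Module.End.baseChangeHom (ZMod q) K2 V _
    rw [map_sub, map_one]
  have hρg : ρ0 g0 = bc (f μ) := rfl
  have hρτ : ρ0 (g0 ^ 2 ^ (m - 1)) = bc Tm := by
    rw [hg0, ← map_pow]; rfl
  have hb : IsBireflection ρ0 g0 m :=
    { two_le := hm
      pow_eq := by rw [hg0, ← map_pow, hpow, map_one]
      rank_le := by
        rw [hρg, hbcsub]
        exact (finrank_range_baseChange_le (ZMod q) K2 V _).trans hrank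
      fix := fun v hv => by
        rw [hρτ] at hv
        have h1 : ((Tm - 1).baseChange K2) v = 0 := by
          rw [← hbcsub, LinearMap.sub_apply, hv, Module.End.one_apply, sub_self]
        rw [hρg]
        have h2 : (bc (f μ) - 1) v = 0 := by
          rw [hbcsub, ← hA, LinearMap.baseChange_mul, Module.End.mul_apply, h1, map_zero]
        exact sub_eq_zero.1 h2 }
  obtain ⟨X0, hX0n, hτX, hXodd⟩ := hb.exists_core hρ0 inferInstance hmq
  refine ⟨X0.comap (QuotientGroup.mk' f.ker),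
    (Cfsg.pCore q (L ⧸ f.ker)).comap (QuotientGroup.mk' f.ker), hX0n.comap _,
    (inferInstance : (Cfsg.pCore q (L ⧸ f.ker)).Normal).comap _, ?_, ?_, ?_⟩
  · rw [mem_comap, map_pow]
    exact hτX
  · exact fun x hx hodd => hXodd _ hx (hodd.of_dvd_nat (orderOf_map_dvd _ x))
  · intro x hx h2
    obtain ⟨l, hl⟩ := h2
    obtain ⟨i, hi⟩ := Cfsg.Agent.Thompson.isPGroup_pCore
      (⟨_, hx⟩ : Cfsg.pCore q (L ⧸ f.ker))
    have h1 : orderOf (QuotientGroup.mk' f.ker x) ∣ q ^ i :=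
      orderOf_dvd_of_pow_eq_one (congrArg Subtype.val hi)
    have h2 : orderOf (QuotientGroup.mk' f.ker x) ∣ 2 ^ l := orderOf_dvd_of_pow_eq_one (by
      rw [← map_pow, hl, map_one])
    have h3 := Nat.dvd_gcd h1 h2
    rw [(Nat.Coprime.pow _ _ ((Nat.coprime_primes hqp Nat.prime_two).2 hq2)).gcd_eq_one,
      Nat.dvd_one, orderOf_eq_one_iff, QuotientGroup.mk'_apply, QuotientGroup.eq_one_iff] at h3
    exact h3

/-- A bireflection over the field with `q` elements, with the closure supplied. -/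
theorem linear_core {L : Type*} [Group L] [Finite L] (hL : Group.IsSolvable L) {q : ℕ}
    [Fact q.Prime] {V : Type*} [AddCommGroup V] [Module (ZMod q) V] [Module.Finite (ZMod q) V]
    (f : L →* Module.End (ZMod q) V) {m : ℕ} (hm : 2 ≤ m) (hmq : 2 ^ m - 1 = q) {μ : L}
    (hpow : μ ^ 2 ^ m = 1) (hrank : Module.finrank (ZMod q) (LinearMap.range (f μ - 1)) ≤ 2)
    (hker : LinearMap.ker (f (μ ^ 2 ^ (m - 1)) - 1) ≤ LinearMap.ker (f μ - 1)) :
    ∃ X Y : Subgroup L, X.Normal ∧ Y.Normal ∧ μ ^ 2 ^ (m - 1) ∈ X ∧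
      (∀ x ∈ X, Odd (orderOf x) → x ∈ Y) ∧ ∀ x ∈ Y, (∃ l, x ^ 2 ^ l = 1) → f x = 1 := by
  haveI : CharP (AlgebraicClosure (ZMod q)) q :=
    charP_of_injective_algebraMap (algebraMap (ZMod q) (AlgebraicClosure (ZMod q))).injective q
  exact linear_core_aux (AlgebraicClosure (ZMod q)) hL f hm hmq hpow hrank hker

variable {N : Type*} [Group N] [Finite N] {T : Type*} [Group T] [Finite T]
  {K U : Type*} [Field K] [IsAlgClosed K] [CharP K 2] [AddCommGroup U] [Module K U]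
  [FiniteDimensional K U] {q n : ℕ}

/-- The conclusion at one weight: `τ` lies in a subgroup whose odd elements lie in one whose
2-elements act trivially modulo the kernel of the weight. -/
theorem weight_drop [Fact q.Prime] (hN : Group.IsSolvable N) (φ : N →* MulAut T)
    (hTq : IsPGroup q T) (hq2 : q ≠ 2) (hcomm : ∀ a b : T, ⁅a, b⁆ ∈ center T)
    (hpow : ∀ t : T, t ^ q ∈ center T) (ρ : T →* Module.End K U) (σU : N →* Module.End K U)
    (hcompat : ∀ g t w, σU g (ρ t w) = ρ (φ g t) (σU g w))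
    {y : N} (hyexp : y ^ 2 ^ (n + 1) = 1) (hnil : (σU y - 1) ^ (2 ^ (n + 1) - 1) = 0)
    (hfix : ∀ z ∈ center T, φ (y ^ 2 ^ n) z = z)
    (ψ : T → K) (hψ : ∃ v₀ : U, v₀ ≠ 0 ∧ ∀ z ∈ center T, ρ z v₀ = ψ z • v₀) :
    ∃ X Y : Subgroup N, y ^ 2 ^ n ∈ X ∧
      (∀ c, (∀ z ∈ center T, φ c z = z) → ∀ x ∈ X, c * x * c⁻¹ ∈ X) ∧
      (∀ c, (∀ z ∈ center T, φ c z = z) → ∀ x ∈ Y, c * x * c⁻¹ ∈ Y) ∧
      (∀ x ∈ X, Odd (orderOf x) → x ∈ Y) ∧
      ∀ x ∈ Y, (∃ l, x ^ 2 ^ l = 1) → ∀ t s : T, ψ ⁅s, t⁻¹ * φ x t⁆ = 1 := by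
  classical
  cases nonempty_fintype T
  haveI : Fact (Nat.Prime 2) := ⟨Nat.prime_two⟩
  obtain ⟨v₀, hv₀, hψv⟩ := hψ
  have hqp : q.Prime := Fact.out
  have hTK : (Nat.card T : K) ≠ 0 := by
    rw [Ne, CharP.cast_eq_zero_iff K 2]
    intro hd
    obtain ⟨l, hl⟩ := IsPGroup.iff_card.1 hTq
    rw [hl] at hd
    exact hq2 ((Nat.prime_dvd_prime_iff_eq Nat.prime_two hqp).1
      (Nat.prime_two.dvd_of_dvd_pow hd)).symm
  have heig : ∀ a b : K, a • v₀ = b • v₀ → a = b := fun a b h => smul_left_injective K hv₀ h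
  have hψmul : ∀ a ∈ center T, ∀ b ∈ center T, ψ (a * b) = ψ a * ψ b := by
    intro a ha b hb
    apply heig
    rw [← hψv _ (mul_mem ha hb), map_mul, Module.End.mul_apply, hψv b hb, map_smul, hψv a ha,
      smul_smul, mul_comm]
  have hψ1 : ψ 1 = 1 := heig _ _ (by rw [← hψv 1 (one_mem _), map_one, one_smul]; rfl)
  have hcen : ∀ (g : N), ∀ z ∈ center T, φ g z ∈ center T := fun g z hz => by
    rw [mem_center_iff] at hz ⊢
    intro a
    obtain ⟨a, rfl⟩ := (φ g).surjective a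
    rw [← map_mul, ← map_mul, hz]
  have hit : ∀ (k : ℕ) (a : T), (⇑(φ y).toMonoidHom)^[k] a = φ (y ^ k) a := by
    intro k
    induction k with
    | zero => intro a; simp
    | succ k ih =>
      intro a
      rw [Function.iterate_succ_apply', ih, pow_succ', map_mul]
      rfl
  have hper : ∀ a : T, (⇑(φ y).toMonoidHom)^[2 ^ (n + 1)] a = a := fun a => by
    rw [hit, hyexp, map_one]; rfl
  have hbr : ∀ a b t : T, ψ ⁅t, a * b⁆ = ψ ⁅t, a⁆ * ψ ⁅t, b⁆ := by
    intro a b t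
    have e : ⁅t, a * b⁆ = ⁅t, a⁆ * ⁅t, b⁆ := by
      rw [show ⁅t, a * b⁆ = ⁅t, a⁆ * (a * ⁅t, b⁆ * a⁻¹) by
        simp [commutatorElement_def, mul_assoc], mem_center_iff.1 (hcomm t b) a,
        mul_inv_cancel_right]
    rw [e, hψmul _ (hcomm _ _) _ (hcomm _ _)]
  let R : Subgroup T :=
    { carrier := {a | ∀ t : T, ψ ⁅t, a⁆ = 1}
      one_mem' := fun t => by simp [hψ1]
      mul_mem' := fun {a b} ha hb t => by rw [hbr, ha t, hb t, one_mul]
      inv_mem' := fun {a} ha t => by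
        have h := hbr a a⁻¹ t
        rw [mul_inv_cancel, ha t, one_mul, commutatorElement_one_right, hψ1] at h
        exact h.symm }
  have hZR : center T ≤ R := fun z hz t => by
    rw [show ⁅t, z⁆ = 1 from commutatorElement_eq_one_iff_mul_comm.2 (mem_center_iff.1 hz t), hψ1]
  haveI hRn : R.Normal := ⟨fun a ha g => by
    rw [show g * a * g⁻¹ = ⁅g, a⁆ * a by simp [commutatorElement_def, mul_assoc]]
    exact R.mul_mem (hZR (hcomm _ _)) ha⟩
  letI : CommGroup (T ⧸ R) :=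
    { (inferInstance : Group (T ⧸ R)) with
      mul_comm := fun a b => by
        induction a using QuotientGroup.induction_on with
        | H a =>
          induction b using QuotientGroup.induction_on with
          | H b =>
            rw [← QuotientGroup.mk_mul, ← QuotientGroup.mk_mul, QuotientGroup.eq]
            rw [show (a * b)⁻¹ * (b * a) = ⁅b⁻¹, a⁻¹⁆ by simp [commutatorElement_def, mul_assoc]]
            exact hZR (hcomm _ _) }
  haveI : Module (ZMod q) (Additive (T ⧸ R)) := AddCommGroup.zmodModule fun w => by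
    obtain ⟨a, ha⟩ := QuotientGroup.mk_surjective w.toMul
    change Additive.ofMul (w.toMul ^ q) = 0
    rw [← ha, ← QuotientGroup.mk_pow, (QuotientGroup.eq_one_iff _).2 (hZR (hpow a))]
    rfl
  haveI : Module.Finite (ZMod q) (Additive (T ⧸ R)) := Module.Finite.of_finite
  let cls : T → Additive (T ⧸ R) := fun a => Additive.ofMul (QuotientGroup.mk a)
  have hcls0 : ∀ {a : T}, cls a = 0 ↔ a ∈ R := fun {a} => QuotientGroup.eq_one_iff a
  have hclsdiv : ∀ a b : T, cls (a⁻¹ * b) = cls b - cls a := fun a b => by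
    change Additive.ofMul ((QuotientGroup.mk a : T ⧸ R)⁻¹ * QuotientGroup.mk b) = _
    rw [mul_comm, ← div_eq_mul_inv]; rfl
  have hclssurj : Function.Surjective cls := fun w => by
    obtain ⟨a, ha⟩ := QuotientGroup.mk_surjective w.toMul
    exact ⟨a, congrArg Additive.ofMul ha⟩
  -- the stabiliser of the weight
  let L : Subgroup N :=
    { carrier := {g | ∀ z ∈ center T, ψ (φ g z) = ψ z}
      one_mem' := fun z _ => by simp
      mul_mem' := fun {a b} ha hb z hz => by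
        rw [map_mul, MulAut.mul_apply, ha _ (hcen b z hz), hb z hz]
      inv_mem' := fun {a} ha z hz => by
        have := ha _ (hcen a⁻¹ z hz)
        rw [← MulAut.mul_apply, ← map_mul, mul_inv_cancel, map_one, MulAut.one_apply] at this
        exact this.symm }
  have hRinv : ∀ g ∈ L, ∀ a ∈ R, φ g a ∈ R := by
    intro g hg a ha s
    obtain ⟨s, rfl⟩ := (φ g).surjective s
    rw [← map_commutatorElement, hg _ (hcomm s a)]
    exact ha s
  let f : L →* Module.End (ZMod q) (Additive (T ⧸ R)) :=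
    { toFun := fun g => AddMonoidHom.toZModLinearMap q (MonoidHom.toAdditive
        (QuotientGroup.map R R (φ (g : N)).toMonoidHom (fun a ha => hRinv g g.2 a ha)))
      map_one' := LinearMap.ext fun w => by
        obtain ⟨a, rfl⟩ := hclssurj w
        change cls (φ ((1 : L) : N) a) = cls a
        simp
      map_mul' := fun g g' => LinearMap.ext fun w => by
        obtain ⟨a, rfl⟩ := hclssurj w
        change cls (φ ((g * g' : L) : N) a) = cls (φ (g : N) (φ (g' : N) a))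
        rw [Subgroup.coe_mul, map_mul, MulAut.mul_apply] }
  have hfcls : ∀ (g : L) (a : T), f g (cls a) = cls (φ (g : N) a) := fun g a => rfl
  have hτL : y ^ 2 ^ n ∈ L := fun z hz => by rw [hfix z hz]
  have hfix1 : ∀ (g : L), f g = 1 → ∀ t s : T, ψ ⁅s, t⁻¹ * φ (g : N) t⁆ = 1 := fun g hg t s => by
    have h1 := hfcls g t
    rw [hg, Module.End.one_apply, eq_comm, ← sub_eq_zero, ← hclsdiv, hcls0] at h1
    exact h1 s
  have hCL : ∀ c, (∀ z ∈ center T, φ c z = z) → c ∈ L := fun c hc z hz => by rw [hc z hz]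
  have hconj : ∀ (S : Subgroup L), S.Normal → ∀ c, (∀ z ∈ center T, φ c z = z) →
      ∀ x ∈ S.map L.subtype, c * x * c⁻¹ ∈ S.map L.subtype := by
    rintro S hS c hc _ ⟨x, hx, rfl⟩
    exact ⟨⟨c, hCL c hc⟩ * x * ⟨c, hCL c hc⟩⁻¹, hS.conj_mem x hx _, rfl⟩
  have hlt : 2 ^ (n + 1) - 1 < 2 ^ (n + 1) := Nat.sub_lt (pow_pos two_pos _) one_pos
  -- the weight space
  let LU : Submodule K U :=
    { carrier := {w | ∀ z ∈ center T, ρ z w = ψ z • w}
      zero_mem' := fun z _ => by simp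
      add_mem' := fun {a b} ha hb z hz => by rw [map_add, ha z hz, hb z hz, smul_add]
      smul_mem' := fun s {a} ha z hz => by rw [map_smul, ha z hz, smul_comm] }
  obtain ⟨ψ', ⟨v, hvL, hv, hψ'v⟩, -, -, -, hR⟩ := hhb_core_weight (φ y).toMonoidHom hper ρ
    (σU y) (by rw [← map_pow, hyexp, map_one]) hnil hlt (hcompat y) hTK hcomm LU
    (fun h => hv₀ (by
      have : v₀ ∈ LU := hψv
      rwa [h, Submodule.mem_bot] at this))
    (fun z hz w hw a ha => by rw [hw z hz, map_smul, hw a ha, smul_comm])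
  have hψeq : ∀ z ∈ center T, ψ' z = ψ z := fun z hz =>
    smul_left_injective K hv ((hψ'v z hz).symm.trans (hvL z hz))
  rcases hR R (fun a => forall_congr' fun s => by rw [hψeq _ (hcomm s a)]) with h | ⟨j, hj⟩
  · refine ⟨f.ker.map L.subtype, f.ker.map L.subtype, ⟨⟨_, hτL⟩, ?_, rfl⟩,
      hconj _ inferInstance, hconj _ inferInstance, fun x hx _ => hx, ?_⟩
    · refine LinearMap.ext fun w => ?_
      obtain ⟨a, rfl⟩ := hclssurj w
      rw [Module.End.one_apply, hfcls, ← sub_eq_zero, ← hclsdiv, hcls0, ← hit]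
      exact h a
    · rintro _ ⟨x, hx, rfl⟩ -
      exact hfix1 x hx
  set B := 2 ^ j with hB
  have hμ : y ^ B ∈ L := by
    intro z hz
    rw [← hψeq _ (hcen _ z hz), ← hit, hj.weight z hz, hψeq z hz]
  set m := n + 1 - j with hmdef
  have hm2 : 2 ≤ m := by
    by_contra hlt'
    have := hj.three_le
    have h2 : 2 ^ (n + 1 - j) ≤ 2 ^ 1 := Nat.pow_le_pow_right two_pos (by omega)
    omega
  have hBN : B * 2 ^ m = 2 ^ (n + 1) := by
    rw [hB, ← pow_add]; congr 1; have := hj.le; omega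
  have hBn : B * 2 ^ (m - 1) = 2 ^ n := by
    rw [hB, ← pow_add]; congr 1; have := hj.le; omega
  -- the size of the prime
  obtain ⟨aT, haT⟩ := IsPGroup.iff_card.1 hTq
  have hcd := hj.card_dvd
  rw [haT] at hcd
  obtain ⟨k, -, hk⟩ := (Nat.dvd_prime_pow hqp).1 ((dvd_pow_self _ two_ne_zero).trans hcd)
  have hmq : 2 ^ m - 1 = q := by
    rw [hk, mersenne_exponent hqp hm2 hk, pow_one]
  set μ : L := ⟨y ^ B, hμ⟩
  have hμτ : μ ^ 2 ^ (m - 1) = ⟨_, hτL⟩ := Subtype.ext (by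
    rw [SubmonoidClass.coe_pow, ← pow_mul, hBn])
  set E := closure (Set.range fun a => a⁻¹ * (⇑(φ y).toMonoidHom)^[2 ^ n] a) with hE
  set Tm := f ⟨_, hτL⟩ with hTmdef
  have hTm : ∀ a, (Tm - 1) (cls a) = cls (a⁻¹ * (⇑(φ y).toMonoidHom)^[2 ^ n] a) := fun a => by
    rw [LinearMap.sub_apply, Module.End.one_apply, hfcls, hclsdiv, hit]
  have hrE : ∀ w, w ∈ LinearMap.range (Tm - 1) ↔ ∃ e ∈ E, w = cls e := by
    intro w
    constructor
    · rintro ⟨u, rfl⟩
      obtain ⟨a, rfl⟩ := hclssurj u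
      exact ⟨_, subset_closure ⟨a, rfl⟩, hTm a⟩
    · rintro ⟨e, he, rfl⟩
      induction he using Subgroup.closure_induction with
      | mem z hz =>
        obtain ⟨a, rfl⟩ := hz
        exact ⟨cls a, hTm a⟩
      | one => exact Submodule.zero_mem _
      | mul z z' _ _ hz hz' => exact Submodule.add_mem _ hz hz'
      | inv z _ hz => exact Submodule.neg_mem _ hz
  have hEinv : ∀ e ∈ E, φ (y ^ B) e ∈ E := fun e he => by
    rw [← hit]; exact hj.inv e he
  set W := LinearMap.range (Tm - 1) with hW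
  -- the plane
  have hWdim : Module.finrank (ZMod q) W = 2 := by
    let gE : E →* T ⧸ R := (QuotientGroup.mk' R).comp E.subtype
    have h1 : Nat.card W = Nat.card gE.range := by
      refine Nat.card_congr
        { toFun := fun w => ⟨Additive.toMul (w : Additive (T ⧸ R)), by
            obtain ⟨e, he, hwe⟩ := (hrE _).1 w.2
            exact ⟨⟨e, he⟩, by rw [hwe]; rfl⟩⟩
          invFun := fun x => ⟨Additive.ofMul (x : T ⧸ R), by
            obtain ⟨e, he⟩ := x.2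
            refine (hrE _).2 ⟨e, e.2, ?_⟩
            rw [← he]; rfl⟩
          left_inv := fun w => rfl
          right_inv := fun x => rfl }
    have h2 : gE.ker = R.subgroupOf E := by
      ext e
      exact QuotientGroup.eq_one_iff (e : T)
    rw [← Subgroup.index_ker gE, h2, hj.index_eq, Module.natCard_eq_pow_finrank (K := ZMod q),
      Nat.card_zmod, hmq] at h1
    exact Nat.pow_right_injective hqp.two_le h1
  have hTp : ¬ 2 ∣ Nat.card T := fun hdv => hTK ((CharP.cast_eq_zero_iff K 2 _).2 hdv)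
  let τT : T →* T := (φ (y ^ 2 ^ n)).toMonoidHom
  have hτTp : ∀ z, (⇑τT)^[2] z = z := fun z => by
    change φ (y ^ 2 ^ n) (φ (y ^ 2 ^ n) z) = z
    rw [← MulAut.mul_apply, ← map_mul, ← pow_add, ← two_mul, ← pow_succ', hyexp, map_one]
    rfl
  have hsame : ∀ (S : Subgroup T), (∀ e ∈ S, τT e ∈ S) → ∀ a, a⁻¹ * τT a ∈ S →
      ∃ u, φ (y ^ B) u * u⁻¹ ∈ R ∧ a⁻¹ * u ∈ S := by
    intro S hS a ha
    obtain ⟨u, hu, hau⟩ := exists_fixed_mul_prime τT hτTp hTp S hS a ha
    refine ⟨u, ?_, hau⟩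
    have h1 := hj.fix_mem u (by rw [hit]; exact hu)
    rw [hit, ← hB] at h1
    have := hRn.conj_mem _ h1 u
    convert this using 1
    group
  have hcls_u : ∀ u, φ (y ^ B) u * u⁻¹ ∈ R → cls (φ (y ^ B) u) = cls u := fun u hu => by
    rw [← sub_eq_zero]
    change Additive.ofMul ((QuotientGroup.mk (φ (y ^ B) u) : T ⧸ R) / QuotientGroup.mk u) = 0
    rw [← QuotientGroup.mk_div, div_eq_mul_inv, (QuotientGroup.eq_one_iff _).2 hu]
    rfl
  have hrange : ∀ w, (f μ - 1) w ∈ W := by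
    intro w
    obtain ⟨a, rfl⟩ := hclssurj w
    have hτE : ∀ e ∈ E, τT e ∈ E := by
      intro e he
      have h1 : E ≤ E.comap τT := by
        rw [hE, closure_le]
        rintro _ ⟨b, rfl⟩
        refine subset_closure ⟨τT b, ?_⟩
        change (τT b)⁻¹ * (⇑(φ y).toMonoidHom)^[2 ^ n] (τT b) =
          τT (b⁻¹ * (⇑(φ y).toMonoidHom)^[2 ^ n] b)
        rw [hit, hit, map_mul, map_inv]
        rfl
      exact h1 he
    obtain ⟨u, hu, hau⟩ := hsame E hτE a (by
      change a⁻¹ * φ (y ^ 2 ^ n) a ∈ E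
      rw [← hit]; exact subset_closure ⟨a, rfl⟩)
    rw [LinearMap.sub_apply, Module.End.one_apply, hfcls]
    refine (hrE _).2 ⟨(φ (y ^ B) (a⁻¹ * u))⁻¹ * (a⁻¹ * u),
      E.mul_mem (inv_mem (hEinv _ hau)) hau, ?_⟩
    rw [hclsdiv, hclsdiv, map_mul, map_inv, hclsdiv, hcls_u u hu]
    change cls (φ (y ^ B) a) - cls a = _
    abel
  have hker : LinearMap.ker (Tm - 1) ≤ LinearMap.ker (f μ - 1) := by
    intro w hw
    obtain ⟨a, rfl⟩ := hclssurj w
    rw [LinearMap.mem_ker, hTm, hcls0, hit] at hw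
    obtain ⟨u, hu, hau⟩ := hsame R (hRinv _ hτL) a hw
    have h1 : cls u = cls a := by
      rw [← sub_eq_zero, ← hclsdiv, hcls0]; exact hau
    rw [LinearMap.mem_ker, LinearMap.sub_apply, Module.End.one_apply, ← h1, hfcls, hcls_u u hu,
      sub_self]
  obtain ⟨X0, Y0, hX0, hY0, hτX, hodd, htriv⟩ := linear_core (Group.isSolvable_of_isSolvable_injective L.subtype_injective) f hm2 hmq
    (μ := μ) (Subtype.ext (by rw [SubmonoidClass.coe_pow, ← pow_mul, hBN, hyexp]; rfl))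
    ((Submodule.finrank_mono (by rintro _ ⟨w, rfl⟩; exact hrange w)).trans hWdim.le)
    (by rw [hμτ]; exact hker)
  rw [hμτ] at hτX
  refine ⟨X0.map L.subtype, Y0.map L.subtype, ⟨⟨_, hτL⟩, hτX, rfl⟩, hconj _ hX0, hconj _ hY0,
    ?_, ?_⟩
  · rintro _ ⟨x, hx, rfl⟩ ho
    exact ⟨x, hodd x hx (ho.of_dvd_nat (orderOf_coe x).symm.dvd), rfl⟩
  · rintro _ ⟨x, hx, rfl⟩ ⟨l, hl⟩
    exact hfix1 x (htriv x hx ⟨l, Subtype.ext hl⟩)

/-- The squares of a 2-element on a critical `q`-group. -/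
theorem prime_drop [Fact q.Prime] (hN : Group.IsSolvable N) (φ : N →* MulAut T)
    (hTq : IsPGroup q T) (hq2 : q ≠ 2) (hcomm : ∀ a b : T, ⁅a, b⁆ ∈ center T)
    (hpow : ∀ t : T, t ^ q ∈ center T) (ρ : T →* Module.End K U) (hρ : Function.Injective ρ)
    (σU : N →* Module.End K U)
    (hcompat : ∀ g t w, σU g (ρ t w) = ρ (φ g t) (σU g w))
    {y : N} (hyexp : y ^ 2 ^ (n + 1) = 1) (hnil : (σU y - 1) ^ (2 ^ (n + 1) - 1) = 0) :
    ∃ C X Y : Subgroup N, C.Normal ∧ X ≤ C ∧ Y ≤ C ∧ y ^ 2 ^ n ∈ X ∧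
      (∀ c ∈ C, ∀ x ∈ X, c * x * c⁻¹ ∈ X) ∧ (∀ c ∈ C, ∀ x ∈ Y, c * x * c⁻¹ ∈ Y) ∧
      (∀ x ∈ X, Odd (orderOf x) → x ∈ Y) ∧
      ∀ x ∈ Y, (∃ l, x ^ 2 ^ l = 1) → ∀ t, φ x t = t := by
  classical
  haveI : Fact (Nat.Prime 2) := ⟨Nat.prime_two⟩
  have hqp : q.Prime := Fact.out
  obtain ⟨aT, haT⟩ := IsPGroup.iff_card.1 hTq
  have hcenK : (Nat.card (center T) : K) ≠ 0 := by
    rw [Ne, CharP.cast_eq_zero_iff K 2]
    intro hd
    have := hd.trans (card_subgroup_dvd_card (center T))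
    rw [haT] at this
    exact hq2 ((Nat.prime_dvd_prime_iff_eq Nat.prime_two hqp).1
      (Nat.prime_two.dvd_of_dvd_pow this)).symm
  have hcen : ∀ (g : N), ∀ z ∈ center T, φ g z ∈ center T := fun g z hz => by
    rw [mem_center_iff] at hz ⊢
    intro a
    obtain ⟨a, rfl⟩ := (φ g).surjective a
    rw [← map_mul, ← map_mul, hz]
  have hcomm' : ∀ a ∈ center T, ∀ b : T, ρ a * ρ b = ρ b * ρ a := fun a ha b => by
    rw [← map_mul, ← map_mul, mem_center_iff.1 ha b]
  have hfix : ∀ z ∈ center T, φ (y ^ 2 ^ n) z = z := by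
    intro z hz
    let Z := center T
    let σZ : Z →* Z := ((φ y).toMonoidHom.comp Z.subtype).codRestrict Z fun w => hcen y w w.2
    have hval : ∀ (k : ℕ) (w : Z), (((⇑σZ)^[k] w : Z) : T) = φ (y ^ k) w := by
      intro k w
      induction k with
      | zero => simp
      | succ k ih =>
        rw [Function.iterate_succ_apply', pow_succ', map_mul, MulAut.mul_apply, ← ih]
        rfl
    have key := end_abelian_norm (ρ.comp Z.subtype) (fun a b => hcomm' a a.2 b)
      σZ (σU y) Nat.prime_two (n := n) (fun e => Subtype.ext (by rw [hval, hyexp, map_one]; rfl))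
      (norm_of_sub_one_pow _ hnil (Nat.sub_lt (pow_pos two_pos _) one_pos))
      (fun e w => hcompat y (e : T) w) hcenK ⟨z, hz⟩
    have h2 : ρ ((((⟨z, hz⟩ : Z)⁻¹ * (⇑σZ)^[2 ^ n] ⟨z, hz⟩ : Z)) : T) = ρ 1 := by
      rw [map_one]; exact key
    have h3 := hρ h2
    rw [Subgroup.coe_mul, Subgroup.coe_inv, hval, inv_mul_eq_one] at h3
    exact h3.symm
  let C : Subgroup N :=
    { carrier := {c | ∀ z ∈ center T, φ c z = z}
      one_mem' := fun z _ => by simp
      mul_mem' := fun {a b} ha hb z hz => by rw [map_mul, MulAut.mul_apply, hb z hz, ha z hz]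
      inv_mem' := fun {a} ha z hz => by
        conv_lhs => rw [← ha z hz]
        rw [← MulAut.mul_apply, ← map_mul, inv_mul_cancel, map_one, MulAut.one_apply] }
  have hCn : C.Normal := ⟨fun c hc g z hz => by
    rw [map_mul, map_mul, MulAut.mul_apply, MulAut.mul_apply, hc _ (hcen g⁻¹ z hz),
      ← MulAut.mul_apply, ← map_mul, mul_inv_cancel, map_one, MulAut.one_apply]⟩
  let Ψ := {ψ : T → K // ∃ v₀ : U, v₀ ≠ 0 ∧ ∀ z ∈ center T, ρ z v₀ = ψ z • v₀}
  choose Xf Yf hτ hXc hYc hodd htriv using fun ψ : Ψ =>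
    weight_drop hN φ hTq hq2 hcomm hpow ρ σU hcompat hyexp hnil hfix ψ.1 ψ.2
  refine ⟨C, C ⊓ ⨅ ψ, Xf ψ, C ⊓ ⨅ ψ, Yf ψ, hCn, inf_le_left, inf_le_left,
    mem_inf.2 ⟨hfix, mem_iInf.2 hτ⟩,
    fun c hc x hx => mem_inf.2 ⟨mul_mem (mul_mem hc (mem_inf.1 hx).1) (inv_mem hc),
      mem_iInf.2 fun ψ => hXc ψ c hc x (mem_iInf.1 (mem_inf.1 hx).2 ψ)⟩,
    fun c hc x hx => mem_inf.2 ⟨mul_mem (mul_mem hc (mem_inf.1 hx).1) (inv_mem hc),
      mem_iInf.2 fun ψ => hYc ψ c hc x (mem_iInf.1 (mem_inf.1 hx).2 ψ)⟩,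
    fun x hx ho => mem_inf.2 ⟨(mem_inf.1 hx).1,
      mem_iInf.2 fun ψ => hodd ψ x (mem_iInf.1 (mem_inf.1 hx).2 ψ) ho⟩, ?_⟩
  rintro x hx ⟨l, hl⟩ t
  obtain ⟨hxC, hxY⟩ := mem_inf.1 hx
  set d := t⁻¹ * φ x t with hd
  have hdc : d ∈ center T := by
    by_contra hdc
    obtain ⟨x₀, hx₀⟩ : ∃ x₀ : T, ⁅x₀, d⁆ ≠ 1 := by
      by_contra h
      push Not at h
      exact hdc (mem_center_iff.2 fun g => commutatorElement_eq_one_iff_mul_comm.1 (h g))
    obtain ⟨ψ, hL, hψc⟩ := exists_weight_ne_one ρ (center T)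
      (fun a ha b _ v => LinearMap.congr_fun (hcomm' a ha b) v) hcenK (hcomm x₀ d)
      (fun h => hx₀ (hρ (h.trans (map_one ρ).symm)))
    obtain ⟨v, hv, hv0⟩ := Submodule.exists_mem_ne_zero_of_ne_bot hL
    exact hψc (htriv ⟨ψ, v, hv0, hv.2⟩ x (mem_iInf.1 hxY _) ⟨l, hl⟩ t x₀)
  have hpowx : ∀ k : ℕ, φ (x ^ k) t = t * d ^ k := by
    intro k
    induction k with
    | zero => simp
    | succ k ih =>
      rw [pow_succ', map_mul, MulAut.mul_apply, ih, map_mul, map_pow, hxC d hdc,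
        show φ x t = t * d by rw [hd]; group, mul_assoc, ← pow_succ']
  have h1 := hpowx (2 ^ l)
  rw [hl, map_one, MulAut.one_apply, left_eq_mul] at h1
  obtain ⟨i, hi⟩ := hTq d
  have h2 := Nat.dvd_gcd (orderOf_dvd_of_pow_eq_one h1) (orderOf_dvd_of_pow_eq_one hi)
  rw [(Nat.Coprime.pow _ _ ((Nat.coprime_primes Nat.prime_two hqp).2 hq2.symm)).gcd_eq_one,
    Nat.dvd_one, orderOf_eq_one_iff, hd, inv_mul_eq_one] at h2
  exact h2.symm

end Cfsg.Agent.FGS73
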