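import Cfsg.Prelude.Def_Solvable
import Cfsg.Agent.FGS73.HH
import Cfsg.Agent.FGS73.Action
import Cfsg.Agent.FGS73.Basic
import Cfsg.Agent.FGS73.Orbit
import Cfsg.Agent.Lib.Fitting.Minimal
import Cfsg.Agent.Lib.PGroup.Basic

/-!
The linear part of the Shult–Gross theorem.
-/

namespace Cfsg.Agent.FGS73

open Subgroup
open scoped commutatorElement TensorProduct IsMulCommutative

universe u

/-! ### periodic endomorphisms -/

theorem not_dvd_of_periodic {G : Type*} [Group G] [Finite G] (σ : G →* G) {p m : ℕ}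
    [Fact p.Prime] (hσp : ∀ g, (⇑σ)^[p ^ m] g = g) (hfpf : ∀ g, σ g = g → g = 1) :
    ¬ p ∣ Nat.card G := by
  haveI : NeZero (p ^ m) := ⟨(pow_pos (Fact.out : p.Prime).pos m).ne'⟩
  have hmod : ∀ k g, (⇑σ)^[k] g = (⇑σ)^[k % p ^ m] g := by
    intro k g
    conv_lhs => rw [← Nat.mod_add_div k (p ^ m), Function.iterate_add_apply,
      Function.IsPeriodicPt.mul_const (hσp _) _]
  have hhom : ∀ k (x y : G), (⇑σ)^[k] (x * y) = (⇑σ)^[k] x * (⇑σ)^[k] y :=
    fun k x y => iterate_map_mul σ k x y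
  let φ : Multiplicative (ZMod (p ^ m)) →* Monoid.End G :=
    { toFun := fun a => MonoidHom.mk' ((⇑σ)^[a.toAdd.val]) (hhom _)
      map_one' := MonoidHom.ext fun g => by
        change (⇑σ)^[(0 : ZMod (p ^ m)).val] g = g
        rw [ZMod.val_zero]; rfl
      map_mul' := fun a b => MonoidHom.ext fun g => by
        change (⇑σ)^[(a.toAdd + b.toAdd).val] g = (⇑σ)^[a.toAdd.val] ((⇑σ)^[b.toAdd.val] g)
        rw [ZMod.val_add, ← hmod, Function.iterate_add_apply] }
  refine not_dvd_card_of_fixed (p := p) (A := Multiplicative (ZMod (p ^ m))) ?_ φ fun x hx => ?_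
  · exact IsPGroup.of_card (n := m) (by
      change Nat.card (ZMod (p ^ m)) = _
      rw [Nat.card_zmod])
  · apply hfpf
    have h1 : (⇑σ)^[(1 : ZMod (p ^ m)).val] x = x := hx (Multiplicative.ofAdd 1)
    rw [ZMod.val_one_eq_one_mod, ← hmod] at h1
    simpa using h1

/-! ### arithmetic of `2 ^ k + 1` -/

theorem lift_order (p : ℕ) (hp2 : p.Prime) (hodd : p ≠ 2) (a : ℤ) {m : ℕ} (hm : 1 ≤ m)
    (h1 : (p : ℤ) ^ m ∣ a - 1) (h2 : ¬ (p : ℤ) ^ (m + 1) ∣ a - 1) (D : ℕ) (j : ℕ)
    (h : (p : ℤ) ^ (m + j) ∣ a ^ D - 1) : p ^ j ∣ D := by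
  have hpp : (p : ℤ).natAbs.Prime := by simpa using hp2
  have hdvd : (p : ℤ) ∣ a - 1 := (dvd_pow_self _ (by omega)).trans h1
  have hna : ¬ (p : ℤ) ∣ a := fun hpa => by
    have : (p : ℤ) ∣ 1 := by simpa using dvd_sub hpa hdvd
    exact hp2.not_dvd_one (by exact_mod_cast this)
  rcases Nat.eq_zero_or_pos D with rfl | hD
  · exact dvd_zero _
  have hl := Int.emultiplicity_pow_sub_pow (p := p) hp2 (hp2.odd_of_ne_two hodd)
    (x := a) (y := 1) hdvd hna D
  rw [one_pow, emultiplicity_eq_of_dvd_of_not_dvd h1 h2] at hl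
  have h3 := le_emultiplicity_of_pow_dvd h
  rw [hl] at h3
  have h4 : (j : ℕ∞) ≤ emultiplicity p D := by
    rw [Nat.cast_add] at h3
    exact (ENat.add_le_add_iff_left (ENat.natCast_ne_top m)).1 h3
  exact pow_dvd_iff_le_emultiplicity.2 h4

/-- if `2 ^ k + 1 = p ^ m` then `p ^ (m + j) ∣ 2 ^ D - 1` forces `2 * k * p ^ j ∣ D`. -/
theorem order_two {p k m j D : ℕ} (hp : p.Prime) (hodd : p ≠ 2) (hk : 1 ≤ k) (hm : 1 ≤ m)
    (he : 2 ^ k + 1 = p ^ m) (h : (p : ℤ) ^ (m + j) ∣ (2 : ℤ) ^ D - 1) : 2 * k * p ^ j ∣ D := by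
  have he' : (2 : ℤ) ^ k + 1 = (p : ℤ) ^ m := by exact_mod_cast he
  -- first `2 * k ∣ D`
  have hfull : (p : ℤ) ^ m ∣ (2 : ℤ) ^ (2 * k) - 1 :=
    ⟨(2 : ℤ) ^ k - 1, by rw [← he', two_mul, pow_add]; ring⟩
  have hr : 2 * k ∣ D := by
    have hDm : (p : ℤ) ^ m ∣ (2 : ℤ) ^ D - 1 := (pow_dvd_pow _ (Nat.le_add_right m j)).trans h
    have hr0 : (p : ℤ) ^ m ∣ (2 : ℤ) ^ (D % (2 * k)) - 1 := by
      have e : (2 : ℤ) ^ D - 1 =
          (2 : ℤ) ^ (D % (2 * k)) * (((2 : ℤ) ^ (2 * k)) ^ (D / (2 * k)) - 1) +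
            ((2 : ℤ) ^ (D % (2 * k)) - 1) := by
        conv_lhs => rw [← Nat.mod_add_div D (2 * k), pow_add, pow_mul]
        ring
      rw [e] at hDm
      refine (dvd_add_right (dvd_mul_of_dvd_right ?_ _)).1 hDm
      exact hfull.trans (sub_one_dvd_pow_sub_one _ _)
    refine Nat.dvd_of_mod_eq_zero ?_
    by_contra hr1
    have hlt : D % (2 * k) < 2 * k := Nat.mod_lt _ (by omega)
    generalize D % (2 * k) = r at *
    rcases le_or_gt r k with hrk | hrk
    · have hpos : (0 : ℤ) < (2 : ℤ) ^ r - 1 := by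
        have h2 := one_lt_pow₀ (show (1 : ℤ) < 2 by norm_num) hr1
        linarith
      have := Int.le_of_dvd hpos hr0
      have h3 := pow_le_pow_right₀ (show (1 : ℤ) ≤ 2 by norm_num) hrk
      linarith [he']
    · -- `2 ^ r ≡ - 2 ^ (r - k)`
      have e : (2 : ℤ) ^ r - 1 = (2 : ℤ) ^ (r - k) * ((2 : ℤ) ^ k + 1) - ((2 : ℤ) ^ (r - k) + 1) := by
        rw [mul_add, ← pow_add, show r - k + k = r by omega]; ring
      rw [e, he'] at hr0
      have h2 : (p : ℤ) ^ m ∣ (2 : ℤ) ^ (r - k) + 1 := (dvd_sub_right (dvd_mul_left _ _)).1 hr0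
      have := Int.le_of_dvd (by positivity) h2
      have h3 : (2 : ℤ) ^ (r - k) < (2 : ℤ) ^ k := pow_lt_pow_right₀ (by norm_num) (by omega)
      linarith [he']
  obtain ⟨D', rfl⟩ := hr
  rw [pow_mul] at h
  refine mul_dvd_mul_left _ (lift_order p hp hodd _ hm hfull ?_ D' j h)
  intro hbad
  have e : (2 : ℤ) ^ (2 * k) - 1 = (p : ℤ) ^ m * ((p : ℤ) ^ m - 2) := by
    rw [← he', two_mul, pow_add]; ring
  rw [e, pow_succ] at hbad
  have hp0 : (p : ℤ) ^ m ≠ 0 := pow_ne_zero _ (by exact_mod_cast hp.ne_zero)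
  have h4 : (p : ℤ) ∣ (p : ℤ) ^ m - 2 := (mul_dvd_mul_iff_left hp0).1 hbad
  have h5 : (p : ℤ) ∣ 2 := (dvd_sub_right (dvd_pow_self _ (by omega : m ≠ 0))).1 h4
  have h6 : p ∣ 2 := by exact_mod_cast h5
  exact hodd ((Nat.prime_dvd_prime_iff_eq hp Nat.prime_two).1 h6)

/-! ### the critical `q`-subgroup -/

structure Critical {R : Type*} [Group R] (σ : R →* R) (p n q : ℕ) (Z : Subgroup R) : Prop where
  qgroup : IsPGroup q R
  periodic : ∀ x, (⇑σ)^[p ^ (n + 1)] x = x
  fpf : ∀ x, σ x = x → x = 1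
  comm_mem : ∀ x y : R, ⁅x, y⁆ ∈ Z
  central : ∀ z ∈ Z, ∀ x : R, z * x = x * z
  pow_mem : ∀ x : R, x ^ q ∈ Z
  inv : ∀ z ∈ Z, σ z ∈ Z
  fixed_Z : ∀ z ∈ Z, (⇑σ)^[p ^ n] z = z
  free : ∀ x : R, x⁻¹ * (⇑σ)^[p ^ n] x ∈ Z → x ∈ Z
  irred : ∀ K : Subgroup R, Z ≤ K → (∀ x ∈ K, σ x ∈ K) → K = Z ∨ K = ⊤
  nontriv : ∃ x y : R, ⁅x, y⁆ ≠ 1

theorem index_finset_inf_le {R : Type*} [Group R] {ι : Type*} (T : ι → Subgroup R) (s : Finset ι) :
    (s.inf T).index ≤ ∏ i ∈ s, (T i).index := by
  classical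
  induction s using Finset.induction with
  | empty => simp
  | insert a s ha ih =>
    rw [Finset.inf_insert, Finset.prod_insert ha]
    exact Subgroup.index_inf_le.trans (Nat.mul_le_mul_left _ ih)

theorem common_eigen {K U ι : Type*} [Field K] [IsAlgClosed K] [AddCommGroup U] [Module K U]
    [FiniteDimensional K U] [Fintype ι] (f : ι → Module.End K U)
    (hcomm : ∀ i j, f i * f j = f j * f i) (L : Submodule K U) (hL : L ≠ ⊥)
    (hinv : ∀ i, ∀ w ∈ L, f i w ∈ L) :
    ∃ c : ι → K, ∃ w ∈ L, w ≠ 0 ∧ ∀ i, f i w = c i • w := by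
  classical
  suffices h : ∀ s : Finset ι, ∃ c : ι → K, ∃ M : Submodule K U, M ≤ L ∧ M ≠ ⊥ ∧
      (∀ i, ∀ w ∈ M, f i w ∈ M) ∧ ∀ i ∈ s, ∀ w ∈ M, f i w = c i • w by
    obtain ⟨c, M, hML, hM0, -, hMc⟩ := h Finset.univ
    obtain ⟨w, hw, hw0⟩ := Submodule.exists_mem_ne_zero_of_ne_bot hM0
    exact ⟨c, w, hML hw, hw0, fun i => hMc i (Finset.mem_univ i) w hw⟩
  intro s
  induction s using Finset.induction with
  | empty => exact ⟨0, L, le_rfl, hL, hinv, by simp⟩
  | insert a s ha ih =>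
    obtain ⟨c, M, hML, hM0, hMi, hMc⟩ := ih
    haveI : Nontrivial M := Submodule.nontrivial_iff_ne_bot.2 hM0
    obtain ⟨t, ht⟩ := Module.End.exists_eigenvalue ((f a).restrict (hMi a))
    refine ⟨Function.update c a t, M ⊓ Module.End.eigenspace (f a) t, inf_le_left.trans hML, ?_, ?_, ?_⟩
    · obtain ⟨v, hv⟩ := ht.exists_hasEigenvector
      intro hbot
      apply hv.2
      apply Subtype.ext
      have : (v : U) ∈ M ⊓ Module.End.eigenspace (f a) t :=
        ⟨v.2, Module.End.mem_eigenspace_iff.2 (congrArg Subtype.val hv.apply_eq_smul)⟩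
      rw [hbot] at this
      exact (Submodule.mem_bot K).1 this
    · rintro i w ⟨hw, hw'⟩
      refine ⟨hMi i w hw, Module.End.mem_eigenspace_iff.2 ?_⟩
      rw [← Module.End.mul_apply, hcomm, Module.End.mul_apply,
        Module.End.mem_eigenspace_iff.1 hw', map_smul]
    · rintro i hi w ⟨hw, hw'⟩
      rcases Finset.mem_insert.1 hi with rfl | hi'
      · rw [Function.update_self]; exact Module.End.mem_eigenspace_iff.1 hw'
      · rw [Function.update_of_ne (by rintro rfl; exact ha hi')]; exact hMc i hi' w hw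

/-- A critical subgroup admits no faithful representation in which `σ` is fixed-point-free. -/
theorem Critical.false_of_rep {R : Type*} [Group R] [Finite R] {σ : R →* R} {p n q : ℕ}
    {Z : Subgroup R} (C : Critical σ p n q Z) (hp : p.Prime) (hp2 : p ≠ 2) (hq : q.Prime)
    {K U : Type*} [Field K] [IsAlgClosed K] [AddCommGroup U] [Module K U] [FiniteDimensional K U]
    (ρ : R →* Module.End K U) (hρ : Function.Injective ρ) (S : Module.End K U)
    (hS : ∀ w, S w = w → w = 0) (hSp : S ^ (p ^ (n + 1)) = 1)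
    (hcompat : ∀ x w, S (ρ x w) = ρ (σ x) (S w)) (hqK : (q : K) ≠ 0) (hpK : (p : K) ≠ 0) :
    False := by
  classical
  cases nonempty_fintype R
  haveI := Fact.mk hq
  set M := p ^ (n + 1) with hM
  have hM0 : 0 < M := pow_pos hp.pos _
  have hcardK : ∀ H : Subgroup R, (Nat.card H : K) ≠ 0 := by
    intro H
    obtain ⟨a, ha⟩ := IsPGroup.iff_card.1 (C.qgroup.to_subgroup H)
    rw [ha, Nat.cast_pow]
    exact pow_ne_zero _ hqK
  have hcardR : (Nat.card R : K) ≠ 0 := by
    obtain ⟨a, ha⟩ := IsPGroup.iff_card.1 C.qgroup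
    rw [ha, Nat.cast_pow]
    exact pow_ne_zero _ hqK
  have hhom : ∀ k (a b : R), (⇑σ)^[k] (a * b) = (⇑σ)^[k] a * (⇑σ)^[k] b :=
    fun k a b => iterate_map_mul σ k a b
  have hZi : ∀ k, ∀ z ∈ Z, (⇑σ)^[k] z ∈ Z := by
    intro k z hz
    induction k with
    | zero => exact hz
    | succ k ih => rw [Function.iterate_succ_apply']; exact C.inv _ ih
  have hmulapp : ∀ a b w, ρ (a * b) w = ρ a (ρ b w) := fun a b w => by rw [map_mul]; rfl
  have honeapp : ∀ w, ρ 1 w = w := fun w => by rw [map_one]; rfl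
  -- a commutator acting without fixed vectors on an invariant subspace
  obtain ⟨x₀, y₀, hxy⟩ := C.nontriv
  set c₀ := ⁅x₀, y₀⁆ with hc₀
  have hc₀Z : c₀ ∈ Z := C.comm_mem x₀ y₀
  let L : Submodule K U := LinearMap.range (ρ c₀ - 1)
  have hL : L ≠ ⊥ := by
    intro h
    apply hxy
    apply hρ
    rw [map_one, ← sub_eq_zero, ← LinearMap.range_eq_bot]
    exact h
  have hLfix : ∀ w ∈ L, ρ c₀ w = w → w = 0 := by
    rintro _ ⟨u, rfl⟩ hw
    set d := (ρ c₀ - 1) u with hd
    have hpow : ∀ i : ℕ, ρ (c₀ ^ i) u = u + (i : K) • d := by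
      intro i
      induction i with
      | zero => simp [honeapp]
      | succ i ih =>
        rw [pow_succ', hmulapp, ih, map_add, map_smul, hw]
        have : ρ c₀ u = u + d := by simp [hd]
        rw [this, Nat.cast_succ, add_smul, one_smul]
        abel
    have h1 := hpow (orderOf c₀)
    rw [pow_orderOf_eq_one, honeapp] at h1
    have h2 : ((orderOf c₀ : ℕ) : K) • d = 0 := left_eq_add.1 h1
    refine (smul_eq_zero.1 h2).resolve_left ?_
    have := hcardK (Subgroup.zpowers c₀)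
    rwa [Nat.card_zpowers] at this
  obtain ⟨ψ, v₀, hv₀L, hv₀, hψ⟩ := common_eigen (fun z : Z => ρ (z : R))
    (fun a b => by rw [← map_mul, ← map_mul, C.central a a.2 b]) L hL (by
      rintro z _ ⟨u, rfl⟩
      refine ⟨ρ (z : R) u, ?_⟩
      simp only [LinearMap.sub_apply, Module.End.one_apply, map_sub, ← hmulapp,
        C.central c₀ hc₀Z (z : R)])
  have hψc : ψ ⟨c₀, hc₀Z⟩ ≠ 1 := fun h1 =>
    hv₀ (hLfix v₀ hv₀L (by
      have := hψ ⟨c₀, hc₀Z⟩
      rw [h1, one_smul] at this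
      exact this))
  -- `ψ` as a function on `R`
  let Ψ : R → K := fun x => if hx : x ∈ Z then ψ ⟨x, hx⟩ else 0
  have hΨ : ∀ z (hz : z ∈ Z), Ψ z = ψ ⟨z, hz⟩ := fun z hz => dif_pos hz
  have hΨv : ∀ z ∈ Z, ρ z v₀ = Ψ z • v₀ := fun z hz => by rw [hΨ z hz]; exact hψ ⟨z, hz⟩
  have heigne : ∀ a b : K, a • v₀ = b • v₀ → a = b := fun a b h => smul_left_injective K hv₀ h
  have hΨmul : ∀ a ∈ Z, ∀ b ∈ Z, Ψ (a * b) = Ψ a * Ψ b := by
    intro a ha b hb
    apply heigne
    rw [← hΨv _ (Z.mul_mem ha hb), hmulapp, hΨv b hb, map_smul, hΨv a ha, smul_smul, mul_comm]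
  have hΨ1 : Ψ 1 = 1 := heigne _ _ (by rw [← hΨv 1 (one_mem Z), honeapp, one_smul])
  -- the period of `ψ` under `σ`
  let per : ℕ → Prop := fun i => ∀ z ∈ Z, Ψ ((⇑σ)^[i] z) = Ψ z
  have hperτ : per (p ^ n) := fun z hz => by rw [C.fixed_Z z hz]
  have hexper : ∃ j, per (p ^ j) := ⟨n, hperτ⟩
  set j := Nat.find hexper with hjdef
  have hj : per (p ^ j) := Nat.find_spec hexper
  have hjn : j ≤ n := Nat.find_min' hexper hperτ
  set B := p ^ j with hB
  have hB0 : 0 < B := pow_pos hp.pos _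
  have hpermul : ∀ t, per (B * t) := by
    intro t
    induction t with
    | zero => intro z _; simp
    | succ t ih =>
      intro z hz
      rw [Nat.mul_succ, Function.iterate_add_apply, ih _ (hZi _ z hz), hj z hz]
  set m := n + 1 - j with hm
  have hjm : j + m = n + 1 := by omega
  set N := p ^ m with hN
  have hBN : B * N = M := by rw [hB, hN, hM, ← pow_add, hjm]
  let η : R →* R := MonoidHom.mk' ((⇑σ)^[B]) (hhom B)
  have hηit : ∀ i x, (⇑η)^[i] x = (⇑σ)^[B * i] x := fun i x => by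
    rw [Function.iterate_mul]; rfl
  set Sη := S ^ B with hSη
  have hSit : ∀ k x w, (S ^ k) (ρ x w) = ρ ((⇑σ)^[k] x) ((S ^ k) w) := by
    intro k
    induction k with
    | zero => intro x w; rfl
    | succ k ih =>
      intro x w
      rw [pow_succ', Module.End.mul_apply, ih, hcompat, Function.iterate_succ_apply',
        Module.End.mul_apply]
  -- the weight space
  let U0 : Submodule K U :=
    { carrier := {w | ∀ z ∈ Z, ρ z w = Ψ z • w}
      zero_mem' := fun z _ => by simp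
      add_mem' := fun {a b} ha hb z hz => by rw [map_add, ha z hz, hb z hz, smul_add]
      smul_mem' := fun c {a} ha z hz => by rw [map_smul, ha z hz, smul_comm] }
  have hU0inv : ∀ x, ∀ w ∈ U0, ρ x w ∈ U0 := by
    intro x w hw z hz
    rw [← hmulapp, C.central z hz x, hmulapp, hw z hz, map_smul]
  have hperinv : ∀ z ∈ Z, ∃ y ∈ Z, (⇑σ)^[B] y = z := by
    intro z hz
    refine ⟨(⇑σ)^[B * (N - 1)] z, hZi _ z hz, ?_⟩
    rw [← Function.iterate_add_apply, show B + B * (N - 1) = B * N by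
      rw [← Nat.mul_succ B (N - 1) |>.trans (Nat.add_comm _ _), Nat.succ_eq_add_one,
        Nat.sub_add_cancel (pow_pos hp.pos m)], hBN, C.periodic]
  have hSU0 : ∀ w ∈ U0, Sη w ∈ U0 := by
    intro w hw z hz
    obtain ⟨y, hy, rfl⟩ := hperinv z hz
    rw [← hSit, hw y hy, map_smul, hj y hy]
  haveI : Nontrivial U0 := ⟨⟨⟨v₀, hΨv⟩, 0, fun h => hv₀ (congrArg Subtype.val h)⟩⟩
  let ρ0 : R →* Module.End K U0 :=
    { toFun := fun x => (ρ x).restrict (hU0inv x)
      map_one' := LinearMap.ext fun w => Subtype.ext (honeapp _)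
      map_mul' := fun a b => LinearMap.ext fun w => Subtype.ext (hmulapp a b _) }
  let S0 : Module.End K U0 := Sη.restrict hSU0
  -- `Sη` has no fixed vectors on the weight space
  have hfix0 : ∀ w ∈ U0, Sη w = w → w = 0 := by
    intro w hw hwS
    have hSk : ∀ k y, ρ y ((S ^ k) w) = (S ^ k) (ρ ((⇑σ)^[M - k % M] y) w) := by
      intro k y
      rw [hSit]
      congr 2
      rw [← Function.iterate_add_apply]
      have h := Nat.mod_add_div k M
      have h' := Nat.mod_lt k hM0
      rw [show k + (M - k % M) = M * (k / M + 1) by rw [Nat.mul_succ]; omega,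
        Function.IsPeriodicPt.mul_const (C.periodic y) _]
    have hsum : ∀ z ∈ Z, ∑ i ∈ Finset.range B, Ψ ((⇑σ)^[M - i] z) • (S ^ i) w = 0 := by
      intro z hz
      have h0 : ∑ i ∈ Finset.range B, (S ^ i) w = 0 := by
        apply hS
        rw [map_sum]
        simp only [← Module.End.mul_apply, ← pow_succ']
        have h1 := Finset.sum_range_succ' (fun i => (S ^ i) w) B
        have h2 := Finset.sum_range_succ (fun i => (S ^ i) w) B
        rw [h1, show (S ^ B) w = (S ^ 0) w by rw [pow_zero]; exact hwS] at h2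
        exact add_right_cancel h2
      have h1 := congrArg (ρ z) h0
      rw [map_zero, map_sum] at h1
      rw [← h1]
      refine Finset.sum_congr rfl fun i hi => ?_
      have hiM : i < M := lt_of_lt_of_le (Finset.mem_range.1 hi)
        (hBN ▸ Nat.le_mul_of_pos_right B (pow_pos hp.pos m))
      rw [hSk, Nat.mod_eq_of_lt hiM, hw _ (hZi _ z hz), map_smul]
    have htot : ∑ i ∈ Finset.range B,
        (∑ z : Z, Ψ ((z : R)⁻¹) * Ψ ((⇑σ)^[M - i] (z : R))) • (S ^ i) w = 0 := by
      simp only [Finset.sum_smul]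
      rw [Finset.sum_comm]
      refine Finset.sum_eq_zero fun z _ => ?_
      simp only [mul_smul, ← Finset.smul_sum]
      rw [hsum z z.2, smul_zero]
    rw [Finset.sum_eq_single_of_mem 0 (Finset.mem_range.2 hB0) ?_] at htot
    · have h1 : ∀ z : Z, Ψ ((z : R)⁻¹) * Ψ ((⇑σ)^[M - 0] (z : R)) = 1 := fun z => by
        rw [Nat.sub_zero, C.periodic, ← hΨmul _ (Z.inv_mem z.2) _ z.2, inv_mul_cancel, hΨ1]
      simp only [h1, Finset.sum_const, nsmul_eq_mul, mul_one, pow_zero, Module.End.one_apply,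
        Finset.card_univ] at htot
      refine (smul_eq_zero.1 htot).resolve_left ?_
      rw [← Nat.card_eq_fintype_card]
      exact hcardK Z
    intro i hi hi0
    rw [Finset.mem_range] at hi
    -- a nontrivial character sums to zero
    let χ : Z →* K :=
      { toFun := fun z => Ψ ((z : R)⁻¹) * Ψ ((⇑σ)^[M - i] (z : R))
        map_one' := by simp [iterate_map_one, hΨ1]
        map_mul' := fun a b => by
          simp only [Subgroup.coe_mul, mul_inv_rev, hhom]
          rw [hΨmul _ (Z.inv_mem b.2) _ (Z.inv_mem a.2), hΨmul _ (hZi _ _ a.2) _ (hZi _ _ b.2)]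
          ring }
    have hχ : χ ≠ 1 := by
      intro h1
      -- then `M - i` would be a period
      have hperMi : per (M - i) := by
        intro z hz
        have h2 : Ψ (z⁻¹) * Ψ ((⇑σ)^[M - i] z) = 1 := DFunLike.congr_fun h1 ⟨z, hz⟩
        calc Ψ ((⇑σ)^[M - i] z) = (Ψ z * Ψ z⁻¹) * Ψ ((⇑σ)^[M - i] z) := by
              rw [← hΨmul _ hz _ (Z.inv_mem hz), mul_inv_cancel, hΨ1, one_mul]
          _ = Ψ z := by rw [mul_assoc, h2, mul_one]
      have hperi : per i := by
        intro z hz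
        have h2 := hperMi _ (hZi i z hz)
        have hiM : i < M := lt_of_lt_of_le hi
          (hBN ▸ Nat.le_mul_of_pos_right B (pow_pos hp.pos m))
        rw [← Function.iterate_add_apply, Nat.sub_add_cancel hiM.le, C.periodic] at h2
        exact h2.symm
      -- periods are closed under gcd
      have hgcd : ∀ a b, per a → per b → per (Nat.gcd a b) := by
        intro a b
        induction a, b using Nat.gcd.induction with
        | H0 b => intro _ hb; simpa using hb
        | H1 a b _ ih =>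
          intro ha hb
          rw [Nat.gcd_rec]
          refine ih ?_ ha
          intro z hz
          have hq' : ∀ t z, z ∈ Z → Ψ ((⇑σ)^[a * t] z) = Ψ z := by
            intro t
            induction t with
            | zero => intro z _; simp
            | succ t iht =>
              intro z hz
              rw [Nat.mul_succ, Function.iterate_add_apply, iht _ (hZi _ z hz), ha z hz]
          have h3 := hq' (b / a) _ (hZi (b % a) z hz)
          rw [← Function.iterate_add_apply, Nat.add_comm, Nat.mod_add_div, hb z hz] at h3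
          exact h3.symm
      obtain ⟨a, ha, hga⟩ := (Nat.dvd_prime_pow hp).1 (Nat.gcd_dvd_right i B)
      have h4 := hgcd i B hperi hj
      rw [hga] at h4
      have h5 : j ≤ a := Nat.find_min' hexper h4
      have h6 : Nat.gcd i B ≤ i := Nat.le_of_dvd (Nat.pos_of_ne_zero hi0) (Nat.gcd_dvd_left i B)
      have h7 : B ≤ p ^ a := Nat.pow_le_pow_right hp.pos h5
      omega
    rw [show ∑ z : Z, Ψ ((z : R)⁻¹) * Ψ ((⇑σ)^[M - i] (z : R)) = 0 from
      sum_hom_units_eq_zero χ hχ, zero_smul]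
  -- the radical
  have hΨcmul : ∀ a b x : R, Ψ ⁅x, a * b⁆ = Ψ ⁅x, a⁆ * Ψ ⁅x, b⁆ := by
    intro a b x
    have e : ⁅x, a * b⁆ = ⁅x, a⁆ * ⁅x, b⁆ := by
      rw [show ⁅x, a * b⁆ = ⁅x, a⁆ * (a * ⁅x, b⁆ * a⁻¹) by
        simp [commutatorElement_def, mul_assoc], ← C.central _ (C.comm_mem x b) a,
        mul_inv_cancel_right]
    rw [e, hΨmul _ (C.comm_mem _ _) _ (C.comm_mem _ _)]
  let ZR : Subgroup R :=
    { carrier := {a | ∀ x : R, Ψ ⁅x, a⁆ = 1}
      one_mem' := fun x => by simp [hΨ1]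
      mul_mem' := fun {a b} ha hb x => by rw [hΨcmul, ha x, hb x, one_mul]
      inv_mem' := fun {a} ha x => by
        have h := hΨcmul a a⁻¹ x
        rw [mul_inv_cancel, ha x, one_mul, commutatorElement_one_right, hΨ1] at h
        exact h.symm }
  have hZZR : Z ≤ ZR := by
    intro z hz x
    rw [show ⁅x, z⁆ = 1 from commutatorElement_eq_one_iff_mul_comm.2 (C.central z hz x).symm, hΨ1]
  have hσbij : ∀ k, Function.Bijective ((⇑σ)^[k]) := by
    intro k
    refine Function.Bijective.iterate ?_ k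
    refine Finite.injective_iff_bijective.1 fun a b hab => ?_
    have := congrArg ((⇑σ)^[M - 1]) hab
    rwa [← Function.iterate_succ_apply, ← Function.iterate_succ_apply,
      show (M - 1).succ = M by omega, C.periodic, C.periodic] at this
  have hiterc : ∀ k (a b : R), (⇑σ)^[k] ⁅a, b⁆ = ⁅(⇑σ)^[k] a, (⇑σ)^[k] b⁆ := fun k a b =>
    map_commutatorElement (MonoidHom.mk' ((⇑σ)^[k]) (hhom k)) a b
  have hZRB : ∀ a ∈ ZR, (⇑σ)^[B] a ∈ ZR := by
    intro a ha x
    obtain ⟨y, rfl⟩ := (hσbij B).2 x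
    rw [← hiterc, hj _ (C.comm_mem y a), ha y]
  have hτB : p ^ n = B * p ^ (n - j) := by rw [hB, ← pow_add, Nat.add_sub_cancel' hjn]
  have hZRτ : ∀ a ∈ ZR, (⇑σ)^[p ^ n] a ∈ ZR := by
    intro a ha
    rw [hτB]
    generalize p ^ (n - j) = t
    induction t with
    | zero => simpa using ha
    | succ t ih => rw [Nat.mul_succ, Nat.add_comm, Function.iterate_add_apply]; exact hZRB _ ih
  have hZRhom : ∀ a ∈ ZR, ∀ b, ρ0 a * ρ0 b = ρ0 b * ρ0 a := by
    intro a ha b
    refine LinearMap.ext fun w => Subtype.ext ?_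
    change ρ a (ρ b (w : U)) = ρ b (ρ a (w : U))
    have h1 : ρ b (ρ a (w : U)) = ρ ⁅b, a⁆ (ρ a (ρ b (w : U))) := by
      rw [← hmulapp, ← hmulapp, ← hmulapp]
      congr 2
      simp [commutatorElement_def, mul_assoc]
    rw [h1, hU0inv a _ (hU0inv b _ w.2) _ (C.comm_mem b a), ha b, one_smul]
  -- `τ` acts trivially on the image of the radical
  have hρ0τ : ∀ a ∈ ZR, ρ0 (a⁻¹ * (⇑σ)^[p ^ n] a) = 1 := by
    haveI : Finite ZR := inferInstance
    let τ : ZR →* ZR := MonoidHom.mk' (fun a => ⟨(⇑σ)^[B] (a : R), hZRB a a.2⟩)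
      (fun a b => Subtype.ext (hhom B _ _))
    have hτit : ∀ k (a : ZR), (((⇑τ)^[k] a : ZR) : R) = (⇑σ)^[B * k] (a : R) := by
      intro k a
      induction k with
      | zero => simp
      | succ k ih =>
        rw [Function.iterate_succ_apply', Nat.mul_succ, Nat.add_comm, Function.iterate_add_apply,
          ← ih]
        rfl
    have hSq : Sη ^ N = 1 := by rw [hSη, ← pow_mul, hBN, hSp]
    -- averaging in `U0`
    intro a ha
    refine LinearMap.ext fun w => ?_
    have key := end_abelian_linear (K := K) (U := U0) (ρ0.comp ZR.subtype)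
      (fun x y => hZRhom x x.2 y) τ S0 hp (n := n - j)
      (fun x => Subtype.ext (by
        rw [hτit, show p ^ (n - j + 1) = N by rw [hN, hm]; congr 1; omega, hBN]
        exact C.periodic _))
      (by
        refine LinearMap.ext fun u => Subtype.ext ?_
        rw [show p ^ (n - j + 1) = N by rw [hN, hm]; congr 1; omega, Module.End.pow_restrict,
          LinearMap.restrict_apply]
        exact LinearMap.congr_fun hSq (u : U))
      (fun u hu => Subtype.ext (hfix0 u u.2 (congrArg Subtype.val hu)))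
      (fun x u => Subtype.ext (hSit B (x : R) (u : U)))
      (by exact hcardK ZR) ⟨a, ha⟩
    have h2 : (((⟨a, ha⟩ : ZR)⁻¹ * (⇑τ)^[p ^ (n - j)] ⟨a, ha⟩ : ZR) : R) =
        a⁻¹ * (⇑σ)^[p ^ n] a := by
      rw [Subgroup.coe_mul, Subgroup.coe_inv, hτit, hτB]
    rw [← h2]
    exact LinearMap.congr_fun key w
  -- so the radical is scalar
  have hscal : ∀ a ∈ ZR, ∃ c : K, ρ0 a = c • 1 := by
    intro a ha
    -- `x ↦ x⁻¹ τ x` is onto modulo `Z`
    haveI hZn : Z.Normal := ⟨fun z hz g => by rwa [← C.central z hz g, mul_inv_cancel_right]⟩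
    let Q := ↥ZR ⧸ Z.subgroupOf ZR
    let τR : ZR →* ZR := MonoidHom.mk' (fun x => ⟨(⇑σ)^[p ^ n] (x : R), hZRτ x x.2⟩)
      (fun x y => Subtype.ext (hhom _ _ _))
    let τQ : Q →* Q := QuotientGroup.map _ _ τR (fun z hz => hZi _ _ hz)
    obtain ⟨b, hb⟩ := surjective_inv_mul τQ (fun x hx => by
      induction x using QuotientGroup.induction_on with
      | H y =>
        refine (QuotientGroup.eq_one_iff y).2 (C.free y ?_)
        have h' : (QuotientGroup.mk y : Q) = QuotientGroup.mk (τR y) := hx.symm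
        exact (QuotientGroup.eq.1 h' :)) (QuotientGroup.mk (⟨a, ha⟩ : ZR))
    induction b using QuotientGroup.induction_on with
    | H b =>
      have hb0 : (QuotientGroup.mk (b⁻¹ * τR b) : Q) = QuotientGroup.mk (⟨a, ha⟩ : ZR) := hb
      have hz : ((b : R)⁻¹ * (⇑σ)^[p ^ n] (b : R))⁻¹ * a ∈ Z :=
        (QuotientGroup.eq.1 hb0 :)
      refine ⟨Ψ (((b : R)⁻¹ * (⇑σ)^[p ^ n] (b : R))⁻¹ * a), ?_⟩
      conv_lhs => rw [show a = ((b : R)⁻¹ * (⇑σ)^[p ^ n] (b : R)) *
        (((b : R)⁻¹ * (⇑σ)^[p ^ n] (b : R))⁻¹ * a) by rw [mul_inv_cancel_left]]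
      rw [map_mul, hρ0τ b b.2, one_mul]
      exact LinearMap.ext fun w => Subtype.ext (w.2 _ hz)
  choose! c hc using hscal
  have hcc : ∀ a ∈ ZR, ∀ w : U0, ρ0 a w = c a • w := fun a ha w => by rw [hc a ha]; rfl
  have hcZ : ∀ z ∈ Z, c z = Ψ z := by
    intro z hz
    have h1 := hcc z (hZZR hz) ⟨v₀, hΨv⟩
    have h2 : ρ z v₀ = c z • v₀ := congrArg Subtype.val h1
    rw [hΨv z hz] at h2
    exact (heigne _ _ h2).symm
  have hcop : (q ^ 1).Coprime 1 := Nat.coprime_one_right _
  -- the counting data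
  have hdata : HHData ρ0 ZR c η S0 N := by
    refine
      { mem_center := fun z hz u => ?_
        commutator_mem := fun u v => hZZR (C.comm_mem u v)
        scalar := hc
        nondeg := fun v hv => ?_
        periodic := fun e => by rw [hηit, hBN]; exact C.periodic e
        inv := hZRB
        scalar_inv := fun z hz => ?_
        free := fun v i hi hiN hv => ?_
        pow_eq := LinearMap.ext fun u => Subtype.ext (by
          rw [Module.End.pow_restrict, LinearMap.restrict_apply]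
          exact LinearMap.congr_fun (by rw [hSη, ← pow_mul, hBN, hSp] : Sη ^ N = 1) (u : U))
        compat := fun e w => Subtype.ext (hSit B e (w : U))
        fixed := fun w hw => Subtype.ext (hfix0 w w.2 (congrArg Subtype.val hw)) }
    · rw [map_mul, map_mul, hZRhom z hz u]
    · by_contra h
      push Not at h
      exact hv fun x => by rw [← hcZ _ (C.comm_mem x v)]; exact h x
    · -- the scalar is `η`-invariant: `S0` commutes past it
      have h1 : S0 (ρ0 z ⟨v₀, hΨv⟩) = ρ0 (η z) (S0 ⟨v₀, hΨv⟩) := Subtype.ext (hSit B z v₀)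
      have hc1 := hcc (η z) (hZRB z hz)
      rw [hcc z hz, hc1, map_smul] at h1
      by_contra hne
      have h2 : (c (η z) - c z) • S0 (⟨v₀, hΨv⟩ : U0) = 0 := by rw [sub_smul, ← h1, sub_self]
      have h3 := (smul_eq_zero.1 h2).resolve_left (sub_ne_zero.2 hne)
      have h4 : (Sη ^ N) v₀ = v₀ := by rw [hSη, ← pow_mul, hBN, hSp]; rfl
      have h5 : Sη v₀ = 0 := congrArg Subtype.val h3
      rw [← Nat.sub_add_cancel (show 1 ≤ N from pow_pos hp.pos m), pow_add, pow_one,
        Module.End.mul_apply, h5, map_zero] at h4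
      exact hv₀ h4.symm
    · -- some multiple of `i` is the power `τ`
      set P : ℕ → Prop := fun t => v⁻¹ * (⇑σ)^[B * t] v ∈ ZR with hPdef
      have hσZR : ∀ t, ∀ a ∈ ZR, (⇑σ)^[B * t] a ∈ ZR := by
        intro t
        induction t with
        | zero => intro a ha; simpa using ha
        | succ t ih =>
          intro a ha
          rw [Nat.mul_succ, Function.iterate_add_apply]
          exact ih _ (hZRB a ha)
      have hPadd : ∀ s t, P s → P t → P (s + t) := by
        intro s t hs ht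
        simp only [hPdef] at hs ht ⊢
        have := ZR.mul_mem hs (hσZR s _ ht)
        rw [hhom, show (⇑σ)^[B * s] v⁻¹ = ((⇑σ)^[B * s] v)⁻¹ from iterate_map_inv σ _ v] at this
        rw [Nat.mul_add, Function.iterate_add_apply]
        simpa [mul_assoc] using this
      have hPi : P i := by rw [hPdef]; rwa [hηit] at hv
      have hPmul : ∀ t, P (i * t) := by
        intro t
        induction t with
        | zero => simp [hPdef]
        | succ t ih => rw [Nat.mul_succ]; exact hPadd _ _ ih hPi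
      have hPN : ∀ t, P (N * t) := by
        intro t
        change v⁻¹ * (⇑σ)^[B * (N * t)] v ∈ ZR
        rw [← Nat.mul_assoc, hBN, (Function.IsPeriodicPt.mul_const (C.periodic v) t).eq, inv_mul_cancel]
        exact one_mem _
      have hPmod : ∀ t, P t → P (t % N) := by
        intro t ht
        simp only [hPdef] at ht ⊢
        rw [← Nat.mod_add_div t N, Nat.mul_add, Nat.add_comm, Function.iterate_add_apply,
          ← Nat.mul_assoc, hBN, Function.IsPeriodicPt.mul_const (C.periodic _) _] at ht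
        exact ht
      obtain ⟨a, ha, hga⟩ := (Nat.dvd_prime_pow hp).1 (Nat.gcd_dvd_right i N)
      have hlt : p ^ a < N := by
        rw [← hga]
        exact lt_of_le_of_lt (Nat.le_of_dvd hi (Nat.gcd_dvd_left i N)) hiN
      obtain ⟨b, -, hb⟩ := Nat.exists_mul_mod_eq_gcd (n := i) (k := N) (by rw [hga]; exact hlt)
      have hPg : P (p ^ a) := by
        have h8 := hPmod _ (hPmul b)
        rwa [hb, hga] at h8
      have ha2 : a ≤ n - j := by
        by_contra hlt
        have h9 : N ≤ p ^ a := Nat.pow_le_pow_right hp.pos (by omega)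
        have := Nat.le_of_dvd hi (Nat.gcd_dvd_left i N)
        omega
      have hPτ : P (p ^ (n - j)) := by
        obtain ⟨e, he⟩ := pow_dvd_pow p ha2
        rw [he]
        clear he
        induction e with
        | zero => simp [hPdef]
        | succ e ih => rw [Nat.mul_succ]; exact hPadd _ _ ih hPg
      have hτv : v⁻¹ * (⇑σ)^[p ^ n] v ∈ ZR := by rw [hτB]; exact hPτ
      -- `τ` acts freely on `R ⧸ ZR`
      haveI hZn : Z.Normal := ⟨fun z hz g => by rwa [← C.central z hz g, mul_inv_cancel_right]⟩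
      let Q := ↥ZR ⧸ Z.subgroupOf ZR
      let τR : ZR →* ZR := MonoidHom.mk' (fun x => ⟨(⇑σ)^[p ^ n] (x : R), hZRτ x x.2⟩)
        (fun x y => Subtype.ext (hhom _ _ _))
      let τQ : Q →* Q := QuotientGroup.map _ _ τR (fun z hz => hZi _ _ hz)
      obtain ⟨b', hb'⟩ := surjective_inv_mul τQ (fun x hx => by
        induction x using QuotientGroup.induction_on with
        | H y =>
          refine (QuotientGroup.eq_one_iff y).2 (C.free y ?_)
          have h' : (QuotientGroup.mk y : Q) = QuotientGroup.mk (τR y) := hx.symm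
          exact (QuotientGroup.eq.1 h' :)) (QuotientGroup.mk (⟨_, hτv⟩ : ZR))
      induction b' using QuotientGroup.induction_on with
      | H u =>
        have hz : ((u : R)⁻¹ * (⇑σ)^[p ^ n] (u : R))⁻¹ * (v⁻¹ * (⇑σ)^[p ^ n] v) ∈ Z :=
          (QuotientGroup.eq.1 (show (QuotientGroup.mk (u⁻¹ * τR u) : Q) =
            QuotientGroup.mk (⟨_, hτv⟩ : ZR) from hb') :)
        have h10 : v * (u : R)⁻¹ ∈ Z := by
          refine C.free _ ?_
          rw [hhom, show (⇑σ)^[p ^ n] (u : R)⁻¹ = ((⇑σ)^[p ^ n] (u : R))⁻¹ from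
            iterate_map_inv σ _ _, mul_inv_rev, inv_inv]
          -- conjugate the element of `Z`
          have e : (u : R) * v⁻¹ * ((⇑σ)^[p ^ n] v * ((⇑σ)^[p ^ n] (u : R))⁻¹) =
              (⇑σ)^[p ^ n] (u : R) * (((u : R)⁻¹ * (⇑σ)^[p ^ n] (u : R))⁻¹ *
                (v⁻¹ * (⇑σ)^[p ^ n] v)) * ((⇑σ)^[p ^ n] (u : R))⁻¹ := by group
          rw [e]
          exact hZn.conj_mem _ hz _
        have := ZR.mul_mem (hZZR h10) u.2
        rwa [inv_mul_cancel_right] at this
  have hNK : (N : K) ≠ 0 := by rw [hN, Nat.cast_pow]; exact pow_ne_zero _ hpK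
  obtain ⟨d, hd, hNd, hdN⟩ := hdata.bound hcardR hNK
  -- `d = N - 1` and `q = 2`
  have hZRne : ZR ≠ ⊤ := by
    intro h
    apply hψc
    have : y₀ ∈ ZR := h ▸ mem_top y₀
    rw [← hΨ c₀ hc₀Z]
    exact this x₀
  obtain ⟨e, he⟩ : ∃ e, ZR.index = q ^ e := C.qgroup.index ZR
  obtain ⟨k, hk2, hdk⟩ : ∃ k, k ≤ e ∧ d = q ^ k :=
    (Nat.dvd_prime_pow hq).1 (he ▸ hd ▸ dvd_pow_self d two_ne_zero)
  have hidx1 : ZR.index ≠ 1 := fun h => hZRne (Subgroup.index_eq_one.1 h)
  have hm1 : 1 ≤ m := by omega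
  have hNp : p ∣ N := dvd_pow_self p (by omega)
  have hd1 : 1 < d := by
    rcases Nat.lt_or_ge 1 d with h | h
    · exact h
    · exfalso; interval_cases d
      · exact absurd hd.symm (by simpa using Subgroup.index_ne_zero_of_finite (H := ZR))
      · exact hidx1 (by simpa using hd.symm)
  have hdm : d + 1 = N := by
    have hdvd : N ∣ (d - 1) * (d + 1) := by
      have e1 : (d - 1) * (d + 1) = d ^ 2 - 1 := by
        obtain ⟨d', rfl⟩ := Nat.exists_eq_succ_of_ne_zero (show d ≠ 0 by omega)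
        simp only [Nat.succ_eq_add_one, Nat.add_sub_cancel]
        have : (d' + 1) ^ 2 = d' * (d' + 1 + 1) + 1 := by ring
        omega
      rw [e1, hd]; exact hNd
    rcases Nat.lt_or_ge (d + 1) N with hlt | hge
    · exfalso
      -- `p` cannot divide both factors
      by_cases hpd : p ∣ d + 1
      · have hco : Nat.Coprime N (d - 1) := by
          refine Nat.Coprime.pow_left m (hp.coprime_iff_not_dvd.2 fun h => hp2 ?_)
          have h2 : p ∣ 2 := by
            have := Nat.dvd_sub hpd h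
            rwa [show d + 1 - (d - 1) = 2 by omega] at this
          exact (Nat.prime_dvd_prime_iff_eq hp Nat.prime_two).1 h2
        have := Nat.le_of_dvd (by omega) (hco.dvd_of_dvd_mul_left hdvd)
        omega
      · have hco : Nat.Coprime N (d + 1) := Nat.Coprime.pow_left m (hp.coprime_iff_not_dvd.2 hpd)
        have := Nat.le_of_dvd (by omega) (hco.dvd_of_dvd_mul_right hdvd)
        omega
    · omega
  have hq2 : q = 2 := by
    rcases hq.eq_two_or_odd' with h | h
    · exact h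
    · exfalso
      have h1 : Odd d := hdk ▸ h.pow
      have h2 : Odd N := (hp.odd_of_ne_two hp2).pow
      rw [← hdm] at h2
      exact (Nat.not_even_iff_odd.2 h2) h1.add_one
  subst hq2
  have hk1 : 1 ≤ k := by
    rcases Nat.eq_zero_or_pos k with rfl | h
    · simp at hdk; omega
    · exact h
  -- the image is too small
  haveI hZn : Z.Normal := ⟨fun z hz g => by rwa [← C.central z hz g, mul_inv_cancel_right]⟩
  obtain ⟨D, hD⟩ : ∃ D, Z.index = 2 ^ D := C.qgroup.index Z
  let T : ℕ → Subgroup R := fun i => ZR.comap (MonoidHom.mk' ((⇑σ)^[i]) (hhom i))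
  have hTidx : ∀ i, (T i).index = ZR.index := fun i =>
    Subgroup.index_comap_of_surjective ZR (hσbij i).2
  have hfree : (p : ℤ) ^ (n + 1) ∣ (2 : ℤ) ^ D - 1 := by
    haveI : NeZero (p ^ (n + 1)) := ⟨hM0.ne'⟩
    have hdv : p ^ (n + 1) ∣ Z.index - 1 := by
      refine orbit_count σ Z (fun z hz => C.inv z hz) C.periodic (fun v i hi hiM hv => ?_)
      -- reduce to `τ`
      refine C.free v (period_reduce σ Z (fun z hz => C.inv z hz) C.periodic hp hi hiM hv)
    rw [hD] at hdv
    have h1 : (1 : ℕ) ≤ 2 ^ D := Nat.one_le_two_pow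
    have h2 := Int.natCast_dvd_natCast.2 hdv
    push_cast [Nat.cast_sub h1] at h2
    exact h2
  have hD0 : D ≠ 0 := by
    rintro rfl
    rw [pow_zero, Subgroup.index_eq_one] at hD
    exact hZRne (top_le_iff.1 (hD ▸ hZZR))
  have hord : 2 * k * B ∣ D := by
    refine hB ▸ order_two (m := m) hp hp2 hk1 hm1 (by rw [← hdk, hdm]) ?_
    rwa [show m + j = n + 1 by omega]
  -- pick `x` in all proper translates of the radical, but not in `Z`
  let Y : Subgroup R := ((Finset.range B).erase 0).inf T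
  have hYidx : Y.index ≤ (2 ^ (2 * k)) ^ (B - 1) := by
    refine le_trans (index_finset_inf_le T ((Finset.range B).erase 0)) ?_
    rw [Finset.prod_congr rfl fun i _ => hTidx i, Finset.prod_const,
      Finset.card_erase_of_mem (Finset.mem_range.2 hB0), Finset.card_range, ← hd, hdk, ← pow_mul,
      ← pow_mul, ← pow_mul]
    apply le_of_eq
    congr 1
    ring
  have hlt : Y.index < Z.index := by
    rw [hD]
    refine lt_of_le_of_lt hYidx ?_
    rw [← pow_mul]
    refine Nat.pow_lt_pow_right one_lt_two ?_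
    have := Nat.le_of_dvd (Nat.pos_of_ne_zero hD0) hord
    have : 2 * k * (B - 1) < 2 * k * B := Nat.mul_lt_mul_of_pos_left (by omega) (by omega)
    omega
  obtain ⟨x, hxY, hxZ⟩ : ∃ x ∈ Y, x ∉ Z := by
    by_contra h
    push Not at h
    exact absurd (Nat.le_of_dvd (Nat.pos_of_ne_zero Subgroup.index_ne_zero_of_finite)
      (Subgroup.index_dvd_of_le (h : Y ≤ Z))) (not_le.2 hlt)
  have hxT : ∀ i, 0 < i → i < B → (⇑σ)^[i] x ∈ ZR := by
    intro i hi hiB
    exact Finset.inf_le (f := T) (Finset.mem_erase.2 ⟨hi.ne', Finset.mem_range.2 hiB⟩) hxY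
  have hcap : ∀ y, (∀ i, (⇑σ)^[i] y ∈ ZR) → y ∈ Z := by
    intro y hy
    let K' : Subgroup R :=
      { carrier := {y | ∀ i, (⇑σ)^[i] y ∈ ZR}
        one_mem' := fun i => by simp [iterate_map_one]
        mul_mem' := fun {a b} ha hb i => by rw [hhom]; exact ZR.mul_mem (ha i) (hb i)
        inv_mem' := fun {a} ha i => by
          rw [show (⇑σ)^[i] a⁻¹ = ((⇑σ)^[i] a)⁻¹ from iterate_map_inv σ _ _]
          exact ZR.inv_mem (ha i) }
    rcases C.irred K' (fun z hz i => hZZR (hZi i z hz))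
      (fun a ha i => by
        change (⇑σ)^[i] (σ a) ∈ ZR
        rw [← Function.iterate_succ_apply]; exact ha (i + 1)) with h | h
    · exact h ▸ (show y ∈ K' from hy)
    · exact absurd (top_le_iff.1 (h ▸ fun a (ha : a ∈ K') => ha 0 : (⊤ : Subgroup R) ≤ ZR)) hZRne
  have hxZR : x ∉ ZR := by
    intro hx
    refine hxZ (hcap x fun i => ?_)
    rw [← Nat.mod_add_div i B, Nat.add_comm, Function.iterate_add_apply]
    have h1 : (⇑σ)^[i % B] x ∈ ZR := by
      rcases Nat.eq_zero_or_pos (i % B) with h | h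
      · simp [h, hx]
      · exact hxT _ h (Nat.mod_lt _ hB0)
    generalize (⇑σ)^[i % B] x = y at h1 ⊢
    induction (i / B) with
    | zero => simpa using h1
    | succ t ih => rw [Nat.mul_succ, Nat.add_comm, Function.iterate_add_apply]; exact hZRB _ ih
  obtain ⟨u, hu⟩ : ∃ u : R, Ψ ⁅u, x⁆ ≠ 1 := by
    by_contra h
    push Not at h
    exact hxZR h
  set cx := ⁅u, x⁆ with hcx
  have hcxZ : cx ∈ Z := C.comm_mem u x
  -- the orbit product is fixed
  haveI : IsMulCommutative Z := ⟨⟨fun a b => Subtype.ext (C.central a a.2 b)⟩⟩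
  let σZ : Z →* Z := (σ.comp Z.subtype).codRestrict Z fun z => C.inv z z.2
  have hσZit : ∀ i (z : Z), (((⇑σZ)^[i] z : Z) : R) = (⇑σ)^[i] (z : R) := by
    intro i z
    induction i with
    | zero => rfl
    | succ i ih => rw [Function.iterate_succ_apply', Function.iterate_succ_apply', ← ih]; rfl
  let Pz : Z := ∏ i ∈ Finset.range M, (⇑σZ)^[i] ⟨cx, hcxZ⟩
  have hPz : σ (Pz : R) = Pz := by
    change ((σZ Pz : Z) : R) = Pz
    congr 1
    rw [map_prod]
    simp only [← Function.iterate_succ_apply' (⇑σZ)]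
    have h1 := Finset.prod_range_succ' (fun i => (⇑σZ)^[i] (⟨cx, hcxZ⟩ : Z)) M
    have h2 := Finset.prod_range_succ (fun i => (⇑σZ)^[i] (⟨cx, hcxZ⟩ : Z)) M
    rw [h1, show (⇑σZ)^[M] (⟨cx, hcxZ⟩ : Z) = (⇑σZ)^[0] ⟨cx, hcxZ⟩ from
      Subtype.ext (by rw [hσZit, hσZit]; exact C.periodic cx)] at h2
    exact mul_right_cancel h2
  have hPz1 : (Pz : R) = 1 := C.fpf _ hPz
  let ΨZ : Z →* K :=
    { toFun := fun z => Ψ z
      map_one' := hΨ1
      map_mul' := fun a b => hΨmul _ a.2 _ b.2 }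
  have hval : ΨZ Pz = ∏ i ∈ Finset.range M, Ψ ((⇑σ)^[i] cx) := by
    rw [map_prod]
    exact Finset.prod_congr rfl fun i _ => congrArg Ψ (hσZit i _)
  have hsq : Ψ cx * Ψ cx = 1 := by
    have hu2 : x ^ 2 ∈ ZR := hZZR (C.pow_mem x)
    have h3 := hu2 u
    rwa [sq, hΨcmul] at h3
  have hterm : ∀ i, Ψ ((⇑σ)^[i] cx) = if i % B = 0 then Ψ cx else 1 := by
    intro i
    have h1 : Ψ ((⇑σ)^[i] cx) = Ψ ((⇑σ)^[i % B] cx) := by
      conv_lhs => rw [← Nat.mod_add_div i B, Nat.add_comm, Function.iterate_add_apply]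
      exact hpermul (i / B) _ (hZi _ cx hcxZ)
    rw [h1]
    split_ifs with h
    · rw [h]; rfl
    · rw [hcx, hiterc]
      exact hxT _ (Nat.pos_of_ne_zero h) (Nat.mod_lt _ hB0) _
  have hone : ΨZ Pz = 1 := by
    change Ψ (Pz : R) = 1
    rw [hPz1, hΨ1]
  rw [hval, Finset.prod_congr rfl fun i _ => hterm i, Finset.prod_ite, Finset.prod_const_one,
    mul_one, Finset.prod_const] at hone
  have hcount : ((Finset.range M).filter fun i => i % B = 0).card = N := by
    rw [show (Finset.range M).filter (fun i => i % B = 0) = (Finset.range N).image (B * ·) from ?_,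
      Finset.card_image_of_injective _ (fun a b h => Nat.eq_of_mul_eq_mul_left hB0 h), Finset.card_range]
    ext i
    simp only [Finset.mem_filter, Finset.mem_range, Finset.mem_image]
    constructor
    · rintro ⟨hi, hi0⟩
      refine ⟨i / B, ?_, Nat.mul_div_cancel' (Nat.dvd_of_mod_eq_zero hi0)⟩
      rw [Nat.div_lt_iff_lt_mul hB0, mul_comm, hBN]; exact hi
    · rintro ⟨t, ht, rfl⟩
      exact ⟨hBN ▸ Nat.mul_lt_mul_of_pos_left ht hB0, Nat.mul_mod_right B t⟩
  rw [hcount] at hone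
  obtain ⟨s, hs⟩ : Odd N := (hp.odd_of_ne_two hp2).pow
  rw [hs, pow_succ, pow_mul, sq, hsq, one_pow, one_mul] at hone
  exact hu hone

end Cfsg.Agent.FGS73
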