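import Cfsg.Prelude.Def_Solvable
import Cfsg.Agent.FGS73.PrimeFPF
import Cfsg.Agent.Lib.Fitting.Minimal

/-!
Ward's theorem: a soluble group with a fixed-point-free elementary abelian group of
automorphisms of order `p ^ 2` is nilpotent-by-nilpotent.  The linear part is proved by
averaging over the group of automorphisms.
-/

namespace Cfsg.Agent.FGS73

open Subgroup
open scoped IsMulCommutative

universe u

namespace Ward

variable {A : Type*} [CommGroup A] [Finite A] {p : ℕ} [Fact p.Prime]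

theorem isPGroup_sq (hexp : ∀ a : A, a ^ p = 1) : IsPGroup p A := fun a => ⟨1, by simpa using hexp a⟩

omit [Finite A] in
theorem card_zpowers' (hexp : ∀ a : A, a ^ p = 1) {a : A} (ha : a ≠ 1) :
    Nat.card (zpowers a) = p := by
  rw [Nat.card_zpowers, orderOf_eq_prime (hexp a) ha]

theorem zpowers_eq (hexp : ∀ a : A, a ^ p = 1) {a b : A} (ha : a ≠ 1) (hb : b ≠ 1)
    (h : b ∈ zpowers a) : zpowers b = zpowers a :=
  Subgroup.eq_of_le_of_card_ge (zpowers_le.2 h) (by rw [card_zpowers' hexp ha, card_zpowers' hexp hb])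

theorem exists_not_mem (hcard : Nat.card A = p ^ 2) (hexp : ∀ a : A, a ^ p = 1) {a : A}
    (ha : a ≠ 1) : ∃ s, s ∉ zpowers a := by
  by_contra h
  push Not at h
  have h1 : Nat.card (zpowers a) = Nat.card A := by
    rw [(eq_top_iff' _).2 h, Subgroup.card_top]
  rw [card_zpowers' hexp ha, hcard] at h1
  have := (Fact.out : p.Prime).two_le
  nlinarith

theorem exists_ne_one (hcard : Nat.card A = p ^ 2) : ∃ a : A, a ≠ 1 := by
  have h2 := (Fact.out : p.Prime).two_le
  haveI : Nontrivial A := Finite.one_lt_card_iff_nontrivial.1 (by rw [hcard]; nlinarith)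
  exact exists_ne 1

theorem sup_eq_top (hcard : Nat.card A = p ^ 2) (hexp : ∀ a : A, a ^ p = 1) {a s : A}
    (ha : a ≠ 1) (hs : s ∉ zpowers a) : zpowers a ⊔ zpowers s = ⊤ := by
  set B := zpowers a ⊔ zpowers s
  have h1 : zpowers a < B := lt_of_le_of_ne le_sup_left fun h => hs (h ▸ le_sup_right (a := zpowers a) (mem_zpowers s))
  have h2 : Nat.card B ∣ p ^ 2 := hcard ▸ card_subgroup_dvd_card B
  obtain ⟨k, hk, hkc⟩ := (Nat.dvd_prime_pow (Fact.out : p.Prime)).1 h2
  have h3 : Nat.card (zpowers a) < Nat.card B := by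
    by_contra h
    exact h1.ne (Subgroup.eq_of_le_of_card_ge h1.le (not_lt.1 h))
  rw [card_zpowers' hexp ha, hkc] at h3
  apply Subgroup.eq_top_of_card_eq
  rw [hkc, hcard]
  interval_cases k <;> simp_all

/-- A predicate closed under products which holds at generators holds everywhere. -/
theorem forall_of_two (hcard : Nat.card A = p ^ 2) (hexp : ∀ a : A, a ^ p = 1) {a s : A}
    (ha : a ≠ 1) (hs : s ∉ zpowers a) (P : A → Prop) (h1 : P 1)
    (hmul : ∀ x y, P x → P y → P (x * y)) (hPa : P a) (hPs : P s) (x : A) : P x := by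
  let D : Submonoid A := { carrier := {x | P x}, one_mem' := h1, mul_mem' := fun {u v} hu hv => hmul u v hu hv }
  have hle : ∀ u : A, P u → ∀ v ∈ zpowers u, P v := by
    intro u hu v hv
    rw [← mem_powers_iff_mem_zpowers] at hv
    exact (Submonoid.powers_le (P := D)).2 hu hv
  have hx : x ∈ zpowers a ⊔ zpowers s := by simp [sup_eq_top hcard hexp ha hs]
  obtain ⟨u, hu, v, hv, rfl⟩ := Subgroup.mem_sup.1 hx
  exact hmul u v (hle a hPa u hu) (hle s hPs v hv)

theorem fixed_of_two {X : Type*} [Group X] (φ : A →* Monoid.End X) (hcard : Nat.card A = p ^ 2)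
    (hexp : ∀ a : A, a ^ p = 1) {a s : A} (ha : a ≠ 1) (hs : s ∉ zpowers a) {x : X}
    (h1 : φ a x = x) (h2 : φ s x = x) : ∀ b, φ b x = x :=
  forall_of_two hcard hexp ha hs (fun b => φ b x = x) (act_one φ x)
    (fun b c hb hc => by rw [act_mul, hc, hb]) h1 h2

theorem fixed_zpowers {X : Type*} [Group X] (φ : A →* Monoid.End X) {a : A} {x : X}
    (h : φ a x = x) {b : A} (hb : b ∈ zpowers a) : φ b x = x := by
  obtain ⟨k, rfl⟩ := mem_powers_iff_mem_zpowers.2 hb
  change φ (a ^ k) x = x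
  induction k with
  | zero => rw [pow_zero]; exact act_one φ x
  | succ k ih => rw [pow_succ, act_mul, h]; exact ih (Subgroup.pow_mem _ (mem_zpowers a) k)

/-! ### Generation by fixed points -/

theorem prod_pow_fixed {V : Type*} [CommGroup V] (φ : A →* Monoid.End V) {a : A} (ha : a ^ p = 1)
    (v : V) : φ a (∏ k ∈ Finset.range p, φ (a ^ k) v) = ∏ k ∈ Finset.range p, φ (a ^ k) v := by
  rw [map_prod]
  simp only [← act_mul, ← pow_succ']
  have h1 := Finset.prod_range_succ' (fun k => φ (a ^ k) v) p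
  have h2 := Finset.prod_range_succ (fun k => φ (a ^ k) v) p
  simp only [ha, pow_zero] at h1 h2
  rw [h1] at h2
  exact mul_right_cancel h2

theorem pow_mem_of_fixed {V : Type*} [CommGroup V] (φ : A →* Monoid.End V)
    (hcard : Nat.card A = p ^ 2) (hexp : ∀ a : A, a ^ p = 1) (K : Subgroup V)
    (hK : ∀ a : A, a ≠ 1 → ∀ x, φ a x = x → x ∈ K) (v : V) : v ^ p ∈ K := by
  classical
  obtain ⟨g, hg⟩ := exists_ne_one hcard
  obtain ⟨s, hs⟩ := exists_not_mem hcard hexp hg
  have hcomm : ∏ k ∈ Finset.range p, ∏ j ∈ Finset.range p, φ ((g ^ j * s) ^ k) v =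
      ∏ j ∈ Finset.range p, ∏ k ∈ Finset.range p, φ ((g ^ j * s) ^ k) v := Finset.prod_comm
  have h1 : ∏ k ∈ Finset.range p, ∏ j ∈ Finset.range p, φ ((g ^ j * s) ^ k) v ∈ K := by
    rw [hcomm]
    refine K.prod_mem fun j _ => hK (g ^ j * s) (fun h => hs ?_) _ (prod_pow_fixed φ (hexp _) v)
    rw [show s = (g ^ j)⁻¹ from eq_inv_of_mul_eq_one_right h]
    exact inv_mem (pow_mem (mem_zpowers g) j)
  rw [← Finset.mul_prod_erase _ _ (Finset.mem_range.2 (Fact.out : p.Prime).pos)] at h1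
  have h0 : ∏ j ∈ Finset.range p, φ ((g ^ j * s) ^ 0) v = v ^ p := by
    simp only [pow_zero, act_one, Finset.prod_const, Finset.card_range]
  rw [h0] at h1
  refine (Subgroup.mul_mem_cancel_right K (K.prod_mem fun k hk => ?_)).1 h1
  obtain ⟨hk0, hkp⟩ := Finset.mem_erase.1 hk
  rw [Finset.mem_range] at hkp
  have hk' : ∀ j, (g ^ j * s) ^ k = s ^ k * (g ^ k) ^ j := fun j => by
    rw [mul_pow, mul_comm, ← pow_mul, mul_comm j k, pow_mul]
  simp only [hk', act_mul, ← map_prod]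
  refine hK g hg _ ?_
  rw [← act_mul, mul_comm g, act_mul]
  congr 1
  have hgk : g ^ k ≠ 1 := by
    intro h
    have := orderOf_dvd_of_pow_eq_one h
    rw [orderOf_eq_prime (hexp g) hg] at this
    exact absurd (Nat.le_of_dvd (Nat.pos_of_ne_zero hk0) this) (not_le.2 hkp)
  refine fixed_zpowers φ (prod_pow_fixed φ (hexp (g ^ k)) v) ?_
  rw [zpowers_eq hexp hg hgk (pow_mem (mem_zpowers g) k)]
  exact mem_zpowers g

theorem mem_of_pow_mem {X : Type*} [Group X] [Finite X] {m : ℕ} (K : Subgroup X) {x : X}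
    (hm : m.Coprime (orderOf x)) (h : x ^ m ∈ K) : x ∈ K := by
  obtain ⟨k, hk⟩ := exists_pow_eq_self_of_coprime hm
  exact hk ▸ pow_mem h k

theorem gen (hcard : Nat.card A = p ^ 2) (hexp : ∀ a : A, a ^ p = 1) (n : ℕ) :
    ∀ (G : Type u) [Group G] [Finite G], Nat.card G ≤ n → Group.IsSolvable G →
      ¬ p ∣ Nat.card G → ∀ (φ : A →* Monoid.End G) (K : Subgroup G),
        (∀ a : A, a ≠ 1 → ∀ x, φ a x = x → x ∈ K) → K = ⊤ := by
  induction n with
  | zero =>
    intro G _ _ h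
    exact absurd h (by simp [Nat.card_pos.ne'])
  | succ n ih =>
    intro G _ _ hn hG hp φ K hK
    rcases subsingleton_or_nontrivial G with hs | hs
    · exact Subsingleton.elim _ _
    obtain ⟨V, r, hr, hV, hexpV, -⟩ :=
      exists_minimal_isAbInv hG (Set.range fun a => (φ a : G →* G))
    haveI := hV.normal
    haveI : IsMulCommutative V := ⟨⟨fun a b => Subtype.ext (hV.comm a a.2 b b.2)⟩⟩
    have hVs : ∀ a, ∀ x ∈ V, φ a x ∈ V := fun a => hV.inv _ ⟨a, rfl⟩
    have hVp : ¬ p ∣ Nat.card V := fun hd => hp (hd.trans (card_subgroup_dvd_card V))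
    -- `V ≤ K`
    have hVK : V ≤ K := by
      intro v hv
      let φV : A →* Monoid.End V :=
        { toFun := fun a => ((φ a : G →* G).comp V.subtype).codRestrict V fun x => hVs a x x.2
          map_one' := MonoidHom.ext fun x => Subtype.ext (act_one φ _)
          map_mul' := fun a b => MonoidHom.ext fun x => Subtype.ext (act_mul φ a b _) }
      have h1 := pow_mem_of_fixed φV hcard hexp (K.subgroupOf V)
        (fun a ha x hx => hK a ha _ (congrArg Subtype.val hx)) ⟨v, hv⟩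
      refine mem_of_pow_mem (m := p) K ?_ h1
      refine ((Fact.out : p.Prime).coprime_iff_not_dvd).2 fun hd => hp (hd.trans ?_)
      exact orderOf_dvd_natCard v
    have hq : ¬ p ∣ Nat.card (G ⧸ V) := fun hd => hp (hd.trans (card_quotient_dvd_card V))
    have hmap := ih (G ⧸ V) (by have := card_quotient_lt V hV.ne_bot; omega)
      (isSolvable_quotient hG V) hq (quotAct φ V hVs) (K.map (QuotientGroup.mk' V)) ?_
    · rw [eq_top_iff]
      intro g _
      have : QuotientGroup.mk' V g ∈ K.map (QuotientGroup.mk' V) := hmap ▸ mem_top _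
      rw [← mem_comap, comap_map_eq, QuotientGroup.ker_mk', sup_eq_left.2 hVK] at this
      exact this
    · intro a ha x hx
      obtain ⟨g, rfl⟩ := QuotientGroup.mk'_surjective V x
      let B := zpowers a
      have hB : IsPGroup p B := (isPGroup_sq hexp).to_subgroup B
      obtain ⟨y, hy, hyf⟩ := exists_fixed_in_coset hB (φ.comp B.subtype) V
        (fun b => hVs b) hVp g (fun b => QuotientGroup.eq.1
          (fixed_zpowers (quotAct φ V hVs) hx b.2).symm)
      exact ⟨y, hK a ha y (hyf ⟨a, mem_zpowers a⟩), (QuotientGroup.eq.2 hy).symm⟩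

/-! ### The linear part -/

section Linear

variable {H : Type u} [Group H] [Finite H] {W : Type*} [AddCommGroup W] [Finite W]
  (φ : A →* Monoid.End H) (ρ : H →* AddMonoid.End W) (S : A →* AddMonoid.End W)
  (Z : Subgroup H)

/-- fixed points of `[Z, a]` -/
def wsub (a : A) : AddSubgroup W where
  carrier := {w | ∀ z ∈ Z, ρ (z⁻¹ * φ a z) w = w}
  zero_mem' := fun _ _ => map_zero _
  add_mem' := fun {u v} hu hv z hz => by rw [map_add, hu z hz, hv z hz]
  neg_mem' := fun {u} hu z hz => by rw [map_neg, hu z hz]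

variable [Fintype Z]

/-- the (unnormalised) projection on `wsub a` -/
def proj (a : A) : W →+ W := ∑ z : Z, (ρ ((z : H)⁻¹ * φ a z) : W →+ W)

structure LinSetup : Prop where
  hcard : Nat.card A = p ^ 2
  hexp : ∀ a : A, a ^ p = 1
  hsol : Group.IsSolvable H
  hHfix : ∀ x : H, (∀ a, φ a x = x) → x = 1
  hcompat : ∀ a x w, S a (ρ x w) = ρ (φ a x) (S a w)
  hWfix : ∀ w, (∀ a, S a w = w) → w = 0
  hnorm : Z.Normal
  hcommZ : ∀ x ∈ Z, ∀ y ∈ Z, x * y = y * x
  hinvZ : ∀ a, ∀ x ∈ Z, φ a x ∈ Z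
  hZfix : ∀ w, (∀ z ∈ Z, ρ z w = w) → w = 0
  hcop : (Nat.card Z).Coprime (Nat.card W)

variable {φ ρ S Z}

theorem LinSetup.h_mem (L : LinSetup (p := p) φ ρ S Z) (a : A) {z : H} (hz : z ∈ Z) :
    z⁻¹ * φ a z ∈ Z := Z.mul_mem (Z.inv_mem hz) (L.hinvZ a z hz)

theorem LinSetup.wsub_Z_invariant (L : LinSetup (p := p) φ ρ S Z) (a : A) {d : H} (hd : d ∈ Z)
    {w : W} (hw : w ∈ wsub φ ρ Z a) : ρ d w ∈ wsub φ ρ Z a := by
  intro z hz
  rw [← end_mul_apply, L.hcommZ _ (L.h_mem a hz) d hd, end_mul_apply, hw z hz]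

theorem LinSetup.wsub_mul (L : LinSetup (p := p) φ ρ S Z) {a b : A} {w : W}
    (ha : w ∈ wsub φ ρ Z a) (hb : w ∈ wsub φ ρ Z b) : w ∈ wsub φ ρ Z (a * b) := by
  intro z hz
  have h1 : z⁻¹ * φ (a * b) z = (z⁻¹ * φ b z) * ((φ b z)⁻¹ * φ a (φ b z)) := by
    rw [act_mul]; group
  rw [h1, end_mul_apply, ha _ (L.hinvZ b z hz), hb z hz]

theorem LinSetup.wsub_one (w : W) : w ∈ wsub φ ρ Z (1 : A) := fun z _ => by
  rw [act_one, inv_mul_cancel, end_one_apply]

theorem LinSetup.wsub_le (L : LinSetup (p := p) φ ρ S Z) {a b : A} (hb : b ∈ zpowers a) :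
    wsub φ ρ Z a ≤ wsub φ ρ Z b := by
  obtain ⟨k, rfl⟩ := mem_powers_iff_mem_zpowers.2 hb
  intro w hw
  change w ∈ wsub φ ρ Z (a ^ k)
  clear hb
  induction k with
  | zero => rw [pow_zero]; exact LinSetup.wsub_one w
  | succ k ih => rw [pow_succ]; exact L.wsub_mul ih hw

theorem LinSetup.wsub_disjoint (L : LinSetup (p := p) φ ρ S Z) {a b : A} (ha : a ≠ 1)
    (hb : b ∉ zpowers a) {w : W} (h1 : w ∈ wsub φ ρ Z a) (h2 : w ∈ wsub φ ρ Z b) : w = 0 := by
  cases nonempty_fintype A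
  have hall : ∀ c, w ∈ wsub φ ρ Z c :=
    forall_of_two L.hcard L.hexp ha hb (fun c => w ∈ wsub φ ρ Z c) (LinSetup.wsub_one w)
      (fun x y hx hy => L.wsub_mul hx hy) h1 h2
  refine L.hZfix w fun z hz => ?_
  haveI : IsMulCommutative Z := ⟨⟨fun x y => Subtype.ext (L.hcommZ x x.2 y y.2)⟩⟩
  let Z0 : Subgroup H :=
    { carrier := {x | ρ x w = w}
      one_mem' := end_one_apply ρ w
      mul_mem' := fun {x y} hx hy => by
        change ρ (x * y) w = w
        rw [end_mul_apply, hy, hx]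
      inv_mem' := fun {x} hx => by
        change ρ x⁻¹ w = w
        conv_lhs => rw [← (hx : ρ x w = w)]
        rw [← end_mul_apply, inv_mul_cancel, end_one_apply] }
  let e : A → (Z →* Z) := fun a =>
    ((φ a : H →* H).comp Z.subtype).codRestrict Z fun x => L.hinvZ a x x.2
  let N : Z := ∏ a, e a ⟨z, hz⟩
  have hN : (N : H) = 1 := by
    refine L.hHfix _ fun c => ?_
    have h3 : e c N = N := by
      rw [map_prod]
      have h4 : ∀ a, e c (e a ⟨z, hz⟩) = e (c * a) ⟨z, hz⟩ := fun a =>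
        Subtype.ext (act_mul φ c a z).symm
      simp only [h4]
      exact Equiv.prod_comp (Equiv.mulLeft c) (fun a => e a ⟨z, hz⟩)
    exact congrArg Subtype.val h3
  have h5 : (⟨z, hz⟩ : Z)⁻¹ ^ Fintype.card A ∈ Z0.subgroupOf Z := by
    have h6 : ∏ a, ((⟨z, hz⟩ : Z)⁻¹ * e a ⟨z, hz⟩) ∈ Z0.subgroupOf Z :=
      Subgroup.prod_mem _ fun a _ => hall a z hz
    rw [Finset.prod_mul_distrib, Finset.prod_const, Finset.card_univ,
      show ∏ a, e a ⟨z, hz⟩ = 1 from Subtype.ext hN, mul_one] at h6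
    exact h6
  rw [inv_pow, inv_mem_iff] at h5
  refine mem_of_pow_mem (m := Fintype.card A) Z0 ?_ h5
  rw [← Nat.card_eq_fintype_card, L.hcard]
  refine Nat.Coprime.pow_left 2 ((Fact.out : p.Prime).coprime_iff_not_dvd.2 fun hd => ?_)
  exact not_dvd_card_of_fixed (isPGroup_sq L.hexp) φ L.hHfix (hd.trans (orderOf_dvd_natCard z))

theorem proj_apply (a : A) (u : W) :
    proj φ ρ Z a u = ∑ z : Z, ρ ((z : H)⁻¹ * φ a z) u := by
  exact AddMonoidHom.finsetSum_apply _ _ _

theorem LinSetup.proj_mem (L : LinSetup (p := p) φ ρ S Z) (a : A) (u : W) :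
    proj φ ρ Z a u ∈ wsub φ ρ Z a := by
  intro x hx
  rw [proj_apply, map_sum]
  have key : ∀ z : Z, ρ (x⁻¹ * φ a x) (ρ ((z : H)⁻¹ * φ a z) u) =
      ρ (((⟨x, hx⟩ * z : Z) : H)⁻¹ * φ a ((⟨x, hx⟩ * z : Z) : H)) u := by
    intro z
    rw [← end_mul_apply]
    congr 2
    have hc := L.hcommZ _ (Z.inv_mem z.2) _ (L.h_mem a hx)
    rw [Subgroup.coe_mul, map_mul, mul_inv_rev]
    calc (x⁻¹ * φ a x) * ((z : H)⁻¹ * φ a z) = ((x⁻¹ * φ a x) * (z : H)⁻¹) * φ a z := by group
      _ = (z : H)⁻¹ * x⁻¹ * (φ a x * φ a z) := by rw [← hc]; group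
  simp only [key]
  exact Equiv.sum_comp (Equiv.mulLeft (⟨x, hx⟩ : Z)) (fun z => ρ ((z : H)⁻¹ * φ a z) u)

theorem LinSetup.proj_of_mem (L : LinSetup (p := p) φ ρ S Z) {a : A} {u : W}
    (hu : u ∈ wsub φ ρ Z a) : proj φ ρ Z a u = Nat.card Z • u := by
  rw [proj_apply, Finset.sum_congr rfl fun (z : Z) _ => hu z z.2, Finset.sum_const, Finset.card_univ,
    Nat.card_eq_fintype_card]

theorem LinSetup.sum_proj_zero (L : LinSetup (p := p) φ ρ S Z) [Fintype A] (w : W) :
    ∑ a : A, proj φ ρ Z a (S a w) = 0 := by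
  simp only [proj_apply]
  rw [Finset.sum_comm]
  refine Finset.sum_eq_zero fun z _ => ?_
  simp only [end_mul_apply]
  rw [← map_sum]
  have h0 : ∑ a : A, ρ (φ a z) (S a w) = 0 := by
    refine L.hWfix _ fun c => ?_
    rw [map_sum]
    have h4 : ∀ a, S c (ρ (φ a z) (S a w)) = ρ (φ (c * a) z) (S (c * a) w) := fun a => by
      rw [L.hcompat, act_mul, end_mul_apply]
    simp only [h4]
    exact Equiv.sum_comp (Equiv.mulLeft c) (fun a => ρ (φ a z) (S a w))
  rw [h0, map_zero]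

theorem LinSetup.nsmul_mem_cancel (L : LinSetup (p := p) φ ρ S Z) (U : AddSubgroup W) {w : W}
    (h : Nat.card Z • w ∈ U) : w ∈ U := by
  obtain ⟨k, hk⟩ := exists_nsmul_eq_self_of_coprime (G := W) (x := w) (n := Nat.card Z)
    (L.hcop.coprime_dvd_right (addOrderOf_dvd_natCard w))
  exact hk ▸ U.nsmul_mem h k

theorem LinSetup.iSup_wsub (L : LinSetup (p := p) φ ρ S Z) (U : AddSubgroup W)
    (hU : ∀ a : A, a ≠ 1 → wsub φ ρ Z a ≤ U) : U = ⊤ := by
  classical
  cases nonempty_fintype A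
  refine eq_top_iff.2 fun w _ => L.nsmul_mem_cancel U ?_
  have h := L.sum_proj_zero w
  rw [← Finset.add_sum_erase _ _ (Finset.mem_univ (1 : A)),
    L.proj_of_mem (LinSetup.wsub_one _), end_one_apply] at h
  rw [eq_neg_of_add_eq_zero_left h]
  exact U.neg_mem (U.sum_mem fun a ha => hU a (Finset.ne_of_mem_erase ha) (L.proj_mem a _))

theorem LinSetup.exists_reps (L : LinSetup (p := p) φ ρ S Z) :
    ∃ T : Finset A, (∀ t ∈ T, t ≠ 1) ∧ (∀ a : A, a ≠ 1 → ∃ t ∈ T, zpowers t = zpowers a) ∧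
      ∀ t ∈ T, ∀ t' ∈ T, t' ∈ zpowers t → t' = t := by
  classical
  cases nonempty_fintype A
  let rep : Subgroup A → A := fun B => if h : ∃ a, zpowers a = B then h.choose else 1
  have hrep : ∀ a : A, zpowers (rep (zpowers a)) = zpowers a := by
    intro a
    have h : ∃ b, zpowers b = zpowers a := ⟨a, rfl⟩
    simp only [rep, dif_pos h]
    exact h.choose_spec
  refine ⟨(Finset.univ.erase (1 : A)).image fun a => rep (zpowers a), ?_, ?_, ?_⟩
  · intro t ht h1
    obtain ⟨a, ha, rfl⟩ := Finset.mem_image.1 ht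
    have := hrep a
    rw [h1, zpowers_one_eq_bot, eq_comm, zpowers_eq_bot] at this
    exact Finset.ne_of_mem_erase ha this
  · intro a ha
    exact ⟨_, Finset.mem_image_of_mem _ (Finset.mem_erase.2 ⟨ha, Finset.mem_univ a⟩), hrep a⟩
  · intro t ht t' ht' hmem
    obtain ⟨a, ha, rfl⟩ := Finset.mem_image.1 ht
    obtain ⟨b, hb, rfl⟩ := Finset.mem_image.1 ht'
    rw [hrep a] at hmem
    have hb1 : rep (zpowers b) ≠ 1 := by
      intro h1
      have := hrep b
      rw [h1, zpowers_one_eq_bot, eq_comm, zpowers_eq_bot] at this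
      exact Finset.ne_of_mem_erase hb this
    have := zpowers_eq L.hexp (Finset.ne_of_mem_erase ha) hb1 hmem
    rw [hrep b] at this
    simp only [this]

theorem LinSetup.sum_reps (L : LinSetup (p := p) φ ρ S Z) (T : Finset A) (hT1 : ∀ t ∈ T, t ≠ 1)
    (hTex : ∀ a : A, a ≠ 1 → ∃ t ∈ T, zpowers t = zpowers a)
    (hTu : ∀ t ∈ T, ∀ t' ∈ T, t' ∈ zpowers t → t' = t) (w : W) :
    ∑ t ∈ T, proj φ ρ Z t w = Nat.card Z • w := by
  let U : AddSubgroup W :=
    { carrier := {w | ∑ t ∈ T, proj φ ρ Z t w = Nat.card Z • w}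
      zero_mem' := by simp
      add_mem' := fun {u v} hu hv => by
        simp only [Set.mem_setOf_eq] at hu hv ⊢
        simp only [map_add, Finset.sum_add_distrib, hu, hv, nsmul_add]
      neg_mem' := fun {u} hu => by
        simp only [Set.mem_setOf_eq] at hu ⊢
        simp only [map_neg, Finset.sum_neg_distrib, hu, smul_neg] }
  suffices hU : U = ⊤ by
    have : w ∈ U := hU ▸ AddSubgroup.mem_top w
    exact this
  refine L.iSup_wsub U fun a ha u hu => ?_
  obtain ⟨t₀, ht₀, hz⟩ := hTex a ha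
  change ∑ t ∈ T, proj φ ρ Z t u = Nat.card Z • u
  rw [Finset.sum_eq_single_of_mem t₀ ht₀ fun t ht hne => ?_]
  · exact L.proj_of_mem (L.wsub_le (hz ▸ mem_zpowers t₀) hu)
  · refine L.wsub_disjoint ha (b := t) (fun hmem => hne (hTu t₀ ht₀ t ht (hz ▸ hmem))) ?_
      (L.proj_mem t u)
    rw [proj_apply]
    exact AddSubgroup.sum_mem _ fun z _ => L.wsub_Z_invariant a (L.h_mem t z.2) hu

theorem LinSetup.wsub_S (L : LinSetup (p := p) φ ρ S Z) (a b : A) {w : W}
    (hw : w ∈ wsub φ ρ Z a) : S b w ∈ wsub φ ρ Z a := by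
  intro z hz
  have hz' : z = φ b (φ b⁻¹ z) := by rw [← act_mul, mul_inv_cancel, act_one]
  conv_lhs => rw [hz']
  rw [← act_mul φ a b, mul_comm a b, act_mul, ← map_inv, ← map_mul, ← L.hcompat,
    hw _ (L.hinvZ _ z hz)]

/-- an element fixed by `a` preserves `wsub j` for `j ∈ zpowers a` -/
theorem LinSetup.stab_same (L : LinSetup (p := p) φ ρ S Z) {j : A} {c : H} (hc : φ j c = c)
    {w : W} (hw : w ∈ wsub φ ρ Z j) : ρ c w ∈ wsub φ ρ Z j := by
  haveI := L.hnorm
  intro z hz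
  have h1 : (z⁻¹ * φ j z) * c = c * ((c⁻¹ * z * c)⁻¹ * φ j (c⁻¹ * z * c)) := by
    simp only [map_mul, map_inv, hc]; group
  rw [← end_mul_apply, h1, end_mul_apply,
    hw _ (by simpa using L.hnorm.conj_mem z hz c⁻¹)]

theorem LinSetup.stab (L : LinSetup (p := p) φ ρ S Z) {a : A} (ha : a ≠ 1) {c : H}
    (hc : φ a c = c) {j : A} (hj : j ≠ 1) {w : W} (hw : w ∈ wsub φ ρ Z j) :
    ρ c w ∈ wsub φ ρ Z j := by
  haveI := L.hnorm
  by_cases hja : j ∈ zpowers a
  · exact L.stab_same (fixed_zpowers φ hc hja) hw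
  obtain ⟨T, hT1, hTex, hTu⟩ := L.exists_reps
  -- the translate of `wsub j` by any element fixed by `a` is invariant under all `S b`
  have claim : ∀ c : H, φ a c = c → ∀ b, ∀ u ∈ wsub φ ρ Z j,
      ρ c⁻¹ (S b (ρ c u)) ∈ wsub φ ρ Z j := by
    intro c hc
    have hci : φ a c⁻¹ = c⁻¹ := by rw [map_inv, hc]
    let M : AddSubgroup W := (wsub φ ρ Z j).comap (ρ c⁻¹ : W →+ W)
    have hMmem : ∀ m, m ∈ M ↔ ρ c⁻¹ m ∈ wsub φ ρ Z j := fun m => Iff.rfl
    have hMa : ∀ m ∈ M, S a m ∈ M := by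
      intro m hm
      rw [hMmem, ← hci, ← L.hcompat]
      exact L.wsub_S j a hm
    have hMZ : ∀ d ∈ Z, ∀ m ∈ M, ρ d m ∈ M := by
      intro d hd m hm
      rw [hMmem, ← end_mul_apply, show c⁻¹ * d = (c⁻¹ * d * c) * c⁻¹ by group, end_mul_apply]
      exact L.wsub_Z_invariant j (by simpa using L.hnorm.conj_mem d hd c⁻¹) hm
    intro b u hu
    have hm : ρ c u ∈ M := by
      rw [hMmem, ← end_mul_apply, inv_mul_cancel, end_one_apply]; exact hu
    suffices h : S b (ρ c u) ∈ M from h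
    refine L.nsmul_mem_cancel M ?_
    rw [← map_nsmul, ← L.sum_reps T hT1 hTex hTu (ρ c u), map_sum]
    refine M.sum_mem fun t ht => ?_
    set v := proj φ ρ Z t (ρ c u) with hv
    have hvM : v ∈ M := by
      rw [hv, proj_apply]
      exact M.sum_mem fun z _ => hMZ _ (L.h_mem t z.2) _ hm
    have hvW : v ∈ wsub φ ρ Z t := L.proj_mem t _
    by_cases hta : t ∈ zpowers a
    · have h0 : ρ c⁻¹ v = 0 :=
        L.wsub_disjoint (hT1 t ht) (b := j)
          (fun h => hja (zpowers_eq L.hexp ha (hT1 t ht) hta ▸ h))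
          (L.stab_same (fixed_zpowers φ hci hta) hvW) hvM
      have : v = 0 := by
        have h1 := congrArg (ρ c) h0
        rwa [← end_mul_apply, mul_inv_cancel, end_one_apply, map_zero] at h1
      rw [this, map_zero]
      exact M.zero_mem
    · have hall : ∀ x : A, ∀ m, m ∈ M → m ∈ wsub φ ρ Z t → S x m ∈ M := by
        intro x m hm1 hm2
        have hPM := forall_of_two L.hcard L.hexp ha hta
          (fun x => ∀ m, m ∈ M ∧ m ∈ wsub φ ρ Z t → S x m ∈ M ∧ S x m ∈ wsub φ ρ Z t)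
          (fun m hm => by rw [end_one_apply]; exact hm)
          (fun x y hx hy m hm => by rw [end_mul_apply]; exact hx _ (hy m hm))
          (fun m hm => ⟨hMa m hm.1, L.wsub_S t a hm.2⟩)
          (fun m hm => ⟨?_, L.wsub_S t t hm.2⟩) x m ⟨hm1, hm2⟩
        · exact hPM.1
        rw [hMmem]
        intro z hz
        set d := z⁻¹ * φ j z with hd
        have hdc : c * d * c⁻¹ ∈ Z := L.hnorm.conj_mem d (L.h_mem j hz) c
        have key : ρ (c * d * c⁻¹) (S t m) = S t m := by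
          have h1 : c * d * c⁻¹ = φ t (φ t⁻¹ (c * d * c⁻¹)) := by
            rw [← act_mul, mul_inv_cancel, act_one]
          conv_lhs => rw [h1]
          rw [← L.hcompat]
          congr 1
          have h2 : φ t⁻¹ (c * d * c⁻¹) =
              (c * d * c⁻¹) * ((c * d * c⁻¹)⁻¹ * φ t⁻¹ (c * d * c⁻¹)) := by group
          rw [h2, end_mul_apply, L.wsub_le (inv_mem (mem_zpowers t)) hm.2 _ hdc]
          have h3 : ρ d (ρ c⁻¹ m) = ρ c⁻¹ m := hm.1 z hz
          rw [show c * d * c⁻¹ = c * (d * c⁻¹) by group, end_mul_apply, end_mul_apply, h3,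
            ← end_mul_apply, mul_inv_cancel, end_one_apply]
        have h4 := congrArg (ρ c⁻¹) key
        rw [← end_mul_apply, show c⁻¹ * (c * d * c⁻¹) = d * c⁻¹ by group, end_mul_apply] at h4
        exact h4
      exact hall b v hvM hvW
  -- every element fixed by `a` is of the form `e⁻¹ * φ j e`
  let C : Subgroup H := (φ a : H →* H).eqLocus (MonoidHom.id H)
  have hC : ∀ x ∈ C, φ j x ∈ C := by
    intro x hx
    change φ a (φ j x) = φ j x
    rw [← act_mul, mul_comm, act_mul]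
    exact congrArg (φ j) hx
  let t : C →* C := ((φ j : H →* H).comp C.subtype).codRestrict C fun x => hC x x.2
  obtain ⟨e, he⟩ := surjective_inv_mul t
    (fun x hx => Subtype.ext (L.hHfix _ (fixed_of_two φ L.hcard L.hexp ha hja x.2
      (congrArg Subtype.val hx)))) ⟨c, hc⟩
  have he' : (e : H)⁻¹ * φ j e = c := congrArg Subtype.val he
  obtain ⟨u, hu, rfl⟩ : ∃ u ∈ wsub φ ρ Z j, S j u = w :=
    ⟨S j⁻¹ w, L.wsub_S j j⁻¹ hw, by rw [← end_mul_apply, mul_inv_cancel, end_one_apply]⟩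
  rw [← he', end_mul_apply, ← L.hcompat]
  exact claim e e.2 j u hu

/-- the core: `H` is nilpotent -/
theorem LinSetup.exists_central (L : LinSetup (p := p) φ ρ S Z) (hρ : Function.Injective ρ)
    (hirr : ∀ U : AddSubgroup W, (∀ x, ∀ u ∈ U, ρ x u ∈ U) → (∀ a, ∀ u ∈ U, S a u ∈ U) →
      U = ⊥ ∨ U = ⊤) (hW : ∃ w : W, w ≠ 0) :
    ∃ g : A, g ≠ 1 ∧ (∀ z ∈ Z, φ g z = z) ∧ ∀ w, S g w = w → w = 0 := by
  classical
  cases nonempty_fintype A
  have hinv : ∀ t : A, t ≠ 1 → ∀ x, ∀ u ∈ wsub φ ρ Z t, ρ x u ∈ wsub φ ρ Z t := by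
    intro t ht x
    let K0 : Submonoid H :=
      { carrier := {x | ∀ u ∈ wsub φ ρ Z t, ρ x u ∈ wsub φ ρ Z t}
        one_mem' := fun u hu => by rw [end_one_apply]; exact hu
        mul_mem' := fun {x y} hx hy u hu => by rw [end_mul_apply]; exact hx _ (hy u hu) }
    let K : Subgroup H :=
      { K0 with
        inv_mem' := fun {x} hx =>
          (Submonoid.powers_le (P := K0)).2 hx (mem_powers_iff_mem_zpowers.2 (inv_mem (mem_zpowers x))) }
    have hK : K = ⊤ := gen L.hcard L.hexp (Nat.card H) H le_rfl L.hsol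
      (not_dvd_card_of_fixed (isPGroup_sq L.hexp) φ L.hHfix) φ K
      (fun a ha c hc u hu => L.stab ha hc ht hu)
    have : x ∈ K := hK ▸ mem_top x
    exact this
  obtain ⟨g, hg, hgtop⟩ : ∃ g : A, g ≠ 1 ∧ wsub φ ρ Z g = ⊤ := by
    by_contra h
    push Not at h
    obtain ⟨w, hw⟩ := hW
    have hbot : (⊥ : AddSubgroup W) = ⊤ := L.iSup_wsub ⊥ fun a ha => by
      rcases hirr _ (hinv a ha) (fun b u hu => L.wsub_S a b hu) with h1 | h1
      · rw [h1]
      · exact absurd h1 (h a ha)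
    exact hw (AddSubgroup.mem_bot.1 (hbot ▸ AddSubgroup.mem_top w))
  have hgz : ∀ z ∈ Z, φ g z = z := by
    intro z hz
    have h1 : ρ (z⁻¹ * φ g z) = ρ 1 := by
      rw [map_one]
      refine AddMonoidHom.ext fun w => ?_
      have hw : w ∈ wsub φ ρ Z g := hgtop ▸ AddSubgroup.mem_top w
      exact hw z hz
    exact (inv_mul_eq_one.1 (hρ h1)).symm
  refine ⟨g, hg, hgz, fun w hw => ?_⟩
  obtain ⟨s, hs⟩ := exists_not_mem L.hcard L.hexp hg
  have hzero : ∀ z ∈ Z, ∑ k ∈ Finset.range p, ρ (φ (s ^ k) z) (S (s ^ k) w) = 0 := by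
    intro z hz
    refine L.hWfix _ (forall_of_two L.hcard L.hexp hg hs _ (end_one_apply S _)
      (fun x y hx hy => by rw [end_mul_apply, hy, hx]) ?_ ?_)
    · rw [map_sum]
      refine Finset.sum_congr rfl fun k _ => ?_
      rw [L.hcompat, hgz _ (L.hinvZ _ z hz), ← end_mul_apply, mul_comm, end_mul_apply, hw]
    · rw [map_sum]
      have h4 : ∀ k, S s (ρ (φ (s ^ k) z) (S (s ^ k) w)) =
          ρ (φ (s ^ (k + 1)) z) (S (s ^ (k + 1)) w) := fun k => by
        rw [L.hcompat, pow_succ', act_mul, end_mul_apply]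
      simp only [h4]
      have h1 := Finset.sum_range_succ' (fun k => ρ (φ (s ^ k) z) (S (s ^ k) w)) p
      have h2 := Finset.sum_range_succ (fun k => ρ (φ (s ^ k) z) (S (s ^ k) w)) p
      simp only [L.hexp s, pow_zero] at h1 h2
      rw [h1] at h2
      exact add_right_cancel h2
  have hsum : ∑ k ∈ Finset.range p, proj φ ρ Z (s ^ k) (S (s ^ k) w) = 0 := by
    simp only [proj_apply]
    rw [Finset.sum_comm]
    refine Finset.sum_eq_zero fun z _ => ?_
    simp only [end_mul_apply]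
    rw [← map_sum, hzero z z.2, map_zero]
  rw [← Finset.add_sum_erase _ _ (Finset.mem_range.2 (Fact.out : p.Prime).pos), pow_zero,
    L.proj_of_mem (LinSetup.wsub_one _), end_one_apply] at hsum
  rw [Finset.sum_eq_zero fun k hk => ?_, add_zero] at hsum
  · exact nsmul_eq_zero_coprime L.hcop hsum
  · obtain ⟨hk0, hkp⟩ := Finset.mem_erase.1 hk
    rw [Finset.mem_range] at hkp
    have hsk1 : s ^ k ≠ 1 := by
      intro h
      have h' := orderOf_dvd_of_pow_eq_one h
      rw [orderOf_eq_prime (L.hexp s) (fun h => hs (by rw [h]; exact one_mem _))] at h'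
      exact absurd (Nat.le_of_dvd (Nat.pos_of_ne_zero hk0) h') (not_le.2 hkp)
    refine L.wsub_disjoint hg (b := s ^ k) (fun h => hs ?_) (hgtop ▸ AddSubgroup.mem_top _)
      (L.proj_mem _ _)
    have h' := zpowers_eq L.hexp hg hsk1 h
    have h'' := zpowers_eq L.hexp (fun h => hs (by rw [h]; exact one_mem _)) hsk1 (pow_mem (mem_zpowers s) k)
    rw [← h', h'']
    exact mem_zpowers s

end Linear

end Ward

end Cfsg.Agent.FGS73
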