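import Cfsg.Agent.FGS73.Ward
import Cfsg.Agent.Lib.Fitting
import Cfsg.Agent.FGS73.Basic

/-!
Ward's theorem, group-theoretical part.
-/

namespace Cfsg.Agent.FGS73

open Subgroup
open scoped IsMulCommutative

universe u

namespace Ward

variable {A : Type*} [CommGroup A] [Finite A] {p : ℕ} [Fact p.Prime]

/-- `φ a` as an automorphism. -/
def actEquiv {G : Type*} [Group G] (φ : A →* Monoid.End G) (a : A) : G ≃* G where
  toFun := φ a
  invFun := φ a⁻¹
  left_inv x := by rw [← act_mul, inv_mul_cancel, act_one]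
  right_inv x := by rw [← act_mul, mul_inv_cancel, act_one]
  map_mul' := map_mul (φ a)

omit [Finite A] in
theorem characteristic_invariant {G : Type*} [Group G] (φ : A →* Monoid.End G) (K : Subgroup G)
    [hK : K.Characteristic] (a : A) : ∀ x ∈ K, φ a x ∈ K := by
  intro x hx
  rw [← Subgroup.characteristic_iff_map_eq.1 hK (actEquiv φ a)]
  exact ⟨x, hx, rfl⟩

/-- the restriction of an action to an invariant subgroup -/
def subAct {G : Type*} [Group G] (φ : A →* Monoid.End G) (K : Subgroup G)
    (h : ∀ a, ∀ x ∈ K, φ a x ∈ K) : A →* Monoid.End K where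
  toFun a := ((φ a : G →* G).comp K.subtype).codRestrict K fun x => h a x x.2
  map_one' := MonoidHom.ext fun x => Subtype.ext (act_one φ _)
  map_mul' a b := MonoidHom.ext fun x => Subtype.ext (act_mul φ a b _)

omit [Finite A] in
@[simp] theorem subAct_val {G : Type*} [Group G] (φ : A →* Monoid.End G) (K : Subgroup G)
    (h : ∀ a, ∀ x ∈ K, φ a x ∈ K) (a : A) (x : K) : ((subAct φ K h a x : K) : G) = φ a x := rfl

/-- irreducible faithful setting: `H` is nilpotent -/
theorem nilpotent_linear (hcard : Nat.card A = p ^ 2) (hexp : ∀ a : A, a ^ p = 1) {H : Type u}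
    [Group H] [Finite H] (hsol : Group.IsSolvable H) (φ : A →* Monoid.End H)
    (hHfix : ∀ x : H, (∀ a, φ a x = x) → x = 1) {W : Type*} [AddCommGroup W] [Finite W] {r : ℕ}
    [Fact r.Prime] (hWr : ∀ w : W, r • w = 0) (hW1 : ∃ w : W, w ≠ 0)
    (ρ : H →* AddMonoid.End W) (hρ : Function.Injective ρ) (S : A →* AddMonoid.End W)
    (hcompat : ∀ a x w, S a (ρ x w) = ρ (φ a x) (S a w))
    (hWfix : ∀ w, (∀ a, S a w = w) → w = 0)
    (hirr : ∀ U : AddSubgroup W, (∀ x, ∀ u ∈ U, ρ x u ∈ U) → (∀ a, ∀ u ∈ U, S a u ∈ U) →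
      U = ⊥ ∨ U = ⊤) : Group.IsNilpotent H := by
  classical
  haveI := hsol
  rcases subsingleton_or_nontrivial H with hs | hs
  · infer_instance
  -- no normal invariant `r`-subgroups
  have hno : ∀ P : Subgroup H, P.Normal → (∀ a, ∀ x ∈ P, φ a x ∈ P) → IsPGroup r P → P = ⊥ := by
    intro P hPn hPi hP
    refine eq_bot_of_exponent_fixed hWr hW1 ρ P hP ?_ ?_
    · intro h
      rw [eq_bot_iff]
      intro x hx
      exact mem_bot.2 (hρ (by rw [h x hx, map_one]))
    · intro U hU
      refine hirr U (fun x u hu => ?_) (fun a u hu => ?_)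
      · rw [hU] at hu ⊢
        intro y hy
        rw [← end_mul_apply, show y * x = x * (x⁻¹ * y * x) by group, end_mul_apply,
          hu _ (by simpa using hPn.conj_mem y hy x⁻¹)]
      · rw [hU] at hu ⊢
        intro y hy
        have h1 : y = φ a (φ a⁻¹ y) := by rw [← act_mul, mul_inv_cancel, act_one]
        conv_lhs => rw [h1]
        rw [← hcompat, hu _ (hPi a⁻¹ y hy)]
  obtain ⟨Z, q, hq, hZ, hZexp, -⟩ :=
    exists_minimal_isAbInv hsol (Set.range fun a => (φ a : H →* H))
  haveI := Fact.mk hq
  haveI := hZ.normal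
  have hZi : ∀ a, ∀ x ∈ Z, φ a x ∈ Z := fun a => hZ.inv _ ⟨a, rfl⟩
  have hqr : q ≠ r := by
    rintro rfl
    exact hZ.ne_bot (hno Z hZ.normal hZi (isPGroup_of_exponent Z hZexp))
  have hWp : IsPGroup r (Multiplicative W) := fun w =>
    ⟨1, Multiplicative.toAdd.injective (by simpa using hWr w.toAdd)⟩
  have hWcard : ∃ b, Nat.card W = r ^ b := (IsPGroup.iff_card (G := Multiplicative W)).1 hWp
  haveI : Fintype Z := Fintype.ofFinite Z
  have hZfix : ∀ w, (∀ z ∈ Z, ρ z w = w) → w = 0 := by
    let U : AddSubgroup W :=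
      { carrier := {w | ∀ z ∈ Z, ρ z w = w}
        zero_mem' := fun x _ => map_zero _
        add_mem' := fun {a b} ha hb x hx => by rw [map_add, ha x hx, hb x hx]
        neg_mem' := fun {a} ha x hx => by rw [map_neg, ha x hx] }
    have hU : U = ⊥ := by
      refine (hirr U (fun x u hu => ?_) (fun a u hu => ?_)).resolve_right fun h => hZ.ne_bot ?_
      · intro y hy
        rw [← end_mul_apply, show y * x = x * (x⁻¹ * y * x) by group, end_mul_apply,
          hu _ (by simpa using hZ.normal.conj_mem y hy x⁻¹)]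
      · intro y hy
        have h1 : y = φ a (φ a⁻¹ y) := by rw [← act_mul, mul_inv_cancel, act_one]
        conv_lhs => rw [h1]
        rw [← hcompat, hu _ (hZi a⁻¹ y hy)]
      · rw [eq_bot_iff]
        intro x hx
        refine mem_bot.2 (hρ (AddMonoidHom.ext fun w => ?_))
        rw [map_one]
        have hw : w ∈ U := h ▸ AddSubgroup.mem_top w
        exact hw x hx
    intro w hw
    have hw' : w ∈ U := hw
    rwa [hU, AddSubgroup.mem_bot] at hw'
  have L : LinSetup (p := p) φ ρ S Z :=
    { hcard := hcard, hexp := hexp, hsol := hsol, hHfix := hHfix, hcompat := hcompat,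
      hWfix := hWfix, hnorm := hZ.normal, hcommZ := hZ.comm, hinvZ := hZi, hZfix := hZfix,
      hcop := by
        obtain ⟨a, ha⟩ := IsPGroup.iff_card.1 (isPGroup_of_exponent Z hZexp)
        obtain ⟨b, hb⟩ := hWcard
        rw [ha, hb]
        exact Nat.coprime_pow_primes _ _ hq Fact.out hqr }
  obtain ⟨g, hg, -, hgW⟩ := L.exists_central hρ hirr hW1
  -- the Fitting subgroup
  set F := Cfsg.fittingSubgroup H with hF
  have hFi : ∀ a, ∀ x ∈ F, φ a x ∈ F := fun a => characteristic_invariant φ F a
  have hFr : ¬ r ∣ Nat.card F := by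
    intro hd
    haveI : Group.IsNilpotent F := Cfsg.Agent.Fitting.fitting_isNilpotent
    obtain ⟨x, hx⟩ := exists_prime_orderOf_dvd_card' r hd
    have hxP : IsPGroup r (zpowers x) :=
      IsPGroup.of_card (n := 1) (by rw [Nat.card_zpowers, hx, pow_one])
    obtain ⟨P, hP⟩ := hxP.exists_le_sylow
    haveI hPn : (P : Subgroup F).Normal :=
      P.normal_of_normalizerCondition Group.normalizerCondition_of_isNilpotent
    haveI : (P : Subgroup F).Characteristic := P.characteristic_of_normal hPn
    have hP' : ((P : Subgroup F).map F.subtype) ≤ Cfsg.pCore r H :=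
      le_sSup ⟨Cfsg.Agent.Fitting.normal_map_subtype_of_characteristic _, P.2.map _⟩
    have hbot : Cfsg.pCore r H = ⊥ :=
      hno _ inferInstance (fun a => characteristic_invariant φ _ a) (isPGroup_pCore H)
    have hx' : ((x : H)) ∈ Cfsg.pCore r H := hP' ⟨x, hP (mem_zpowers x), rfl⟩
    rw [hbot, mem_bot] at hx'
    rw [← orderOf_coe, hx', orderOf_one] at hx
    exact (Fact.out : r.Prime).ne_one hx.symm
  have hFp : ¬ p ∣ Nat.card F := fun hd =>
    not_dvd_card_of_fixed (isPGroup_sq hexp) φ hHfix (hd.trans (card_subgroup_dvd_card F))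
  -- elements fixed by `s ∉ ⟨g⟩` in the Fitting subgroup are trivial
  have hFs : ∀ s : A, s ∉ zpowers g → ∀ x ∈ F, φ s x = x → x = 1 := by
    intro s hs x hx hxs
    let E : Subgroup H := F ⊓ (φ s : H →* H).eqLocus (MonoidHom.id H)
    have hE : ∀ y ∈ E, φ g y ∈ E := fun y hy => ⟨hFi g y hy.1, by
      change φ s (φ g y) = φ g y
      rw [← act_mul, mul_comm, act_mul]
      exact congrArg (φ g) hy.2⟩
    have hEcop : (Nat.card E).Coprime (Nat.card W) := by
      obtain ⟨b, hb⟩ := hWcard
      rw [hb]
      refine Nat.Coprime.pow_right b ?_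
      rw [Nat.coprime_comm, (Fact.out : r.Prime).coprime_iff_not_dvd]
      exact fun hd => hFr (hd.trans (card_dvd_of_le inf_le_left))
    have hit : ∀ k (y : E), ((((⇑(((φ g : H →* H).comp E.subtype).codRestrict E
        fun y => hE y y.2))^[k]) y : E) : H) = φ (g ^ k) y := by
      intro k y
      induction k with
      | zero => rw [pow_zero, act_one]; rfl
      | succ k ih =>
        rw [Function.iterate_succ_apply', pow_succ', act_mul, ← ih]
        rfl
    have hitW : ∀ k w, (⇑(S g))^[k] w = S (g ^ k) w := by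
      intro k w
      induction k with
      | zero => rw [pow_zero, end_one_apply]; rfl
      | succ k ih => rw [Function.iterate_succ_apply', ih, pow_succ', end_mul_apply]
    have key := frobenius_core (ρ.comp E.subtype)
      (((φ g : H →* H).comp E.subtype).codRestrict E fun y => hE y y.2) (S g) (Fact.out : p.Prime)
      (fun y => Subtype.ext (by rw [hit, hexp g, act_one]))
      (fun y hy => Subtype.ext (hHfix _
        (fixed_of_two φ hcard hexp hg hs (congrArg Subtype.val hy) y.2.2)))
      (fun w => by rw [hitW, hexp g, end_one_apply]) hgW (fun y w => hcompat g y w) hEcop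
    refine hρ ?_
    rw [map_one]
    exact DFunLike.congr_fun key ⟨x, hx, hxs⟩
  have hswap : ∀ a : A, a ≠ 1 → a ∈ zpowers g → g ∈ zpowers a := fun a ha h =>
    zpowers_eq hexp hg ha h ▸ mem_zpowers g
  -- `g` centralises the Fitting subgroup
  have hgF : ∀ x ∈ F, φ g x = x := by
    intro x hx
    let K : Subgroup F := (subAct φ F hFi g : F →* F).eqLocus (MonoidHom.id F)
    have hK : K = ⊤ := gen hcard hexp (Nat.card F) F le_rfl inferInstance hFp (subAct φ F hFi) K
      (fun a ha y hy => by
        apply Subtype.ext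
        by_cases h : a ∈ zpowers g
        · exact fixed_zpowers φ (congrArg Subtype.val hy) (hswap a ha h)
        · have h1 := hFs a h y y.2 (congrArg Subtype.val hy)
          change φ g (y : H) = (y : H)
          rw [h1, map_one])
    have : (⟨x, hx⟩ : F) ∈ K := hK ▸ mem_top _
    exact congrArg Subtype.val this
  have hcomm : ∀ h : H, h⁻¹ * φ g h ∈ F := by
    intro h
    refine Cfsg.Agent.Fitting.centralizer_fitting_le (mem_centralizer_iff.2 fun f hf => ?_)
    have hFn : F.Normal := inferInstance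
    have h1 := hgF _ (hFn.conj_mem f hf h)
    rw [map_mul, map_mul, map_inv, hgF f hf] at h1
    calc f * (h⁻¹ * φ g h) = h⁻¹ * (h * f * h⁻¹) * φ g h := by group
      _ = h⁻¹ * (φ g h * f * (φ g h)⁻¹) * φ g h := by rw [h1]
      _ = h⁻¹ * φ g h * f := by group
  -- elements fixed by `s ∉ ⟨g⟩` are trivial
  have hHs : ∀ s : A, s ∉ zpowers g → ∀ x : H, φ s x = x → x = 1 := by
    intro s hs x hx
    let E : Subgroup H := (φ s : H →* H).eqLocus (MonoidHom.id H)
    have hE : ∀ y ∈ E, φ g y ∈ E := fun y hy => by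
      change φ s (φ g y) = φ g y
      rw [← act_mul, mul_comm, act_mul]
      exact congrArg (φ g) hy
    obtain ⟨e, he⟩ := surjective_inv_mul (((φ g : H →* H).comp E.subtype).codRestrict E
      fun y => hE y y.2) (fun y hy => Subtype.ext (hHfix _
        (fixed_of_two φ hcard hexp hg hs (congrArg Subtype.val hy) y.2))) ⟨x, hx⟩
    have he' : (e : H)⁻¹ * φ g e = x := congrArg Subtype.val he
    exact hFs s hs x (he' ▸ hcomm e) hx
  have hgH : ∀ x : H, φ g x = x := by
    intro x
    let K : Subgroup H := (φ g : H →* H).eqLocus (MonoidHom.id H)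
    have hK : K = ⊤ := gen hcard hexp (Nat.card H) H le_rfl hsol
      (not_dvd_card_of_fixed (isPGroup_sq hexp) φ hHfix) φ K
      (fun a ha y hy => by
        change φ g y = y
        by_cases h : a ∈ zpowers g
        · exact fixed_zpowers φ hy (hswap a ha h)
        · rw [hHs a h y hy, map_one])
    have : x ∈ K := hK ▸ mem_top _
    exact this
  obtain ⟨s, hs⟩ := exists_not_mem hcard hexp hg
  have hit : ∀ k x, (⇑(φ s))^[k] x = φ (s ^ k) x := by
    intro k x
    induction k with
    | zero => rw [pow_zero, act_one]; rfl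
    | succ k ih => rw [Function.iterate_succ_apply', ih, pow_succ', act_mul]
  exact nilpotent_of_fpf_prime (Nat.card H) H le_rfl hsol (φ s) p Fact.out
    (fun x => (hit p x).trans (by rw [hexp s, act_one]))
    (fun x hx => hHfix x (fixed_of_two φ hcard hexp hg hs (hgH x) hx))

/-- the action on a minimal invariant abelian normal subgroup is nilpotent -/
theorem nilpotent_quotient_centralizer (hcard : Nat.card A = p ^ 2) (hexp : ∀ a : A, a ^ p = 1)
    {G : Type u} [Group G] [Finite G] (hsol : Group.IsSolvable G) (φ : A →* Monoid.End G)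
    (hfix : ∀ x : G, (∀ a, φ a x = x) → x = 1) (V : Subgroup G) [V.Normal] {r : ℕ} (hr : r.Prime)
    (hV : IsAbInv (Set.range fun a => (φ a : G →* G)) V) (hexpV : ∀ x ∈ V, x ^ r = 1)
    (hmin : ∀ U ≤ V, U.Normal → (∀ s ∈ Set.range (fun a => (φ a : G →* G)), ∀ x ∈ U, s x ∈ U) →
      U = ⊥ ∨ U = V) :
    Group.IsNilpotent (G ⧸ centralizer (V : Set G)) := by
  classical
  haveI : IsMulCommutative V := ⟨⟨fun a b => Subtype.ext (hV.comm a a.2 b b.2)⟩⟩
  haveI := Fact.mk hr
  haveI : Finite (Additive V) := inferInstanceAs (Finite V)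
  have hVs : ∀ a, ∀ x ∈ V, φ a x ∈ V := fun a => hV.inv _ ⟨a, rfl⟩
  have hCs := centralizer_act_invariant φ V hVs
  refine nilpotent_linear hcard hexp (isSolvable_quotient hsol _)
    (quotAct φ _ hCs) (quotAct_fixed (isPGroup_sq hexp) φ hfix _ hCs)
    (W := Additive V) (r := r) (fun w => additive_ext V (by simpa using hexpV _ w.toMul.2)) ?_
    (conjQuot V) (conjQuot_injective V) (actOn V φ hVs) ?_ ?_ ?_
  · obtain ⟨v, hv⟩ := Subgroup.ne_bot_iff_exists_ne_one.1 hV.ne_bot
    exact ⟨Additive.ofMul v, fun h => hv h⟩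
  · intro a x w
    obtain ⟨g, rfl⟩ := QuotientGroup.mk'_surjective (centralizer (V : Set G)) x
    exact endOn_conjQuot V (φ a) (hVs a) g w
  · exact fun w hw => additive_ext V
      (hfix _ fun a => congrArg (fun u : Additive V => (u.toMul : G)) (hw a))
  · intro U hρU hSU
    let U' : Subgroup G :=
      (((AddSubgroup.toSubgroup U).comap
        (MonoidHom.id V : V →* V)).map V.subtype)
    have hmem : ∀ v : V, (v : G) ∈ U' ↔ Additive.ofMul v ∈ U := by
      intro v
      constructor
      · rintro ⟨w, hw, hwv⟩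
        obtain rfl : w = v := Subtype.ext hwv
        exact hw
      · exact fun h => ⟨v, h, rfl⟩
    have hU'V : U' ≤ V := by
      rintro _ ⟨w, -, rfl⟩
      exact w.2
    have hn : U'.Normal := by
      constructor
      intro x hx g
      obtain ⟨v, hv, rfl⟩ := hx
      have h1 := hρU (QuotientGroup.mk' _ g) _ hv
      have h2 := (hmem _).2 h1
      exact (conjQuot_val V g (Additive.ofMul v)) ▸ h2
    rcases hmin U' hU'V hn (by
      rintro _ ⟨a, rfl⟩ x ⟨v, hv, rfl⟩
      exact (hmem _).2 (hSU a _ hv)) with h | h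
    · refine Or.inl ((AddSubgroup.eq_bot_iff_forall U).2 fun w hw => ?_)
      have h1 : (w.toMul : G) ∈ U' := (hmem _).2 hw
      rw [h, mem_bot] at h1
      exact additive_ext V h1
    · refine Or.inr (eq_top_iff.2 fun w _ => ?_)
      exact (hmem _).1 (h.symm ▸ w.toMul.2)

/-- **Ward's theorem**: some term of the lower central series is nilpotent. -/
theorem exists_nilpotent_lowerCentralSeries (hcard : Nat.card A = p ^ 2)
    (hexp : ∀ a : A, a ^ p = 1) (n : ℕ) : ∀ (G : Type u) [Group G] [Finite G], Nat.card G ≤ n →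
      Group.IsSolvable G → ∀ φ : A →* Monoid.End G, (∀ x : G, (∀ a, φ a x = x) → x = 1) →
        ∃ k, Group.IsNilpotent ((⊤ : Subgroup G).lowerCentralSeries k) := by
  induction n with
  | zero =>
    intro G _ _ h
    exact absurd h (by simp [Nat.card_pos.ne'])
  | succ n ih =>
    intro G _ _ hn hG φ hfix
    rcases subsingleton_or_nontrivial G with hs | hs
    · exact ⟨0, inferInstance⟩
    obtain ⟨V, r, hr, hV, hexpV, hmin⟩ :=
      exists_minimal_isAbInv hG (Set.range fun a => (φ a : G →* G))
    haveI := hV.normal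
    have hVs : ∀ a, ∀ x ∈ V, φ a x ∈ V := fun a => hV.inv _ ⟨a, rfl⟩
    haveI hQ := nilpotent_quotient_centralizer hcard hexp hG φ hfix V hr hV hexpV hmin
    obtain ⟨m, hm⟩ := Subgroup.nilpotent_iff_lowerCentralSeries.1 hQ
    obtain ⟨k, hk⟩ := ih (G ⧸ V) (by have := card_quotient_lt V hV.ne_bot; omega)
      (isSolvable_quotient hG V) (quotAct φ V hVs) (quotAct_fixed (isPGroup_sq hexp) φ hfix V hVs)
    refine ⟨max m k, ?_⟩
    set L := (⊤ : Subgroup G).lowerCentralSeries (max m k)
    have hLC : L ≤ centralizer (V : Set G) := by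
      rw [← QuotientGroup.ker_mk' (centralizer (V : Set G)), ← Subgroup.map_eq_bot_iff,
        map_lowerCentralSeries, ← MonoidHom.range_eq_map,
        MonoidHom.range_eq_top.2 (QuotientGroup.mk'_surjective _), ← le_bot_iff, ← hm]
      exact Subgroup.lowerCentralSeries_antitone _ (le_max_left m k)
    let L' := (⊤ : Subgroup (G ⧸ V)).lowerCentralSeries (max m k)
    haveI : Group.IsNilpotent L' :=
      Cfsg.Agent.Fitting.isNilpotent_of_le hk (Subgroup.lowerCentralSeries_antitone _ (le_max_right m k))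
    have hmap : ∀ x : L, QuotientGroup.mk' V x ∈ L' := by
      intro x
      have h1 : L.map (QuotientGroup.mk' V) = L' := by
        rw [map_lowerCentralSeries, ← MonoidHom.range_eq_map,
          MonoidHom.range_eq_top.2 (QuotientGroup.mk'_surjective _)]
      exact h1 ▸ ⟨x, x.2, rfl⟩
    apply Subgroup.isNilpotent_of_ker_le_center
      (((QuotientGroup.mk' V).comp L.subtype).codRestrict _ hmap)
    intro x hx
    have hxV : (x : G) ∈ V := (QuotientGroup.eq_one_iff _).1 (congrArg Subtype.val hx)
    rw [mem_center_iff]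
    intro y
    exact Subtype.ext (mem_centralizer_iff.1 (hLC y.2) x hxV).symm

end Ward

end Cfsg.Agent.FGS73
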