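import Mathlib

namespace Cfsg.Agent.FGS73

open Subgroup

universe u

theorem exists_minimal_normal {G : Type*} [Group G] [Finite G] {W : Subgroup G} (hW : W.Normal)
    (hW1 : W ≠ ⊥) : ∃ L : Subgroup G, Minimal (fun L : Subgroup G => L.Normal ∧ L ≠ ⊥) L ∧ L ≤ W := by
  obtain ⟨L, hLW, hL⟩ := Finite.exists_le_minimal
    (p := fun L : Subgroup G => L.Normal ∧ L ≠ ⊥) (a := W) ⟨hW, hW1⟩
  exact ⟨L, hL, hLW⟩

/-- Wielandt: a minimal normal subgroup normalises every subnormal subgroup. -/
theorem minimal_normal_le_normalizer (n : ℕ) : ∀ (G : Type u) [Group G] [Finite G],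
    Nat.card G ≤ n → ∀ (W N : Subgroup G), Minimal (fun L : Subgroup G => L.Normal ∧ L ≠ ⊥) W →
      N.IsSubnormal → W ≤ normalizer (N : Set G) := by
  induction n with
  | zero =>
    intro G _ _ h
    exact absurd h (by simp [Nat.card_pos.ne'])
  | succ n ih =>
    intro G _ _ hcard W N hW hN
    obtain rfl | hNtop := eq_or_ne N ⊤
    · intro w _
      rw [Subgroup.mem_normalizer_iff]
      simp
    obtain ⟨K, hKn, hNK, hK⟩ := hN.exists_normal_and_le_and_lt_top_of_ne hNtop
    have hWn : W.Normal := hW.prop.1
    by_cases hWK : W ≤ K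
    · have hcardK : Nat.card K ≤ n := by
        have h1 := Subgroup.card_le_card_group K
        have h2 : Nat.card K ≠ Nat.card G := fun h => hK.ne ((Subgroup.card_eq_iff_eq_top K).1 h)
        omega
      have hW' : (W.subgroupOf K) ≠ ⊥ := by
        rw [Ne, Subgroup.subgroupOf_eq_bot, disjoint_iff, inf_eq_left.2 hWK]
        exact hW.prop.2
      obtain ⟨L, hL, hLW⟩ := exists_minimal_normal (hWn.comap K.subtype) hW'
      let S : Set G := ((L.map K.subtype : Subgroup G) : Set G)
      have hSW : normalClosure S = W := by
        have hle : normalClosure S ≤ W := by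
          refine normalClosure_le_normal ?_
          rintro _ ⟨x, hx, rfl⟩
          exact hLW hx
        refine le_antisymm hle (hW.2 ⟨normalClosure_normal, ?_⟩ hle)
        intro h
        have : L.map K.subtype ≤ ⊥ := h ▸ subset_normalClosure
        rw [le_bot_iff, map_eq_bot_iff_of_injective _ K.subtype_injective] at this
        exact hL.prop.2 this
      rw [← hSW, Subgroup.normalClosure, closure_le]
      intro y hy
      rw [Group.mem_conjugatesOfSet_iff] at hy
      obtain ⟨x, hx, hconj⟩ := hy
      obtain ⟨g, rfl⟩ := isConj_iff.1 hconj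
      obtain ⟨x', hx', rfl⟩ := hx
      -- work with the conjugate subgroup of `L` in `K`
      let c : K ≃* K :=
        { toFun := fun k => ⟨g * k * g⁻¹, hKn.conj_mem _ k.2 g⟩
          invFun := fun k => ⟨g⁻¹ * k * g, by simpa using hKn.conj_mem _ k.2 g⁻¹⟩
          left_inv := fun k => by ext; simp [mul_assoc]
          right_inv := fun k => by ext; simp [mul_assoc]
          map_mul' := fun a b => by ext; simp [mul_assoc] }
      have hLc : Minimal (fun L : Subgroup K => L.Normal ∧ L ≠ ⊥) (L.map c.toMonoidHom) := by
        refine ⟨⟨hL.prop.1.map _ c.surjective, ?_⟩, fun M hM hle => ?_⟩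
        · rw [Ne, map_eq_bot_iff_of_injective _ c.injective]
          exact hL.prop.2
        · have h1 : M.map c.symm.toMonoidHom ≤ L := by
            refine (map_mono hle).trans ?_
            rintro _ ⟨_, ⟨z, hz, rfl⟩, rfl⟩
            simpa using hz
          have h2 := hL.2 ⟨hM.1.map _ c.symm.surjective, by
            rw [Ne, map_eq_bot_iff_of_injective _ c.symm.injective]; exact hM.2⟩ h1
          rintro _ ⟨z, hz, rfl⟩
          obtain ⟨w, hw, hwz⟩ := h2 hz
          have : w = c z := by rw [← hwz]; simp
          simpa [← this] using hw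
      have := ih K hcardK (L.map c.toMonoidHom) (N.subgroupOf K) hLc hN.subgroupOf
        (mem_map_of_mem _ hx')
      rw [SetLike.mem_coe, Subgroup.mem_normalizer_iff]
      rw [Subgroup.mem_normalizer_iff] at this
      intro z
      constructor
      · intro hz
        exact (this ⟨z, hNK hz⟩).1 hz
      · intro hz
        have hzK : z ∈ K := by
          have hcK : g * (x' : G) * g⁻¹ ∈ K := hKn.conj_mem _ x'.2 g
          have := K.mul_mem (K.mul_mem (K.inv_mem hcK) (hNK hz)) hcK
          simpa [mul_assoc] using this
        exact (this ⟨z, hzK⟩).2 hz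
    · have hinf : W ⊓ K = ⊥ := by
        by_contra h
        exact hWK (le_trans (hW.2 ⟨inferInstance, h⟩ inf_le_left) inf_le_right)
      intro w hw
      rw [Subgroup.mem_normalizer_iff]
      have hc : ∀ z ∈ K, w * z * w⁻¹ = z := by
        intro z hz
        have h := commute_of_normal_of_disjoint W K hWn hKn (disjoint_iff.2 hinf) w z hw hz
        rw [h.eq, mul_inv_cancel_right]
      intro z
      constructor
      · intro hz
        rwa [hc z (hNK hz)]
      · intro hz
        have hzK : z ∈ K := by simpa [mul_assoc] using hKn.conj_mem _ (hNK hz) w⁻¹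
        rwa [hc z hzK] at hz

end Cfsg.Agent.FGS73
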